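import Groth.Agent.LocCoh.LocalVanishing
import Groth.Agent.CAlgH.CompleteLocal
import Groth.Agent.CAlgH3.CMRing
import Groth.Agent.Matlis6.CompletionNoetherian
import Groth.Agent.S5163
import Mathlib.RingTheory.AdicCompletion.AsTensorProduct
import Mathlib.RingTheory.AdicCompletion.LocalRing

/-!
Grothendieck's non-vanishing theorem `H_𝔪^{dim M}(M) ≠ 0` and surjectivity of multiplication in top
degree.
-/

set_option autoImplicit false

universe u

open IsLocalRing
open scoped TensorProduct Pointwise

namespace Groth.Agent.LocCoh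

section dim

variable {R : Type u} [CommRing R]

theorem lt_of_add_one_le {a b : WithBot ℕ∞} {n : ℕ} (hb : b ≤ n) (h : a + 1 ≤ b) :
    a < (n : WithBot ℕ∞) := by
  have h1 := h.trans hb
  induction a using WithBot.recBotCoe with
  | bot => exact WithBot.bot_lt_coe _
  | coe a =>
    induction a using ENat.recTopCoe with
    | top => exact absurd h1 (by rw [show ((⊤ : ℕ∞) : WithBot ℕ∞) + 1 = ((⊤ : ℕ∞) : WithBot ℕ∞) from rfl]
                                 exact not_le.2 (WithBot.coe_lt_coe.2 (ENat.natCast_lt_top n)))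
    | coe a => norm_cast at h1 ⊢

theorem exists_prime_ringKrullDim_quotient_eq [IsNoetherianRing R] [IsLocalRing R] {J : Ideal R}
    (hJ : J ≠ ⊤) :
    ∃ q : Ideal R, q.IsPrime ∧ J ≤ q ∧ ringKrullDim (R ⧸ q) = ringKrullDim (R ⧸ J) := by
  haveI : Nontrivial (R ⧸ J) := Ideal.Quotient.nontrivial_iff.2 hJ
  haveI : IsLocalRing (R ⧸ J) :=
    IsLocalRing.of_surjective' (Ideal.Quotient.mk J) Ideal.Quotient.mk_surjective
  obtain ⟨l, hl⟩ : ∃ l : LTSeries (PrimeSpectrum (R ⧸ J)), (l.length : WithBot ℕ∞) = ringKrullDim (R ⧸ J) := by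
    obtain ⟨l, hl⟩ := (maximalIdeal (R ⧸ J)).exists_ltSeries_length_eq_height
    exact ⟨l, by rw [← maximalIdeal_height_eq_ringKrullDim]; exact_mod_cast congrArg (WithBot.some) hl.2⟩
  refine ⟨l.head.asIdeal.comap (Ideal.Quotient.mk J), inferInstance, ?_, le_antisymm ?_ ?_⟩
  · intro x hx
    rw [Ideal.mem_comap, Ideal.Quotient.eq_zero_iff_mem.2 hx]
    exact zero_mem _
  · exact ringKrullDim_le_of_surjective (Ideal.Quotient.factor fun x hx => by
      rw [Ideal.mem_comap, Ideal.Quotient.eq_zero_iff_mem.2 hx]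
      exact zero_mem _) (Ideal.Quotient.factor_surjective _)
  · rw [← hl, ringKrullDim_quotient]
    let g : Fin (l.length + 1) → PrimeSpectrum.zeroLocus
        ((l.head.asIdeal.comap (Ideal.Quotient.mk J) : Ideal R) : Set R) := fun k =>
      ⟨PrimeSpectrum.comap (Ideal.Quotient.mk J) (l k), fun x hx => (l.head_le k) hx⟩
    let l' : LTSeries (PrimeSpectrum.zeroLocus
        ((l.head.asIdeal.comap (Ideal.Quotient.mk J) : Ideal R) : Set R)) :=
      ⟨l.length, g, fun k => lt_of_le_of_ne (Ideal.comap_mono (l.step k).le) fun e => (l.step k).ne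
        (PrimeSpectrum.comap_injective_of_surjective _ Ideal.Quotient.mk_surjective (PrimeSpectrum.ext e))⟩
    exact Order.LTSeries.length_le_krullDim l'

theorem supportDim_lt_of_forall [IsNoetherianRing R] [IsLocalRing R] (M : Type u) [AddCommGroup M]
    [Module R M] [Module.Finite R M] (n : ℕ)
    (h : ∀ q ∈ Module.support R M, ringKrullDim (R ⧸ q.asIdeal) < (n : WithBot ℕ∞)) :
    Module.supportDim R M < (n : WithBot ℕ∞) := by
  rcases subsingleton_or_nontrivial M with hs | hn
  · rw [(Module.supportDim_eq_bot_iff_subsingleton _ _).2 hs]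
    exact WithBot.bot_lt_coe _
  · rw [Module.supportDim_eq_ringKrullDim_quotient_annihilator]
    obtain ⟨q, hq, hle, he⟩ := exists_prime_ringKrullDim_quotient_eq
      (J := Module.annihilator R M) fun e => by
        rw [Module.annihilator_eq_top_iff] at e
        exact not_subsingleton M e
    rw [← he]
    exact h ⟨q, hq⟩ (by rw [Module.support_eq_zeroLocus]; exact hle)

theorem exists_prime_ringKrullDim_eq_supportDim [IsNoetherianRing R] [IsLocalRing R] (M : Type u)
    [AddCommGroup M] [Module R M] [Module.Finite R M] [Nontrivial M] :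
    ∃ p ∈ Module.support R M, ringKrullDim (R ⧸ p.asIdeal) = Module.supportDim R M := by
  rw [Module.supportDim_eq_ringKrullDim_quotient_annihilator]
  obtain ⟨q, hq, hle, he⟩ := exists_prime_ringKrullDim_quotient_eq
    (J := Module.annihilator R M) fun e => by
      rw [Module.annihilator_eq_top_iff] at e
      exact not_subsingleton M e
  exact ⟨⟨q, hq⟩, by rw [Module.support_eq_zeroLocus]; exact hle, he⟩

end dim

variable {R : Type u} [CommRing R] [IsNoetherianRing R]

/-- Local cohomology depends only on the radical. -/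
theorem nonempty_H_equiv_of_radical {I J : Ideal R} (h : I.radical = J.radical) (i : ℕ) (M : Type u)
    [AddCommGroup M] [Module R M] :
    Nonempty (_root_.LocCoh.H I i M ≃ₗ[R] _root_.LocCoh.H J i M) :=
  ⟨((localCohomology.isoOfSameRadical h i).app (ModuleCat.of R M)).toLinearEquiv⟩

/-- In the top degree the functor is right exact. -/
theorem Hmap_surjective_of_surjective {I : Ideal R} {M N : Type u} [AddCommGroup M] [Module R M]
    [AddCommGroup N] [Module R N] {π : M →ₗ[R] N} (hπ : Function.Surjective π) {n : ℕ}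
    (h : Module.supportDim R M ≤ n) : Function.Surjective (Hmap I n π) := by
  haveI : Subsingleton (_root_.LocCoh.H I (n + 1) (LinearMap.ker π)) :=
    subsingleton_H_of_supportDim_lt (lt_of_le_of_lt
      (Module.supportDim_le_of_injective _ (LinearMap.ker π).injective_subtype)
      (lt_of_le_of_lt h (by exact_mod_cast Nat.lt_succ_self n)))
  exact fun y => (Hmap_connecting_exact (LinearMap.ker π).injective_subtype hπ
    (LinearMap.exact_subtype_ker_map π) n y).1 (Subsingleton.elim _ _)

/-- Non-vanishing moves from a target to the source of a map with small cokernel. -/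
theorem nontrivial_H_of_hom {I : Ideal R} {M D : Type u} [AddCommGroup M] [Module R M]
    [AddCommGroup D] [Module R D] (χ : M →ₗ[R] D) {n : ℕ} (hM : Module.supportDim R M ≤ n)
    (hC : Module.supportDim R (D ⧸ LinearMap.range χ) < n)
    (hD : Nontrivial (_root_.LocCoh.H I n D)) : Nontrivial (_root_.LocCoh.H I n M) := by
  by_contra h
  haveI := not_nontrivial_iff_subsingleton.1 h
  haveI : Subsingleton (_root_.LocCoh.H I n (LinearMap.range χ)) :=
    (Hmap_surjective_of_surjective (LinearMap.surjective_rangeRestrict χ) hM).subsingleton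
  haveI := subsingleton_H_of_supportDim_lt (I := I) hC
  exact not_subsingleton _ (subsingleton_mid (I := I) (LinearMap.range χ).injective_subtype
    (Submodule.mkQ_surjective _) (LinearMap.exact_subtype_mkQ _) n)

/-- A regular local ring has non-vanishing top local cohomology. -/
theorem nontrivial_H_regular (S : Type u) [CommRing S] [IsRegularLocalRing S] (n : ℕ)
    (hn : ringKrullDim S = n) : Nontrivial (_root_.LocCoh.H (maximalIdeal S) n S) := by
  have h1 : _root_.LocCoh.depth S S = (n : ℕ∞) := by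
    have := CAlgH3.depth_eq_ringKrullDim (R := S)
    rw [hn] at this
    exact_mod_cast this
  exact ((idealDepth_eq_iff_H (maximalIdeal S) S n).1 h1).2

/-- A map to a domain of dimension `n` whose range is nonzero has small cokernel. -/
theorem supportDim_coker_lt [IsLocalRing R] {M : Type u} [AddCommGroup M] [Module R M]
    (p : Ideal R) [p.IsPrime] {n : ℕ} (hn : ringKrullDim (R ⧸ p) ≤ n) (χ : M →ₗ[R] R ⧸ p)
    (hχ : χ ≠ 0) : Module.supportDim R ((R ⧸ p) ⧸ LinearMap.range χ) < n := by
  refine supportDim_lt_of_forall _ n fun q hq => ?_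
  obtain ⟨m, hm⟩ : ∃ m, χ m ≠ 0 := by
    by_contra h
    push Not at h
    exact hχ (LinearMap.ext h)
  obtain ⟨c, hc⟩ := Ideal.Quotient.mk_surjective (χ m)
  rw [Module.support_eq_zeroLocus] at hq
  have hann : ∀ r : R, r ∈ Module.annihilator R ((R ⧸ p) ⧸ LinearMap.range χ) → r ∈ q.asIdeal :=
    fun r hr => hq hr
  have hle : p ≤ q.asIdeal := fun r hr => hann r (Module.mem_annihilator.2 fun z => by
    obtain ⟨z, rfl⟩ := Submodule.Quotient.mk_surjective _ z
    obtain ⟨z, rfl⟩ := Ideal.Quotient.mk_surjective z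
    rw [← Submodule.Quotient.mk_smul, Algebra.smul_def, Ideal.Quotient.algebraMap_eq, ← map_mul,
      Ideal.Quotient.eq_zero_iff_mem.2 (Ideal.mul_mem_right _ _ hr)]
    rfl)
  have hcq : c ∈ q.asIdeal := hann c (Module.mem_annihilator.2 fun z => by
    obtain ⟨z, rfl⟩ := Submodule.Quotient.mk_surjective _ z
    obtain ⟨z, rfl⟩ := Ideal.Quotient.mk_surjective z
    rw [← Submodule.Quotient.mk_smul, Submodule.Quotient.mk_eq_zero]
    refine ⟨z • m, ?_⟩
    rw [map_smul, ← hc, Algebra.smul_def, Algebra.smul_def, Ideal.Quotient.algebraMap_eq]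
    exact mul_comm _ _)
  have hlt : p < q.asIdeal := lt_of_le_of_ne hle fun e => hm (by
    rw [← hc, Ideal.Quotient.eq_zero_iff_mem, e]; exact hcq)
  exact lt_of_add_one_le hn (CAlgH3.ringKrullDim_quotient_add_one_le hlt)

/-- The domain case over a complete ring. -/
theorem nontrivial_H_complete_domain (D : Type u) [CommRing D] [IsDomain D] [IsLocalRing D]
    [IsNoetherianRing D] [IsAdicComplete (maximalIdeal D) D] (n : ℕ) (hn : ringKrullDim D = n) :
    Nontrivial (_root_.LocCoh.H (maximalIdeal D) n D) := by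
  obtain ⟨Λ, _, r, f, hΛ, -, hinj, hfin, -⟩ := CAlgH.exists_finite_injective_mvPowerSeries D
  haveI : IsRegularLocalRing (MvPowerSeries (Fin r) Λ) := (CAlgH.isRegularLocalRing_mvPowerSeries Λ r).1
  let S := MvPowerSeries (Fin r) Λ
  letI : Algebra S D := f.toAlgebra
  haveI : Module.Finite S D := hfin
  haveI : IsDomain S := CAlgH3.isDomain_of_isRegularLocalRing S
  have hS : ringKrullDim S = n :=
    (DimLib.ringKrullDim_eq_of_isIntegral (R := S) (S := D) hinj).trans hn
  have hSS := nontrivial_H_regular S n hS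
  have hMdim : Module.supportDim S D ≤ n := hS ▸ Module.supportDim_le_ringKrullDim S D
  obtain ⟨χ, hχ⟩ : ∃ χ : D →ₗ[S] S, χ ≠ 0 := by
    by_contra h
    push Not at h
    refine not_subsingleton S (S5163.result S D S (fun q _ => ?_) ⟨fun a b => by rw [h a, h b]⟩)
    rw [Module.mem_support_iff']
    exact ⟨1, fun s hs h0 => hs (by
      rw [Algebra.smul_def, mul_one, ← map_zero (algebraMap S D)] at h0
      rw [hinj h0]
      exact zero_mem _)⟩
  let e : S ≃ₗ[S] S ⧸ (⊥ : Ideal S) := (Submodule.quotEquivOfEqBot (⊥ : Ideal S) rfl).symm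
  have hχ' : e.toLinearMap.comp χ ≠ 0 := fun h => hχ (LinearMap.ext fun x => e.injective (by
    rw [LinearMap.zero_apply, map_zero]; exact LinearMap.congr_fun h x))
  haveI : (⊥ : Ideal S).IsPrime := Ideal.isPrime_bot
  have hbot : ringKrullDim (S ⧸ (⊥ : Ideal S)) ≤ n := by
    rw [← hS]; exact ringKrullDim_quotient_le _
  haveI : Nontrivial (_root_.LocCoh.H (maximalIdeal S) n (S ⧸ (⊥ : Ideal S))) :=
    (Hequiv _ n e).symm.toEquiv.nontrivial
  have hH := nontrivial_H_of_hom _ hMdim (supportDim_coker_lt ⊥ hbot _ hχ') this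
  obtain ⟨φ, -⟩ := exists_H_independence S D (maximalIdeal S) n D
  have hrad : ((maximalIdeal S).map (algebraMap S D)).radical = (maximalIdeal D).radical := by
    haveI : Algebra.IsIntegral S D := Algebra.IsIntegral.of_finite S D
    refine le_antisymm (Ideal.radical_mono (IsLocalRing.le_maximalIdeal fun h => ?_)) ?_
    · obtain ⟨Q, hQ, hQS⟩ := Ideal.exists_ideal_over_maximal_of_isIntegral (S := D) (maximalIdeal S)
        (by rw [(RingHom.injective_iff_ker_eq_bot (algebraMap S D)).1 hinj]; exact bot_le)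
      exact hQ.ne_top (eq_top_iff.2 (h ▸ Ideal.map_le_iff_le_comap.2 hQS.ge))
    · refine (Ideal.radical_le_radical_iff).2 fun x hx => ?_
      rw [Ideal.radical_eq_sInf, Ideal.mem_sInf]
      rintro P ⟨hP, hPp⟩
      have hmax : P.IsMaximal := Ideal.isMaximal_of_isIntegral_of_isMaximal_comap P (by
        rw [show P.comap (algebraMap S D) = maximalIdeal S from
          ((maximalIdeal.isMaximal S).eq_of_le (hPp.comap _).ne_top (Ideal.map_le_iff_le_comap.1 hP)).symm]
        infer_instance)
      rw [IsLocalRing.eq_maximalIdeal hmax]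
      exact hx
  obtain ⟨ε⟩ := nonempty_H_equiv_of_radical hrad n D
  haveI : Nontrivial (_root_.LocCoh.H ((maximalIdeal S).map (algebraMap S D)) n D) := φ.toEquiv.nontrivial
  exact ε.symm.toEquiv.nontrivial

/-- The complete case. -/
theorem nontrivial_H_complete (A : Type u) [CommRing A] [IsLocalRing A] [IsNoetherianRing A]
    [IsAdicComplete (maximalIdeal A) A] (n : ℕ) (hn : ringKrullDim A = n) :
    Nontrivial (_root_.LocCoh.H (maximalIdeal A) n A) := by
  obtain ⟨p, hp, -, hpd⟩ := exists_prime_ringKrullDim_quotient_eq (R := A) (J := ⊥) bot_ne_top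
  have hd : ringKrullDim (A ⧸ p) = n := by
    rw [hpd, ← hn]; exact ringKrullDim_eq_of_ringEquiv (RingEquiv.quotientBot A)
  haveI : IsLocalRing (A ⧸ p) :=
    IsLocalRing.of_surjective' (Ideal.Quotient.mk p) Ideal.Quotient.mk_surjective
  have hmap : (maximalIdeal A).map (algebraMap A (A ⧸ p)) = maximalIdeal (A ⧸ p) :=
    IsLocalRing.map_maximalIdeal_of_surjective _ Ideal.Quotient.mk_surjective
  haveI : IsAdicComplete (maximalIdeal (A ⧸ p)) (A ⧸ p) := by
    rw [← hmap]
    exact (IsAdicComplete.map_algebraMap_iff _ _).2 (AdicRing.isAdicComplete_of_finite _ _)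
  obtain ⟨φ, -⟩ := exists_H_independence A (A ⧸ p) (maximalIdeal A) n (A ⧸ p)
  rw [hmap] at φ
  haveI := nontrivial_H_complete_domain (A ⧸ p) n hd
  haveI : Nontrivial (_root_.LocCoh.H (maximalIdeal A) n (A ⧸ p)) := φ.symm.toEquiv.nontrivial
  refine nontrivial_H_of_hom (Submodule.mkQ p) (hn ▸ Module.supportDim_le_ringKrullDim A A) ?_ this
  haveI : Subsingleton ((A ⧸ p) ⧸ LinearMap.range (Submodule.mkQ p)) :=
    Submodule.Quotient.subsingleton_iff.2 (Submodule.range_mkQ p)
  rw [(Module.supportDim_eq_bot_iff_subsingleton _ _).2 this]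
  exact WithBot.bot_lt_coe _

theorem ringKrullDim_adicCompletion (A : Type u) [CommRing A] [IsLocalRing A] [IsNoetherianRing A] :
    ringKrullDim (AdicCompletion (maximalIdeal A) A) = ringKrullDim A := by
  haveI := Matlis6.isNoetherianRing_adicCompletion (maximalIdeal A)
  let B := AdicCompletion (maximalIdeal A) A
  haveI : (maximalIdeal B).LiesOver (maximalIdeal A) :=
    ⟨(IsLocalRing.maximalIdeal_comap (algebraMap A B)).symm⟩
  haveI : Algebra.HasGoingDown A B := Algebra.HasGoingDown.of_flat
  have h := Ideal.height_eq_height_add_of_liesOver_of_hasGoingDown (maximalIdeal A) (maximalIdeal B)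
  have h0 : ((maximalIdeal B).map (Ideal.Quotient.mk ((maximalIdeal A).map (algebraMap A B)))).height = 0 := by
    rw [← AdicCompletion.maximalIdeal_eq_map, Ideal.map_quotient_self, Ideal.height_bot]
  rw [← maximalIdeal_height_eq_ringKrullDim, ← maximalIdeal_height_eq_ringKrullDim, h, h0, add_zero]

/-- Grothendieck's non-vanishing theorem for rings. -/
theorem nontrivial_H_ring (A : Type u) [CommRing A] [IsLocalRing A] [IsNoetherianRing A] (n : ℕ)
    (hn : ringKrullDim A = n) : Nontrivial (_root_.LocCoh.H (maximalIdeal A) n A) := by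
  haveI := Matlis6.isNoetherianRing_adicCompletion (maximalIdeal A)
  let B := AdicCompletion (maximalIdeal A) A
  by_contra h
  haveI := not_nontrivial_iff_subsingleton.1 h
  obtain ⟨e⟩ := nonempty_H_baseChange A B (maximalIdeal A) n A
  rw [← AdicCompletion.maximalIdeal_eq_map] at e
  haveI : Subsingleton (_root_.LocCoh.H (maximalIdeal B) n (B ⊗[A] A)) := e.symm.toEquiv.subsingleton
  haveI := (Hequiv (maximalIdeal B) n (TensorProduct.AlgebraTensorModule.rid A B B)).symm.toEquiv.subsingleton
  haveI : Nontrivial (_root_.LocCoh.H (maximalIdeal B) n B) :=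
    nontrivial_H_complete B n ((ringKrullDim_adicCompletion A).trans hn)
  exact not_subsingleton (_root_.LocCoh.H (maximalIdeal B) n B) inferInstance

/-- Grothendieck's non-vanishing theorem. -/
theorem nontrivial_H_supportDim [IsLocalRing R] (M : Type u) [AddCommGroup M] [Module R M]
    [Module.Finite R M] (n : ℕ) (hn : Module.supportDim R M = n) :
    Nontrivial (_root_.LocCoh.H (maximalIdeal R) n M) := by
  haveI : Nontrivial M := not_subsingleton_iff_nontrivial.1 fun hs => by
    rw [(Module.supportDim_eq_bot_iff_subsingleton _ _).2 hs] at hn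
    exact WithBot.bot_ne_coe hn
  obtain ⟨p, hp, hpd⟩ := exists_prime_ringKrullDim_eq_supportDim (R := R) M
  rw [hn] at hpd
  haveI : IsLocalRing (R ⧸ p.asIdeal) :=
    IsLocalRing.of_surjective' (Ideal.Quotient.mk p.asIdeal) Ideal.Quotient.mk_surjective
  have hmap : (maximalIdeal R).map (algebraMap R (R ⧸ p.asIdeal)) = maximalIdeal (R ⧸ p.asIdeal) :=
    IsLocalRing.map_maximalIdeal_of_surjective _ Ideal.Quotient.mk_surjective
  obtain ⟨φ, -⟩ := exists_H_independence R (R ⧸ p.asIdeal) (maximalIdeal R) n (R ⧸ p.asIdeal)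
  rw [hmap] at φ
  haveI := nontrivial_H_ring (R ⧸ p.asIdeal) n hpd
  haveI : Nontrivial (_root_.LocCoh.H (maximalIdeal R) n (R ⧸ p.asIdeal)) := φ.symm.toEquiv.nontrivial
  obtain ⟨χ, hχ⟩ : ∃ χ : M →ₗ[R] R ⧸ p.asIdeal, χ ≠ 0 := by
    by_contra h
    push Not at h
    refine not_subsingleton (R ⧸ p.asIdeal)
      (S5163.result R M (R ⧸ p.asIdeal) (fun q hq => ?_) ⟨fun a b => by rw [h a, h b]⟩)
    rw [Module.support_eq_zeroLocus, Ideal.annihilator_quotient] at hq
    rw [Module.support_eq_zeroLocus] at hp ⊢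
    exact fun x hx => hq (hp hx)
  exact nontrivial_H_of_hom χ hn.le (supportDim_coker_lt p.asIdeal hpd.le χ hχ) this

/-- Multiplication by an element cutting down the dimension is surjective in top degree. -/
theorem smul_H_surjective {I : Ideal R} {M : Type u} [AddCommGroup M] [Module R M] (x : R) {n : ℕ}
    (hM : Module.supportDim R M ≤ n) (hx : Module.supportDim R (QuotSMulTop x M) < n) :
    Function.Surjective (fun a : _root_.LocCoh.H I n M => x • a) := by
  let μ : M →ₗ[R] M := x • LinearMap.id
  have hr : LinearMap.range μ = x • (⊤ : Submodule R M) := by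
    ext y
    exact ⟨fun ⟨z, hz⟩ => hz ▸ Submodule.smul_mem_pointwise_smul z x ⊤ trivial,
      fun hy => by obtain ⟨z, -, rfl⟩ := hy; exact ⟨z, rfl⟩⟩
  haveI : Subsingleton (_root_.LocCoh.H I n (M ⧸ LinearMap.range μ)) :=
    subsingleton_H_of_supportDim_lt (by rw [hr]; exact hx)
  intro y
  obtain ⟨z, rfl⟩ := (Hmap_exact (LinearMap.range μ).injective_subtype (Submodule.mkQ_surjective _)
    (LinearMap.exact_subtype_mkQ _) n y).1 (Subsingleton.elim _ _)
  obtain ⟨w, rfl⟩ := Hmap_surjective_of_surjective (LinearMap.surjective_rangeRestrict μ) hM z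
  refine ⟨w, ?_⟩
  rw [← LinearMap.comp_apply, ← Hmap_comp,
    show (LinearMap.range μ).subtype.comp μ.rangeRestrict = μ from rfl]
  show x • w = Hmap I n (x • LinearMap.id) w
  rw [Hmap_smul, Hmap_id]
  rfl

end Groth.Agent.LocCoh
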