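import Groth.Agent.LocCoh.Annihilator
import Groth.Agent.CAlgH3.CMRing
import Groth.Agent.CAlgH3.RegularHom

/-!
Faltings' annihilator theorem: `minAdjDepth ≤ finDimRel` over regular rings and their quotients.
-/

set_option autoImplicit false

universe u

open IsLocalRing TensorProduct

namespace Groth.Agent.LocCoh

open CommAlg6 (PdLE)

section regular

variable {R : Type u} [CommRing R] [IsRegularRing R]

theorem depth_localization_eq_height (p : Ideal R) [p.IsPrime] :
    _root_.LocCoh.depth (Localization.AtPrime p) (Localization.AtPrime p) = p.height := by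
  haveI := CAlgH3.isCohenMacaulayRing_of_isRegularRing (R := R)
  have h1 := (CAlgH3.isCohenMacaulayLocalRing_iff_depth (Localization.AtPrime p)).1
    (_root_.LocCoh.IsCohenMacaulayRing.isCohenMacaulayLocalRing_localization p)
  rw [IsLocalization.AtPrime.ringKrullDim_eq_height p (Localization.AtPrime p)] at h1
  exact (WithBot.coe_inj.1 h1).symm

theorem natCast_le_idealDepth_of_height (a : Ideal R) (c : ℕ)
    (h : ∀ P : Ideal R, P.IsPrime → a ≤ P → (c : ℕ∞) ≤ P.height) :
    (c : ℕ∞) ≤ _root_.LocCoh.idealDepth a R := by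
  rw [natCast_le_idealDepth_iff_local]
  intro p hp
  rw [depth_localization_self, depth_localization_eq_height]
  exact h _ p.2 hp

theorem exists_pdLE_bound (M : Type u) [AddCommGroup M] [Module R M] [Module.Finite R M] :
    ∃ T : ℕ, ∀ p : PrimeSpectrum R,
      PdLE (Localization.AtPrime p.asIdeal) (LocalizedModule p.asIdeal.primeCompl M) T := by
  have hmono : Monotone fun n : ℕ => {p : PrimeSpectrum R |
      PdLE (Localization.AtPrime p.asIdeal) (LocalizedModule p.asIdeal.primeCompl M) n} :=
    fun m n hmn p hp => CAlgH3.pd_mono (Nat.add_le_add_right hmn 1) hp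
  have hcov : (Set.univ : Set (PrimeSpectrum R)) ⊆ ⋃ n : ℕ, {p : PrimeSpectrum R |
      PdLE (Localization.AtPrime p.asIdeal) (LocalizedModule p.asIdeal.primeCompl M) n} := fun p _ => by
    haveI : Module.Finite (Localization.AtPrime p.asIdeal) (LocalizedModule p.asIdeal.primeCompl M) :=
      Module.Finite.of_isLocalizedModule (Rₚ := Localization.AtPrime p.asIdeal) p.asIdeal.primeCompl
        (LocalizedModule.mkLinearMap p.asIdeal.primeCompl M)
    exact Set.mem_iUnion.2 ⟨_, CAlgH3.pd_finite (R := Localization.AtPrime p.asIdeal)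
      (LocalizedModule p.asIdeal.primeCompl M)⟩
  obtain ⟨T, hT⟩ := isCompact_univ.elim_directed_cover _
    (fun n => CommAlg6.isOpen_pdLE_locus n M) hcov hmono.directed_le
  exact ⟨T, fun p => hT (Set.mem_univ p)⟩

/-- At primes `p ⊆ q` with adjusted depth above `i`, the projective dimension is at most
`ht q - (i + 1)`, and the module vanishes if `ht q ≤ i`. -/
theorem pd_bound (M : Type u) [AddCommGroup M] [Module R M] [Module.Finite R M] (a : Ideal R)
    (p q : Ideal R) [p.IsPrime] [q.IsPrime] (hpq : p ≤ q) (haq : a ≤ q) (i c : ℕ)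
    (hc : q.height = (c : ℕ∞))
    (hi : (i : ℕ∞) < _root_.LocCoh.adjDepth a M ⟨p, inferInstance⟩) :
    (i < c → PdLE (Localization.AtPrime p) (LocalizedModule p.primeCompl M) (c - (i + 1))) ∧
    (c ≤ i → Subsingleton (LocalizedModule p.primeCompl M)) := by
  haveI : Module.Finite (Localization.AtPrime p) (LocalizedModule p.primeCompl M) :=
      Module.Finite.of_isLocalizedModule (Rₚ := Localization.AtPrime p) p.primeCompl
        (LocalizedModule.mkLinearMap p.primeCompl M)
  obtain ⟨k, hk⟩ := ENat.ne_top_iff_exists.1 (hq_ne_top hpq)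
  have hbot : ∀ x : Ideal R, hq ⊥ x = x.height := fun x => by
    have e := RingEquiv.height_map (RingEquiv.quotientBot R).symm x
    exact e
  have h1 := hq_add_le (bot_le : ⊥ ≤ p) hpq
  rw [hbot, hbot, hc, ← hk] at h1
  have h2 : ((a ⊔ p).map (Ideal.Quotient.mk p)).height ≤ hq p q :=
    Ideal.height_mono (Ideal.map_mono (sup_le haq hpq))
  rw [← hk] at h2
  have hi' : ((i + 1 : ℕ) : ℕ∞) ≤
      _root_.LocCoh.depth (Localization.AtPrime p) (LocalizedModule p.primeCompl M) + k := by
    rw [Nat.cast_add, Nat.cast_one]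
    exact (Order.add_one_le_of_lt hi).trans (add_le_add le_rfl h2)
  obtain ⟨hp, hhp⟩ : ∃ n : ℕ, p.height = n := by
    refine ⟨_, (ENat.coe_toNat ?_).symm⟩
    intro htop
    rw [htop, top_add] at h1
    exact absurd h1 (by simp)
  rw [hhp, ← Nat.cast_add, Nat.cast_le] at h1
  have hdimp : ringKrullDim (Localization.AtPrime p) = ((hp : ℕ∞) : WithBot ℕ∞) := by
    rw [IsLocalization.AtPrime.ringKrullDim_eq_height p (Localization.AtPrime p), hhp]
  have hspan : ((maximalIdeal (Localization.AtPrime p)).spanFinrank : ℕ∞) = hp := by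
    rw [← CAlgH3.depth_eq_spanFinrank, depth_localization_eq_height, hhp]
  refine ⟨fun hic => CAlgH3.pd_of_depth (R := Localization.AtPrime p) _ _ ?_, fun hci => ?_⟩
  · rw [hspan]
    rcases eq_or_ne (_root_.LocCoh.depth (Localization.AtPrime p) (LocalizedModule p.primeCompl M)) ⊤
      with hD | hD
    · rw [hD, top_add]; exact le_top
    obtain ⟨D, hD'⟩ := ENat.ne_top_iff_exists.1 hD
    rw [← hD', ← Nat.cast_add, Nat.cast_le] at hi'
    rw [← hD', ← Nat.cast_add, Nat.cast_le]
    omega
  · by_contra hns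
    haveI := not_subsingleton_iff_nontrivial.1 hns
    have h3 : ((_root_.LocCoh.depth (Localization.AtPrime p) (LocalizedModule p.primeCompl M) : ℕ∞) :
        WithBot ℕ∞) ≤ ((hp : ℕ∞) : WithBot ℕ∞) :=
      CAlgH3.depth_le_supportDim.trans (hdimp ▸ Module.supportDim_le_ringKrullDim _ _)
    have h4 := hi'.trans (add_le_add (WithBot.coe_le_coe.1 h3) le_rfl)
    rw [← Nat.cast_add, Nat.cast_le] at h4
    omega

end regular

variable {R : Type u} [CommRing R] [IsNoetherianRing R]

/-- An ideal contained in every member of a closed set through `q` is, up to an element outside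
`q`, contained in the vanishing ideal of the set. -/
theorem exists_notMem_mul_mem (B : Set (PrimeSpectrum R)) (hB : IsClosed B) (q : Ideal R) [q.IsPrime]
    {x : R} (h : ∀ p ∈ B, p.asIdeal ≤ q → x ∈ p.asIdeal) :
    ∃ s ∉ q, s * x ∈ PrimeSpectrum.vanishingIdeal B := by
  classical
  set I := PrimeSpectrum.vanishingIdeal B
  have hI : PrimeSpectrum.zeroLocus (I : Set R) = B := by
    rw [PrimeSpectrum.zeroLocus_vanishingIdeal_eq_closure, hB.closure_eq]
  let F := (Ideal.finite_minimalPrimes_of_isNoetherianRing R I).toFinset.filter fun P => ¬ P ≤ q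
  have hF : ∀ P ∈ F, ∃ s ∈ P, s ∉ q := fun P hP => SetLike.not_le_iff_exists.1 (Finset.mem_filter.1 hP).2
  choose f hfP hfq using hF
  refine ⟨∏ P ∈ F.attach, f P.1 P.2, fun hs => ?_, ?_⟩
  · obtain ⟨P, -, hP⟩ := Ideal.IsPrime.prod_mem_iff.1 hs
    exact hfq P.1 P.2 hP
  · have hrad : I.radical = I := (PrimeSpectrum.isRadical_vanishingIdeal B).radical
    rw [← hrad, ← Ideal.sInf_minimalPrimes, Submodule.mem_sInf]
    intro P hP
    by_cases hPq : P ≤ q
    · exact Ideal.mul_mem_left P _ (h ⟨P, hP.1.1⟩ (hI ▸ hP.1.2) hPq)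
    · have hmem : P ∈ F := Finset.mem_filter.2 ⟨(Set.Finite.mem_toFinset _).2 hP, hPq⟩
      exact Ideal.mul_mem_right _ P
        (Ideal.mem_of_dvd P (Finset.dvd_prod_of_mem _ (Finset.mem_attach F ⟨P, hmem⟩)) (hfP P hmem))

theorem exists_notMem_mul_mem_pow {b I : Ideal R} (q : Ideal R) [q.IsPrime]
    (h : ∀ x ∈ b, ∃ s ∉ q, s * x ∈ I) (n : ℕ) {y : R} (hy : y ∈ b ^ n) :
    ∃ s ∉ q, s * y ∈ I ^ n := by
  have h1 : b.map (algebraMap R (Localization.AtPrime q)) ≤ I.map (algebraMap R _) :=
    Ideal.map_le_iff_le_comap.2 fun x hx => by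
      obtain ⟨s, hs, hsx⟩ := h x hx
      exact (IsLocalization.algebraMap_mem_map_algebraMap_iff q.primeCompl _ I x).2 ⟨s, hs, hsx⟩
  have h2 := Ideal.pow_right_mono h1 n (by
    rw [← Ideal.map_pow]; exact Ideal.mem_map_of_mem _ hy)
  rw [← Ideal.map_pow] at h2
  obtain ⟨s, hs, hsy⟩ := (IsLocalization.algebraMap_mem_map_algebraMap_iff q.primeCompl _ _ y).1 h2
  exact ⟨s, hs, hsy⟩

/-- At a minimal prime `q` of `a`, classes of `H_a` come from `H_q` up to an element outside `q`. -/
theorem exists_notMem_smul_mem_range_Hle (a q : Ideal R) [q.IsPrime] (hq : q ∈ a.minimalPrimes)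
    (M : Type u) [AddCommGroup M] [Module R M] (i : ℕ) (x : _root_.LocCoh.H a i M) :
    ∃ s ∉ q, s • x ∈ LinearMap.range (Hle hq.1.2 i M) := by
  have main : ∀ K : Ideal R, K.FG → ∀ (J : Ideal R), a ≤ J → J ⊔ K ≤ q →
      ∀ x : _root_.LocCoh.H J i M, ∃ s ∉ q,
        s • x ∈ LinearMap.range (Hle (le_sup_left : J ≤ J ⊔ K) i M) := by
    intro K hK
    induction K, hK using Submodule.fg_induction with
    | singleton b =>
      intro J haJ hJq x
      have hb : algebraMap R (Localization.AtPrime q) b ∈
          (a.map (algebraMap R (Localization.AtPrime q))).radical := by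
        rw [IsLocalization.AtPrime.radical_map_of_mem_minimalPrimes (A := Localization.AtPrime q) q a hq]
        exact Ideal.mem_map_of_mem _ (hJq (Submodule.mem_sup_right (Submodule.mem_span_singleton_self b)))
      obtain ⟨k, hk⟩ := hb
      rw [← map_pow] at hk
      obtain ⟨s, hs, hsb⟩ :=
        (IsLocalization.algebraMap_mem_map_algebraMap_iff q.primeCompl _ a _).1 hk
      obtain ⟨n, hn⟩ := isPowerTorsion_H i x
      refine ⟨s ^ n, fun hh => hs (Ideal.IsPrime.mem_of_pow_mem ‹_› n hh),
        (mem_range_Hle_iff J b i M _).2 ⟨k * n, ?_⟩⟩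
      rw [← mul_smul, pow_mul, ← mul_pow, mul_comm]
      exact hn _ (Ideal.pow_mem_pow (haJ hsb) n)
    | sup S T _ _ hS hT =>
      intro J haJ hJq x
      obtain ⟨s, hs, z, hz⟩ := hS J haJ ((sup_le_sup_left le_sup_left J).trans hJq) x
      obtain ⟨t, ht, w, hw⟩ := hT (J ⊔ S) (haJ.trans le_sup_left)
        ((sup_assoc J S T).le.trans hJq) z
      refine ⟨t * s, fun hh => (Ideal.IsPrime.mem_or_mem ‹_› hh).elim ht hs, ?_⟩
      rw [mul_smul, ← hz, ← map_smul, ← hw]
      have gen : ∀ (L : Ideal R) (e : L = J ⊔ S ⊔ T) (hle : J ≤ L),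
          Hle (le_sup_left : J ≤ J ⊔ S) i M (Hle (le_sup_left : J ⊔ S ≤ J ⊔ S ⊔ T) i M w) ∈
            LinearMap.range (Hle hle i M) := by
        rintro L rfl hle
        exact ⟨w, (Hle_comp _ _ i w).symm⟩
      exact gen _ (sup_assoc J S T).symm le_sup_left
  have gen : ∀ (L : Ideal R) (e : L = q) (hle : a ≤ L), ∀ z : _root_.LocCoh.H a i M,
      z ∈ LinearMap.range (Hle hle i M) → z ∈ LinearMap.range (Hle hq.1.2 i M) := by
    rintro L rfl hle z hz
    exact hz
  obtain ⟨s, hs, h⟩ := main q (IsNoetherian.noetherian q) a le_rfl (sup_le hq.1.2 le_rfl) x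
  exact ⟨s, hs, gen _ (sup_eq_right.2 hq.1.2) _ _ h⟩

section main

/-- Faltings' annihilator theorem over a regular ring, degree by degree. -/
theorem le_radical_annihilator_of_lt_minAdjDepth {R : Type u} [CommRing R] [IsRegularRing R]
    (a b : Ideal R) (M : Type u) [AddCommGroup M] [Module R M] [Module.Finite R M] (i : ℕ)
    (hi : (i : ℕ∞) < _root_.LocCoh.minAdjDepth a b M) :
    b ≤ (Module.annihilator R (_root_.LocCoh.H a i M)).radical := by
  classical
  obtain ⟨T, hT⟩ := exists_pdLE_bound (R := R) M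
  choose nf hnf using fun t : ℕ => exists_pow_vanishingIdeal_le_annihilator (R := R) M t
  obtain ⟨n₀, hn₀⟩ := Ideal.exists_pow_le_of_le_radical_of_fg
    (le_refl (Module.annihilator R M).radical) (IsNoetherian.noetherian _)
  let n : ℕ := max n₀ ((Finset.range (T + 1)).sup nf)
  have hbad : ∀ p : PrimeSpectrum R, ¬ b ≤ p.asIdeal → (i : ℕ∞) < _root_.LocCoh.adjDepth a M p :=
    fun p hp => lt_of_lt_of_le hi (iInf₂_le p hp)
  -- the claim at a minimal prime
  have hmin : ∀ (a' q : Ideal R) [q.IsPrime], a ≤ a' → q ∈ a'.minimalPrimes → ∀ c : ℕ,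
      q.height = (c : ℕ∞) → c ≤ i + T → ∀ y ∈ b ^ n, ∀ x : _root_.LocCoh.H a' i M,
      ∃ s ∉ q, s • y • x = 0 := by
    intro a' q _ haa' hq c hc hcT y hy x
    by_cases hci : c ≤ i
    · have hloc : ∀ z ∈ b, ∃ s ∉ q, s * z ∈ (Module.annihilator R M).radical := by
        intro z hz
        rw [← PrimeSpectrum.vanishingIdeal_zeroLocus_eq_radical]
        refine exists_notMem_mul_mem _ (PrimeSpectrum.isClosed_zeroLocus _) q fun p hp hpq => ?_
        by_contra hzp
        have hbp : ¬ b ≤ p.asIdeal := fun hh => hzp (hh hz)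
        haveI := (pd_bound M a p.asIdeal q hpq (haa'.trans hq.1.2) i c hc (hbad p hbp)).2 hci
        obtain ⟨s, hs, hk⟩ := exists_kills_of_subsingleton p.asIdeal M inferInstance
        exact hs (hp (Module.mem_annihilator.2 hk))
      obtain ⟨s, hs, hsy⟩ := exists_notMem_mul_mem_pow q hloc n hy
      refine ⟨s, hs, ?_⟩
      rw [← mul_smul]
      refine smul_H_eq_zero (fun m => ?_) i x
      exact Module.mem_annihilator.1 (hn₀ (Ideal.pow_le_pow_right (le_max_left _ _) hsy)) m
    · have hlt : i < c := Nat.lt_of_not_le hci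
      let t := c - (i + 1)
      have hclosed : IsClosed {p : PrimeSpectrum R |
          ¬ PdLE (Localization.AtPrime p.asIdeal) (LocalizedModule p.asIdeal.primeCompl M) t} :=
        (CommAlg6.isOpen_pdLE_locus t M).isClosed_compl
      have hloc : ∀ z ∈ b, ∃ s ∉ q, s * z ∈ PrimeSpectrum.vanishingIdeal {p : PrimeSpectrum R |
          ¬ PdLE (Localization.AtPrime p.asIdeal) (LocalizedModule p.asIdeal.primeCompl M) t} := by
        intro z hz
        refine exists_notMem_mul_mem _ hclosed q fun p hp hpq => ?_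
        by_contra hzp
        exact hp ((pd_bound M a p.asIdeal q hpq (haa'.trans hq.1.2) i c hc
          (hbad p fun hh => hzp (hh hz))).1 hlt)
      obtain ⟨s, hs, hsy⟩ := exists_notMem_mul_mem_pow q hloc n hy
      have hdep : ((i + t : ℕ) : ℕ∞) < _root_.LocCoh.idealDepth q R :=
        lt_of_lt_of_le (Nat.cast_lt.2 (show i + t < c by omega))
          (natCast_le_idealDepth_of_height q c fun P _ hqP => hc ▸ Ideal.height_mono hqP)
      have hle : nf t ≤ n :=
        (Finset.le_sup (Finset.mem_range.2 (show t < T + 1 by omega))).trans (le_max_right _ _)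
      have hkill := hnf t q i hdep (Ideal.pow_le_pow_right hle hsy)
      obtain ⟨s', hs', z, hz⟩ := exists_notMem_smul_mem_range_Hle a' q hq M i x
      refine ⟨s * s', fun hh => (Ideal.IsPrime.mem_or_mem ‹_› hh).elim hs hs', ?_⟩
      rw [← mul_smul, show s * s' * y = (s * y) * s' by ring, mul_smul, ← hz, ← map_smul,
        Module.mem_annihilator.1 hkill z, map_zero]
  -- induction on the codimension
  have key : ∀ (k : ℕ) (a' : Ideal R), a ≤ a' →
      (∀ P : Ideal R, P.IsPrime → a' ≤ P → ((i + T + 1 - k : ℕ) : ℕ∞) ≤ P.height) →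
      b ^ (n * k) ≤ Module.annihilator R (_root_.LocCoh.H a' i M) := by
    intro k
    induction k with
    | zero =>
      intro a' _ hP y _
      have hdep : ((i + T : ℕ) : ℕ∞) < _root_.LocCoh.idealDepth a' R :=
        lt_of_lt_of_le (Nat.cast_lt.2 (Nat.lt_succ_self _))
          (natCast_le_idealDepth_of_height a' _ fun P hPp hle => hP P hPp hle)
      have h1 := hnf T a' i hdep
      rw [show {p : PrimeSpectrum R | ¬ PdLE (Localization.AtPrime p.asIdeal)
          (LocalizedModule p.asIdeal.primeCompl M) T} = ∅ from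
        Set.eq_empty_iff_forall_notMem.2 fun p hp => hp (hT p), PrimeSpectrum.vanishingIdeal_empty,
        Ideal.top_pow] at h1
      exact h1 trivial
    | succ k ih =>
      intro a' haa' hP
      by_cases hk : i + T < k
      · refine (Ideal.pow_le_pow_right (Nat.mul_le_mul_left n k.le_succ)).trans
          (ih a' haa' fun P hPp hle => ?_)
        rw [show i + T + 1 - k = 0 by omega]
        exact bot_le
      let c := i + T - k
      have hc1 : i + T + 1 - (k + 1) = c := by omega
      have hc2 : i + T + 1 - k = c + 1 := by omega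
      rw [Nat.mul_succ, pow_add, Ideal.mul_le]
      intro u hu y hy
      rw [Module.mem_annihilator]
      intro x
      let K : Ideal R := LinearMap.ker (LinearMap.toSpanSingleton R _ (y • x))
      let F := (Ideal.finite_minimalPrimes_of_isNoetherianRing R a').toFinset.filter
        fun q => q.height = (c : ℕ∞)
      have hKF : ¬ (K : Set R) ⊆ ⋃ q ∈ (↑F : Set (Ideal R)), (id q : Ideal R) := by
        rw [Ideal.subset_union_prime ⊥ ⊥ fun q hq _ _ =>
          ((Set.Finite.mem_toFinset _).1 (Finset.mem_filter.1 hq).1).1.1]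
        rintro ⟨q, hq, hKq⟩
        obtain ⟨hq1, hq2⟩ := Finset.mem_filter.1 hq
        rw [Set.Finite.mem_toFinset] at hq1
        haveI := hq1.1.1
        obtain ⟨s, hs, hsx⟩ := hmin a' q haa' hq1 c hq2 (Nat.sub_le _ _) y hy x
        exact hs (hKq (show LinearMap.toSpanSingleton R _ (y • x) s = 0 from hsx))
      obtain ⟨s, hsK, hsF⟩ := Set.not_subset.1 hKF
      obtain ⟨z, hz⟩ := (mem_range_Hle_iff a' s i M (y • x)).2 ⟨1, by
        rw [pow_one]; exact hsK⟩
      have hJ := ih (a' ⊔ Ideal.span {s}) (haa'.trans le_sup_left) fun P hPp hle => by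
        obtain ⟨q, hq, hqP⟩ := Ideal.exists_minimalPrimes_le ((le_sup_left : a' ≤ _).trans hle)
        haveI := hq.1.1
        have h1 : (c : ℕ∞) ≤ q.height := hc1 ▸ hP q inferInstance hq.1.2
        rw [hc2, Nat.cast_add, Nat.cast_one]
        rcases h1.lt_or_eq with h2 | h2
        · exact (Order.add_one_le_of_lt h2).trans (Ideal.height_mono hqP)
        · have hsP : s ∈ P := hle (Submodule.mem_sup_right (Ideal.mem_span_singleton_self s))
          have hne : q < P := lt_of_le_of_ne hqP fun e => hsF (Set.mem_biUnion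
            (Finset.mem_coe.2 (Finset.mem_filter.2 ⟨(Set.Finite.mem_toFinset _).2 hq, h2.symm⟩))
            (e ▸ hsP))
          rw [h2]
          exact Ideal.height_add_one_le_of_lt_of_isPrime hne
      rw [mul_smul, ← hz, ← map_smul, Module.mem_annihilator.1 (hJ hu) z, map_zero]
  intro x hx
  exact ⟨n * (i + T + 1), key _ a le_rfl (fun P _ _ => by rw [Nat.sub_self]; exact bot_le)
    (Ideal.pow_mem_pow hx _)⟩

/-- Faltings' annihilator theorem for quotients of regular rings. -/
theorem minAdjDepth_le_finDimRel {S R : Type u} [CommRing S] [IsRegularRing S] [CommRing R]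
    [IsNoetherianRing R] (π : S →+* R) (hπ : Function.Surjective π) (a b : Ideal R)
    (M : Type u) [AddCommGroup M] [Module R M] [Module.Finite R M] :
    _root_.LocCoh.minAdjDepth a b M ≤ _root_.LocCoh.finDimRel a b M := by
  letI : Algebra S R := π.toAlgebra
  letI : Module S M := Module.compHom M π
  haveI : IsScalarTower S R M := IsScalarTower.of_algebraMap_smul fun _ _ => rfl
  have hs : Function.Surjective (algebraMap S R) := hπ
  haveI : Module.Finite S R := Module.Finite.of_surjective (Algebra.linearMap S R) hs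
  haveI : Module.Finite S M := Module.Finite.trans R M
  refine le_iInf₂ fun i hi => ?_
  by_contra hlt
  push Not at hlt
  apply hi
  intro β hβ
  obtain ⟨β', rfl⟩ := hs β
  obtain ⟨φ, hφ⟩ := exists_H_independence S R (a.comap (algebraMap S R)) i M
  have key : (i : ℕ∞) <
      _root_.LocCoh.minAdjDepth (a.comap (algebraMap S R)) (b.comap (algebraMap S R)) M := by
    refine lt_of_lt_of_le hlt (le_iInf₂ fun P hP => ?_)
    show _ ≤ _root_.LocCoh.depth (Localization.AtPrime P.asIdeal) _ + _
    by_cases hcp : RingHom.ker (algebraMap S R) ≤ P.asIdeal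
    · let Q : Ideal R := P.asIdeal.map (algebraMap S R)
      haveI : Q.IsPrime := Ideal.map_isPrime_of_surjective hs hcp
      have hQP : Q.comap (algebraMap S R) = P.asIdeal := by
        rw [Ideal.comap_map_of_surjective _ hs, ← RingHom.ker_eq_comap_bot, sup_eq_left.2 hcp]
      refine iInf₂_le_of_le (⟨Q, inferInstance⟩ : PrimeSpectrum R)
        (fun h => hP ((Ideal.comap_mono h).trans hQP.le)) (add_le_add (le_of_eq ?_) (le_of_eq ?_))
      · show _root_.LocCoh.depth (Localization.AtPrime Q) (LocalizedModule Q.primeCompl M) = _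
        have hmem : ∀ s, s ∈ P.asIdeal ↔ algebraMap S R s ∈ Q := fun s => by
          rw [← hQP]; rfl
        refine depth_eq_of_isLocalizedModule P.asIdeal (fun s hs' => ?_) (fun x => ?_)
          ((LocalizedModule.mkLinearMap Q.primeCompl M).restrictScalars S) (fun z => ?_)
          (fun m hm => ?_)
        · rw [IsScalarTower.algebraMap_apply S R]
          exact IsLocalization.map_units _
            (⟨algebraMap S R s, fun h => hs' ((hmem s).2 h)⟩ : Q.primeCompl)
        · obtain ⟨⟨y, t, ht⟩, h⟩ := IsLocalization.surj Q.primeCompl x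
          obtain ⟨r, rfl⟩ := hs y
          obtain ⟨s, rfl⟩ := hs t
          refine ⟨r, s, fun h' => ht ((hmem s).1 h'), ?_⟩
          rw [IsScalarTower.algebraMap_apply S R, IsScalarTower.algebraMap_apply S R]
          exact h
        · obtain ⟨⟨m, t, ht⟩, h⟩ := IsLocalizedModule.surj Q.primeCompl
            (LocalizedModule.mkLinearMap Q.primeCompl M) z
          obtain ⟨s, rfl⟩ := hs t
          exact ⟨m, s, fun h' => ht ((hmem s).1 h'),
            (IsScalarTower.algebraMap_smul R s z).symm.trans h⟩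
        · obtain ⟨⟨t, ht⟩, h⟩ := (IsLocalizedModule.eq_zero_iff Q.primeCompl
            (LocalizedModule.mkLinearMap Q.primeCompl M)).1 hm
          obtain ⟨s, rfl⟩ := hs t
          exact ⟨s, fun h' => ht ((hmem s).1 h'), (IsScalarTower.algebraMap_smul R s m).symm.trans h⟩
      · let g : S →+* R ⧸ Q := (Ideal.Quotient.mk Q).comp (algebraMap S R)
        have hgsurj : Function.Surjective g := Ideal.Quotient.mk_surjective.comp hs
        have hker : RingHom.ker g = P.asIdeal := by
          rw [show RingHom.ker g = (RingHom.ker (Ideal.Quotient.mk Q)).comap (algebraMap S R)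
            from (RingHom.comap_ker _ _).symm, Ideal.mk_ker, hQP]
        let e : S ⧸ P.asIdeal ≃+* R ⧸ Q :=
          (Ideal.quotEquivOfEq hker.symm).trans (RingHom.quotientKerEquivOfSurjective hgsurj)
        show ((a ⊔ Q).map (Ideal.Quotient.mk Q)).height = _
        conv_rhs => rw [← RingEquiv.height_map e]
        refine congrArg Ideal.height ?_
        show _ = ((a.comap (algebraMap S R) ⊔ P.asIdeal).map (Ideal.Quotient.mk P.asIdeal)).map
          (e : S ⧸ P.asIdeal →+* R ⧸ Q)
        rw [Ideal.map_sup, Ideal.map_quotient_self, sup_bot_eq, Ideal.map_map, Ideal.map_sup]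
        rw [show (e : S ⧸ P.asIdeal →+* R ⧸ Q).comp (Ideal.Quotient.mk P.asIdeal) = g from rfl]
        rw [show P.asIdeal.map g = ⊥ from (Ideal.map_eq_bot_iff_le_ker g).2 hker.ge, sup_bot_eq,
          ← Ideal.map_map, Ideal.map_comap_of_surjective _ hs]
    · obtain ⟨r, hr, hrp⟩ := SetLike.not_le_iff_exists.1 hcp
      haveI : Subsingleton (LocalizedModule P.asIdeal.primeCompl M) :=
        LocalizedModule.subsingleton_iff.2 fun m => ⟨r, hrp, by
          rw [← IsScalarTower.algebraMap_smul R r m, RingHom.mem_ker.1 hr, zero_smul]⟩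
      rw [depth_atPrime_eq_top, top_add]
      exact le_top
  have h1 := le_radical_annihilator_of_lt_minAdjDepth _ _ M i key (show β' ∈ b.comap _ from hβ)
  obtain ⟨k, hk⟩ := h1
  refine ⟨k, Module.mem_annihilator.2 fun x => ?_⟩
  have gen : ∀ (I : Ideal R), I = a → ∀ x : _root_.LocCoh.H a i M,
      (∀ z : _root_.LocCoh.H I i M, algebraMap S R β' ^ k • z = 0) →
        algebraMap S R β' ^ k • x = 0 := by
    rintro I rfl x h
    exact h x
  refine gen _ (Ideal.map_comap_of_surjective _ hs a) x fun z => φ.injective ?_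
  rw [← map_pow, hφ, map_zero]
  exact Module.mem_annihilator.1 hk (φ z)

end main

end Groth.Agent.LocCoh
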