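import Mathlib

/-!
The monomial conjecture in characteristic `p`, via growth of the lengths `ℓ(R/I^t)`.
-/

set_option autoImplicit false

universe u

namespace Groth.Agent.LocCoh

variable {R : Type u} [CommRing R]

local notation "len" I:arg => Module.length R (R ⧸ I)

theorem length_quotient_antitone {I J : Ideal R} (h : I ≤ J) : len J ≤ len I :=
  Module.length_le_of_surjective (Submodule.mapQ I J LinearMap.id h) fun q => by
    obtain ⟨r, rfl⟩ := Submodule.mkQ_surjective _ q
    exact ⟨Submodule.Quotient.mk r, rfl⟩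

/-- If `x * r ∈ J` forces `r ∈ K` and `J ≤ L`, with `x ∈ L`, then `ℓ(R/K) + ℓ(R/L) ≤ ℓ(R/J)`. -/
theorem length_add_le_of_colon {J K L : Ideal R} (x : R) (hJL : J ≤ L) (hx : x ∈ L)
    (h : ∀ r, x * r ∈ J → r ∈ K) : len K + len L ≤ len J := by
  let π : (R ⧸ J) →ₗ[R] R ⧸ L := Submodule.mapQ J L LinearMap.id hJL
  have hπ : Function.Surjective π := fun q => by
    obtain ⟨r, rfl⟩ := Submodule.mkQ_surjective _ q
    exact ⟨Submodule.Quotient.mk r, rfl⟩
  rw [Module.length_eq_add_of_exact (LinearMap.ker π).subtype π (LinearMap.ker π).injective_subtype hπ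
    (LinearMap.exact_subtype_ker_map π)]
  refine add_le_add ?_ le_rfl
  let μ : R →ₗ[R] LinearMap.ker π := LinearMap.codRestrict _ (LinearMap.toSpanSingleton R (R ⧸ J)
    (Submodule.Quotient.mk x)) fun r => by
      rw [LinearMap.mem_ker, LinearMap.toSpanSingleton_apply, ← Submodule.Quotient.mk_smul]
      exact (Submodule.Quotient.mk_eq_zero L).2 (Ideal.mul_mem_left _ r hx)
  have hK : LinearMap.ker μ ≤ K := fun r hr => h r (by
    have h1 := congrArg Subtype.val (LinearMap.mem_ker.1 hr)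
    change r • (Submodule.Quotient.mk x : R ⧸ J) = 0 at h1
    rw [← Submodule.Quotient.mk_smul, Submodule.Quotient.mk_eq_zero, smul_eq_mul, mul_comm] at h1
    exact h1)
  refine (length_quotient_antitone hK).trans ?_
  exact Module.length_le_of_injective ((Submodule.liftQ _ μ le_rfl))
    (LinearMap.ker_eq_bot.1 (Submodule.ker_liftQ_eq_bot _ _ _ le_rfl))

/-- `ℓ(R/J) ≤ ℓ(R/L) + ℓ(R/K)` if `L ≤ J + (x)` and `x K ≤ J`. -/
theorem length_le_add_of_colon {J K L : Ideal R} (x : R) (hL : L ≤ J ⊔ Ideal.span {x})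
    (h : ∀ r ∈ K, x * r ∈ J) : len J ≤ len L + len K := by
  let π : (R ⧸ J) →ₗ[R] R ⧸ (J ⊔ Ideal.span {x}) := Submodule.mapQ J _ LinearMap.id le_sup_left
  have hπ : Function.Surjective π := fun q => by
    obtain ⟨r, rfl⟩ := Submodule.mkQ_surjective _ q
    exact ⟨Submodule.Quotient.mk r, rfl⟩
  rw [Module.length_eq_add_of_exact (LinearMap.ker π).subtype π (LinearMap.ker π).injective_subtype hπ
    (LinearMap.exact_subtype_ker_map π), add_comm (len L)]
  refine add_le_add ?_ (length_quotient_antitone hL)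
  let ν : (R ⧸ K) →ₗ[R] LinearMap.ker π := Submodule.liftQ K
    (LinearMap.codRestrict _ (LinearMap.toSpanSingleton R (R ⧸ J) (Submodule.Quotient.mk x)) fun r => by
      rw [LinearMap.mem_ker, LinearMap.toSpanSingleton_apply, ← Submodule.Quotient.mk_smul]
      exact (Submodule.Quotient.mk_eq_zero (J ⊔ Ideal.span {x})).2
        (Ideal.mul_mem_left _ r (Submodule.mem_sup_right (Ideal.mem_span_singleton_self x))))
    fun r hr => LinearMap.mem_ker.2 (Subtype.ext (by
      show r • (Submodule.Quotient.mk x : R ⧸ J) = 0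
      rw [← Submodule.Quotient.mk_smul, Submodule.Quotient.mk_eq_zero, smul_eq_mul, mul_comm]
      exact h r hr))
  refine Module.length_le_of_surjective ν fun q => ?_
  obtain ⟨q, hq⟩ := q
  obtain ⟨r, rfl⟩ := Submodule.mkQ_surjective _ q
  rw [LinearMap.mem_ker] at hq
  obtain ⟨j, hj, z, hz, rfl⟩ := Submodule.mem_sup.1 ((Submodule.Quotient.mk_eq_zero _).1 hq)
  obtain ⟨c, rfl⟩ := Ideal.mem_span_singleton'.1 hz
  refine ⟨Submodule.Quotient.mk c, Subtype.ext ?_⟩
  show c • (Submodule.Quotient.mk x : R ⧸ J) = Submodule.Quotient.mk (j + c * x)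
  rw [← Submodule.Quotient.mk_smul, Submodule.Quotient.eq, smul_eq_mul]
  simpa using neg_mem hj

section growth

variable [IsNoetherianRing R] [IsLocalRing R]

/-- Along a chain of primes of length `n` starting at `P`, `ℓ(R/(P + I^t))` grows at least like
`t^n`. -/
theorem exists_pow_le_length {I : Ideal R} (hI : I ≤ IsLocalRing.maximalIdeal R) : ∀ (n : ℕ)
    (l : LTSeries (PrimeSpectrum R)), l.length = n →
    ∃ C : ℕ, ∀ t : ℕ, 1 ≤ t → ((t ^ n : ℕ) : ℕ∞) ≤ (C : ℕ∞) * len (l.head.asIdeal ⊔ I ^ t) := by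
  intro n
  induction n with
  | zero =>
    intro l _
    refine ⟨1, fun t ht => ?_⟩
    have hne : l.head.asIdeal ⊔ I ^ t ≠ ⊤ := ne_top_of_le_ne_top (IsLocalRing.maximalIdeal.isMaximal R).ne_top
      (sup_le (IsLocalRing.le_maximalIdeal l.head.2.ne_top) ((Ideal.pow_le_self (by omega)).trans hI))
    haveI : Nontrivial (R ⧸ (l.head.asIdeal ⊔ I ^ t)) := Ideal.Quotient.nontrivial_iff.2 hne
    rw [pow_zero, Nat.cast_one, one_mul]
    exact Order.one_le_iff_pos.2 Module.length_pos
  | succ n ih =>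
    intro l hl
    obtain ⟨C, hC⟩ := ih (l.tail (by omega)) (by simp [hl])
    set P := l.head.asIdeal with hP
    set Q := (l.tail (by omega)).head.asIdeal with hQ
    have hlt : P < Q := by
      rw [hP, hQ, RelSeries.head_tail]
      exact l.strictMono (show (0 : Fin (l.length + 1)) < 1 by
        rw [Fin.lt_def, Fin.val_zero, Fin.val_one']
        rw [Nat.mod_eq_of_lt (by omega)]
        exact zero_lt_one)
    obtain ⟨x, hxQ, hxP⟩ := SetLike.exists_of_lt hlt
    -- Artin–Rees
    obtain ⟨k₀, hk₀⟩ := Ideal.exists_pow_inf_eq_pow_smul (M := R ⧸ P) I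
      (Submodule.span R {Submodule.Quotient.mk x})
    set k := k₀ + 1
    have hAR : ∀ t, k ≤ t → ∀ r, x * r ∈ P ⊔ I ^ t → r ∈ P ⊔ I ^ (t - k) := by
      intro t ht r hr
      have h1 : (Submodule.Quotient.mk (x * r) : R ⧸ P) ∈ I ^ t • (⊤ : Submodule R (R ⧸ P)) ⊓
          Submodule.span R {Submodule.Quotient.mk x} := by
        refine ⟨?_, Submodule.mem_span_singleton.2 ⟨r, ?_⟩⟩
        · obtain ⟨a, ha, b, hb, hab⟩ := Submodule.mem_sup.1 hr
          rw [← hab, Submodule.Quotient.mk_add, (Submodule.Quotient.mk_eq_zero P).2 ha, zero_add,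
            show (Submodule.Quotient.mk b : R ⧸ P) = b • Submodule.Quotient.mk 1 by
              rw [← Submodule.Quotient.mk_smul, smul_eq_mul, mul_one]]
          exact Submodule.smul_mem_smul hb trivial
        · rw [← Submodule.Quotient.mk_smul, smul_eq_mul, mul_comm]
      rw [hk₀ t (by omega)] at h1
      obtain ⟨i, hi, hix⟩ := Submodule.mem_smul_span_singleton.1
        ((Submodule.smul_mono le_rfl inf_le_right) h1)
      rw [← Submodule.Quotient.mk_smul, Submodule.Quotient.eq, smul_eq_mul,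
        show i * x - x * r = x * (i - r) by ring] at hix
      have h2 : i - r ∈ P := (l.head.2.mem_or_mem hix).resolve_left hxP
      rw [show r = i - (i - r) by ring]
      exact sub_mem (Submodule.mem_sup_right (Ideal.pow_le_pow_right (by omega) hi))
        (Submodule.mem_sup_left h2)
    have hrec : ∀ t, k ≤ t → len (P ⊔ I ^ (t - k)) + len (Q ⊔ I ^ t) ≤ len (P ⊔ I ^ t) := fun t ht =>
      length_add_le_of_colon x (sup_le_sup_right hlt.le _) (Submodule.mem_sup_left hxQ) (hAR t ht)
    -- summation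
    have hsum : ∀ t m s : ℕ, 1 ≤ t → 2 * (m * k) + t ≤ 2 * s →
        ((m * t ^ n : ℕ) : ℕ∞) ≤ ((2 ^ n * C : ℕ) : ℕ∞) * len (P ⊔ I ^ s) := by
      intro t m
      induction m with
      | zero => intro s _ _; simp
      | succ m ihm =>
        intro s ht hs
        have hs' : 2 * (m * k) + t + 2 * k ≤ 2 * s := by rw [add_one_mul] at hs; omega
        have h1 := ihm (s - k) ht (by omega)
        have h2 : ((t ^ n : ℕ) : ℕ∞) ≤ ((2 ^ n * C : ℕ) : ℕ∞) * len (Q ⊔ I ^ s) := by
          refine (Nat.cast_le.2 (Nat.pow_le_pow_left (show t ≤ 2 * s by omega) n)).trans ?_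
          rw [mul_pow, Nat.cast_mul, Nat.cast_mul, mul_assoc]
          exact mul_le_mul_right (hC s (by omega)) _
        rw [Nat.succ_mul, Nat.cast_add]
        refine (add_le_add h1 h2).trans ?_
        rw [← mul_add]
        exact mul_le_mul_right (hrec s (by omega)) _
    refine ⟨4 * k * (2 ^ n * C) + (2 * k) ^ (n + 1), fun t ht => ?_⟩
    rw [Nat.cast_add, add_mul]
    rcases lt_or_ge t (2 * k) with h | h
    · refine le_trans ?_ le_add_self
      have hne : P ⊔ I ^ t ≠ ⊤ := ne_top_of_le_ne_top (IsLocalRing.maximalIdeal.isMaximal R).ne_top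
        (sup_le (IsLocalRing.le_maximalIdeal l.head.2.ne_top) ((Ideal.pow_le_self (by omega)).trans hI))
      haveI : Nontrivial (R ⧸ (P ⊔ I ^ t)) := Ideal.Quotient.nontrivial_iff.2 hne
      refine (Nat.cast_le.2 (Nat.pow_le_pow_left h.le _)).trans ?_
      exact le_mul_of_one_le_right' (Order.one_le_iff_pos.2 Module.length_pos)
    · refine le_trans ?_ le_self_add
      set m := t / (2 * k)
      have hm1 : t < 2 * k * (m + 1) := Nat.lt_mul_div_succ t (by omega)
      have hm2 : m * (2 * k) ≤ t := Nat.div_mul_le_self t (2 * k)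
      have hm3 : 1 ≤ m := (Nat.one_le_div_iff (by omega)).2 h
      have hkm : k ≤ k * m := Nat.le_mul_of_pos_right k hm3
      have h1 := hsum t m t ht (by rw [mul_left_comm]; omega)
      rw [Nat.cast_mul (4 * k), mul_assoc]
      refine le_trans ?_ (mul_le_mul_right h1 _)
      rw [← Nat.cast_mul, Nat.cast_le, pow_succ, mul_comm (t ^ n) t, ← mul_assoc]
      exact Nat.mul_le_mul_right _ (by rw [mul_add, mul_one] at hm1; rw [mul_assoc] at hm1 ⊢; omega)

theorem exists_pow_le_length_of_dim {I : Ideal R} (hI : I ≤ IsLocalRing.maximalIdeal R) {n : ℕ}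
    (hn : (n : WithBot ℕ∞) ≤ ringKrullDim R) :
    ∃ C : ℕ, ∀ t : ℕ, 1 ≤ t → ((t ^ n : ℕ) : ℕ∞) ≤ (C : ℕ∞) * len (I ^ t) := by
  obtain ⟨l, hl⟩ := Order.le_krullDim_iff.1 hn
  obtain ⟨C, hC⟩ := exists_pow_le_length hI n l hl
  exact ⟨C, fun t ht => (hC t ht).trans (mul_le_mul_right (length_quotient_antitone le_sup_right) _)⟩

end growth

/-- If `u ∏ xᵢ^(M-1) ∈ J + (xᵢ^M)` then `ℓ(R/(J+(xᵢ^M))) ≤ (M^n-1) ℓ(R/(J+(xᵢ))) + ℓ(R/(J+(xᵢ)+(u)))`. -/
theorem length_pow_le (M : ℕ) (hM : 1 ≤ M) : ∀ (xs : List R) (J : Ideal R) (u : R),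
    u * (xs.map (· ^ (M - 1))).prod ∈ J ⊔ Ideal.ofList (xs.map (· ^ M)) →
    len (J ⊔ Ideal.ofList (xs.map (· ^ M))) ≤
      ((M ^ xs.length - 1 : ℕ) : ℕ∞) * len (J ⊔ Ideal.ofList xs) +
        len (J ⊔ Ideal.ofList xs ⊔ Ideal.span {u}) := by
  intro xs
  induction xs with
  | nil =>
    intro J u hu
    simp only [List.map_nil, List.prod_nil, mul_one, Ideal.ofList_nil, sup_bot_eq] at hu
    rw [List.map_nil, Ideal.ofList_nil, sup_bot_eq, sup_eq_left.2 ((Ideal.span_singleton_le_iff_mem _).2 hu)]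
    exact le_add_self
  | cons x xs ih =>
    intro J u hu
    simp only [List.map_cons, List.prod_cons, Ideal.ofList_cons] at hu
    rw [List.map_cons, Ideal.ofList_cons, Ideal.ofList_cons]
    set R₁ := Ideal.ofList (xs.map (· ^ M))
    set R₀ := Ideal.ofList xs
    set w := (xs.map (· ^ (M - 1))).prod
    -- plain bound on each graded piece
    have hplain : len (J ⊔ Ideal.span {x} ⊔ R₁) ≤
        ((M ^ xs.length : ℕ) : ℕ∞) * len (J ⊔ (Ideal.span {x} ⊔ R₀)) := by
      have h1 := ih (J ⊔ Ideal.span {x}) 0 (by rw [zero_mul]; exact zero_mem _)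
      rw [Ideal.span_singleton_eq_bot.2 rfl, sup_bot_eq] at h1
      refine h1.trans (le_of_eq ?_)
      have hpos : 1 ≤ M ^ xs.length := Nat.one_le_pow _ _ hM
      conv_rhs => rw [show M ^ xs.length = (M ^ xs.length - 1) + 1 by omega]
      rw [Nat.cast_add, Nat.cast_one, add_mul, one_mul, ← sup_assoc]
    have hpieces : ∀ j, len (J ⊔ (Ideal.span {x ^ j} ⊔ R₁)) ≤
        ((j * M ^ xs.length : ℕ) : ℕ∞) * len (J ⊔ (Ideal.span {x} ⊔ R₀)) := by
      intro j
      induction j with
      | zero =>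
        haveI : Subsingleton (R ⧸ (J ⊔ (Ideal.span {x ^ 0} ⊔ R₁))) :=
          Ideal.Quotient.subsingleton_iff.2 (by rw [pow_zero, Ideal.span_singleton_one]; simp)
        rw [Module.length_eq_zero]
        exact zero_le
      | succ j ihj =>
        refine (length_le_add_of_colon (x ^ j) (L := J ⊔ (Ideal.span {x ^ j} ⊔ R₁))
          (K := J ⊔ Ideal.span {x} ⊔ R₁) ?_ ?_).trans ?_
        · exact sup_le (le_sup_left.trans le_sup_left) (sup_le le_sup_right
            ((le_sup_right.trans le_sup_right).trans le_sup_left))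
        · intro r hr
          obtain ⟨r', hr', b, hb, rfl⟩ := Submodule.mem_sup.1 hr
          obtain ⟨a, ha, z, hz, rfl⟩ := Submodule.mem_sup.1 hr'
          obtain ⟨c, rfl⟩ := Ideal.mem_span_singleton'.1 hz
          rw [mul_add, mul_add]
          refine add_mem (add_mem (Submodule.mem_sup_left (Ideal.mul_mem_left _ _ ha)) ?_)
            (Submodule.mem_sup_right (Submodule.mem_sup_right (Ideal.mul_mem_left _ _ hb)))
          refine Submodule.mem_sup_right (Submodule.mem_sup_left (Ideal.mem_span_singleton'.2 ⟨c, ?_⟩))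
          ring
        · rw [Nat.succ_mul, Nat.cast_add, add_mul]
          exact add_le_add ihj hplain
    -- last piece
    have hlast : len (J ⊔ (Ideal.span {x ^ M} ⊔ R₁)) ≤ len (J ⊔ (Ideal.span {x ^ (M - 1)} ⊔ R₁)) +
        len (J ⊔ Ideal.span {x} ⊔ Ideal.span {u * w} ⊔ R₁) := by
      refine length_le_add_of_colon (x ^ (M - 1)) ?_ fun r hr => ?_
      · exact sup_le (le_sup_left.trans le_sup_left) (sup_le le_sup_right
            ((le_sup_right.trans le_sup_right).trans le_sup_left))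
      · obtain ⟨r', hr', b, hb, rfl⟩ := Submodule.mem_sup.1 hr
        obtain ⟨r'', hr'', z', hz', rfl⟩ := Submodule.mem_sup.1 hr'
        obtain ⟨a, ha, z, hz, rfl⟩ := Submodule.mem_sup.1 hr''
        obtain ⟨c, rfl⟩ := Ideal.mem_span_singleton'.1 hz
        obtain ⟨c', rfl⟩ := Ideal.mem_span_singleton'.1 hz'
        rw [mul_add, mul_add, mul_add]
        refine add_mem (add_mem (add_mem (Submodule.mem_sup_left (Ideal.mul_mem_left _ _ ha)) ?_) ?_)
          (Submodule.mem_sup_right (Submodule.mem_sup_right (Ideal.mul_mem_left _ _ hb)))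
        · refine Submodule.mem_sup_right (Submodule.mem_sup_left (Ideal.mem_span_singleton'.2 ⟨c, ?_⟩))
          conv_lhs => rw [show M = M - 1 + 1 by omega, pow_succ]
          ring
        · rw [show x ^ (M - 1) * (c' * (u * w)) = c' * (u * (x ^ (M - 1) * w)) by ring]
          exact Ideal.mul_mem_left _ _ hu
    refine hlast.trans ?_
    have h2 := ih (J ⊔ Ideal.span {x} ⊔ Ideal.span {u * w}) u
      (Submodule.mem_sup_left (Submodule.mem_sup_right (Ideal.mem_span_singleton_self _)))
    have hle1 : J ⊔ (Ideal.span {x} ⊔ R₀) ≤ J ⊔ Ideal.span {x} ⊔ Ideal.span {u * w} ⊔ R₀ :=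
      sup_le (le_sup_left.trans (le_sup_left.trans le_sup_left))
        (sup_le (le_sup_right.trans (le_sup_left.trans le_sup_left)) le_sup_right)
    refine (add_le_add (hpieces (M - 1)) (h2.trans (add_le_add
      (mul_le_mul_right (length_quotient_antitone hle1) _)
      (length_quotient_antitone (sup_le_sup_right hle1 _))))).trans (le_of_eq ?_)
    rw [← add_assoc, ← add_mul, ← Nat.cast_add, List.length_cons, pow_succ]
    congr 3
    have hpos : 1 ≤ M ^ xs.length := Nat.one_le_pow _ _ hM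
    have hmm : (M - 1) * M ^ xs.length + M ^ xs.length = M ^ xs.length * M := by
      rw [← Nat.succ_mul, show (M - 1).succ = M by omega, mul_comm]
    omega

theorem map_prod_pow (n k : ℕ) (b : Fin n → R) :
    ((List.ofFn b).map (· ^ k)).prod = (∏ i, b i) ^ k := by
  rw [List.map_ofFn, List.prod_ofFn, ← Finset.prod_pow]
  rfl

theorem ofList_ofFn (n : ℕ) (b : Fin n → R) :
    Ideal.ofList (List.ofFn b) = Ideal.span (Set.range b) := by
  rw [Ideal.ofList]
  congr 1
  ext x
  simp [List.mem_ofFn]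

theorem monomial_conjecture_charP (p : ℕ) [Fact p.Prime] [IsNoetherianRing R]
    [IsLocalRing R] [CharP R p] (n : ℕ) (hdim : ringKrullDim R = n) (a : Fin n → R)
    (hsop : (Ideal.span (Set.range a)).radical = IsLocalRing.maximalIdeal R) (k : ℕ) :
    (∏ i, a i) ^ k ∉ Ideal.span (Set.range fun i => a i ^ (k + 1)) := by
  intro hmem
  classical
  have hp2 : 2 ≤ p := (Fact.out : p.Prime).two_le
  have hkM : k + 1 ≤ p ^ (k + 1) := (Nat.lt_pow_self (by omega)).le
  obtain ⟨M, hM, hMdef⟩ : ∃ M, k + 1 ≤ M ∧ M = p ^ (k + 1) := ⟨_, hkM, rfl⟩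
  -- the relation at `M`
  have hrel : (∏ i, a i) ^ (M - 1) ∈ Ideal.span (Set.range fun i => a i ^ M) := by
    rw [show M - 1 = (M - 1 - k) + k by omega, pow_add]
    obtain ⟨c, hc⟩ := Ideal.mem_span_range_iff_exists_fun.1 hmem
    rw [← hc, Finset.mul_sum]
    refine Ideal.sum_mem _ fun i _ => ?_
    rw [← Finset.mul_prod_erase _ _ (Finset.mem_univ i), mul_pow]
    rw [show a i ^ (M - 1 - k) * (∏ j ∈ Finset.univ.erase i, a j) ^ (M - 1 - k) * (c i * a i ^ (k + 1)) =
      (∏ j ∈ Finset.univ.erase i, a j) ^ (M - 1 - k) * c i * (a i ^ (M - 1 - k) * a i ^ (k + 1)) by ring,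
      ← pow_add, show M - 1 - k + (k + 1) = M by omega]
    exact Ideal.mul_mem_left _ _ (Ideal.subset_span ⟨i, rfl⟩)
  let L : ℕ → Ideal R := fun t => Ideal.span (Set.range fun i => a i ^ t)
  -- Frobenius
  have hiter : ∀ e, len (L (M ^ e)) ≤ (((M ^ n - 1) ^ e : ℕ) : ℕ∞) * len (L 1) := by
    intro e
    induction e with
    | zero => rw [pow_zero, pow_zero, Nat.cast_one, one_mul]
    | succ e ihe =>
      set q := M ^ e with hq
      obtain ⟨s, hs⟩ : ∃ s, q = p ^ s := ⟨(k + 1) * e, by rw [hq, hMdef, ← pow_mul]⟩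
      have hF : (∏ i, a i ^ q) ^ (M - 1) ∈ Ideal.span (Set.range fun i => (a i ^ q) ^ M) := by
        obtain ⟨c, hc⟩ := Ideal.mem_span_range_iff_exists_fun.1 hrel
        have := congrArg (fun r => r ^ p ^ s) hc
        haveI hp : ExpChar R p := ExpChar.prime Fact.out
        rw [sum_pow_char_pow] at this
        simp only [mul_pow, ← hs] at this
        rw [Finset.prod_pow, ← pow_mul, mul_comm q, pow_mul, ← this]
        refine Ideal.sum_mem _ ?_
        intro i _
        refine Ideal.mul_mem_left _ _ (Ideal.subset_span ?_)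
        exact ⟨i, show (a i ^ q) ^ M = (a i ^ M) ^ q by rw [← pow_mul, ← pow_mul, mul_comm]⟩
      have h := length_pow_le M (by omega) (List.ofFn fun i => a i ^ q) ⊥ 1 (by
        rw [bot_sup_eq, one_mul, map_prod_pow, List.map_ofFn, ofList_ofFn]
        exact hF)
      rw [bot_sup_eq, bot_sup_eq, List.map_ofFn, ofList_ofFn, ofList_ofFn, List.length_ofFn,
        Ideal.span_singleton_one, sup_top_eq] at h
      haveI : Subsingleton (R ⧸ (⊤ : Ideal R)) := Ideal.Quotient.subsingleton_iff.2 rfl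
      rw [Module.length_eq_zero (M := R ⧸ (⊤ : Ideal R)), add_zero] at h
      have hL : L (M ^ (e + 1)) = Ideal.span (Set.range ((· ^ M) ∘ fun i => a i ^ q)) := by
        simp only [L, Function.comp_def, pow_succ, hq, pow_mul]
      rw [hL]
      refine h.trans ((mul_le_mul_right ihe _).trans (le_of_eq ?_))
      rw [← mul_assoc, ← Nat.cast_mul, pow_succ']
  have hI : Ideal.span (Set.range a) ≤ IsLocalRing.maximalIdeal R := hsop ▸ Ideal.le_radical
  have hfin : len (L 1) ≠ ⊤ := by
    have hL1 : L 1 = Ideal.span (Set.range a) := by simp [L]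
    rw [hL1]
    haveI : Nontrivial (R ⧸ Ideal.span (Set.range a)) := Ideal.Quotient.nontrivial_iff.2
      (ne_top_of_le_ne_top (IsLocalRing.maximalIdeal.isMaximal R).ne_top hI)
    haveI : IsLocalRing (R ⧸ Ideal.span (Set.range a)) :=
      .of_surjective' _ Ideal.Quotient.mk_surjective
    haveI : IsArtinianRing (R ⧸ Ideal.span (Set.range a)) := by
      rw [isArtinianRing_iff_krullDimLE_zero, Ring.krullDimLE_zero_iff]
      intro P hP
      have h1 : (P.comap (Ideal.Quotient.mk (Ideal.span (Set.range a)))) = IsLocalRing.maximalIdeal R := by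
        refine le_antisymm (IsLocalRing.le_maximalIdeal (Ideal.IsPrime.comap _).ne_top) ?_
        rw [← hsop, (Ideal.IsPrime.comap _).radical_le_iff]
        intro x hx
        rw [Ideal.mem_comap, Ideal.Quotient.eq_zero_iff_mem.2 hx]
        exact zero_mem _
      have h2 := Ideal.map_comap_of_surjective _ Ideal.Quotient.mk_surjective P
      rw [h1, IsLocalRing.map_maximalIdeal_of_surjective _ Ideal.Quotient.mk_surjective] at h2
      exact h2 ▸ IsLocalRing.maximalIdeal.isMaximal _
    rw [Module.length_eq_of_surjective (R := R ⧸ Ideal.span (Set.range a)) (S := R)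
      (M := R ⧸ Ideal.span (Set.range a)) Ideal.Quotient.mk_surjective]
    exact Module.length_ne_top
  obtain ⟨c, hc⟩ := ENat.ne_top_iff_exists.1 hfin
  obtain ⟨C, hC⟩ := exists_pow_le_length_of_dim hI (n := n) hdim.ge
  have key : ∀ e, (M ^ n) ^ e ≤ C * c * (M ^ n - 1) ^ e := by
    intro e
    have hle : L (M ^ e) ≤ Ideal.span (Set.range a) ^ (M ^ e) := Ideal.span_le.2 (by
      rintro _ ⟨i, rfl⟩
      exact Ideal.pow_mem_pow (Ideal.subset_span (Set.mem_range_self i)) _)
    have h := (hC (M ^ e) (Nat.one_le_pow _ _ (by omega))).trans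
      (mul_le_mul_right ((length_quotient_antitone hle).trans (hiter e)) _)
    rw [← hc, ← Nat.cast_mul, ← Nat.cast_mul, Nat.cast_le, pow_right_comm] at h
    exact h.trans (le_of_eq (by ring))
  -- `(N/(N-1))^e` is unbounded
  have hN : 1 ≤ M ^ n := Nat.one_le_pow _ _ (by omega)
  obtain ⟨N, hN'⟩ : ∃ N, M ^ n = N + 1 := ⟨M ^ n - 1, by omega⟩
  rw [hN', Nat.add_sub_cancel] at key
  rcases Nat.eq_zero_or_pos N with rfl | hpos
  · simpa using key 1
  · have hbern : ∀ e, N ^ e * (N + e) ≤ N * (N + 1) ^ e := by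
      intro e
      induction e with
      | zero => simp
      | succ e ihe =>
        calc N ^ (e + 1) * (N + (e + 1)) = N * (N ^ e * (N + e + 1)) := by ring
          _ ≤ (N + 1) * (N ^ e * (N + e)) := by
            have : N * N ^ e ≤ N ^ e * (N + e) := by rw [mul_comm]; exact Nat.mul_le_mul_left _ (Nat.le_add_right N e)
            nlinarith
          _ ≤ (N + 1) * (N * (N + 1) ^ e) := Nat.mul_le_mul_left _ ihe
          _ = N * (N + 1) ^ (e + 1) := by ring
    have h1 := (hbern (N * (C * c) + 1)).trans (Nat.mul_le_mul_left N (key (N * (C * c) + 1)))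
    rw [show N * (C * c * N ^ (N * (C * c) + 1)) = N ^ (N * (C * c) + 1) * (N * (C * c)) by ring] at h1
    have h2 := Nat.le_of_mul_le_mul_left h1 (pow_pos hpos _)
    omega

end Groth.Agent.LocCoh
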