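import Groth.Agent.LocCoh.Comparison
import Groth.Agent.S11622
import Mathlib.RingTheory.Filtration

/-!
The Mayer–Vietoris sequence of local cohomology.
-/

set_option autoImplicit false

universe u

open CategoryTheory CategoryTheory.Abelian

namespace Groth.Agent.LocCoh

variable {R : Type u} [CommRing R]

/-- `R/a`. -/
noncomputable abbrev QQ (a : Ideal R) : ModuleCat.{u} R := ModuleCat.of R (R ⧸ a)

/-- `R/a → R/b`. -/
noncomputable abbrev qq {a b : Ideal R} (h : a ≤ b) : QQ a ⟶ QQ b :=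
  ModuleCat.ofHom (Submodule.mapQ a b LinearMap.id h)

theorem qq_comp {a b c : Ideal R} (h : a ≤ b) (h' : b ≤ c) : qq h ≫ qq h' = qq (h.trans h') :=
  ModuleCat.hom_ext (Submodule.linearMap_qext _ rfl)

variable {M : Type u} [AddCommGroup M] [Module R M]

local notation "Mc" => ModuleCat.of R M

theorem ext_comp_sub {X Y Z : ModuleCat.{u} R} {p n q : ℕ} (h : p + n = q) (e : Ext X Y p) (a b : Ext Y Z n) :
    e.comp (a - b) h = e.comp a h - e.comp b h := by
  rw [sub_eq_add_neg, Ext.comp_add, Ext.comp_neg, sub_eq_add_neg]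

/-- The restriction along `R/a → R/b`. -/
noncomputable def pull {a b : Ideal R} (h : a ≤ b) (i : ℕ) :
    Ext (QQ b) Mc i →ₗ[R] Ext (QQ a) Mc i :=
  (Ext.mk₀ (qq h)).precompOfLinear R Mc (zero_add i)

theorem pull_apply {a b : Ideal R} (h : a ≤ b) {i : ℕ} (x : Ext (QQ b) Mc i) :
    pull h i x = (Ext.mk₀ (qq h)).comp x (zero_add i) := rfl

theorem pull_pull {a b c : Ideal R} (h : a ≤ b) (h' : b ≤ c) {i : ℕ} (x : Ext (QQ c) Mc i) :
    pull h i (pull h' i x) = pull (h.trans h') i x := by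
  rw [pull_apply, pull_apply, pull_apply, Ext.mk₀_comp_mk₀_assoc, qq_comp]

theorem pull_rfl {a : Ideal R} {i : ℕ} (x : Ext (QQ a) Mc i) : pull (le_refl a) i x = x := by
  rw [pull_apply, show qq (le_refl a) = 𝟙 (QQ a) from ModuleCat.hom_ext (Submodule.linearMap_qext _ rfl),
    Ext.mk₀_id_comp]

theorem cls_pull {I : Ideal R} {m n : ℕ} (hmn : m ≤ n) (h : I ^ n ≤ I ^ m) {i : ℕ}
    (x : Ext (QQ (I ^ m)) Mc i) : cls n i (pull h i x) = cls m i x :=
  cls_qmap hmn i x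

theorem Hle_cls_pull {I I' : Ideal R} (hII : I ≤ I') (n : ℕ) (h : I ^ n ≤ I' ^ n) {i : ℕ}
    (x : Ext (QQ (I' ^ n)) Mc i) : Hle hII i M (cls n i x) = cls n i (pull h i x) :=
  Hle_cls hII n i x

section seq

variable (a b : Ideal R)

/-- `R/(a⊓b) → R/a × R/b`. -/
noncomputable def mvInj : (R ⧸ (a ⊓ b)) →ₗ[R] (R ⧸ a) × (R ⧸ b) :=
  (Submodule.mapQ (a ⊓ b) a LinearMap.id inf_le_left).prod (Submodule.mapQ (a ⊓ b) b LinearMap.id inf_le_right)

/-- `R/a × R/b → R/(a⊔b)`. -/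
noncomputable def mvDiff : (R ⧸ a) × (R ⧸ b) →ₗ[R] R ⧸ (a ⊔ b) :=
  (Submodule.mapQ a (a ⊔ b) LinearMap.id le_sup_left) ∘ₗ LinearMap.fst R (R ⧸ a) (R ⧸ b) -
    (Submodule.mapQ b (a ⊔ b) LinearMap.id le_sup_right) ∘ₗ LinearMap.snd R (R ⧸ a) (R ⧸ b)

theorem mvInj_injective : Function.Injective (mvInj a b) := by
  rw [injective_iff_map_eq_zero]
  intro x hx
  obtain ⟨r, rfl⟩ := Submodule.Quotient.mk_surjective _ x
  rw [Submodule.Quotient.mk_eq_zero]
  exact ⟨(Submodule.Quotient.mk_eq_zero a).1 (congrArg Prod.fst hx),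
    (Submodule.Quotient.mk_eq_zero b).1 (congrArg Prod.snd hx)⟩

variable [IsNoetherianRing R]

theorem mvDiff_surjective : Function.Surjective (mvDiff a b) := (S11622.result R R a b).2.1

theorem mv_exact : Function.Exact (mvInj a b) (mvDiff a b) := by
  intro y
  rw [← LinearMap.mem_ker]
  unfold mvDiff
  rw [(S11622.result R R a b).2.2]
  constructor
  · rintro ⟨z, rfl⟩
    exact ⟨Submodule.Quotient.mk z, rfl⟩
  · rintro ⟨z, rfl⟩
    obtain ⟨z, rfl⟩ := Submodule.Quotient.mk_surjective _ z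
    exact ⟨z, rfl⟩

theorem mvShortExact :
    (ShortComplex.mk (ModuleCat.ofHom (mvInj a b)) (ModuleCat.ofHom (mvDiff a b))
      (ModuleCat.hom_ext (mv_exact a b).linearMap_comp_eq_zero)).ShortExact :=
  shortExact_of (mvInj_injective a b) (mvDiff_surjective a b) (mv_exact a b)

/-- The connecting map of a stage. -/
noncomputable def mvExt (i : ℕ) : Ext (QQ (a ⊓ b)) Mc i →ₗ[R] Ext (QQ (a ⊔ b)) Mc (i + 1) :=
  (mvShortExact a b).extClass.precompOfLinear R Mc (Nat.add_comm 1 i)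

theorem mvExt_apply {i : ℕ} (x : Ext (QQ (a ⊓ b)) Mc i) :
    mvExt a b i x = (mvShortExact a b).extClass.comp x (Nat.add_comm 1 i) := rfl

variable {a b}

theorem mvExt_pull {a' b' : Ideal R} (ha : a' ≤ a) (hb : b' ≤ b) {i : ℕ} (x : Ext (QQ (a ⊓ b)) Mc i) :
    mvExt a' b' i (pull (inf_le_inf ha hb) i x) = pull (sup_le_sup ha hb) (i + 1) (mvExt a b i x) := by
  let f : (ShortComplex.mk (ModuleCat.ofHom (mvInj a' b')) (ModuleCat.ofHom (mvDiff a' b'))
      (ModuleCat.hom_ext (mv_exact a' b').linearMap_comp_eq_zero)) ⟶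
      (ShortComplex.mk (ModuleCat.ofHom (mvInj a b)) (ModuleCat.ofHom (mvDiff a b))
        (ModuleCat.hom_ext (mv_exact a b).linearMap_comp_eq_zero)) :=
    { τ₁ := qq (inf_le_inf ha hb)
      τ₂ := ModuleCat.ofHom ((Submodule.mapQ a' a LinearMap.id ha).prodMap (Submodule.mapQ b' b LinearMap.id hb))
      τ₃ := qq (sup_le_sup ha hb)
      comm₁₂ := ModuleCat.hom_ext (Submodule.linearMap_qext _ rfl)
      comm₂₃ := ModuleCat.hom_ext (LinearMap.ext fun z => by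
        obtain ⟨z₁, z₂⟩ := z
        obtain ⟨z₁, rfl⟩ := Submodule.Quotient.mk_surjective _ z₁
        obtain ⟨z₂, rfl⟩ := Submodule.Quotient.mk_surjective _ z₂
        show mvDiff a b (Submodule.mapQ a' a LinearMap.id ha (Submodule.Quotient.mk z₁),
            Submodule.mapQ b' b LinearMap.id hb (Submodule.Quotient.mk z₂)) =
          Submodule.mapQ (a' ⊔ b') (a ⊔ b) LinearMap.id (sup_le_sup ha hb)
            (mvDiff a' b' (Submodule.Quotient.mk z₁, Submodule.Quotient.mk z₂))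
        simp [mvDiff]) }
  have hnat := ShortComplex.ShortExact.extClass_naturality (mvShortExact a' b') (mvShortExact a b) f
  rw [mvExt_apply, pull_apply, pull_apply, mvExt_apply,
    ← Ext.comp_assoc _ _ _ (add_zero 1) (zero_add i) (by omega : 1 + 0 + i = i + 1),
    ← Ext.comp_assoc (Ext.mk₀ (qq (sup_le_sup ha hb))) _ x (zero_add 1) (Nat.add_comm 1 i)
      (by omega : 0 + 1 + i = i + 1)]
  exact congrArg (fun e => Ext.comp e x (Nat.add_comm 1 i)) hnat

/-- The inclusion of the first factor. -/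
noncomputable abbrev mvL (a b : Ideal R) : QQ a ⟶ ModuleCat.of R ((R ⧸ a) × (R ⧸ b)) :=
  ModuleCat.ofHom (LinearMap.inl R (R ⧸ a) (R ⧸ b))

/-- The inclusion of the second factor. -/
noncomputable abbrev mvR (a b : Ideal R) : QQ b ⟶ ModuleCat.of R ((R ⧸ a) × (R ⧸ b)) :=
  ModuleCat.ofHom (LinearMap.inr R (R ⧸ a) (R ⧸ b))

omit [IsNoetherianRing R] in
theorem mvL_diff (a b : Ideal R) : mvL a b ≫ ModuleCat.ofHom (mvDiff a b) = qq le_sup_left :=
  ModuleCat.hom_ext (LinearMap.ext fun z => by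
    show mvDiff a b (z, 0) = Submodule.mapQ a (a ⊔ b) LinearMap.id le_sup_left z
    simp [mvDiff])

omit [IsNoetherianRing R] in
theorem mvR_diff (a b : Ideal R) : mvR a b ≫ ModuleCat.ofHom (mvDiff a b) = -qq le_sup_right :=
  ModuleCat.hom_ext (LinearMap.ext fun z => by
    show mvDiff a b (0, z) = -Submodule.mapQ b (a ⊔ b) LinearMap.id le_sup_right z
    simp [mvDiff])

omit [IsNoetherianRing R] in
theorem restrict_decomp {a b : Ideal R} {i : ℕ} (w : Ext (ModuleCat.of R ((R ⧸ a) × (R ⧸ b))) Mc i) :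
    (Ext.mk₀ (ModuleCat.ofHom (mvInj a b))).comp w (zero_add i) =
      pull inf_le_left i ((Ext.mk₀ (mvL a b)).comp w (zero_add i)) +
        pull inf_le_right i ((Ext.mk₀ (mvR a b)).comp w (zero_add i)) := by
  rw [pull_apply, pull_apply, Ext.mk₀_comp_mk₀_assoc, Ext.mk₀_comp_mk₀_assoc, ← Ext.add_comp, ← Ext.mk₀_add]
  congr 2
  refine ModuleCat.hom_ext (LinearMap.ext fun z => ?_)
  show mvInj a b z = (Submodule.mapQ (a ⊓ b) a LinearMap.id inf_le_left z, 0) +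
    ((0 : R ⧸ a), Submodule.mapQ (a ⊓ b) b LinearMap.id inf_le_right z)
  simp [mvInj]

end seq

variable [IsNoetherianRing R] (I J : Ideal R)

theorem exists_pow_inf_le (m : ℕ) : ∃ r, m ≤ r ∧ I ^ r ⊓ J ^ r ≤ (I ⊓ J) ^ m := by
  obtain ⟨c, hc⟩ := Ideal.exists_pow_inf_eq_pow_smul I (J ^ m : Submodule R R)
  refine ⟨m + c, Nat.le_add_right m c, ?_⟩
  have h1 : I ^ (m + c) ⊓ J ^ (m + c) ≤ I ^ (m + c) • (⊤ : Submodule R R) ⊓ J ^ m :=
    inf_le_inf (by simp) (Ideal.pow_le_pow_right (Nat.le_add_right m c))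
  refine h1.trans ?_
  rw [hc _ (Nat.le_add_left c m), Nat.add_sub_cancel]
  refine le_trans (Submodule.smul_mono le_rfl inf_le_right) ?_
  show I ^ m * J ^ m ≤ _
  rw [← mul_pow]
  exact Ideal.pow_right_mono Ideal.mul_le_inf m

omit [IsNoetherianRing R] in
theorem sup_pow_two_le (r : ℕ) : (I ⊔ J) ^ (r + r) ≤ I ^ r ⊔ J ^ r := Ideal.sup_pow_add_le_pow_sup_pow

omit [IsNoetherianRing R] in
theorem pow_sup_pow_le {k r : ℕ} (h : k ≤ r) : I ^ r ⊔ J ^ r ≤ (I ⊔ J) ^ k :=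
  sup_le ((Ideal.pow_le_pow_right h).trans (Ideal.pow_right_mono le_sup_left k))
    ((Ideal.pow_le_pow_right h).trans (Ideal.pow_right_mono le_sup_right k))

omit [IsNoetherianRing R] in
theorem inf_pow_le {k r : ℕ} (h : r ≤ k) : (I ⊓ J) ^ k ≤ I ^ r ⊓ J ^ r :=
  (Ideal.pow_le_pow_right h).trans
    (le_inf (Ideal.pow_right_mono inf_le_left r) (Ideal.pow_right_mono inf_le_right r))

/-- A stage of the connecting map. -/
noncomputable def mvStage {m r : ℕ} (h : I ^ r ⊓ J ^ r ≤ (I ⊓ J) ^ m) (i : ℕ) :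
    Ext (QQ ((I ⊓ J) ^ m)) Mc i →ₗ[R] _root_.LocCoh.H (I ⊔ J) (i + 1) M :=
  ((cls (I := I ⊔ J) (r + r) (i + 1)).comp (pull (sup_pow_two_le I J r) (i + 1))).comp
    ((mvExt (I ^ r) (J ^ r) i).comp (pull h i))

theorem mvStage_apply {m r : ℕ} (h : I ^ r ⊓ J ^ r ≤ (I ⊓ J) ^ m) (i : ℕ) (x : Ext (QQ ((I ⊓ J) ^ m)) Mc i) :
    mvStage I J h i x =
      cls (r + r) (i + 1) (pull (sup_pow_two_le I J r) (i + 1) (mvExt (I ^ r) (J ^ r) i (pull h i x))) := by
  unfold mvStage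
  rw [LinearMap.comp_apply, LinearMap.comp_apply, LinearMap.comp_apply]

theorem mvStage_mono {m r r' : ℕ} (hr : r ≤ r') (h : I ^ r ⊓ J ^ r ≤ (I ⊓ J) ^ m)
    (h' : I ^ r' ⊓ J ^ r' ≤ (I ⊓ J) ^ m) (i : ℕ) (x : Ext (QQ ((I ⊓ J) ^ m)) Mc i) :
    mvStage I J h i x = mvStage I J h' i x := by
  rw [mvStage_apply, mvStage_apply]
  rw [← pull_pull (inf_le_inf (Ideal.pow_le_pow_right (I := I) hr) (Ideal.pow_le_pow_right (I := J) hr)) h,
    mvExt_pull (Ideal.pow_le_pow_right (I := I) hr) (Ideal.pow_le_pow_right (I := J) hr), pull_pull,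
    ← cls_pull (by omega : r + r ≤ r' + r') (Ideal.pow_le_pow_right (by omega)), pull_pull]

theorem mvStage_eq {m r r' : ℕ} (h : I ^ r ⊓ J ^ r ≤ (I ⊓ J) ^ m)
    (h' : I ^ r' ⊓ J ^ r' ≤ (I ⊓ J) ^ m) (i : ℕ) (x : Ext (QQ ((I ⊓ J) ^ m)) Mc i) :
    mvStage I J h i x = mvStage I J h' i x := by
  rcases le_total r r' with hr | hr
  · exact mvStage_mono I J hr h h' i x
  · exact (mvStage_mono I J hr h' h i x).symm

theorem mvStage_pull {m n r : ℕ} (hp : (I ⊓ J) ^ n ≤ (I ⊓ J) ^ m) (h : I ^ r ⊓ J ^ r ≤ (I ⊓ J) ^ n) (i : ℕ)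
    (x : Ext (QQ ((I ⊓ J) ^ m)) Mc i) : mvStage I J h i (pull hp i x) = mvStage I J (h.trans hp) i x :=
  by rw [mvStage_apply, mvStage_apply, pull_pull]

/-- The stage used for a given power. -/
noncomputable def mvIdx (m : ℕ) : ℕ := (exists_pow_inf_le I J m).choose

theorem mvIdx_spec (m : ℕ) : I ^ mvIdx I J m ⊓ J ^ mvIdx I J m ≤ (I ⊓ J) ^ m :=
  (exists_pow_inf_le I J m).choose_spec.2

theorem mvStage_compat {m n : ℕ} (hmn : m ≤ n) (i : ℕ) (x : Ext (Q (I ⊓ J) m) Mc i) :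
    mvStage I J (mvIdx_spec I J n) i ((Ext.mk₀ (qmap (I ⊓ J) hmn)).comp x (zero_add i)) =
      mvStage I J (mvIdx_spec I J m) i x := by
  have hp : (I ⊓ J) ^ n ≤ (I ⊓ J) ^ m := Ideal.pow_le_pow_right hmn
  refine (congrArg (mvStage I J (mvIdx_spec I J n) i) (pull_apply hp x).symm).trans ?_
  rw [mvStage_pull]
  exact mvStage_eq I J _ _ i x

/-- The Mayer–Vietoris connecting map. -/
noncomputable def mvδ (i : ℕ) : _root_.LocCoh.H (I ⊓ J) i M →ₗ[R] _root_.LocCoh.H (I ⊔ J) (i + 1) M :=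
  descH (F := localCohomology.idealPowersDiagram (I ⊓ J))
    (fun d => mvStage I J (mvIdx_spec I J d.unop) i)
    (fun w x => mvStage_compat I J (leOfHom w.unop) i x)

theorem mvδ_cls {m r : ℕ} (h : I ^ r ⊓ J ^ r ≤ (I ⊓ J) ^ m) (i : ℕ) (x : Ext (QQ ((I ⊓ J) ^ m)) Mc i) :
    mvδ I J i (cls m i x) =
      cls (r + r) (i + 1) (pull (sup_pow_two_le I J r) (i + 1) (mvExt (I ^ r) (J ^ r) i (pull h i x))) := by
  have h1 : mvδ I J i (cls m i x) = mvStage I J (mvIdx_spec I J m) i x :=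
    descH_toH (F := localCohomology.idealPowersDiagram (I ⊓ J))
      (fun d => mvStage I J (mvIdx_spec I J d.unop) i)
      (fun w x => mvStage_compat I J (leOfHom w.unop) i x) (Opposite.op m) x
  rw [h1, mvStage_eq I J (mvIdx_spec I J m) h i x, mvStage_apply]

/-- Two classes at a common stage. -/
theorem exists_cls_pair {i : ℕ} (u : _root_.LocCoh.H I i M) (v : _root_.LocCoh.H J i M) :
    ∃ (m : ℕ) (x : Ext (QQ (I ^ m)) Mc i) (y : Ext (QQ (J ^ m)) Mc i), cls m i x = u ∧ cls m i y = v := by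
  obtain ⟨a, x, rfl⟩ := exists_cls u
  obtain ⟨b, y, rfl⟩ := exists_cls v
  exact ⟨max a b, pull (Ideal.pow_le_pow_right (le_max_left a b)) i x,
    pull (Ideal.pow_le_pow_right (le_max_right a b)) i y,
    cls_pull (le_max_left a b) _ x, cls_pull (le_max_right a b) _ y⟩

theorem mv_exact_sup (i : ℕ) :
    LinearMap.ker ((Hle (le_sup_left : I ≤ I ⊔ J) (i + 1) M).prod (Hle (le_sup_right : J ≤ I ⊔ J) (i + 1) M)) =
      LinearMap.range (mvδ I J i) := by
  apply le_antisymm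
  · intro h hh
    rw [LinearMap.mem_ker, LinearMap.prod_apply, Function.prod_apply, Prod.mk_eq_zero] at hh
    obtain ⟨t, x, rfl⟩ := exists_cls h
    have hIt : I ^ t ≤ (I ⊔ J) ^ t := Ideal.pow_right_mono le_sup_left t
    have hJt : J ^ t ≤ (I ⊔ J) ^ t := Ideal.pow_right_mono le_sup_right t
    rw [Hle_cls_pull le_sup_left t hIt, Hle_cls_pull le_sup_right t hJt] at hh
    obtain ⟨k₁, hk₁, e₁⟩ := (cls_eq_zero_iff _).1 hh.1
    obtain ⟨k₂, hk₂, e₂⟩ := (cls_eq_zero_iff _).1 hh.2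
    let s := max k₁ k₂
    have hs : I ^ s ⊔ J ^ s ≤ (I ⊔ J) ^ t := pow_sup_pow_le I J (hk₁.trans (le_max_left _ _))
    have e₁' : pull (le_sup_left.trans hs : I ^ s ≤ (I ⊔ J) ^ t) (i + 1) x = 0 := by
      have e : pull (Ideal.pow_le_pow_right hk₁) (i + 1) (pull hIt (i + 1) x) = 0 := e₁
      have := congrArg (pull (Ideal.pow_le_pow_right (le_max_left k₁ k₂) : I ^ s ≤ I ^ k₁) (i + 1)) e
      rwa [pull_pull, pull_pull, map_zero] at this
    have e₂' : pull (le_sup_right.trans hs : J ^ s ≤ (I ⊔ J) ^ t) (i + 1) x = 0 := by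
      have e : pull (Ideal.pow_le_pow_right hk₂) (i + 1) (pull hJt (i + 1) x) = 0 := e₂
      have := congrArg (pull (Ideal.pow_le_pow_right (le_max_right k₁ k₂) : J ^ s ≤ J ^ k₂) (i + 1)) e
      rwa [pull_pull, pull_pull, map_zero] at this
    have h0 : (Ext.mk₀ (ModuleCat.ofHom (mvDiff (I ^ s) (J ^ s)))).comp (pull hs (i + 1) x) (zero_add (i + 1)) = 0 := by
      have hdec : ModuleCat.ofHom (mvDiff (I ^ s) (J ^ s)) =
          ModuleCat.ofHom (LinearMap.fst R _ _) ≫ qq le_sup_left -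
            ModuleCat.ofHom (LinearMap.snd R _ _) ≫ qq le_sup_right := rfl
      rw [hdec, sub_eq_add_neg, Ext.mk₀_add, Ext.mk₀_neg, Ext.add_comp, Ext.neg_comp, ← Ext.mk₀_comp_mk₀_assoc,
        ← Ext.mk₀_comp_mk₀_assoc, ← pull_apply, ← pull_apply, pull_pull, pull_pull, e₁', e₂', Ext.comp_zero,
        Ext.comp_zero, neg_zero, add_zero]
    obtain ⟨w, hw⟩ := Ext.contravariant_sequence_exact₃ (mvShortExact (I ^ s) (J ^ s)) _ _ h0 (Nat.add_comm 1 i)
    obtain ⟨r, hsr, hr⟩ := exists_pow_inf_le I J s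
    refine ⟨cls s i (pull (inf_pow_le I J le_rfl) i w), ?_⟩
    rw [mvδ_cls I J hr, pull_pull,
      ← pull_rfl w, pull_pull]
    rw [show pull ((hr.trans (inf_pow_le I J le_rfl)).trans (le_refl _)) i w =
        pull (inf_le_inf (Ideal.pow_le_pow_right (I := I) hsr) (Ideal.pow_le_pow_right (I := J) hsr)) i w from rfl,
      mvExt_pull (Ideal.pow_le_pow_right (I := I) hsr) (Ideal.pow_le_pow_right (I := J) hsr), mvExt_apply]
    erw [hw]
    rw [pull_pull, pull_pull, cls_pull (by omega : t ≤ r + r)]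
  · rintro _ ⟨u, rfl⟩
    obtain ⟨m, x, rfl⟩ := exists_cls u
    obtain ⟨r, -, hr⟩ := exists_pow_inf_le I J m
    rw [LinearMap.mem_ker, LinearMap.prod_apply, Function.prod_apply, Prod.mk_eq_zero, mvδ_cls I J hr]
    have z₁ : pull (le_sup_left : I ^ r ≤ I ^ r ⊔ J ^ r) (i + 1) (mvExt (I ^ r) (J ^ r) i (pull hr i x)) = 0 := by
      rw [pull_apply, mvExt_apply, ← mvL_diff, ← Ext.mk₀_comp_mk₀_assoc]
      erw [(mvShortExact (I ^ r) (J ^ r)).comp_extClass_assoc, Ext.comp_zero]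
    have z₂ : pull (le_sup_right : J ^ r ≤ I ^ r ⊔ J ^ r) (i + 1) (mvExt (I ^ r) (J ^ r) i (pull hr i x)) = 0 := by
      rw [pull_apply, mvExt_apply, show qq (le_sup_right : J ^ r ≤ I ^ r ⊔ J ^ r) =
          -(mvR (I ^ r) (J ^ r) ≫ ModuleCat.ofHom (mvDiff (I ^ r) (J ^ r))) by rw [mvR_diff, neg_neg],
        Ext.mk₀_neg, Ext.neg_comp, ← Ext.mk₀_comp_mk₀_assoc]
      erw [(mvShortExact (I ^ r) (J ^ r)).comp_extClass_assoc, Ext.comp_zero, neg_zero]
    constructor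
    · rw [Hle_cls_pull le_sup_left (r + r) (Ideal.pow_right_mono le_sup_left _), pull_pull,
        ← pull_pull (Ideal.pow_le_pow_right (I := I) (Nat.le_add_right r r)) le_sup_left, z₁, map_zero, map_zero]
    · rw [Hle_cls_pull le_sup_right (r + r) (Ideal.pow_right_mono le_sup_right _), pull_pull,
        ← pull_pull (Ideal.pow_le_pow_right (I := J) (Nat.le_add_right r r)) le_sup_right, z₂, map_zero, map_zero]

/-- The difference map to `H_{I⊓J}`. -/
noncomputable def mvSub (i : ℕ) :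
    _root_.LocCoh.H I i M × _root_.LocCoh.H J i M →ₗ[R] _root_.LocCoh.H (I ⊓ J) i M :=
  Hle (inf_le_left : I ⊓ J ≤ I) i M ∘ₗ LinearMap.fst R _ _ - Hle (inf_le_right : I ⊓ J ≤ J) i M ∘ₗ LinearMap.snd R _ _

theorem mv_exact_mid (i : ℕ) : LinearMap.ker (mvSub (M := M) I J i) =
      LinearMap.range ((Hle (le_sup_left : I ≤ I ⊔ J) i M).prod (Hle (le_sup_right : J ≤ I ⊔ J) i M)) := by
  apply le_antisymm
  · rintro ⟨u, v⟩ huv
    obtain ⟨m, x, y, rfl, rfl⟩ := exists_cls_pair I J u v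
    have hIm : (I ⊓ J) ^ m ≤ I ^ m := Ideal.pow_right_mono inf_le_left m
    have hJm : (I ⊓ J) ^ m ≤ J ^ m := Ideal.pow_right_mono inf_le_right m
    have h1 : Hle (inf_le_left : I ⊓ J ≤ I) i M (cls m i x) - Hle (inf_le_right : I ⊓ J ≤ J) i M (cls m i y) = 0 := huv
    rw [Hle_cls_pull inf_le_left m hIm, Hle_cls_pull inf_le_right m hJm, ← map_sub] at h1
    obtain ⟨k, hk, e⟩ := (cls_eq_zero_iff _).1 h1
    obtain ⟨r, hkr, hr⟩ := exists_pow_inf_le I J k
    have e' : pull (inf_le_left.trans (Ideal.pow_le_pow_right (hk.trans hkr)) : I ^ r ⊓ J ^ r ≤ I ^ m) i x -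
        pull (inf_le_right.trans (Ideal.pow_le_pow_right (hk.trans hkr)) : I ^ r ⊓ J ^ r ≤ J ^ m) i y = 0 := by
      have e0 : pull (Ideal.pow_le_pow_right hk) i (pull hIm i x - pull hJm i y) = 0 := e
      have := congrArg (pull hr i) e0
      rwa [map_sub, map_sub, pull_pull, pull_pull, pull_pull, pull_pull, map_zero] at this
    let xr := pull (Ideal.pow_le_pow_right (hk.trans hkr) : I ^ r ≤ I ^ m) i x
    let yr := pull (Ideal.pow_le_pow_right (hk.trans hkr) : J ^ r ≤ J ^ m) i y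
    let w : Ext (ModuleCat.of R ((R ⧸ I ^ r) × (R ⧸ J ^ r))) Mc i :=
      (Ext.mk₀ (ModuleCat.ofHom (LinearMap.fst R (R ⧸ I ^ r) (R ⧸ J ^ r)))).comp xr (zero_add i) -
        (Ext.mk₀ (ModuleCat.ofHom (LinearMap.snd R (R ⧸ I ^ r) (R ⧸ J ^ r)))).comp yr (zero_add i)
    have hw : (Ext.mk₀ (ModuleCat.ofHom (mvInj (I ^ r) (J ^ r)))).comp w (zero_add i) = 0 := by
      rw [ext_comp_sub, Ext.mk₀_comp_mk₀_assoc, Ext.mk₀_comp_mk₀_assoc]
      refine Eq.trans ?_ e'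
      rw [← pull_pull inf_le_left (Ideal.pow_le_pow_right (hk.trans hkr)),
        ← pull_pull inf_le_right (Ideal.pow_le_pow_right (hk.trans hkr))]
      rfl
    obtain ⟨z, hz⟩ := Ext.contravariant_sequence_exact₂ (mvShortExact (I ^ r) (J ^ r)) _ w hw
    have hl : pull le_sup_left i z = xr := by
      rw [pull_apply, ← mvL_diff, ← Ext.mk₀_comp_mk₀_assoc]
      erw [hz]
      rw [ext_comp_sub, Ext.mk₀_comp_mk₀_assoc, Ext.mk₀_comp_mk₀_assoc,
        show mvL (I ^ r) (J ^ r) ≫ ModuleCat.ofHom (LinearMap.fst R _ _) = 𝟙 _ from rfl,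
        show mvL (I ^ r) (J ^ r) ≫ ModuleCat.ofHom (LinearMap.snd R _ _) = 0 from rfl,
        Ext.mk₀_id_comp, Ext.mk₀_zero, Ext.zero_comp, sub_zero]
    have hr' : pull le_sup_right i z = yr := by
      rw [pull_apply, show qq (le_sup_right : J ^ r ≤ I ^ r ⊔ J ^ r) =
          -(mvR (I ^ r) (J ^ r) ≫ ModuleCat.ofHom (mvDiff (I ^ r) (J ^ r))) by rw [mvR_diff, neg_neg],
        Ext.mk₀_neg, Ext.neg_comp, ← Ext.mk₀_comp_mk₀_assoc]
      erw [hz]
      rw [ext_comp_sub, Ext.mk₀_comp_mk₀_assoc, Ext.mk₀_comp_mk₀_assoc,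
        show mvR (I ^ r) (J ^ r) ≫ ModuleCat.ofHom (LinearMap.snd R _ _) = 𝟙 _ from rfl,
        show mvR (I ^ r) (J ^ r) ≫ ModuleCat.ofHom (LinearMap.fst R _ _) = 0 from rfl,
        Ext.mk₀_id_comp, Ext.mk₀_zero, Ext.zero_comp, zero_sub, neg_neg]
    refine ⟨cls (r + r) i (pull (sup_pow_two_le I J r) i z), ?_⟩
    rw [LinearMap.prod_apply, Function.prod_apply, Hle_cls_pull le_sup_left (r + r) (Ideal.pow_right_mono le_sup_left _),
      Hle_cls_pull le_sup_right (r + r) (Ideal.pow_right_mono le_sup_right _), pull_pull, pull_pull,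
      ← pull_pull (Ideal.pow_le_pow_right (I := I) (Nat.le_add_right r r)) le_sup_left, hl,
      ← pull_pull (Ideal.pow_le_pow_right (I := J) (Nat.le_add_right r r)) le_sup_right, hr', pull_pull, pull_pull,
      cls_pull (by omega : m ≤ r + r), cls_pull (by omega : m ≤ r + r)]
  · rintro _ ⟨h, rfl⟩
    show Hle (inf_le_left : I ⊓ J ≤ I) i M (Hle le_sup_left i M h) -
      Hle (inf_le_right : I ⊓ J ≤ J) i M (Hle le_sup_right i M h) = 0
    rw [Hle_comp, Hle_comp, sub_self]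

theorem mv_exact_inf (i : ℕ) : LinearMap.ker (mvδ (M := M) I J i) = LinearMap.range (mvSub I J i) := by
  apply le_antisymm
  · intro h hh
    obtain ⟨m, x, rfl⟩ := exists_cls h
    obtain ⟨r, hmr, hr⟩ := exists_pow_inf_le I J m
    rw [LinearMap.mem_ker, mvδ_cls I J hr] at hh
    obtain ⟨k, hk, e⟩ := (cls_eq_zero_iff _).1 hh
    let s := max r k
    have hIs : I ^ s ≤ I ^ r := Ideal.pow_le_pow_right (le_max_left r k)
    have hJs : J ^ s ≤ J ^ r := Ideal.pow_le_pow_right (le_max_left r k)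
    have e0 : pull (Ideal.pow_le_pow_right hk) (i + 1)
        (pull (sup_pow_two_le I J r) (i + 1) (mvExt (I ^ r) (J ^ r) i (pull hr i x))) = 0 := e
    have e1 := congrArg (pull (pow_sup_pow_le I J (le_max_right r k)) (i + 1)) e0
    rw [pull_pull, pull_pull, map_zero, ← mvExt_pull hIs hJs, pull_pull, mvExt_apply] at e1
    obtain ⟨w, hw⟩ := Ext.contravariant_sequence_exact₁ (mvShortExact (I ^ s) (J ^ s)) _ _ _ e1
    refine ⟨(cls s i ((Ext.mk₀ (mvL (I ^ s) (J ^ s))).comp w (zero_add i)),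
      -cls s i ((Ext.mk₀ (mvR (I ^ s) (J ^ s))).comp w (zero_add i))), ?_⟩
    show Hle (inf_le_left : I ⊓ J ≤ I) i M _ - Hle (inf_le_right : I ⊓ J ≤ J) i M (-_) = _
    rw [LinearMap.fst_apply, map_neg, sub_neg_eq_add, Hle_cls_pull inf_le_left s (Ideal.pow_right_mono inf_le_left _),
      Hle_cls_pull inf_le_right s (Ideal.pow_right_mono inf_le_right _),
      ← pull_pull (inf_pow_le I J le_rfl) inf_le_left, ← pull_pull (inf_pow_le I J le_rfl) inf_le_right,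
      ← map_add, ← map_add, ← restrict_decomp]
    erw [hw]
    rw [pull_pull, cls_pull (hmr.trans (le_max_left r k))]
  · rintro _ ⟨⟨u, v⟩, rfl⟩
    obtain ⟨m, x, y, rfl, rfl⟩ := exists_cls_pair I J u v
    have hIm : (I ⊓ J) ^ m ≤ I ^ m := Ideal.pow_right_mono inf_le_left m
    have hJm : (I ⊓ J) ^ m ≤ J ^ m := Ideal.pow_right_mono inf_le_right m
    obtain ⟨r, hmr, hr⟩ := exists_pow_inf_le I J m
    rw [LinearMap.mem_ker]
    show mvδ I J i (Hle (inf_le_left : I ⊓ J ≤ I) i M (cls m i x) - Hle (inf_le_right : I ⊓ J ≤ J) i M (cls m i y)) = 0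
    rw [Hle_cls_pull inf_le_left m hIm, Hle_cls_pull inf_le_right m hJm, map_sub,
      mvδ_cls I J hr, mvδ_cls I J hr, pull_pull, pull_pull]
    have z₁ : mvExt (I ^ r) (J ^ r) i (pull (inf_le_left.trans (Ideal.pow_le_pow_right hmr) : I ^ r ⊓ J ^ r ≤ I ^ m) i x) = 0 := by
      rw [← pull_pull inf_le_left (Ideal.pow_le_pow_right hmr), pull_apply inf_le_left, mvExt_apply,
        show qq (inf_le_left : I ^ r ⊓ J ^ r ≤ I ^ r) = ModuleCat.ofHom (mvInj (I ^ r) (J ^ r)) ≫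
          ModuleCat.ofHom (LinearMap.fst R _ _) from rfl, ← Ext.mk₀_comp_mk₀_assoc]
      exact ShortComplex.ShortExact.extClass_comp_assoc _ _
    have z₂ : mvExt (I ^ r) (J ^ r) i (pull (inf_le_right.trans (Ideal.pow_le_pow_right hmr) : I ^ r ⊓ J ^ r ≤ J ^ m) i y) = 0 := by
      rw [← pull_pull inf_le_right (Ideal.pow_le_pow_right hmr), pull_apply inf_le_right, mvExt_apply,
        show qq (inf_le_right : I ^ r ⊓ J ^ r ≤ J ^ r) = ModuleCat.ofHom (mvInj (I ^ r) (J ^ r)) ≫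
          ModuleCat.ofHom (LinearMap.snd R _ _) from rfl, ← Ext.mk₀_comp_mk₀_assoc]
      exact ShortComplex.ShortExact.extClass_comp_assoc _ _
    rw [z₁, z₂, map_zero, map_zero, sub_self]

/-- Vanishing from Mayer–Vietoris. -/
theorem subsingleton_H_sup {i : ℕ} [Subsingleton (_root_.LocCoh.H (I ⊓ J) i M)]
    [Subsingleton (_root_.LocCoh.H I (i + 1) M)] [Subsingleton (_root_.LocCoh.H J (i + 1) M)] :
    Subsingleton (_root_.LocCoh.H (I ⊔ J) (i + 1) M) := by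
  refine subsingleton_of_forall_eq 0 fun h => ?_
  obtain ⟨u, rfl⟩ : h ∈ LinearMap.range (mvδ I J i) := by
    rw [← mv_exact_sup, LinearMap.mem_ker]
    exact Subsingleton.elim _ _
  rw [Subsingleton.elim u 0, map_zero]

end Groth.Agent.LocCoh
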