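import Groth.Agent.LocCoh.Injectives
import Mathlib.RingTheory.KrullDimension.Regular
import Mathlib.RingTheory.Regular.IsSMulRegular
import Mathlib.RingTheory.Ideal.AssociatedPrime.Finiteness
import Mathlib.RingTheory.Ideal.AssociatedPrime.Localization
import Mathlib.Algebra.Category.ModuleCat.Ext.DimensionShifting
import Mathlib.RingTheory.Spectrum.Prime.Noetherian

/-!
Power torsion modules, cohomological dimension, approximation by finite submodules, Grothendieck
vanishing.
-/

set_option autoImplicit false

universe u v

open CategoryTheory Abelian Limits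
open scoped Pointwise

namespace Groth.Agent.LocCoh

variable {R : Type u} [CommRing R] [IsNoetherianRing R]

omit [IsNoetherianRing R] in
theorem powTorsion_eq_top {I : Ideal R} {M : Type u} [AddCommGroup M] [Module R M]
    (h : _root_.LocCoh.IsPowerTorsion I M) : powTorsion I M = ⊤ :=
  eq_top_iff.2 fun m _ => h m

/-- Power torsion modules are acyclic. -/
theorem subsingleton_H_of_powerTorsion {I : Ideal R} :
    ∀ (i : ℕ) (N : Type u) [AddCommGroup N] [Module R N], _root_.LocCoh.IsPowerTorsion I N → 0 < i →
      Subsingleton (_root_.LocCoh.H I i N) := by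
  intro i
  induction i with
  | zero => intro N _ _ _ h; omega
  | succ i ih =>
    intro N _ _ hN _
    obtain ⟨E₀, _, _, f₀, hE₀, hf₀⟩ := exists_injective_embedding (R := R) N
    haveI := injective_powTorsion I E₀
    set E := powTorsion I E₀
    let f : N →ₗ[R] E := f₀.codRestrict _ fun m => by
      obtain ⟨n, hn⟩ := hN m
      exact ⟨n, fun a ha => by rw [← map_smul, hn a ha, map_zero]⟩
    have hf : Function.Injective f := fun x y h => hf₀ (congrArg Subtype.val h)
    let g : E →ₗ[R] E ⧸ LinearMap.range f := Submodule.mkQ _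
    have hg : Function.Surjective g := Submodule.mkQ_surjective _
    have hfg : Function.Exact f g := LinearMap.exact_map_mkQ_range f
    have hQ : _root_.LocCoh.IsPowerTorsion I (E ⧸ LinearMap.range f) := fun q => by
      obtain ⟨e, rfl⟩ := hg q
      obtain ⟨n, hn⟩ := e.2
      exact ⟨n, fun a ha => by rw [← map_smul, show a • e = 0 from Subtype.ext (hn a ha), map_zero]⟩
    haveI hac : ∀ j : ℕ, Subsingleton (_root_.LocCoh.H I (j + 1) E) :=
      fun j => subsingleton_H_of_injective E (Nat.succ_pos j)
    rcases i with - | i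
    · haveI := hac 0
      refine (H1Equiv hf hg hfg).symm.toEquiv.subsingleton_congr.2 ?_
      refine Submodule.Quotient.subsingleton_iff.2 (eq_top_iff.2 fun x _ => ?_)
      obtain ⟨e, he⟩ := hg x.1
      obtain ⟨n, hn⟩ := e.2
      exact ⟨⟨e, n, fun a ha => Subtype.ext (hn a ha)⟩, Subtype.ext he⟩
    · haveI := hac i
      haveI := hac (i + 1)
      haveI := ih _ hQ (Nat.succ_pos i)
      exact (shiftEquiv hf hg hfg (i + 1)).toEquiv.symm.subsingleton

section cd

variable (I : Ideal R) (b : R)

/-- Adding one generator raises the cohomological dimension by at most one. -/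
theorem cdLE_sup_span {a : ℕ} (h : _root_.LocCoh.CdLE R I a) :
    _root_.LocCoh.CdLE R (I ⊔ Ideal.span {b}) (a + 1) := by
  intro M _ _ i hi
  obtain ⟨j, rfl⟩ : ∃ j, i = j + 1 := ⟨i - 1, by omega⟩
  set J := I ⊔ Ideal.span {b}
  have htors : ∀ (N : Type u) [AddCommGroup N] [Module R N], IsElemTorsion b N → ∀ k, a < k →
      Subsingleton (_root_.LocCoh.H J k N) := by
    intro N _ _ hN k hk
    obtain ⟨e⟩ := nonempty_H_sup_equiv I b k N hN
    haveI := h N k hk
    exact e.toEquiv.subsingleton
  let T := powTorsion (Ideal.span {b}) M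
  let S := Submonoid.powers b
  let lm := LocalizedModule.mkLinearMap S M
  have hker : LinearMap.ker lm = T := by
    ext m
    rw [LinearMap.mem_ker, LocalizedModule.mkLinearMap_apply, ← LocalizedModule.zero_mk (1 : S),
      LocalizedModule.mk_eq]
    constructor
    · rintro ⟨⟨_, n, rfl⟩, hu⟩
      refine ⟨n, fun c hc => ?_⟩
      rw [Ideal.span_singleton_pow] at hc
      obtain ⟨d, rfl⟩ := Ideal.mem_span_singleton'.1 hc
      simp only [one_smul, smul_zero] at hu
      rw [mul_smul]
      exact (congrArg (d • ·) hu).trans (smul_zero d)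
    · rintro ⟨n, hn⟩
      exact ⟨⟨b ^ n, n, rfl⟩, by
        simp only [one_smul, smul_zero]
        exact hn _ (Ideal.pow_mem_pow (Ideal.mem_span_singleton_self b) n)⟩
  haveI : Subsingleton (_root_.LocCoh.H J (j + 1) T) :=
    htors T (isElemTorsion_powTorsion b M) _ (by omega)
  haveI : Subsingleton (_root_.LocCoh.H J (j + 1) (M ⧸ T)) := by
    let f : (M ⧸ T) →ₗ[R] LocalizedModule S M := T.liftQ lm hker.ge
    have hf : Function.Injective f :=
      LinearMap.ker_eq_bot.1 (Submodule.ker_liftQ_eq_bot' _ lm hker.symm)
    have hC : IsElemTorsion b (LocalizedModule S M ⧸ LinearMap.range f) := fun q => by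
      obtain ⟨x, rfl⟩ := Submodule.Quotient.mk_surjective _ q
      induction x using LocalizedModule.induction_on with
      | h m s =>
        obtain ⟨n, hn⟩ := s.2
        refine ⟨n, ?_⟩
        rw [← Submodule.Quotient.mk_smul, Submodule.Quotient.mk_eq_zero]
        refine ⟨Submodule.Quotient.mk m, ?_⟩
        show lm m = _
        rw [LocalizedModule.mkLinearMap_apply, LocalizedModule.smul'_mk, LocalizedModule.mk_eq]
        refine ⟨1, ?_⟩
        simp only [one_smul, Submonoid.smul_def]
        rw [show b ^ n = (s : R) from hn]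
    have hbij : Function.Bijective (fun x : LocalizedModule S M => b • x) :=
      (Module.End.isUnit_iff _).1
        (IsLocalizedModule.map_units lm (⟨b, Submonoid.mem_powers b⟩ : S))
    haveI : Subsingleton (_root_.LocCoh.H J (j + 1) (LocalizedModule S M)) :=
      subsingleton_H_of_bijective_smul
        (Ideal.le_radical (Submodule.mem_sup_right (Ideal.mem_span_singleton_self b))) hbij _
    haveI := htors _ hC j (by omega)
    exact subsingleton_left_succ hf (Submodule.mkQ_surjective _) (LinearMap.exact_map_mkQ_range f) j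
  exact subsingleton_mid T.injective_subtype (Submodule.mkQ_surjective T)
    (LinearMap.exact_subtype_mkQ T) (j + 1)

/-- Cohomological dimension is bounded by the number of generators. -/
theorem cdLE_span_finset (s : Finset R) :
    _root_.LocCoh.CdLE R (Ideal.span (s : Set R)) s.card := by
  classical
  induction s using Finset.induction_on with
  | empty =>
    intro M _ _ i hi
    rw [Finset.coe_empty, Ideal.span_empty]
    exact subsingleton_H_bot M (by omega)
  | insert b s hb ih =>
    rw [Finset.coe_insert, Ideal.span_insert, sup_comm, Finset.card_insert_of_notMem hb]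
    exact cdLE_sup_span _ b ih

theorem exists_cdLE : ∃ r, _root_.LocCoh.CdLE R I r := by
  obtain ⟨s, hs⟩ := IsNoetherian.noetherian I
  exact ⟨s.card, hs ▸ cdLE_span_finset s⟩

end cd

section approx

/-- Every class in `Ext^i(N, M)` with `N` finite comes from a finite submodule of `M`. -/
theorem exists_fg_ext (i : ℕ) : ∀ (N M : Type u) [AddCommGroup N] [Module R N] [Module.Finite R N]
    [AddCommGroup M] [Module R M] (x : Ext (ModuleCat.of R N) (ModuleCat.of R M) i),
    ∃ (M' : Submodule R M) (y : Ext (ModuleCat.of R N) (ModuleCat.of R M') i), M'.FG ∧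
      y.comp (Ext.mk₀ (ModuleCat.ofHom M'.subtype)) (add_zero i) = x := by
  induction i with
  | zero =>
    intro N M _ _ _ _ _ x
    obtain ⟨φ, rfl⟩ : ∃ φ, Ext.mk₀ φ = x := ⟨_, Ext.mk₀_addEquiv₀_apply x⟩
    refine ⟨LinearMap.range φ.hom, Ext.mk₀ (ModuleCat.ofHom φ.hom.rangeRestrict), ?_, ?_⟩
    · exact Module.Finite.iff_fg.1 (Module.Finite.range φ.hom)
    · rw [Ext.mk₀_comp_mk₀]; rfl
  | succ i ih =>
    intro N M _ _ _ _ _ x
    obtain ⟨n, π, hπ⟩ := Module.Finite.exists_fin' R N
    have hS := LinearMap.shortExact_shortComplexKer hπ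
    haveI : Projective (π.shortComplexKer).X₂ := (IsProjective.iff_projective _).1
      (inferInstanceAs (Module.Projective R (Fin n → R)))
    obtain ⟨z, hz⟩ := Ext.contravariant_sequence_exact₃ hS (ModuleCat.of R M) x
      (Ext.eq_zero_of_projective _) (add_comm 1 i)
    obtain ⟨M', y, hfg, hy⟩ := ih (LinearMap.ker π) M z
    refine ⟨M', hS.extClass.comp y (add_comm 1 i), hfg, ?_⟩
    rw [Ext.comp_assoc_of_third_deg_zero, hy, hz]

theorem subsingleton_H_of_fg {I : Ideal R} {M : Type u} [AddCommGroup M] [Module R M] {i : ℕ}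
    (h : ∀ M' : Submodule R M, M'.FG → Subsingleton (_root_.LocCoh.H I i M')) :
    Subsingleton (_root_.LocCoh.H I i M) := by
  have hz : ∀ a : _root_.LocCoh.H I i M, a = 0 := fun a => by
    obtain ⟨n, x, rfl⟩ := exists_cls a
    obtain ⟨M', y, hfg, rfl⟩ := exists_fg_ext i (R ⧸ I ^ n) M x
    haveI := h M' hfg
    rw [← Hmap_cls n i M'.subtype y, Subsingleton.elim (cls n i y) 0, map_zero]
  exact ⟨fun a b => by rw [hz a, hz b]⟩

theorem exists_regular_of_powTorsion_eq_bot {I : Ideal R} {M : Type u} [AddCommGroup M]
    [Module R M] [Module.Finite R M] (h : powTorsion I M = ⊥) :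
    ∃ x ∈ I, IsSMulRegular M x := by
  by_contra hcon
  have hsub : (I : Set R) ⊆ ⋃ p ∈ associatedPrimes R M, (p : Set R) := by
    rw [biUnion_associatedPrimes_eq_compl_regular R M]
    exact fun r hr hreg => hcon ⟨r, hr, hreg⟩
  by_cases hne : (associatedPrimes R M).Nonempty
  · obtain ⟨p₀, hp₀⟩ := hne
    obtain ⟨p, hp, hle⟩ := (Ideal.subset_union_prime_finite (associatedPrimes.finite R M) p₀ p₀
      fun q hq _ _ => IsAssociatedPrime.isPrime hq).1 hsub
    obtain ⟨hpp, m, hm⟩ := isAssociatedPrime_iff.1 (AssociatedPrimes.mem_iff.1 hp)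
    have hm1 : m ∈ powTorsion I M := ⟨1, fun a ha => by
      have ha2 : a ∈ p := hle (by simpa using ha)
      rw [hm] at ha2
      simpa using ha2⟩
    rw [h, Submodule.mem_bot] at hm1
    exact hpp.ne_top (hm.trans (eq_top_iff.2 fun r _ => by simp [hm1]))
  · have h0 := hsub I.zero_mem
    simp only [Set.mem_iUnion] at h0
    obtain ⟨q, hq, _⟩ := h0
    exact hne ⟨q, hq⟩

/-- Grothendieck vanishing, finite modules. -/
theorem subsingleton_H_of_supportDim_lt_finite {I : Ideal R} (i : ℕ) :
    ∀ (M : Type u) [AddCommGroup M] [Module R M] [Module.Finite R M],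
      Module.supportDim R M < (i : WithBot ℕ∞) → Subsingleton (_root_.LocCoh.H I i M) := by
  induction i with
  | zero =>
    intro M _ _ _ h
    rcases subsingleton_or_nontrivial M with hs | hn
    · exact subsingleton_H_of_subsingleton 0
    · exfalso
      obtain ⟨d, hd⟩ := WithBot.ne_bot_iff_exists.1 (Module.supportDim_ne_bot_of_nontrivial R M)
      rw [← hd, Nat.cast_zero, ← WithBot.coe_zero, WithBot.coe_lt_coe] at h
      exact not_lt_zero' h
  | succ i ih =>
    intro M _ _ _ h
    let T := powTorsion I M
    haveI : Subsingleton (_root_.LocCoh.H I (i + 1) T) :=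
      subsingleton_H_of_powerTorsion (i + 1) T (fun m => by
        obtain ⟨n, hn⟩ := m.2
        exact ⟨n, fun a ha => Subtype.ext (hn a ha)⟩) (Nat.succ_pos i)
    haveI : Subsingleton (_root_.LocCoh.H I (i + 1) (M ⧸ T)) := by
      have hT0 : powTorsion I (M ⧸ T) = ⊥ := by
        refine eq_bot_iff.2 ?_
        rintro q ⟨n, hn⟩
        obtain ⟨m, rfl⟩ := Submodule.Quotient.mk_surjective _ q
        rw [Submodule.mem_bot, Submodule.Quotient.mk_eq_zero]
        have hm : ∀ a ∈ I ^ n, a • m ∈ T := fun a ha => by
          rw [← Submodule.Quotient.mk_eq_zero T, Submodule.Quotient.mk_smul]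
          exact hn a ha
        obtain ⟨s, hs⟩ := IsNoetherian.noetherian (I ^ n)
        choose k hk using fun a : (s : Set R) => hm a.1 (hs ▸ Ideal.subset_span a.2)
        classical
        refine ⟨Finset.univ.sup k + n, fun c hc => ?_⟩
        rw [pow_add] at hc
        induction hc using Submodule.mul_induction_on' with
        | mem_mul_mem x hx y hy =>
          rw [← hs] at hy
          induction hy using Submodule.span_induction with
          | mem z hz =>
            rw [mul_smul]
            exact hk ⟨z, hz⟩ x (Ideal.pow_le_pow_right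
              (Finset.le_sup (f := k) (Finset.mem_univ _)) hx)
          | zero => simp
          | add z w _ _ hz hw => rw [mul_add, add_smul, hz, hw, add_zero]
          | smul r z _ hz => rw [smul_eq_mul, mul_left_comm, mul_smul, hz, smul_zero]
        | add x _ y _ hx hy => rw [add_smul, hx, hy, add_zero]
      rcases subsingleton_or_nontrivial (M ⧸ T) with hs | hn
      · exact subsingleton_H_of_subsingleton _
      obtain ⟨x, hxI, hx⟩ := exists_regular_of_powTorsion_eq_bot hT0
      have hlt : Module.supportDim R (QuotSMulTop x (M ⧸ T)) < (i : WithBot ℕ∞) := by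
        have h1 := Module.supportDim_quotSMulTop_succ_le_of_notMem_minimalPrimes (R := R)
          (M := M ⧸ T) (x := x) (fun p hp hxp => by
            have hp' := Module.associatedPrimes.minimalPrimes_annihilator_subset_associatedPrimes R (M ⧸ T) hp
            have : x ∈ ⋃ q ∈ associatedPrimes R (M ⧸ T), (q : Set R) := Set.mem_biUnion hp' hxp
            rw [biUnion_associatedPrimes_eq_compl_regular R (M ⧸ T)] at this
            exact this hx)
        have h2 := Module.supportDim_le_of_surjective T.mkQ (Submodule.mkQ_surjective T)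
        have h3 := lt_of_le_of_lt (h1.trans h2) h
        revert h3
        generalize Module.supportDim R (QuotSMulTop x (M ⧸ T)) = d
        intro h3
        induction d using WithBot.recBotCoe with
        | bot => exact WithBot.bot_lt_coe _
        | coe d =>
          induction d using ENat.recTopCoe with
          | top => exact absurd h3 (not_lt_of_ge (le_of_le_of_eq le_top (by simp; rfl)))
          | coe d =>
            norm_cast at h3 ⊢
            omega
      haveI := ih _ hlt
      have hexact : Function.Exact (x • LinearMap.id : (M ⧸ T) →ₗ[R] M ⧸ T)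
          (Submodule.mkQ (x • (⊤ : Submodule R (M ⧸ T)))) := fun y => by
        rw [Submodule.mkQ_apply, Submodule.Quotient.mk_eq_zero]
        exact ⟨fun hy => by
          obtain ⟨z, -, rfl⟩ := hy
          exact ⟨z, rfl⟩, fun ⟨z, hz⟩ => by
          rw [← hz]
          exact Submodule.smul_mem_pointwise_smul z x ⊤ trivial⟩
      have hinj : ∀ a : _root_.LocCoh.H I (i + 1) (M ⧸ T), x • a = 0 → a = 0 := fun a ha => by
        obtain ⟨c, hc⟩ := (connecting_Hmap_exact (I := I) (f := x • (LinearMap.id : (M ⧸ T) →ₗ[R] M ⧸ T)) (fun _ _ h => hx h) (Submodule.mkQ_surjective _) hexact i a).1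
          (by rw [Hmap_smul, Hmap_id]; exact ha)
        rw [← hc, Subsingleton.elim (α := _root_.LocCoh.H I i (QuotSMulTop x (M ⧸ T))) c 0, map_zero]
      have hz : ∀ a : _root_.LocCoh.H I (i + 1) (M ⧸ T), a = 0 := fun a => by
        obtain ⟨n, hn⟩ := isPowerTorsion_H (i + 1) a
        have h1 := hn _ (Ideal.pow_mem_pow hxI n)
        clear hn
        induction n generalizing a with
        | zero => simpa using h1
        | succ n ihn => exact ihn a (hinj _ (by rw [← mul_smul, ← pow_succ']; exact h1))
      exact ⟨fun a c => by rw [hz a, hz c]⟩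
    exact subsingleton_mid T.injective_subtype (Submodule.mkQ_surjective T)
      (LinearMap.exact_subtype_mkQ T) (i + 1)

/-- Grothendieck vanishing. -/
theorem subsingleton_H_of_supportDim_lt {I : Ideal R} {M : Type u} [AddCommGroup M] [Module R M]
    {i : ℕ} (h : Module.supportDim R M < (i : WithBot ℕ∞)) :
    Subsingleton (_root_.LocCoh.H I i M) :=
  subsingleton_H_of_fg fun M' hM' =>
    haveI : Module.Finite R M' := Module.Finite.iff_fg.2 hM'
    subsingleton_H_of_supportDim_lt_finite i M'
      (lt_of_le_of_lt (Module.supportDim_le_of_injective M'.subtype M'.injective_subtype) h)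

end approx

end Groth.Agent.LocCoh
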