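import Groth.Agent.LocCoh.BaseChange

/-!
Local cohomology with support in a sum of ideals: torsion modules and cohomological dimension.
-/

set_option autoImplicit false

universe u

open CategoryTheory

namespace Groth.Agent.LocCoh

variable {R : Type u} [CommRing R] [IsNoetherianRing R] (I J : Ideal R)

omit [IsNoetherianRing R] in
theorem powTorsion_sup {M : Type u} [AddCommGroup M] [Module R M]
    (h : _root_.LocCoh.IsPowerTorsion J M) : powTorsion (I ⊔ J) M = powTorsion I M := by
  refine le_antisymm (fun m ⟨n, hn⟩ => ⟨n, fun a ha => hn a (Ideal.pow_right_mono le_sup_left n ha)⟩)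
    fun m ⟨n, hn⟩ => ?_
  obtain ⟨k, hk⟩ := h m
  refine ⟨n + k, fun a ha => ?_⟩
  obtain ⟨x, hx, y, hy, rfl⟩ := Submodule.mem_sup.1 (Ideal.sup_pow_add_le_pow_sup_pow ha)
  rw [add_smul, hn x hx, hk y hy, add_zero]

/-- For `J`-torsion modules, `H_{I+J} = H_I`. -/
theorem nonempty_H_sup_equiv_of_torsion : ∀ (i : ℕ) (N : Type u) [AddCommGroup N] [Module R N],
    _root_.LocCoh.IsPowerTorsion J N →
      Nonempty (_root_.LocCoh.H (I ⊔ J) i N ≃ₗ[R] _root_.LocCoh.H I i N) := by
  intro i
  induction i with
  | zero =>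
    intro N _ _ hN
    exact ⟨(H0Equiv _ N).trans ((LinearEquiv.ofEq _ _ (powTorsion_sup I J hN)).trans
      (H0Equiv I N).symm)⟩
  | succ i ih =>
    intro N _ _ hN
    obtain ⟨E₀, _, _, f₀, hE₀, hf₀⟩ := exists_injective_embedding (R := R) N
    haveI := injective_powTorsion J E₀
    set E := powTorsion J E₀
    let f : N →ₗ[R] E := f₀.codRestrict _ fun m => by
      obtain ⟨n, hn⟩ := hN m
      exact ⟨n, fun a ha => by rw [← map_smul, hn a ha, map_zero]⟩
    have hf : Function.Injective f := fun x y h => hf₀ (congrArg Subtype.val h)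
    let g : E →ₗ[R] E ⧸ LinearMap.range f := Submodule.mkQ _
    have hg : Function.Surjective g := Submodule.mkQ_surjective _
    have hfg : Function.Exact f g := LinearMap.exact_map_mkQ_range f
    have hEt : _root_.LocCoh.IsPowerTorsion J E := fun e => by
      obtain ⟨n, hn⟩ := e.2
      exact ⟨n, fun a ha => Subtype.ext (hn a ha)⟩
    have hQt : _root_.LocCoh.IsPowerTorsion J (E ⧸ LinearMap.range f) := fun q => by
      obtain ⟨e, rfl⟩ := hg q
      obtain ⟨n, hn⟩ := hEt e
      exact ⟨n, fun a ha => by rw [← map_smul, hn a ha, map_zero]⟩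
    have hac : ∀ (K : Ideal R) (j : ℕ), Subsingleton (_root_.LocCoh.H K (j + 1) E) :=
      fun K j => subsingleton_H_of_injective E (Nat.succ_pos j)
    rcases i with - | i
    · haveI := hac (I ⊔ J) 0
      haveI := hac I 0
      have e0 : (powTorsion (I ⊔ J) (E ⧸ LinearMap.range f) ⧸
            LinearMap.range (gammaMap (I ⊔ J) g)) ≃ₗ[R]
          (powTorsion I (E ⧸ LinearMap.range f) ⧸ LinearMap.range (gammaMap I g)) := by
        refine Submodule.Quotient.equiv _ _ (LinearEquiv.ofEq _ _ (powTorsion_sup I J hQt)) ?_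
        ext x
        constructor
        · rintro ⟨y, ⟨e, rfl⟩, rfl⟩
          exact ⟨⟨e.1, (powTorsion_sup I J hEt).le e.2⟩, Subtype.ext rfl⟩
        · rintro ⟨e, rfl⟩
          exact ⟨_, ⟨⟨e.1, (powTorsion_sup I J hEt).ge e.2⟩, rfl⟩, Subtype.ext rfl⟩
      exact ⟨((H1Equiv hf hg hfg).symm.trans e0).trans (H1Equiv hf hg hfg)⟩
    · obtain ⟨e⟩ := ih (E ⧸ LinearMap.range f) hQt
      haveI := hac (I ⊔ J) i
      haveI := hac I i
      haveI := hac (I ⊔ J) (i + 1)
      haveI := hac I (i + 1)
      exact ⟨(shiftEquiv hf hg hfg (i + 1)).symm.trans (e.trans (shiftEquiv hf hg hfg (i + 1)))⟩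

theorem powTorsion_quotient_eq_bot (M : Type u) [AddCommGroup M] [Module R M] :
    powTorsion J (M ⧸ powTorsion J M) = ⊥ := by
  refine eq_bot_iff.2 ?_
  rintro q ⟨n, hn⟩
  obtain ⟨m, rfl⟩ := Submodule.Quotient.mk_surjective _ q
  rw [Submodule.mem_bot, Submodule.Quotient.mk_eq_zero]
  have hm : ∀ a ∈ J ^ n, a • m ∈ powTorsion J M := fun a ha => by
    rw [← Submodule.Quotient.mk_eq_zero (powTorsion J M), Submodule.Quotient.mk_smul]
    exact hn a ha
  obtain ⟨s, hs⟩ := IsNoetherian.noetherian (J ^ n)
  choose k hk using fun a : (s : Set R) => hm a.1 (hs ▸ Ideal.subset_span a.2)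
  classical
  refine ⟨Finset.univ.sup k + n, fun c hc => ?_⟩
  rw [pow_add] at hc
  induction hc using Submodule.mul_induction_on' with
  | mem_mul_mem x hx y hy =>
    rw [← hs] at hy
    induction hy using Submodule.span_induction with
    | mem z hz =>
      rw [mul_smul]
      exact hk ⟨z, hz⟩ x (Ideal.pow_le_pow_right (Finset.le_sup (f := k) (Finset.mem_univ _)) hx)
    | zero => simp
    | add z w _ _ hz hw => rw [mul_add, add_smul, hz, hw, add_zero]
    | smul r z _ hz => rw [smul_eq_mul, mul_left_comm, mul_smul, hz, smul_zero]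
  | add x _ y _ hx hy => rw [add_smul, hx, hy, add_zero]

/-- A `J`-torsion free module embeds into a `J`-torsion free injective module. -/
theorem exists_torsionFree_embedding (M : Type u) [AddCommGroup M] [Module R M]
    (hM : powTorsion J M = ⊥) :
    ∃ (U : Type u) (_ : AddCommGroup U) (_ : Module R U) (h : M →ₗ[R] U),
      Module.Injective R U ∧ Function.Injective h ∧ powTorsion J U = ⊥ := by
  obtain ⟨E, _, _, f, hE, hf⟩ := exists_injective_embedding (R := R) M
  let T := powTorsion J E
  haveI := injective_powTorsion J E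
  obtain ⟨π, hπ⟩ := Module.Injective.extension_property R T T E T.subtype
    T.injective_subtype LinearMap.id
  have hπ' : ∀ x : T, π (x : E) = x := fun x => LinearMap.congr_fun hπ x
  have hc : IsCompl T (LinearMap.ker π) := LinearMap.isCompl_of_proj hπ'
  haveI : Module.Injective R (LinearMap.ker π) :=
    injective_of_retract (LinearMap.ker π).subtype
      (LinearMap.codRestrict _ (LinearMap.id - T.subtype.comp π) fun x => by simp [hπ'])
      (LinearMap.ext fun x => Subtype.ext (by simp [LinearMap.mem_ker.1 x.2]))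
  let h : M →ₗ[R] LinearMap.ker π :=
    (LinearMap.codRestrict _ (LinearMap.id - T.subtype.comp π) fun x => by simp [hπ']).comp f
  have hh : Function.Injective h := by
    refine (injective_iff_map_eq_zero h).2 fun m hm => ?_
    have h1 : f m = (π (f m) : E) := sub_eq_zero.1 (congrArg Subtype.val hm)
    have h2 : m ∈ powTorsion J M := by
      obtain ⟨k, hk⟩ := (π (f m)).2
      refine ⟨k, fun x hx => hf ?_⟩
      rw [map_smul, map_zero, h1]
      exact hk x hx
    rwa [hM, Submodule.mem_bot] at h2
  have hU : powTorsion J (LinearMap.ker π) = ⊥ := by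
    refine eq_bot_iff.2 fun u ⟨k, hk⟩ => ?_
    rw [Submodule.mem_bot]
    exact Subtype.ext (hc.disjoint.le_bot ⟨⟨k, fun x hx => congrArg Subtype.val (hk x hx)⟩, u.2⟩)
  let Q := LinearMap.ker π ⧸ LinearMap.range h
  let g : LinearMap.ker π →ₗ[R] Q := Submodule.mkQ _
  have hg : Function.Surjective g := Submodule.mkQ_surjective _
  have hhg : Function.Exact h g := LinearMap.exact_map_mkQ_range h
  have hac : ∀ (K : Ideal R) (j : ℕ), Subsingleton (_root_.LocCoh.H K (j + 1) (LinearMap.ker π)) :=
    fun K j => subsingleton_H_of_injective _ (Nat.succ_pos j)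
  refine ⟨LinearMap.ker π, inferInstance, inferInstance, h, inferInstance, hh, hU⟩

theorem subsingleton_H_sup_of_acyclic : ∀ (n : ℕ) (M : Type u) [AddCommGroup M] [Module R M],
    (∀ q, Subsingleton (_root_.LocCoh.H J q M)) → Subsingleton (_root_.LocCoh.H (I ⊔ J) n M) := by
  intro n
  induction n with
  | zero =>
    intro M _ _ hM
    refine subsingleton_H0_iff.2 (eq_bot_iff.2 fun m ⟨k, hk⟩ => (subsingleton_H0_iff.1 (hM 0)).le ?_)
    exact ⟨k, fun x hx => hk x (Ideal.pow_right_mono le_sup_right k hx)⟩
  | succ n ih =>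
    intro M _ _ hM
    obtain ⟨U, _, _, h, _, hh, hU⟩ :=
      exists_torsionFree_embedding J M (subsingleton_H0_iff.1 (hM 0))
    have hacU : ∀ q, Subsingleton (_root_.LocCoh.H J q U) := fun q => by
      rcases q with - | q
      exacts [subsingleton_H0_iff.2 hU, subsingleton_H_of_injective U (Nat.succ_pos q)]
    haveI : Subsingleton (_root_.LocCoh.H (I ⊔ J) (n + 1) U) :=
      subsingleton_H_of_injective U (Nat.succ_pos n)
    haveI := ih (U ⧸ LinearMap.range h) fun q => by
      haveI := hacU q
      haveI := hM (q + 1)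
      exact subsingleton_right hh (Submodule.mkQ_surjective _) (LinearMap.exact_map_mkQ_range h) q
    exact subsingleton_left_succ hh (Submodule.mkQ_surjective (LinearMap.range h))
      (LinearMap.exact_map_mkQ_range h) n

theorem subsingleton_H_sup_of_vanishing {a : ℕ} (hI : _root_.LocCoh.CdLE R I a) :
    ∀ (b n : ℕ) (M : Type u) [AddCommGroup M] [Module R M],
      (∀ q, b < q → Subsingleton (_root_.LocCoh.H J q M)) → a + b < n →
      Subsingleton (_root_.LocCoh.H (I ⊔ J) n M) := by
  intro b
  induction b with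
  | zero =>
    intro n M _ _ hM hn
    let T := powTorsion J M
    have hT : _root_.LocCoh.IsPowerTorsion J T := fun m => by
      obtain ⟨k, hk⟩ := m.2
      exact ⟨k, fun x hx => Subtype.ext (hk x hx)⟩
    haveI : Subsingleton (_root_.LocCoh.H (I ⊔ J) n T) := by
      obtain ⟨e⟩ := nonempty_H_sup_equiv_of_torsion I J n T hT
      haveI := hI T n (by omega)
      exact e.toEquiv.subsingleton
    haveI : Subsingleton (_root_.LocCoh.H (I ⊔ J) n (M ⧸ T)) :=
      subsingleton_H_sup_of_acyclic I J n (M ⧸ T) fun q => by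
        rcases q with - | q
        · exact subsingleton_H0_iff.2 (powTorsion_quotient_eq_bot J M)
        · haveI := hM (q + 1) (Nat.succ_pos q)
          haveI := subsingleton_H_of_powerTorsion (q + 2) T hT (by omega)
          exact subsingleton_right T.injective_subtype (Submodule.mkQ_surjective T)
            (LinearMap.exact_subtype_mkQ T) (q + 1)
    exact subsingleton_mid T.injective_subtype (Submodule.mkQ_surjective T)
      (LinearMap.exact_subtype_mkQ T) n
  | succ b ih =>
    intro n M _ _ hM hn
    obtain ⟨E, _, _, f, hE, hf⟩ := exists_injective_embedding (R := R) M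
    obtain ⟨m, rfl⟩ : ∃ m, n = m + 1 := ⟨n - 1, by omega⟩
    haveI : Subsingleton (_root_.LocCoh.H (I ⊔ J) (m + 1) E) :=
      subsingleton_H_of_injective E (Nat.succ_pos m)
    haveI := ih m (E ⧸ LinearMap.range f) (fun q hq => by
      haveI : Subsingleton (_root_.LocCoh.H J q E) := subsingleton_H_of_injective E (by omega)
      haveI := hM (q + 1) (by omega)
      exact subsingleton_right hf (Submodule.mkQ_surjective _) (LinearMap.exact_map_mkQ_range f) q)
      (by omega)
    exact subsingleton_left_succ hf (Submodule.mkQ_surjective (LinearMap.range f))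
      (LinearMap.exact_map_mkQ_range f) m

/-- Subadditivity of cohomological dimension. -/
theorem cdLE_sup {a b : ℕ} (hI : _root_.LocCoh.CdLE R I a) (hJ : _root_.LocCoh.CdLE R J b) :
    _root_.LocCoh.CdLE R (I ⊔ J) (a + b) := fun M _ _ i hi =>
  subsingleton_H_sup_of_vanishing I J hI b i M (fun q hq => hJ M q hq) hi

end Groth.Agent.LocCoh
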