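import Groth.Agent.LocCoh.HLV
import Groth.Agent.LocCoh.MayerVietoris
import Groth.Agent.S0381
import Groth.Agent.S0326

/-!
The connectedness lemma for complete local domains.
-/

set_option autoImplicit false

universe u

open IsLocalRing

namespace Groth.Agent.LocCoh

variable {R : Type u} [CommRing R] [IsNoetherianRing R] [IsLocalRing R]

theorem exists_dim_quotient_eq (J : Ideal R) (hJ : J ≠ ⊤) : ∃ δ : ℕ, ringKrullDim (R ⧸ J) = δ := by
  haveI : Nontrivial (R ⧸ J) := Ideal.Quotient.nontrivial_iff.2 hJ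
  haveI : IsLocalRing (R ⧸ J) := IsLocalRing.of_surjective' (Ideal.Quotient.mk J) Ideal.Quotient.mk_surjective
  exact exists_dim_eq

theorem dim_quotient_le_dim_quotient_sup_add_one (J : Ideal R) {y : R} (hy : y ∈ maximalIdeal R) :
    ringKrullDim (R ⧸ J) ≤ ringKrullDim (R ⧸ (J ⊔ Ideal.span {y})) + 1 := by
  have h := Module.supportDim_le_supportDim_quotSMulTop_succ (M := R ⧸ J) hy
  rw [Module.supportDim_quotient_eq_ringKrullDim] at h
  refine h.trans (le_of_eq ?_)
  congr 1
  rw [← Module.supportDim_quotient_eq_ringKrullDim (J ⊔ Ideal.span {y}), Module.supportDim, Module.supportDim,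
    Module.support_quotSMulTop, Module.support_eq_zeroLocus, Ideal.annihilator_quotient,
    Module.support_eq_zeroLocus, Ideal.annihilator_quotient, PrimeSpectrum.zeroLocus_sup,
    PrimeSpectrum.zeroLocus_span]

theorem exists_parameter (J : Ideal R) : ∃ y ∈ maximalIdeal R,
    ∀ p ∈ J.minimalPrimes, p ≠ maximalIdeal R → y ∉ p := by
  let T : Set (Ideal R) := {p | p ∈ J.minimalPrimes ∧ p ≠ maximalIdeal R}
  have hT : T.Finite := (J.finite_minimalPrimes_of_isNoetherianRing R).subset fun p hp => hp.1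
  by_contra hcon
  push Not at hcon
  obtain ⟨p, hpT, hle⟩ := (Ideal.subset_union_prime (s := hT.toFinset) (f := id) ⊥ ⊥
    (fun p hp _ _ => ((hT.mem_toFinset.1 hp).1).1.1)).1
    (show (maximalIdeal R : Set R) ⊆ _ from fun z hz => by
      obtain ⟨p, hp, hne, hzp⟩ := hcon z hz
      exact Set.mem_iUnion₂.2 ⟨p, hT.mem_toFinset.2 ⟨hp, hne⟩, hzp⟩)
  obtain ⟨hp, hne⟩ := hT.mem_toFinset.1 hpT
  exact hne (le_antisymm (IsLocalRing.le_maximalIdeal hp.1.1.ne_top) hle)

theorem dim_quotient_sup_le {J : Ideal R} {δ : ℕ} (hJ : ringKrullDim (R ⧸ J) = ((δ + 1 : ℕ) : WithBot ℕ∞))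
    {y : R} (hym : y ∈ maximalIdeal R) (hy : ∀ p ∈ J.minimalPrimes, p ≠ maximalIdeal R → y ∉ p) :
    ringKrullDim (R ⧸ (J ⊔ Ideal.span {y})) ≤ (δ : WithBot ℕ∞) := by
  have hJtop : J ≠ ⊤ := fun h => by
    subst h
    rw [ringKrullDim_eq_bot_of_subsingleton] at hJ
    exact WithBot.bot_ne_coe hJ
  have hne : J ⊔ Ideal.span {y} ≠ ⊤ := fun h => (maximalIdeal.isMaximal R).ne_top
    (top_le_iff.1 (h ▸ sup_le (IsLocalRing.le_maximalIdeal hJtop) ((Ideal.span_singleton_le_iff_mem _).2 hym)))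
  obtain ⟨q, hq, hJq, hqd⟩ := exists_prime_ringKrullDim_quotient_eq (R := R) hne
  rw [← hqd]
  obtain ⟨p, hp, hpq⟩ := Ideal.exists_minimalPrimes_le (le_sup_left.trans hJq)
  haveI := hp.1.1
  by_cases hpm : p = maximalIdeal R
  · have hqm : q = maximalIdeal R := le_antisymm (IsLocalRing.le_maximalIdeal hq.ne_top) (hpm ▸ hpq)
    subst hqm
    rw [ringKrullDim_eq_zero_of_isField (Ideal.Quotient.maximal_ideal_iff_isField_quotient _ |>.1 inferInstance)]
    exact_mod_cast Nat.zero_le δ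
  · have hlt : p < q := lt_of_le_of_ne hpq fun e => hy p hp hpm
      (e ▸ hJq (Ideal.mem_sup_right (Ideal.mem_span_singleton_self y)))
    have h1 := (CAlgH3.ringKrullDim_quotient_add_one_le hlt).trans
      ((ringKrullDim_le_of_surjective (Ideal.Quotient.factor hp.1.2) (Ideal.Quotient.factor_surjective _)).trans hJ.le)
    obtain ⟨e, he⟩ := exists_dim_quotient_eq q hq.ne_top
    rw [he] at h1 ⊢
    have : e + 1 ≤ δ + 1 := by exact_mod_cast h1
    exact_mod_cast (by omega : e ≤ δ)

theorem radical_inf_sup_span (a b : Ideal R) (y : R) :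
    ((a ⊔ Ideal.span {y}) ⊓ (b ⊔ Ideal.span {y})).radical = ((a ⊓ b) ⊔ Ideal.span {y}).radical := by
  refine le_antisymm (Ideal.radical_le_radical_iff.2 ?_) (Ideal.radical_mono (sup_le
    (inf_le_inf le_sup_left le_sup_left) (le_inf le_sup_right le_sup_right)))
  intro x hx
  refine ⟨2, ?_⟩
  obtain ⟨s, hs, t, ht, rfl⟩ := Submodule.mem_sup.1 hx.1
  obtain ⟨u, hu, v, hv, he⟩ := Submodule.mem_sup.1 hx.2
  rw [pow_two]
  nth_rewrite 2 [← he]
  rw [add_mul, mul_add]
  exact add_mem (add_mem (Ideal.mem_sup_left ⟨Ideal.mul_mem_right _ _ hs, Ideal.mul_mem_left _ _ hu⟩)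
    (Ideal.mem_sup_right (Ideal.mul_mem_left _ _ hv))) (Ideal.mem_sup_right (Ideal.mul_mem_right _ _ ht))

/-- The connectedness lemma. -/
theorem connectedness_lemma [IsDomain R] [IsAdicComplete (maximalIdeal R) R] {n : ℕ}
    (hn : ringKrullDim R = n) : ∀ (δ : ℕ) (a b : Ideal R) (k : ℕ), a ≠ ⊤ → b ≠ ⊤ →
      ringKrullDim (R ⧸ (a ⊔ b)) = δ →
      ringKrullDim (R ⧸ (a ⊔ b)) < min (ringKrullDim (R ⧸ a)) (ringKrullDim (R ⧸ b)) →
      _root_.LocCoh.CdLE R (a ⊓ b) k → n ≤ k + δ + 1 := by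
  intro δ
  induction δ with
  | zero =>
    intro a b k ha hb hδ hab hk
    by_contra hcon
    obtain ⟨n', rfl⟩ : ∃ n', n = n' + 1 := ⟨n - 1, by omega⟩
    have hrad : (a ⊔ b).radical = (maximalIdeal R).radical := by
      refine le_antisymm (Ideal.radical_mono (sup_le (IsLocalRing.le_maximalIdeal ha) (IsLocalRing.le_maximalIdeal hb))) ?_
      refine Ideal.radical_le_radical_iff.2 ?_
      rw [Ideal.radical_eq_sInf]
      refine le_sInf ?_
      rintro q ⟨hJq, hq⟩
      haveI := hq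
      by_contra hne
      have hlt : q < maximalIdeal R := lt_of_le_not_ge (IsLocalRing.le_maximalIdeal hq.ne_top) hne
      have h1 := (CAlgH3.ringKrullDim_quotient_add_one_le hlt).trans
        ((ringKrullDim_le_of_surjective (Ideal.Quotient.factor hJq) (Ideal.Quotient.factor_surjective _)).trans hδ.le)
      obtain ⟨e, he⟩ := exists_dim_quotient_eq (maximalIdeal R) (maximalIdeal.isMaximal R).ne_top
      rw [he] at h1
      exact absurd (show e + 1 ≤ 0 by exact_mod_cast h1) (by omega)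
    have hvan : ∀ c : Ideal R, ((0 : ℕ) : WithBot ℕ∞) < ringKrullDim (R ⧸ c) →
        Subsingleton (_root_.LocCoh.H c (n' + 1) R) := by
      intro c hc
      refine subsingleton_H_complete R (n' + 1) hn.le c fun p hp hpd => ?_
      have hp0 : p = ⊥ := by
        by_contra hne
        haveI : (⊥ : Ideal R).IsPrime := Ideal.isPrime_bot
        have h1 := (CAlgH3.ringKrullDim_quotient_add_one_le (bot_lt_iff_ne_bot.2 hne)).trans
          ((ringKrullDim_quotient_le ⊥).trans hn.le)
        rw [hpd] at h1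
        exact absurd (show n' + 1 + 1 ≤ n' + 1 by exact_mod_cast h1) (by omega)
      obtain ⟨e, he⟩ := exists_dim_quotient_eq c (fun h => by
        subst h
        rw [ringKrullDim_eq_bot_of_subsingleton] at hc
        exact not_lt_bot hc)
      rw [hp0, sup_bot_eq, he]
      rw [he] at hc
      exact_mod_cast (show 1 ≤ e from by exact_mod_cast hc)
    rw [hδ] at hab
    haveI := hk R n' (by omega)
    haveI := hvan a (hab.trans_le (min_le_left _ _))
    haveI := hvan b (hab.trans_le (min_le_right _ _))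
    have hs : Subsingleton (_root_.LocCoh.H (a ⊔ b) (n' + 1) R) := subsingleton_H_sup a b
    obtain ⟨e⟩ := nonempty_H_equiv_of_radical hrad (n' + 1) R
    exact not_subsingleton_iff_nontrivial.2 (nontrivial_H_ring R (n' + 1) hn) e.symm.toEquiv.subsingleton
  | succ δ ih =>
    intro a b k ha hb hδ hab hk
    obtain ⟨y, hym, hy⟩ := exists_parameter (a ⊔ b)
    let a' := a ⊔ Ideal.span {y}
    let b' := b ⊔ Ideal.span {y}
    have hay : a' ≠ ⊤ := fun h => (maximalIdeal.isMaximal R).ne_top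
      (top_le_iff.1 (h ▸ sup_le (IsLocalRing.le_maximalIdeal ha) ((Ideal.span_singleton_le_iff_mem _).2 hym)))
    have hby : b' ≠ ⊤ := fun h => (maximalIdeal.isMaximal R).ne_top
      (top_le_iff.1 (h ▸ sup_le (IsLocalRing.le_maximalIdeal hb) ((Ideal.span_singleton_le_iff_mem _).2 hym)))
    have hsup : a' ⊔ b' = (a ⊔ b) ⊔ Ideal.span {y} := by
      show (a ⊔ Ideal.span {y}) ⊔ (b ⊔ Ideal.span {y}) = _
      rw [sup_sup_sup_comm, sup_idem]
    obtain ⟨e, he⟩ := exists_dim_quotient_eq (a' ⊔ b')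
      (ne_top_of_le_ne_top (maximalIdeal.isMaximal R).ne_top
        (sup_le (IsLocalRing.le_maximalIdeal hay) (IsLocalRing.le_maximalIdeal hby)))
    have hle := dim_quotient_sup_le hδ hym hy
    have hge := dim_quotient_le_dim_quotient_sup_add_one (a ⊔ b) hym
    rw [← hsup, he] at hle hge
    rw [hδ] at hge hab
    have he' : e = δ := by
      have h1 : e ≤ δ := by exact_mod_cast hle
      have h2 : δ + 1 ≤ e + 1 := by exact_mod_cast hge
      omega
    subst he'
    have hlt : ∀ c : Ideal R, c ≠ ⊤ → ((e + 1 : ℕ) : WithBot ℕ∞) < ringKrullDim (R ⧸ c) →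
        c ⊔ Ideal.span {y} ≠ ⊤ → (e : WithBot ℕ∞) < ringKrullDim (R ⧸ (c ⊔ Ideal.span {y})) := by
      intro c hc h hcy
      obtain ⟨u, hu⟩ := exists_dim_quotient_eq c hc
      obtain ⟨v, hv⟩ := exists_dim_quotient_eq _ hcy
      have h1 := dim_quotient_le_dim_quotient_sup_add_one c hym
      rw [hu] at h h1
      rw [hv] at h1 ⊢
      have h2 : e + 1 < u := by exact_mod_cast h
      have h3 : u ≤ v + 1 := by exact_mod_cast h1
      exact_mod_cast (by omega : e < v)
    have h1 : _root_.LocCoh.CdLE R ((a ⊓ b) ⊔ Ideal.span {y}) (k + 1) :=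
      S0381.result R (a ⊓ b) (Ideal.span {y}) k 1 hk ((by simpa using cdLE_span_finset ({y} : Finset R)))
    have hk' : _root_.LocCoh.CdLE R (a' ⊓ b') (k + 1) := fun M _ _ i hi => by
      haveI := h1 M i hi
      obtain ⟨ε⟩ := nonempty_H_equiv_of_radical (radical_inf_sup_span a b y) i M
      exact ε.toEquiv.subsingleton
    have := ih a' b' (k + 1) hay hby he (by
      rw [he]
      exact lt_min (hlt a ha (hab.trans_le (min_le_left _ _)) hay) (hlt b hb (hab.trans_le (min_le_right _ _)) hby))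
      hk'
    omega

end Groth.Agent.LocCoh
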