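import Groth.Agent.LocCoh.AdjDepth
import Groth.Agent.LocCoh.Sum
import Groth.Agent.CAlgH3.CMRing

/-!
Depth as a local invariant, depth and base change, Cohen–Macaulay dimension formula, and primes of
coheight one.
-/

set_option autoImplicit false

universe u

open IsLocalRing
open scoped TensorProduct Pointwise

namespace Groth.Agent.LocCoh

section localdepth

variable {A : Type u} [CommRing A] [IsNoetherianRing A]

theorem natCast_le_idealDepth_iff_local (I : Ideal A) (M : Type u) [AddCommGroup M] [Module A M]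
    [Module.Finite A M] (n : ℕ) :
    (n : ℕ∞) ≤ _root_.LocCoh.idealDepth I M ↔ ∀ p : PrimeSpectrum A, I ≤ p.asIdeal →
      (n : ℕ∞) ≤ _root_.LocCoh.depth (Localization.AtPrime p.asIdeal)
        (LocalizedModule p.asIdeal.primeCompl M) := by
  constructor
  · intro h p hp
    let B := Localization.AtPrime p.asIdeal
    haveI : IsNoetherianRing B := IsLocalization.isNoetherianRing p.asIdeal.primeCompl B inferInstance
    let N := LocalizedModule p.asIdeal.primeCompl M
    rcases subsingleton_or_nontrivial N with hs | hn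
    · rw [CAlgH3.depth_eq_top_of_subsingleton (R := B) (M := N)]
      exact le_top
    have hJ : I.map (algebraMap A B) ≠ ⊤ := ne_top_of_le_ne_top (maximalIdeal.isMaximal B).ne_top
      ((Ideal.map_mono hp).trans Localization.AtPrime.map_eq_maximalIdeal.le)
    refine le_trans ?_ (idealDepth_le_depth (I.map (algebraMap A B)) hJ N)
    rw [natCast_le_idealDepth_iff_H] at h ⊢
    intro i hi
    haveI := h i hi
    obtain ⟨e⟩ := nonempty_localized_H_equiv p.asIdeal.primeCompl I M i
    exact e.toEquiv.symm.subsingleton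
  · intro h
    rw [natCast_le_idealDepth_iff_H]
    intro i hi
    refine subsingleton_H_of_local I M i fun p hp => ?_
    haveI : IsNoetherianRing (Localization.AtPrime p.asIdeal) :=
      IsLocalization.isNoetherianRing p.asIdeal.primeCompl _ inferInstance
    exact (natCast_le_idealDepth_iff_H _ _ n).1 (h p hp) i hi

theorem idealDepth_eq_iInf_depth (I : Ideal A) (M : Type u) [AddCommGroup M] [Module A M]
    [Module.Finite A M] :
    _root_.LocCoh.idealDepth I M = ⨅ (p : PrimeSpectrum A) (_ : I ≤ p.asIdeal),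
      _root_.LocCoh.depth (Localization.AtPrime p.asIdeal)
        (LocalizedModule p.asIdeal.primeCompl M) :=
  ENat.eq_of_forall_natCast_le_iff fun n => by
    rw [natCast_le_idealDepth_iff_local, le_iInf₂_iff]

theorem H_vanishing_iff_of_cm (J : Ideal A) (G : Type u) [AddCommGroup G] [Module A G]
    [Module.Finite A G]
    (hCM : ∀ p : PrimeSpectrum A, Subsingleton (LocalizedModule p.asIdeal.primeCompl G) ∨
      _root_.LocCoh.IsCohenMacaulayModule (Localization.AtPrime p.asIdeal)
        (LocalizedModule p.asIdeal.primeCompl G)) (n : ℕ) :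
    (∀ i : ℕ, i < n → Subsingleton (_root_.LocCoh.H J i G)) ↔
      ∀ p : PrimeSpectrum A, J ≤ p.asIdeal → p ∈ Module.support A G → (n : WithBot ℕ∞) ≤
        Module.supportDim (Localization.AtPrime p.asIdeal) (LocalizedModule p.asIdeal.primeCompl G) := by
  rw [← natCast_le_idealDepth_iff_H, natCast_le_idealDepth_iff_local]
  refine forall₂_congr fun p hp => ⟨fun h hs => ?_, fun h => ?_⟩
  · haveI : Nontrivial (LocalizedModule p.asIdeal.primeCompl G) := Module.mem_support_iff.1 hs
    rcases hCM p with h0 | h1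
    · exact absurd h0 (not_subsingleton _)
    · rw [h1]
      exact WithBot.coe_le_coe.2 h
  · rcases hCM p with h0 | h1
    · haveI : IsNoetherianRing (Localization.AtPrime p.asIdeal) :=
        IsLocalization.isNoetherianRing p.asIdeal.primeCompl _ inferInstance
      rw [CAlgH3.depth_eq_top_of_subsingleton]
      exact le_top
    · haveI : IsNoetherianRing (Localization.AtPrime p.asIdeal) :=
        IsLocalization.isNoetherianRing p.asIdeal.primeCompl _ inferInstance
      have h2 := h (Module.mem_support_iff.2 (CAlgH3.nontrivial_of_cm h1))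
      rw [h1] at h2
      exact WithBot.coe_le_coe.1 h2

theorem depth_localization_self (p : Ideal A) [p.IsPrime] :
    _root_.LocCoh.depth (Localization.AtPrime p) (LocalizedModule p.primeCompl A) =
      _root_.LocCoh.depth (Localization.AtPrime p) (Localization.AtPrime p) :=
  CAlgH3.depth_congr (CAlgH3.localizedModuleSelf p)

theorem isCohenMacaulayRing_iff_idealDepth (R : Type u) [CommRing R] [IsNoetherianRing R] :
    _root_.LocCoh.IsCohenMacaulayRing R ↔
      ∀ a : Ideal R, a ≠ ⊤ → _root_.LocCoh.idealDepth a R = a.height := by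
  constructor
  · intro hR a _
    have hd : ∀ p : PrimeSpectrum R, _root_.LocCoh.depth (Localization.AtPrime p.asIdeal)
        (LocalizedModule p.asIdeal.primeCompl R) = p.asIdeal.height := fun p => by
      have h1 := (CAlgH3.isCohenMacaulayLocalRing_iff_depth (Localization.AtPrime p.asIdeal)).1
        (hR.isCohenMacaulayLocalRing_localization p.asIdeal)
      rw [IsLocalization.AtPrime.ringKrullDim_eq_height p.asIdeal (Localization.AtPrime p.asIdeal)] at h1
      rw [depth_localization_self]
      exact (WithBot.coe_inj.1 h1).symm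
    rw [idealDepth_eq_iInf_depth]
    refine le_antisymm ?_ (le_iInf₂ fun p hp => by rw [hd p]; exact Ideal.height_mono hp)
    rw [Ideal.height_eq_inf_minimalPrimes]
    exact le_iInf₂ fun q hq => iInf₂_le_of_le ⟨q, hq.1.1⟩ hq.1.2 (hd _).le
  · intro h
    refine ⟨fun p hp => ?_⟩
    let B := Localization.AtPrime p
    haveI : IsNoetherianRing B := IsLocalization.isNoetherianRing p.primeCompl B inferInstance
    rw [CAlgH3.isCohenMacaulayLocalRing_iff_depth,
      IsLocalization.AtPrime.ringKrullDim_eq_height p B]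
    refine le_antisymm (WithBot.coe_le_coe.2 ?_) ?_
    · rw [← h p hp.ne_top, ← depth_localization_self, idealDepth_eq_iInf_depth]
      exact iInf₂_le (⟨p, hp⟩ : PrimeSpectrum R) le_rfl
    · rw [← IsLocalization.AtPrime.ringKrullDim_eq_height p B,
        ← Module.supportDim_self_eq_ringKrullDim]
      exact CAlgH3.depth_le_supportDim

theorem idealDepth_baseChange (B : Type u) [CommRing B] [Algebra A B] [IsNoetherianRing B]
    (I : Ideal A) (M : Type u) [AddCommGroup M] [Module A M] [Module.Finite A M] :
    (Module.Flat A B → _root_.LocCoh.idealDepth I M ≤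
      _root_.LocCoh.idealDepth (I.map (algebraMap A B)) (B ⊗[A] M)) ∧
    (Module.FaithfullyFlat A B →
      _root_.LocCoh.idealDepth (I.map (algebraMap A B)) (B ⊗[A] M) = _root_.LocCoh.idealDepth I M) := by
  refine ⟨fun hf => ENat.forall_natCast_le_iff_le.1 fun n hn => ?_,
    fun hf => ENat.eq_of_forall_natCast_le_iff fun n => ?_⟩
  · rw [natCast_le_idealDepth_iff_H] at hn ⊢
    intro i hi
    haveI := hn i hi
    obtain ⟨e⟩ := nonempty_H_baseChange A B I i M
    exact e.toEquiv.symm.subsingleton
  · rw [natCast_le_idealDepth_iff_H, natCast_le_idealDepth_iff_H]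
    refine forall₂_congr fun i _ => ?_
    obtain ⟨e⟩ := nonempty_H_baseChange A B I i M
    rw [← e.toEquiv.subsingleton_congr]
    exact Module.FaithfullyFlat.subsingleton_tensorProduct_iff_right A B

theorem idealDepth_of_finite_algebra {B : Type u} [CommRing B] [Algebra A B] [Module.Finite A B]
    (a : Ideal A) (M : Type u) [AddCommGroup M] [Module B M] [Module A M] [IsScalarTower A B M]
    [Module.Finite B M] :
    _root_.LocCoh.idealDepth a M = _root_.LocCoh.idealDepth (a.map (algebraMap A B)) M := by
  haveI : IsNoetherianRing B := IsNoetherianRing.of_finite A B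
  haveI : Module.Finite A M := Module.Finite.trans B M
  refine ENat.eq_of_forall_natCast_le_iff fun n => ?_
  rw [natCast_le_idealDepth_iff_H, natCast_le_idealDepth_iff_H]
  refine forall₂_congr fun i _ => ?_
  obtain ⟨φ, -⟩ := exists_H_independence A B a i M
  exact φ.toEquiv.subsingleton_congr.symm

end localdepth

section local_ring

variable {R : Type u} [CommRing R] [IsLocalRing R] [IsNoetherianRing R]

theorem idealDepth_ne_top (I : Ideal R) (hI : I ≠ ⊤) (M : Type u) [AddCommGroup M] [Module R M]
    [Module.Finite R M] [Nontrivial M] : _root_.LocCoh.idealDepth I M ≠ ⊤ :=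
  ne_top_of_le_ne_top CAlgH3.depth_lt_top.ne (idealDepth_le_depth I hI M)

theorem supportDim_quotSMul_succ (I : Ideal R) : ∀ (t : ℕ) (M : Type u) [AddCommGroup M] [Module R M]
    [Module.Finite R M], I ≠ ⊤ → _root_.LocCoh.IsCohenMacaulayModule R M →
      _root_.LocCoh.idealDepth I M = t →
      Module.supportDim R M = Module.supportDim R (M ⧸ (I • (⊤ : Submodule R M))) + (t : ℕ) := by
  intro t
  induction t with
  | zero =>
    intro M _ _ _ hI hM ht
    haveI := CAlgH3.nontrivial_of_cm hM
    rw [Nat.cast_zero, add_zero]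
    refine le_antisymm ?_ (Module.supportDim_le_of_surjective _ (Submodule.mkQ_surjective _))
    have h1 := ((idealDepth_eq_iff_H I M 0).1 ht).2
    have h2 : powTorsion I M ≠ ⊥ := fun h => not_nontrivial_iff_subsingleton.2
      ((subsingleton_H0_iff (I := I) (M := M)).2 h) h1
    obtain ⟨m, hm, hm0⟩ := Submodule.exists_mem_ne_zero_of_ne_bot h2
    obtain ⟨n, hn⟩ := hm
    obtain ⟨p, hp, hle⟩ := exists_le_isAssociatedPrime_of_isNoetherianRing R m hm0
    have hpI : I ≤ p := fun a ha => (IsAssociatedPrime.isPrime hp).mem_of_pow_mem n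
      (hle (by simpa [LinearMap.mem_ker] using hn _ (Ideal.pow_mem_pow ha n)))
    rw [show Module.supportDim R M = ringKrullDim (R ⧸ p) from
      (CAlgH3.ringKrullDim_quotient_eq_of_mem_associatedPrimes hM hp).symm]
    haveI := IsAssociatedPrime.isPrime hp
    refine CAlgH3.ringKrullDim_quotient_le_supportDim (p := ⟨p, inferInstance⟩) ?_
    rw [Module.support_quotient, Set.mem_inter_iff, PrimeSpectrum.mem_zeroLocus]
    refine ⟨?_, hpI⟩
    rw [Module.support_eq_zeroLocus, PrimeSpectrum.mem_zeroLocus]
    exact (Submodule.annihilator_top (R := R) (M := M) ▸ IsAssociatedPrime.annihilator_le hp)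
  | succ t ih =>
    intro M _ _ _ hI hM ht
    haveI := CAlgH3.nontrivial_of_cm hM
    have h0 : Subsingleton (_root_.LocCoh.H I 0 M) :=
      (natCast_le_idealDepth_iff_H I M (t + 1)).1 ht.ge 0 (Nat.succ_pos t)
    obtain ⟨x, hxI, hreg⟩ := exists_regular_of_powTorsion_eq_bot (subsingleton_H0_iff.1 h0)
    have hxm : x ∈ maximalIdeal R := IsLocalRing.le_maximalIdeal hI hxI
    have hd : _root_.LocCoh.idealDepth I (QuotSMulTop x M) = t := by
      have h1 := idealDepth_quotSMulTop_add_one I M hxI hreg
      rw [ht, Nat.cast_succ] at h1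
      exact WithTop.add_right_cancel ENat.one_ne_top h1
    have h1 := ih (QuotSMulTop x M) hI
      ((CAlgH3.isCohenMacaulayModule_quotSMulTop_iff hxm hreg).2 hM) hd
    let N : Submodule R M := x • ⊤
    have hN : N ≤ I • (⊤ : Submodule R M) := fun y hy => by
      obtain ⟨z, -, rfl⟩ := hy
      exact Submodule.smul_mem_smul hxI trivial
    have e : ((M ⧸ N) ⧸ (I • (⊤ : Submodule R (M ⧸ N)))) ≃ₗ[R] M ⧸ (I • (⊤ : Submodule R M)) :=
      (Submodule.quotEquivOfEq _ _ (by rw [Submodule.map_smul'', Submodule.map_top,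
        Submodule.range_mkQ])).trans (Submodule.quotientQuotientEquivQuotient N _ hN)
    rw [← Module.supportDim_quotSMulTop_succ_eq_supportDim hreg hxm, h1,
      Module.supportDim_eq_of_equiv e, Nat.cast_succ, add_assoc]

theorem supportDim_eq_add_idealDepth (I : Ideal R) (hI : I ≠ ⊤) (M : Type u) [AddCommGroup M]
    [Module R M] [Module.Finite R M] (hM : _root_.LocCoh.IsCohenMacaulayModule R M) :
    Module.supportDim R M = Module.supportDim R (M ⧸ (I • (⊤ : Submodule R M))) +
      ((_root_.LocCoh.idealDepth I M : ℕ∞) : WithBot ℕ∞) := by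
  haveI := CAlgH3.nontrivial_of_cm hM
  obtain ⟨t, ht⟩ := ENat.ne_top_iff_exists.1 (idealDepth_ne_top I hI M)
  rw [← ht]
  exact supportDim_quotSMul_succ I t M hI hM ht.symm

theorem ringKrullDim_quotient_eq_hq (p : Ideal R) [p.IsPrime] :
    ringKrullDim (R ⧸ p) = (hq p (maximalIdeal R) : WithBot ℕ∞) := by
  haveI : IsLocalRing (R ⧸ p) := .of_surjective' _ Ideal.Quotient.mk_surjective
  rw [← IsLocalRing.maximalIdeal_height_eq_ringKrullDim]
  congr 2
  exact (IsLocalRing.eq_maximalIdeal (Ideal.map_eq_top_or_isMaximal_of_surjective _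
    Ideal.Quotient.mk_surjective (maximalIdeal.isMaximal R) |>.resolve_left
      (isPrime_map_mk (IsLocalRing.le_maximalIdeal Ideal.IsPrime.ne_top')).ne_top)).symm

/-- A prime maximal among the non-maximal primes satisfying a condition stable under going up
towards a fixed element has coheight one. -/
theorem ringKrullDim_quotient_eq_one_of_maximal (p : Ideal R) [p.IsPrime] {a : R}
    (ha : a ∈ maximalIdeal R) (hap : a ∉ p)
    (hmax : ∀ t : Ideal R, t.IsPrime → p < t → t < maximalIdeal R → a ∈ t) :
    ringKrullDim (R ⧸ p) = 1 := by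
  have hlt : p < maximalIdeal R := lt_of_le_of_ne
    (IsLocalRing.le_maximalIdeal Ideal.IsPrime.ne_top') fun e => hap (e ▸ ha)
  rw [ringKrullDim_quotient_eq_hq p]
  refine WithBot.coe_eq_one.2 (le_antisymm (not_lt.1 fun h => ?_) (one_le_map_height_of_not_le hlt))
  obtain ⟨t, ht, h1, h2, h3⟩ := exists_prime_between hlt h ha hap
  exact h3 (hmax t ht h1 h2)

theorem exists_prime_coheight_one {I : Ideal R} (h : 0 < ringKrullDim (R ⧸ I)) :
    ∃ p : Ideal R, p.IsPrime ∧ I ≤ p ∧ ringKrullDim (R ⧸ p) = 1 := by
  have hne : ∃ p : Ideal R, p.IsPrime ∧ I ≤ p ∧ p ≠ maximalIdeal R := by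
    by_contra hcon
    push Not at hcon
    haveI : Subsingleton (PrimeSpectrum.zeroLocus (R := R) (I : Set R)) :=
      ⟨fun a b => Subtype.ext (PrimeSpectrum.ext
        ((hcon _ a.1.2 a.2).trans (hcon _ b.1.2 b.2).symm))⟩
    rw [ringKrullDim_quotient] at h
    exact h.not_ge Order.krullDim_nonpos_of_subsingleton
  obtain ⟨p, ⟨hp, hIp, hpm⟩, hmax⟩ := set_has_maximal_iff_noetherian.2 (inferInstance : IsNoetherian R R)
    {p : Ideal R | p.IsPrime ∧ I ≤ p ∧ p ≠ maximalIdeal R} hne
  obtain ⟨a, ha, hap⟩ := SetLike.exists_of_lt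
    (lt_of_le_of_ne (IsLocalRing.le_maximalIdeal hp.ne_top) hpm)
  exact ⟨p, hp, hIp, ringKrullDim_quotient_eq_one_of_maximal p ha hap fun t ht h1 h2 =>
    absurd h1 (hmax t ⟨ht, hIp.trans h1.le, h2.ne⟩)⟩

theorem exists_prime_coheight_one_not_le (I : Ideal R) (hI : I ≠ ⊤)
    (hdense : ∀ q ∈ minimalPrimes R, ¬ I ≤ q) :
    ∃ p : PrimeSpectrum R, ¬ I ≤ p.asIdeal ∧ ringKrullDim (R ⧸ p.asIdeal) = 1 := by
  obtain ⟨q, hq, -⟩ := Ideal.exists_minimalPrimes_le (I := (⊥ : Ideal R)) (J := maximalIdeal R) bot_le
  obtain ⟨p, ⟨hp, hIp⟩, hmax⟩ := set_has_maximal_iff_noetherian.2 (inferInstance : IsNoetherian R R)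
    {p : Ideal R | p.IsPrime ∧ ¬ I ≤ p} ⟨q, hq.1.1, hdense q hq⟩
  obtain ⟨a, haI, hap⟩ := SetLike.not_le_iff_exists.1 hIp
  exact ⟨⟨p, hp⟩, hIp, ringKrullDim_quotient_eq_one_of_maximal p (IsLocalRing.le_maximalIdeal hI haI)
    hap fun t ht h1 _ => by_contra fun hat => hmax t ⟨ht, fun h => hat (h haI)⟩ h1⟩

/-- In top degree, enlarging a support by the maximal ideal only loses nothing: `H_p^d → H_I^d` is onto. -/
theorem Hle_surjective_top {d : ℕ} (hd : ringKrullDim R = d) {I J : Ideal R} (hIJ : I ≤ J)
    (hJ : J ≠ ⊤) : Function.Surjective (Hle hIJ d R) := by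
  refine (Hle_surjective_injective_of_local hIJ R d).1 fun q _ hJq => ?_
  let B := Localization.AtPrime q.asIdeal
  haveI : IsNoetherianRing B := IsLocalization.isNoetherianRing q.asIdeal.primeCompl B inferInstance
  refine subsingleton_H_of_supportDim_lt (lt_of_le_of_lt (Module.supportDim_le_ringKrullDim B _) ?_)
  rw [IsLocalization.AtPrime.ringKrullDim_eq_height q.asIdeal B]
  have hlt : q.asIdeal < maximalIdeal R := lt_of_le_of_ne (IsLocalRing.le_maximalIdeal q.2.ne_top)
    fun e => hJq (e ▸ IsLocalRing.le_maximalIdeal hJ)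
  have h1 := Ideal.height_add_one_le_of_lt_of_isPrime hlt
  have h2 : (maximalIdeal R).height = d := by
    have := IsLocalRing.maximalIdeal_height_eq_ringKrullDim (R := R)
    rw [hd] at this
    exact_mod_cast this
  rw [h2] at h1
  exact_mod_cast (ENat.add_one_le_iff (ne_top_of_le_ne_top (ENat.natCast_ne_top d)
    (le_self_add.trans h1))).1 h1

theorem lichtenbaum_reduction (d : ℕ) (hd : ringKrullDim R = d) :
    (∀ I : Ideal R, 0 < ringKrullDim (R ⧸ I) → Subsingleton (_root_.LocCoh.H I d R)) ↔
      (∀ (p : Ideal R) [p.IsPrime], ringKrullDim (R ⧸ p) = 1 →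
        Subsingleton (_root_.LocCoh.H p d R)) := by
  refine ⟨fun h p _ hp => h p (by rw [hp]; exact zero_lt_one), fun h I hI => ?_⟩
  obtain ⟨p, hp, hIp, h1⟩ := exists_prime_coheight_one hI
  haveI := h p h1
  exact (Hle_surjective_top hd hIp hp.ne_top).subsingleton

theorem isPrime_of_maximal_nonvanishing (n : ℕ) (hn : ringKrullDim R = n) (p : Ideal R)
    (hp : Nontrivial (_root_.LocCoh.H p n R)) (hp' : 0 < ringKrullDim (R ⧸ p))
    (hmax : ∀ b : Ideal R, p < b → Nontrivial (_root_.LocCoh.H b n R) →
      ¬ 0 < ringKrullDim (R ⧸ b)) : p.IsPrime ∧ ringKrullDim (R ⧸ p) = 1 := by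
  obtain ⟨P, hP, hpP, h1⟩ := exists_prime_coheight_one hp'
  rcases hpP.eq_or_lt with e | hlt
  · exact e ▸ ⟨hP, h1⟩
  · haveI := (Hle_surjective_top hn hpP hP.ne_top).nontrivial
    exact absurd (by rw [h1]; exact zero_lt_one) (hmax P hlt this)

/-- If the depth in `(xs)` is at least the length, the sequence is weakly regular. -/
theorem isWeaklyRegular_of_length_le_idealDepth : ∀ (xs : List R) (M : Type u) [AddCommGroup M]
    [Module R M] [Module.Finite R M] [Nontrivial M], (∀ x ∈ xs, x ∈ maximalIdeal R) →
      (xs.length : ℕ∞) ≤ _root_.LocCoh.idealDepth (Ideal.span {x | x ∈ xs}) M →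
      RingTheory.Sequence.IsWeaklyRegular M xs := by
  intro xs
  induction xs with
  | nil => intro M _ _ _ _ _ _; exact RingTheory.Sequence.IsWeaklyRegular.nil R M
  | cons x xs ih =>
    intro M _ _ _ _ hxs hd
    classical
    let J := Ideal.span {y | y ∈ x :: xs}
    have hJm : J ≤ maximalIdeal R := Ideal.span_le.2 fun y hy => hxs y hy
    have hxJ : x ∈ J := Ideal.subset_span List.mem_cons_self
    have hreg : IsSMulRegular M x := by
      rw [isSMulRegular_iff_right_eq_zero_of_smul]
      intro m hm
      by_contra hm0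
      obtain ⟨p, hp, hle⟩ := exists_le_isAssociatedPrime_of_isNoetherianRing R m hm0
      haveI := IsAssociatedPrime.isPrime hp
      have hxp : x ∈ p := hle (by simpa [LinearMap.mem_ker] using hm)
      obtain ⟨q, hq', hqle⟩ := Ideal.exists_minimalPrimes_le (I := J ⊔ p) (J := maximalIdeal R)
        (sup_le hJm (IsLocalRing.le_maximalIdeal Ideal.IsPrime.ne_top'))
      haveI := hq'.1.1
      have hpq : p ≤ q := le_sup_right.trans hq'.1.2
      have hJq : J ≤ q := le_sup_left.trans hq'.1.2
      have h1 := (natCast_le_idealDepth_iff_local J M _).1 hd ⟨q, inferInstance⟩ hJq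
      have h2 := depth_le_depth_add_hq M p q hpq
      have h3 : _root_.LocCoh.depth (Localization.AtPrime p) (LocalizedModule p.primeCompl M) = 0 := by
        haveI : IsNoetherianRing (Localization.AtPrime p) :=
          IsLocalization.isNoetherianRing p.primeCompl _ inferInstance
        haveI := CAlgH3.nontrivial_localizedModule_of_mem_support
          (show (⟨p, inferInstance⟩ : PrimeSpectrum R) ∈ Module.support R M from by
            rw [Module.support_eq_zeroLocus, PrimeSpectrum.mem_zeroLocus]
            exact (Submodule.annihilator_top (R := R) (M := M) ▸ IsAssociatedPrime.annihilator_le hp))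
        refine CAlgH3.depth_eq_zero_iff.2 ?_
        exact Module.associatedPrimes.mem_associatedPrimes_atPrime_of_mem_associatedPrimes hp
      rw [h3, zero_add] at h2
      let π := Ideal.Quotient.mk p
      have hmap : J.map π = Ideal.span ((xs.toFinset.image π : Finset (R ⧸ p)) : Set (R ⧸ p)) := by
        rw [Ideal.map_span]
        refine le_antisymm (Ideal.span_le.2 ?_) (Ideal.span_mono ?_)
        · rintro _ ⟨y, hy, rfl⟩
          rcases List.mem_cons.1 hy with rfl | hy
          · rw [show π y = 0 from Ideal.Quotient.eq_zero_iff_mem.2 hxp]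
            exact zero_mem _
          · exact Ideal.subset_span (Finset.mem_coe.2 (Finset.mem_image_of_mem π (List.mem_toFinset.2 hy)))
        · intro z hz
          obtain ⟨y, hy, rfl⟩ := Finset.mem_image.1 (Finset.mem_coe.1 hz)
          exact ⟨y, List.mem_cons_of_mem x (List.mem_toFinset.1 hy), rfl⟩
      haveI := isPrime_map_mk hpq
      have hmin : q.map π ∈ (J.map π).minimalPrimes := by
        rw [Ideal.minimalPrimes_map_of_surjective Ideal.Quotient.mk_surjective, Ideal.mk_ker]
        exact ⟨q, hq', rfl⟩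
      have h4 : hq p q ≤ (xs.length : ℕ∞) := by
        refine (Ideal.height_le_spanRank_toENat_of_mem_minimalPrimes _ _ hmin).trans ?_
        rw [hmap]
        refine (Cardinal.toENat_le_natCast (n := xs.length)).2 ?_
        refine (Submodule.spanRank_span_le_card _).trans ?_
        rw [Finset.coe_sort_coe, Cardinal.mk_coe_finset, Nat.cast_le]
        exact Finset.card_image_le.trans (List.toFinset_card_le xs)
      have h5 := h1.trans (h2.trans h4)
      rw [List.length_cons] at h5
      exact absurd h5 (by exact_mod_cast Nat.not_succ_le_self xs.length)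
    refine RingTheory.Sequence.IsWeaklyRegular.cons hreg ?_
    haveI := CAlgH3.nontrivial_quotSMulTop (M := M) (hxs x List.mem_cons_self)
    refine ih (QuotSMulTop x M) (fun y hy => hxs y (List.mem_cons_of_mem x hy)) ?_
    have h6 := idealDepth_quotSMulTop_add_one J M hxJ hreg
    have h7 : (xs.length : ℕ∞) ≤ _root_.LocCoh.idealDepth J (QuotSMulTop x M) := by
      have : ((xs.length + 1 : ℕ) : ℕ∞) ≤ _root_.LocCoh.idealDepth J M := hd
      rw [← h6] at this
      exact CAlgH3.natCast_add_one_le_iff.1 this
    rw [natCast_le_idealDepth_iff_H] at h7 ⊢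
    intro i hi
    have hJ' : J = Ideal.span {y | y ∈ xs} ⊔ Ideal.span {x} := by
      rw [← Ideal.span_union]
      refine congrArg Ideal.span (Set.ext fun y => ?_)
      simp [or_comm]
    obtain ⟨e⟩ := nonempty_H_sup_equiv_of_torsion (Ideal.span {y | y ∈ xs}) (Ideal.span {x}) i
      (QuotSMulTop x M) (fun q => ⟨1, fun a ha => by
        rw [pow_one] at ha
        obtain ⟨c, rfl⟩ := Ideal.mem_span_singleton'.1 ha
        obtain ⟨y, rfl⟩ := Submodule.Quotient.mk_surjective _ q
        rw [← Submodule.Quotient.mk_smul]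
        refine (Submodule.Quotient.mk_eq_zero _).2 ?_
        rw [mul_comm, mul_smul]
        exact Submodule.smul_mem_pointwise_smul (c • y) x ⊤ trivial⟩)
    rw [← hJ'] at e
    haveI := h7 i hi
    exact e.toEquiv.symm.subsingleton

theorem idealDepth_eq_length_iff {M : Type u} [AddCommGroup M] [Module R M] [Module.Finite R M]
    [Nontrivial M] (xs : List R) (hxs : ∀ x ∈ xs, x ∈ maximalIdeal R) :
    _root_.LocCoh.idealDepth (Ideal.span {x | x ∈ xs}) M = xs.length ↔
      RingTheory.Sequence.IsWeaklyRegular M xs := by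
  classical
  refine ⟨fun h => isWeaklyRegular_of_length_le_idealDepth xs M hxs h.ge, fun h => ?_⟩
  let J := Ideal.span {x | x ∈ xs}
  have hJ : J ≠ ⊤ := ne_top_of_le_ne_top (maximalIdeal.isMaximal R).ne_top (Ideal.span_le.2 hxs)
  have hne := smul_top_ne_top_of_nontrivial (M := M) hJ
  refine le_antisymm (not_lt.1 fun hlt => idealDepth_ne_top J hJ M ?_) ?_
  · refine WithTop.eq_top_iff_forall_ge.2 fun n => (natCast_le_idealDepth_iff_H J M n).2 fun i _ => ?_
    rcases Nat.lt_or_ge i (xs.length + 1) with hi | hi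
    · exact (natCast_le_idealDepth_iff_H J M (xs.length + 1)).1
        (by exact_mod_cast (ENat.add_one_le_iff (ENat.natCast_ne_top _)).2 hlt) i hi
    · have hJs : J = Ideal.span (xs.toFinset : Set R) := by simp [J]
      rw [hJs]
      exact cdLE_span_finset xs.toFinset M i
        (lt_of_le_of_lt (List.toFinset_card_le xs) hi)
  · rw [natCast_le_idealDepth_iff_exists J M hne]
    exact ⟨xs, le_rfl, fun r hr => Ideal.subset_span hr,
      ⟨h, fun e => smul_top_ne_top_of_nontrivial (M := M) hJ e.symm⟩⟩

end local_ring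

end Groth.Agent.LocCoh
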