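import Groth.Agent.LocCoh.Depth
import Mathlib.RingTheory.Flat.Basic
import Mathlib.LinearAlgebra.TensorProduct.RightExactness
import Mathlib.LinearAlgebra.TensorProduct.Prod

/-!
Local cohomology and change of rings: independence of the base, flat base change, cohomological
dimension is detected by the ring.
-/

set_option autoImplicit false

universe u

open CategoryTheory
open scoped TensorProduct

namespace Groth.Agent.LocCoh

theorem subsingleton_H_finsupp_free {R : Type u} [CommRing R] {I : Ideal R} {i : ℕ}
    (h : Subsingleton (_root_.LocCoh.H I i R)) :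
    ∀ n : ℕ, Subsingleton (_root_.LocCoh.H I i (Fin n → R)) := by
  intro n
  have hz : ∀ a : _root_.LocCoh.H I i (Fin n → R), a = 0 := fun a => by
    have hid : (LinearMap.id : (Fin n → R) →ₗ[R] (Fin n → R)) =
        ∑ j, (LinearMap.single R (fun _ : Fin n => R) j).comp (LinearMap.proj j) :=
      LinearMap.ext fun x => by simp [Finset.univ_sum_single]
    have hsum : ∀ (s : Finset (Fin n)) (g : Fin n → ((Fin n → R) →ₗ[R] (Fin n → R))),
        Hmap I i (∑ j ∈ s, g j) = ∑ j ∈ s, Hmap I i (g j) := fun s g => by
      classical
      induction s using Finset.induction_on with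
      | empty => simp
      | insert j s hj ih => rw [Finset.sum_insert hj, Finset.sum_insert hj, Hmap_add, ih]
    have := LinearMap.congr_fun (congrArg (Hmap I i) hid) a
    rw [Hmap_id, hsum, LinearMap.sum_apply] at this
    refine this.trans (Finset.sum_eq_zero fun j _ => ?_)
    rw [Hmap_comp, LinearMap.comp_apply, Subsingleton.elim (Hmap I i (LinearMap.proj j) a) 0, map_zero]
  exact ⟨fun a b => by rw [hz a, hz b]⟩

/-- Cohomological dimension is detected on the ring. -/
theorem cdLE_iff {R : Type u} [CommRing R] [IsNoetherianRing R] (I : Ideal R) (d : ℕ) :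
    (∀ i : ℕ, d < i → Subsingleton (_root_.LocCoh.H I i R)) ↔ _root_.LocCoh.CdLE R I d := by
  refine ⟨fun h => ?_, fun h i hi => h R i hi⟩
  obtain ⟨r, hr⟩ := exists_cdLE I
  intro M _ _ i hi
  refine subsingleton_H_of_fg fun M' hM' => ?_
  suffices H : ∀ (k : ℕ) (N : Type u) [AddCommGroup N] [Module R N] [Module.Finite R N] (i : ℕ),
      d < i → r < i + k → Subsingleton (_root_.LocCoh.H I i N) by
    haveI : Module.Finite R M' := Module.Finite.iff_fg.2 hM'
    exact H (r + 1) M' i hi (by omega)
  intro k
  induction k with
  | zero => intro N _ _ _ i _ hk; exact hr N i (by omega)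
  | succ k ih =>
    intro N _ _ _ i hi hk
    obtain ⟨n, π, hπ⟩ := Module.Finite.exists_fin' R N
    haveI := subsingleton_H_finsupp_free (h i hi) n
    haveI := ih (LinearMap.ker π) (i + 1) (by omega) (by omega)
    exact subsingleton_right (LinearMap.ker π).injective_subtype hπ
      (LinearMap.exact_subtype_ker_map π) i

section independence

variable (R R' : Type u) [CommRing R] [IsNoetherianRing R] [CommRing R'] [IsNoetherianRing R']
  [Algebra R R'] (I : Ideal R)

/-- `R'`-injective modules are acyclic over `R`. -/
theorem subsingleton_H_of_injective_algebra (E : Type u) [AddCommGroup E] [Module R' E] [Module R E]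
    [IsScalarTower R R' E] [Module.Injective R' E] {i : ℕ} (hi : 0 < i) :
    Subsingleton (_root_.LocCoh.H I i E) := by
  refine subsingleton_H_of_splits I
    (fun M => ∃ (_ : Module R' M), IsScalarTower R R' M ∧ Module.Injective R' M) ?_
    (ModuleCat.of R E) ⟨inferInstanceAs (Module R' E), inferInstanceAs (IsScalarTower R R' E),
      inferInstanceAs (Module.Injective R' E)⟩ i hi
  rintro b M ⟨_, _, _⟩
  obtain ⟨U, hT, _, hbij, hc⟩ := injective_split (algebraMap R R' b) M
  refine ⟨(powTorsion (Ideal.span {algebraMap R R' b}) M).restrictScalars R, U.restrictScalars R,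
    ⟨?_, ?_⟩, ⟨inferInstanceAs (Module R' (powTorsion (Ideal.span {algebraMap R R' b}) M)),
      inferInstanceAs (IsScalarTower R R' (powTorsion (Ideal.span {algebraMap R R' b}) M)), hT⟩, ?_, ?_⟩
  · rw [disjoint_iff]
    exact SetLike.ext fun x => ⟨fun hx => by
      have := hc.disjoint.le_bot ⟨hx.1, hx.2⟩
      simpa using this, fun hx => by
      rw [Submodule.mem_bot] at hx
      subst hx
      exact ⟨Submodule.zero_mem _, Submodule.zero_mem _⟩⟩
  · rw [codisjoint_iff, eq_top_iff]
    intro x _
    obtain ⟨y, hy, z, hz, rfl⟩ := Submodule.mem_sup.1 (hc.codisjoint.eq_top.ge (Submodule.mem_top (x := x)))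
    exact Submodule.add_mem_sup hy hz
  · intro m
    obtain ⟨n, hn⟩ := isElemTorsion_powTorsion (algebraMap R R' b) M ⟨m.1, m.2⟩
    refine ⟨n, Subtype.ext ?_⟩
    show b ^ n • m.1 = 0
    rw [← IsScalarTower.algebraMap_smul R', map_pow]
    exact congrArg Subtype.val hn
  · constructor
    · intro x y hxy
      apply Subtype.ext
      have := congrArg Subtype.val hxy
      simp only [Submodule.coe_smul, ← IsScalarTower.algebraMap_smul R' b] at this
      exact congrArg Subtype.val (hbij.1 (a₁ := ⟨x.1, x.2⟩) (a₂ := ⟨y.1, y.2⟩) (Subtype.ext this))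
    · intro x
      obtain ⟨y, hy⟩ := hbij.2 ⟨x.1, x.2⟩
      refine ⟨⟨y.1, y.2⟩, Subtype.ext ?_⟩
      show b • y.1 = x.1
      rw [← IsScalarTower.algebraMap_smul R' b]
      exact congrArg Subtype.val hy

variable {R R'} in
theorem mem_powTorsion_map_iff {M : Type u} [AddCommGroup M] [Module R' M] [Module R M]
    [IsScalarTower R R' M] (m : M) :
    m ∈ powTorsion (I.map (algebraMap R R')) M ↔ m ∈ powTorsion I M := by
  refine exists_congr fun n => ⟨fun h a ha => ?_, fun h c hc => ?_⟩
  · rw [← IsScalarTower.algebraMap_smul R']
    exact h _ (by rw [← Ideal.map_pow]; exact Ideal.mem_map_of_mem _ ha)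
  · rw [← Ideal.map_pow] at hc
    induction hc using Submodule.span_induction with
    | mem y hy =>
      obtain ⟨a, ha, rfl⟩ := hy
      rw [IsScalarTower.algebraMap_smul]
      exact h a ha
    | zero => simp
    | add y z _ _ hy hz => rw [add_smul, hy, hz, add_zero]
    | smul r y _ hy => rw [smul_eq_mul, mul_smul, hy, smul_zero]

/-- Independence of the base ring. -/
theorem exists_H_independence (i : ℕ) : ∀ (M : Type u) [AddCommGroup M] [Module R' M] [Module R M]
    [IsScalarTower R R' M],
    ∃ φ : _root_.LocCoh.H (I.map (algebraMap R R')) i M ≃+ _root_.LocCoh.H I i M,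
      ∀ (r : R) (x : _root_.LocCoh.H (I.map (algebraMap R R')) i M),
        φ (algebraMap R R' r • x) = r • φ x := by
  induction i with
  | zero =>
    intro M _ _ _ _
    let e : powTorsion (I.map (algebraMap R R')) M ≃+ powTorsion I M :=
      { toFun := fun m => ⟨m.1, (mem_powTorsion_map_iff I m.1).1 m.2⟩
        invFun := fun m => ⟨m.1, (mem_powTorsion_map_iff I m.1).2 m.2⟩
        left_inv := fun _ => rfl
        right_inv := fun _ => rfl
        map_add' := fun _ _ => rfl }
    refine ⟨((H0Equiv _ M).toAddEquiv.trans e).trans (H0Equiv I M).symm.toAddEquiv, fun r x => ?_⟩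
    show (H0Equiv I M).symm (e (H0Equiv _ M (algebraMap R R' r • x))) =
      r • (H0Equiv I M).symm (e (H0Equiv _ M x))
    have key : ∀ z : powTorsion (I.map (algebraMap R R')) M,
        e (algebraMap R R' r • z) = r • e z := fun z =>
      Subtype.ext (IsScalarTower.algebraMap_smul R' r z.1)
    rw [map_smul, key, map_smul]
  | succ i ih =>
    intro M _ _ _ _
    obtain ⟨E, _, _, f, hE, hf⟩ := exists_injective_embedding (R := R') M
    letI : Module R E := Module.compHom E (algebraMap R R')
    haveI : IsScalarTower R R' E := IsScalarTower.of_algebraMap_smul fun _ _ => rfl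
    let g : E →ₗ[R'] E ⧸ LinearMap.range f := Submodule.mkQ _
    have hg : Function.Surjective g := Submodule.mkQ_surjective _
    have hfg : Function.Exact f g := LinearMap.exact_map_mkQ_range f
    have hf' : Function.Injective (f.restrictScalars R) := hf
    have hg' : Function.Surjective (g.restrictScalars R) := hg
    have hfg' : Function.Exact (f.restrictScalars R) (g.restrictScalars R) := hfg
    have hac : ∀ j, Subsingleton (_root_.LocCoh.H I (j + 1) E) :=
      fun j => subsingleton_H_of_injective_algebra R R' I E (Nat.succ_pos j)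
    have hac' : ∀ j, Subsingleton (_root_.LocCoh.H (I.map (algebraMap R R')) (j + 1) E) :=
      fun j => subsingleton_H_of_injective E (Nat.succ_pos j)
    rcases i with - | i
    · haveI := hac 0
      haveI := hac' 0
      let e : powTorsion (I.map (algebraMap R R')) (E ⧸ LinearMap.range f) →+
          (powTorsion I (E ⧸ LinearMap.range f) ⧸ LinearMap.range (gammaMap I (g.restrictScalars R))) :=
        { toFun := fun m => Submodule.Quotient.mk ⟨m.1, (mem_powTorsion_map_iff I m.1).1 m.2⟩
          map_zero' := rfl
          map_add' := fun _ _ => rfl }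
      have he : ∀ m, e m = 0 ↔ m ∈ LinearMap.range (gammaMap (I.map (algebraMap R R')) g) := fun m => by
        refine (Submodule.Quotient.mk_eq_zero _).trans ⟨?_, ?_⟩
        · rintro ⟨x, hx⟩
          exact ⟨⟨x.1, (mem_powTorsion_map_iff I x.1).2 x.2⟩,
            Subtype.ext (show g x.1 = m.1 from congrArg Subtype.val hx)⟩
        · rintro ⟨x, rfl⟩
          exact ⟨⟨x.1, (mem_powTorsion_map_iff I x.1).1 x.2⟩, rfl⟩
      let q : (powTorsion (I.map (algebraMap R R')) (E ⧸ LinearMap.range f) ⧸
            LinearMap.range (gammaMap (I.map (algebraMap R R')) g)) ≃+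
          (powTorsion I (E ⧸ LinearMap.range f) ⧸ LinearMap.range (gammaMap I (g.restrictScalars R))) :=
        AddEquiv.ofBijective (QuotientAddGroup.lift _ e fun x hx => (he x).2 hx) ⟨by
          refine (injective_iff_map_eq_zero _).2 fun z hz => ?_
          induction z using Submodule.Quotient.induction_on with
          | _ m => exact (Submodule.Quotient.mk_eq_zero _).2 ((he m).1 hz), fun z => by
          induction z using Submodule.Quotient.induction_on with
          | _ m => exact ⟨Submodule.Quotient.mk ⟨m.1, (mem_powTorsion_map_iff I m.1).2 m.2⟩, rfl⟩⟩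
      refine ⟨((H1Equiv hf hg hfg).symm.toAddEquiv.trans q).trans
        (H1Equiv hf' hg' hfg').toAddEquiv, fun r x => ?_⟩
      show H1Equiv hf' hg' hfg' (q ((H1Equiv hf hg hfg).symm (algebraMap R R' r • x))) =
        r • H1Equiv hf' hg' hfg' (q ((H1Equiv hf hg hfg).symm x))
      have key : ∀ z, q (algebraMap R R' r • z) = r • q z := fun z => by
        induction z using Submodule.Quotient.induction_on with
        | _ m =>
          show Submodule.Quotient.mk (⟨algebraMap R R' r • m.1, _⟩ : powTorsion I (E ⧸ LinearMap.range f)) =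
            Submodule.Quotient.mk (r • (⟨m.1, _⟩ : powTorsion I (E ⧸ LinearMap.range f)))
          exact congrArg _ (Subtype.ext (IsScalarTower.algebraMap_smul R' r m.1))
      rw [map_smul, key, map_smul]
    · obtain ⟨φ, hφ⟩ := ih (E ⧸ LinearMap.range f)
      haveI := hac i
      haveI := hac (i + 1)
      haveI := hac' i
      haveI := hac' (i + 1)
      refine ⟨((shiftEquiv hf hg hfg (i + 1)).symm.toAddEquiv.trans φ).trans
        (shiftEquiv hf' hg' hfg' (i + 1)).toAddEquiv, fun r x => ?_⟩
      show shiftEquiv hf' hg' hfg' (i + 1) (φ ((shiftEquiv hf hg hfg (i + 1)).symm (algebraMap R R' r • x))) =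
        r • shiftEquiv hf' hg' hfg' (i + 1) (φ ((shiftEquiv hf hg hfg (i + 1)).symm x))
      rw [map_smul, hφ, map_smul]

end independence

section flat

variable (R R' : Type u) [CommRing R] [IsNoetherianRing R] [CommRing R'] [IsNoetherianRing R']
  [Algebra R R'] [Module.Flat R R'] (I : Ideal R)

theorem powTorsion_baseChange (M : Type u) [AddCommGroup M] [Module R M] :
    powTorsion (I.map (algebraMap R R')) (R' ⊗[R] M) =
      LinearMap.range ((powTorsion I M).subtype.baseChange R') := by
  apply le_antisymm
  · rintro x ⟨n, hn⟩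
    obtain ⟨s, hs⟩ := IsNoetherian.noetherian (I ^ n)
    let T := powTorsion I M
    classical
    have hx : LinearMap.lTensor R' T.mkQ x = 0 := by
      let φ : (M ⧸ T) →ₗ[R] (s → (M ⧸ T)) := LinearMap.pi fun a => (a : R) • LinearMap.id
      have hφ : Function.Injective φ := by
        refine (injective_iff_map_eq_zero φ).2 fun q hq => ?_
        obtain ⟨m, rfl⟩ := Submodule.Quotient.mk_surjective _ q
        have hm : ∀ a ∈ s, a • m ∈ T := fun a ha => by
          have := congrFun hq ⟨a, ha⟩
          rw [← Submodule.Quotient.mk_eq_zero T, Submodule.Quotient.mk_smul]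
          exact this
        choose k hk using fun a : s => hm a.1 a.2
        rw [Submodule.Quotient.mk_eq_zero]
        classical
        refine ⟨Finset.univ.sup k + n, fun c hc => ?_⟩
        rw [pow_add] at hc
        induction hc using Submodule.mul_induction_on' with
        | mem_mul_mem y hy z hz =>
          rw [← hs] at hz
          induction hz using Submodule.span_induction with
          | mem w hw =>
            rw [mul_smul]
            exact hk ⟨w, hw⟩ y (Ideal.pow_le_pow_right (Finset.le_sup (f := k) (Finset.mem_univ _)) hy)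
          | zero => simp
          | add z w _ _ hz hw => rw [mul_add, add_smul, hz, hw, add_zero]
          | smul r z _ hz => rw [smul_eq_mul, mul_left_comm, mul_smul, hz, smul_zero]
        | add y _ z _ hy hz => rw [add_smul, hy, hz, add_zero]
      apply Module.Flat.lTensor_preserves_injective_linearMap φ hφ
      rw [map_zero]
      apply (TensorProduct.piRight R R R' fun _ : s => M ⧸ T).injective
      rw [map_zero]
      funext a
      have h1 : ∀ y : R' ⊗[R] M, (TensorProduct.piRight R R R' fun _ : s => M ⧸ T)
          (LinearMap.lTensor R' φ (LinearMap.lTensor R' T.mkQ y)) a =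
            LinearMap.lTensor R' T.mkQ ((a : R) • y) := fun y => by
        induction y with
        | zero => simp
        | tmul r m => simp [φ]
        | add y z hy hz => simp only [map_add, Pi.add_apply, smul_add, hy, hz]
      rw [h1, ← IsScalarTower.algebraMap_smul R', hn _ (by
        rw [← Ideal.map_pow, ← hs]; exact Ideal.mem_map_of_mem _ (Submodule.subset_span a.2)), map_zero]
      rfl
    obtain ⟨y, hy⟩ := (lTensor_exact R' (LinearMap.exact_subtype_mkQ T)
      (Submodule.mkQ_surjective T) x).1 hx
    exact ⟨y, hy⟩
  · rintro _ ⟨y, rfl⟩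
    induction y with
    | zero => simp
    | tmul r m =>
      rw [LinearMap.baseChange_tmul, mem_powTorsion_map_iff]
      obtain ⟨n, hn⟩ := m.2
      exact ⟨n, fun a ha => by
        rw [← TensorProduct.tmul_smul, Submodule.subtype_apply, hn a ha, TensorProduct.tmul_zero]⟩
    | add y z hy hz => rw [map_add]; exact add_mem hy hz

/-- Base changes of injective modules are acyclic. -/
theorem subsingleton_H_baseChange_injective (E : Type u) [AddCommGroup E] [Module R E]
    [Module.Injective R E] {i : ℕ} (hi : 0 < i) :
    Subsingleton (_root_.LocCoh.H (I.map (algebraMap R R')) i (R' ⊗[R] E)) := by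
  obtain ⟨s, hs⟩ := IsNoetherian.noetherian I
  classical
  have hmap : I.map (algebraMap R R') = Ideal.span ((s.image (algebraMap R R') : Finset R') : Set R') := by
    rw [← hs, Finset.coe_image]; exact Ideal.map_span _ _
  rw [hmap]
  clear hs hmap
  suffices H : ∀ (t : Finset R) (E : Type u) [AddCommGroup E] [Module R E] [Module.Injective R E]
      (i : ℕ), 0 < i →
      Subsingleton (_root_.LocCoh.H (Ideal.span ((t.image (algebraMap R R') : Finset R') : Set R')) i
        (R' ⊗[R] E)) from H s E i hi
  intro t
  induction t using Finset.induction_on with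
  | empty =>
    intro E _ _ _ i hi
    rw [Finset.image_empty, Finset.coe_empty, Ideal.span_empty]
    exact subsingleton_H_bot _ hi
  | insert b t hb ih =>
    intro E _ _ _ i hi
    obtain ⟨U, hT, hU, hbij, hc⟩ := injective_split b E
    rw [Finset.image_insert, Finset.coe_insert, Ideal.span_insert, sup_comm]
    set J := Ideal.span ((t.image (algebraMap R R') : Finset R') : Set R')
    let T := powTorsion (Ideal.span {b}) E
    have h1 : Subsingleton (_root_.LocCoh.H (J ⊔ Ideal.span {algebraMap R R' b}) i (R' ⊗[R] T)) := by
      have htor : IsElemTorsion (algebraMap R R' b) (R' ⊗[R] T) := fun x => by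
        induction x with
        | zero => exact ⟨0, smul_zero _⟩
        | tmul r m =>
          obtain ⟨n, hn⟩ := isElemTorsion_powTorsion b E m
          exact ⟨n, by rw [← map_pow, IsScalarTower.algebraMap_smul, ← TensorProduct.tmul_smul, hn,
            TensorProduct.tmul_zero]⟩
        | add x y hx hy =>
          obtain ⟨n, hn⟩ := hx
          obtain ⟨m, hm⟩ := hy
          exact ⟨n + m, by rw [smul_add, pow_add, mul_smul, mul_smul, hm, smul_comm, hn,
            smul_zero, smul_zero, add_zero]⟩
      obtain ⟨e⟩ := nonempty_H_sup_equiv J (algebraMap R R' b) i _ htor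
      haveI := ih T i hi
      exact e.toEquiv.subsingleton
    have h2 : Subsingleton (_root_.LocCoh.H (J ⊔ Ideal.span {algebraMap R R' b}) i (R' ⊗[R] U)) := by
      refine subsingleton_H_of_bijective_smul (b := algebraMap R R' b)
        (Ideal.le_radical (Submodule.mem_sup_right (Ideal.mem_span_singleton_self _))) ?_ i
      let e := LinearEquiv.lTensor R' (LinearEquiv.ofBijective (b • (LinearMap.id : U →ₗ[R] U)) hbij)
      have he : (fun x : R' ⊗[R] U => algebraMap R R' b • x) = e := funext fun x => by
        rw [IsScalarTower.algebraMap_smul]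
        induction x with
        | zero => simp
        | tmul r m =>
          rw [← TensorProduct.tmul_smul]
          rfl
        | add x y hx hy => rw [smul_add, map_add, hx, hy]
      rw [he]
      exact e.bijective
    haveI : Subsingleton (_root_.LocCoh.H (J ⊔ Ideal.span {algebraMap R R' b}) i
        ((R' ⊗[R] T) × (R' ⊗[R] U))) :=
      subsingleton_mid (f := LinearMap.inl R' _ _) (g := LinearMap.snd R' (R' ⊗[R] T) (R' ⊗[R] U))
        LinearMap.inl_injective LinearMap.snd_surjective Function.Exact.inl_snd i
    exact (Hequiv _ i ((LinearEquiv.baseChange R R' _ _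
      (Submodule.prodEquivOfIsCompl T U hc).symm).trans
      (TensorProduct.prodRight R R' R' T U))).toEquiv.subsingleton

/-- Flat base change. -/
theorem nonempty_H_baseChange (i : ℕ) : ∀ (M : Type u) [AddCommGroup M] [Module R M],
    Nonempty (R' ⊗[R] _root_.LocCoh.H I i M ≃ₗ[R']
      _root_.LocCoh.H (I.map (algebraMap R R')) i (R' ⊗[R] M)) := by
  have gam : ∀ (M : Type u) [AddCommGroup M] [Module R M],
      ∃ e : R' ⊗[R] powTorsion I M ≃ₗ[R'] powTorsion (I.map (algebraMap R R')) (R' ⊗[R] M),
        ∀ x, (e x : R' ⊗[R] M) = (powTorsion I M).subtype.baseChange R' x := by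
    intro M _ _
    refine ⟨(LinearEquiv.ofInjective ((powTorsion I M).subtype.baseChange R')
      (Module.Flat.lTensor_preserves_injective_linearMap (M := R') _ (powTorsion I M).injective_subtype)).trans
      (LinearEquiv.ofEq _ _ (powTorsion_baseChange R R' I M).symm), fun x => rfl⟩
  induction i with
  | zero =>
    intro M _ _
    obtain ⟨e, -⟩ := gam M
    exact ⟨((LinearEquiv.baseChange R R' _ _ (H0Equiv I M)).trans e).trans (H0Equiv _ _).symm⟩
  | succ i ih =>
    intro M _ _
    obtain ⟨E, _, _, f, hE, hf⟩ := exists_injective_embedding (R := R) M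
    let g : E →ₗ[R] E ⧸ LinearMap.range f := Submodule.mkQ _
    have hg : Function.Surjective g := Submodule.mkQ_surjective _
    have hfg : Function.Exact f g := LinearMap.exact_map_mkQ_range f
    have hf' : Function.Injective (f.baseChange R') :=
      Module.Flat.lTensor_preserves_injective_linearMap (M := R') f hf
    have hg' : Function.Surjective (g.baseChange R') := LinearMap.lTensor_surjective R' hg
    have hfg' : Function.Exact (f.baseChange R') (g.baseChange R') := lTensor_exact R' hfg hg
    have hac : ∀ j, Subsingleton (_root_.LocCoh.H I (j + 1) E) :=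
      fun j => subsingleton_H_of_injective E (Nat.succ_pos j)
    have hac' : ∀ j, Subsingleton (_root_.LocCoh.H (I.map (algebraMap R R')) (j + 1) (R' ⊗[R] E)) :=
      fun j => subsingleton_H_baseChange_injective R R' I E (Nat.succ_pos j)
    rcases i with - | i
    · haveI := hac 0
      haveI := hac' 0
      obtain ⟨eE, heE⟩ := gam E
      obtain ⟨eQ, heQ⟩ := gam (E ⧸ LinearMap.range f)
      have hcomm : ∀ x, eQ ((gammaMap I g).baseChange R' x) =
          gammaMap (I.map (algebraMap R R')) (g.baseChange R') (eE x) := fun x => Subtype.ext (by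
        show _ = g.baseChange R' (eE x : R' ⊗[R] E)
        rw [heQ, heE, ← LinearMap.comp_apply, ← LinearMap.baseChange_comp, ← LinearMap.comp_apply,
          ← LinearMap.baseChange_comp]
        rfl)
      let N := LinearMap.range (gammaMap I g)
      letI : AddCommGroup (powTorsion (I.map (algebraMap R R')) (R' ⊗[R] (E ⧸ LinearMap.range f))) :=
        Submodule.addCommGroup _
      let N' := LinearMap.range (gammaMap (I.map (algebraMap R R')) (g.baseChange R'))
      let Φ : R' ⊗[R] powTorsion I (E ⧸ LinearMap.range f) →ₗ[R']
          (powTorsion (I.map (algebraMap R R')) (R' ⊗[R] (E ⧸ LinearMap.range f)) ⧸ N') :=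
        (Submodule.mkQ N').comp eQ.toLinearMap
      have hΦ : Function.Surjective Φ := (Submodule.mkQ_surjective N').comp eQ.surjective
      have hΨ : Function.Surjective (N.mkQ.baseChange R') :=
        LinearMap.lTensor_surjective R' (Submodule.mkQ_surjective N)
      have hker : LinearMap.ker (N.mkQ.baseChange R') = LinearMap.ker Φ := by
        ext x
        have h1 := lTensor_exact R' (LinearMap.exact_map_mkQ_range (gammaMap I g))
          (Submodule.mkQ_surjective N) x
        constructor
        · intro hx
          obtain ⟨y, rfl⟩ := h1.1 hx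
          exact (Submodule.Quotient.mk_eq_zero N').2 ⟨eE y, (hcomm y).symm⟩
        · intro hx
          obtain ⟨z, hz⟩ := (Submodule.Quotient.mk_eq_zero N').1 hx
          obtain ⟨y, rfl⟩ := eE.surjective z
          exact h1.2 ⟨y, eQ.injective ((hcomm y).trans hz)⟩
      let q : R' ⊗[R] (powTorsion I (E ⧸ LinearMap.range f) ⧸ N) ≃ₗ[R']
          (powTorsion (I.map (algebraMap R R')) (R' ⊗[R] (E ⧸ LinearMap.range f)) ⧸ N') :=
        ((LinearMap.quotKerEquivOfSurjective _ hΨ).symm.trans (Submodule.quotEquivOfEq _ _ hker)).trans
          (LinearMap.quotKerEquivOfSurjective _ hΦ)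
      exact ⟨((LinearEquiv.baseChange R R' _ _ (H1Equiv hf hg hfg).symm).trans q).trans
        (H1Equiv hf' hg' hfg')⟩
    · obtain ⟨φ⟩ := ih (E ⧸ LinearMap.range f)
      haveI := hac i
      haveI := hac (i + 1)
      haveI := hac' i
      haveI := hac' (i + 1)
      exact ⟨((LinearEquiv.baseChange R R' _ _ (shiftEquiv hf hg hfg (i + 1)).symm).trans φ).trans
        (shiftEquiv hf' hg' hfg' (i + 1))⟩

end flat

end Groth.Agent.LocCoh
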