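import Groth.Agent.LocCoh.ConnDim
import Groth.Agent.LocCoh.ConnectednessLemma
import Groth.Agent.S0379
import Groth.Agent.LocCoh.DepthLocal
import Groth.Agent.CommAlg6.CatenaryHeight
import Groth.Agent.CommAlg6.CompletionEquidim
import Mathlib.RingTheory.Spectrum.Prime.Topology

/-!
The connectedness dimension of the spectrum of a Noetherian ring, and the connectedness theorem
for complete local rings.
-/

set_option autoImplicit false

universe u

open IsLocalRing TopologicalSpace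

namespace Groth.Agent.LocCoh

variable {R : Type u} [CommRing R]

theorem topDim_zeroLocus (J : Ideal R) :
    topologicalKrullDim ↥(PrimeSpectrum.zeroLocus (J : Set R)) = ringKrullDim (R ⧸ J) := by
  have hemb : Topology.IsEmbedding (PrimeSpectrum.comap (Ideal.Quotient.mk J)) :=
    (PrimeSpectrum.isClosedEmbedding_comap_of_surjective (R ⧸ J) (Ideal.Quotient.mk J)
      Ideal.Quotient.mk_surjective).isEmbedding
  have hrange : Set.range (PrimeSpectrum.comap (Ideal.Quotient.mk J)) = PrimeSpectrum.zeroLocus (J : Set R) := by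
    rw [range_comap_of_surjective (R ⧸ J) (Ideal.Quotient.mk J) Ideal.Quotient.mk_surjective,
      Ideal.mk_ker]
  rw [← PrimeSpectrum.topologicalKrullDim_eq_ringKrullDim]
  exact (IsHomeomorph.topologicalKrullDim_eq _
    ((hemb.toHomeomorph.trans (Homeomorph.setCongr hrange)).isHomeomorph)).symm

/-- The union of the components attached to a finite set of minimal primes. -/
theorem sUnion_image_zeroLocus (A : Finset (Ideal R)) :
    ⋃₀ ((fun p : Ideal R => PrimeSpectrum.zeroLocus (p : Set R)) '' (A : Set (Ideal R))) =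
      PrimeSpectrum.zeroLocus ((A.inf id : Ideal R) : Set R) := by
  classical
  induction A using Finset.induction with
  | empty => simp
  | @insert p A hp ih =>
    rw [Finset.coe_insert, Set.image_insert_eq, Set.sUnion_insert, ih, Finset.inf_insert,
      PrimeSpectrum.zeroLocus_inf]
    rfl

theorem zeroLocus_mem_components {p : Ideal R} (hp : p ∈ minimalPrimes R) :
    PrimeSpectrum.zeroLocus (p : Set R) ∈ irreducibleComponents (PrimeSpectrum R) := by
  rw [← PrimeSpectrum.zeroLocus_minimalPrimes]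
  exact ⟨p, hp, rfl⟩

theorem exists_minimal_of_component {C : Set (PrimeSpectrum R)}
    (hC : C ∈ irreducibleComponents (PrimeSpectrum R)) :
    ∃ p ∈ minimalPrimes R, PrimeSpectrum.zeroLocus (p : Set R) = C := by
  rw [← PrimeSpectrum.zeroLocus_minimalPrimes] at hC
  exact hC

variable [IsNoetherianRing R]

theorem connDim_spec_le {A B : Finset (Ideal R)} (hA : A.Nonempty) (hB : B.Nonempty)
    (hAB : (A : Set (Ideal R)) ∪ B = minimalPrimes R) :
    _root_.LocCoh.connDim (PrimeSpectrum R) ≤ ringKrullDim (R ⧸ (A.inf id ⊔ B.inf id)) := by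
  let V := fun p : Ideal R => PrimeSpectrum.zeroLocus (p : Set R)
  have h := connDim_le_of_partition (A := V '' (A : Set (Ideal R))) (B := V '' (B : Set (Ideal R)))
    (by rintro _ ⟨p, hp, rfl⟩; exact zeroLocus_mem_components (hAB ▸ Set.mem_union_left _ hp))
    (by rintro _ ⟨p, hp, rfl⟩; exact zeroLocus_mem_components (hAB ▸ Set.mem_union_right _ hp))
    (Set.Nonempty.image _ (Finset.coe_nonempty.2 hA)) (Set.Nonempty.image _ (Finset.coe_nonempty.2 hB))
    (by rw [← Set.image_union, hAB]; exact PrimeSpectrum.zeroLocus_minimalPrimes R)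
  rwa [sUnion_image_zeroLocus, sUnion_image_zeroLocus, ← PrimeSpectrum.zeroLocus_sup, topDim_zeroLocus] at h

theorem exists_partition_spec [Nontrivial R] :
    ∃ A B : Finset (Ideal R), A.Nonempty ∧ B.Nonempty ∧ (A : Set (Ideal R)) ∪ B = minimalPrimes R ∧
      ringKrullDim (R ⧸ (A.inf id ⊔ B.inf id)) = _root_.LocCoh.connDim (PrimeSpectrum R) := by
  classical
  obtain ⟨A, B, ⟨hA, hB, hA0, hB0, hAB⟩, hd⟩ := exists_partition_connDim (T := PrimeSpectrum R)
  let V := fun p : Ideal R => PrimeSpectrum.zeroLocus (p : Set R)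
  have hfin : (minimalPrimes R).Finite := minimalPrimes.finite_of_isNoetherianRing R
  let A' := hfin.toFinset.filter fun p => V p ∈ A
  let B' := hfin.toFinset.filter fun p => V p ∈ B
  have hmem : ∀ (S : Set (Set (PrimeSpectrum R))), S ⊆ irreducibleComponents (PrimeSpectrum R) →
      V '' ((hfin.toFinset.filter fun p => V p ∈ S : Finset (Ideal R)) : Set (Ideal R)) = S := by
    intro S hS
    ext C
    constructor
    · rintro ⟨p, hp, rfl⟩
      exact (Finset.mem_filter.1 hp).2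
    · intro hC
      obtain ⟨p, hp, rfl⟩ := exists_minimal_of_component (hS hC)
      exact ⟨p, Finset.mem_filter.2 ⟨hfin.mem_toFinset.2 hp, hC⟩, rfl⟩
  refine ⟨A', B', ?_, ?_, ?_, ?_⟩
  · obtain ⟨C, hC⟩ := hA0
    obtain ⟨p, hp, rfl⟩ := exists_minimal_of_component (hA hC)
    exact ⟨p, Finset.mem_filter.2 ⟨hfin.mem_toFinset.2 hp, hC⟩⟩
  · obtain ⟨C, hC⟩ := hB0
    obtain ⟨p, hp, rfl⟩ := exists_minimal_of_component (hB hC)
    exact ⟨p, Finset.mem_filter.2 ⟨hfin.mem_toFinset.2 hp, hC⟩⟩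
  · ext p
    simp only [Set.mem_union, A', B', Finset.coe_filter, Set.mem_setOf, Set.Finite.mem_toFinset]
    refine ⟨fun h => h.elim (fun h => h.1) (fun h => h.1), fun hp => ?_⟩
    have h : V p ∈ A ∪ B := hAB.ge (zeroLocus_mem_components hp)
    exact h.imp (fun h => ⟨hp, h⟩) (fun h => ⟨hp, h⟩)
  · rw [← hd, ← topDim_zeroLocus, PrimeSpectrum.zeroLocus_sup, ← sUnion_image_zeroLocus, ← sUnion_image_zeroLocus,
      hmem A hA, hmem B hB]

omit [IsNoetherianRing R] in
theorem subdim_le_of_minimal {p : Ideal R} (hp : p ∈ minimalPrimes R) :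
    _root_.LocCoh.subdim (PrimeSpectrum R) ≤ ringKrullDim (R ⧸ p) := by
  rw [← topDim_zeroLocus]
  exact iInf₂_le _ (zeroLocus_mem_components hp)

theorem exists_minimal_subdim [Nontrivial R] :
    ∃ p ∈ minimalPrimes R, ringKrullDim (R ⧸ p) = _root_.LocCoh.subdim (PrimeSpectrum R) := by
  obtain ⟨C, hC, hd⟩ := exists_component_subdim (T := PrimeSpectrum R)
  obtain ⟨p, hp, rfl⟩ := exists_minimal_of_component hC
  exact ⟨p, hp, (topDim_zeroLocus p).symm.trans hd⟩

variable [IsLocalRing R]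

theorem exists_mem_le_of_inf_le {A : Finset (Ideal R)} {q : Ideal R} (hq : q.IsPrime) (h : A.inf id ≤ q) :
    ∃ p ∈ A, p ≤ q := (Ideal.IsPrime.inf_le' hq).1 h

theorem dim_quotient_inf_sup_le {a b p : Ideal R} (hne : (a ⊓ b) ⊔ p ≠ ⊤) {δ : ℕ}
    (h1 : ringKrullDim (R ⧸ (a ⊔ p)) ≤ δ) (h2 : ringKrullDim (R ⧸ (b ⊔ p)) ≤ δ) :
    ringKrullDim (R ⧸ ((a ⊓ b) ⊔ p)) ≤ δ := by
  obtain ⟨q, hq, hle, hqd⟩ := exists_prime_ringKrullDim_quotient_eq (R := R) hne
  rw [← hqd]
  rcases hq.inf_le.1 (le_sup_left.trans hle) with h | h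
  · exact (ringKrullDim_le_of_surjective (Ideal.Quotient.factor (sup_le h (le_sup_right.trans hle)))
      (Ideal.Quotient.factor_surjective _)).trans h1
  · exact (ringKrullDim_le_of_surjective (Ideal.Quotient.factor (sup_le h (le_sup_right.trans hle)))
      (Ideal.Quotient.factor_surjective _)).trans h2

/-- `dim R ≤ cd(I) + dim R/I`. -/
theorem dim_le_cd_add_dim_quotient {n : ℕ} (hn : ringKrullDim R = n) : ∀ (δ : ℕ) (I : Ideal R) (k : ℕ),
    I ≠ ⊤ → ringKrullDim (R ⧸ I) ≤ δ → _root_.LocCoh.CdLE R I k → n ≤ k + δ := by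
  intro δ
  induction δ with
  | zero =>
    intro I k hI hd hk
    by_contra hcon
    have hrad : I.radical = (maximalIdeal R).radical := by
      refine le_antisymm (Ideal.radical_mono (IsLocalRing.le_maximalIdeal hI)) ?_
      refine Ideal.radical_le_radical_iff.2 ?_
      rw [Ideal.radical_eq_sInf]
      refine le_sInf ?_
      rintro q ⟨hJq, hq⟩
      haveI := hq
      by_contra hne
      have hlt : q < maximalIdeal R := lt_of_le_not_ge (IsLocalRing.le_maximalIdeal hq.ne_top) hne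
      have h1 := (CAlgH3.ringKrullDim_quotient_add_one_le hlt).trans
        ((ringKrullDim_le_of_surjective (Ideal.Quotient.factor hJq) (Ideal.Quotient.factor_surjective _)).trans hd)
      obtain ⟨e, he⟩ := exists_dim_quotient_eq (maximalIdeal R) (maximalIdeal.isMaximal R).ne_top
      rw [he] at h1
      exact absurd (show e + 1 ≤ 0 by exact_mod_cast h1) (by omega)
    haveI := hk R n (by omega)
    obtain ⟨e⟩ := nonempty_H_equiv_of_radical hrad n R
    exact not_subsingleton_iff_nontrivial.2 (nontrivial_H_ring R n hn) e.symm.toEquiv.subsingleton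
  | succ δ ih =>
    intro I k hI hd hk
    obtain ⟨e, he⟩ := exists_dim_quotient_eq I hI
    rw [he] at hd
    have hed : e ≤ δ + 1 := by exact_mod_cast hd
    by_cases h : e ≤ δ
    · have := ih I k hI (by rw [he]; exact_mod_cast h) hk
      omega
    have he' : e = δ + 1 := by omega
    rw [he'] at he
    obtain ⟨y, hym, hy⟩ := exists_parameter I
    have h1 : _root_.LocCoh.CdLE R (I ⊔ Ideal.span {y}) (k + 1) :=
      S0381.result R I (Ideal.span {y}) k 1 hk (by simpa using cdLE_span_finset ({y} : Finset R))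
    have := ih _ (k + 1) (fun h => (maximalIdeal.isMaximal R).ne_top
      (top_le_iff.1 (h ▸ sup_le (IsLocalRing.le_maximalIdeal hI) ((Ideal.span_singleton_le_iff_mem _).2 hym))))
      (dim_quotient_sup_le he hym hy) h1
    omega

variable [IsAdicComplete (maximalIdeal R) R]

theorem isLocalRing_quotient (p : Ideal R) (hp : p ≠ ⊤) : IsLocalRing (R ⧸ p) :=
  haveI := Ideal.Quotient.nontrivial_iff.2 hp
  IsLocalRing.of_surjective' (Ideal.Quotient.mk p) Ideal.Quotient.mk_surjective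

theorem dim_quot_quot (p a : Ideal R) :
    ringKrullDim ((R ⧸ p) ⧸ a.map (algebraMap R (R ⧸ p))) = ringKrullDim (R ⧸ (a ⊔ p)) := by
  rw [Ideal.Quotient.algebraMap_eq, sup_comm]
  exact ringKrullDim_eq_of_ringEquiv (DoubleQuot.quotQuotEquivQuotSup p a)

theorem map_sup_ne_top (p a : Ideal R) (hp : p ≠ ⊤) (ha : a ≠ ⊤) : a.map (algebraMap R (R ⧸ p)) ≠ ⊤ := by
  intro h
  have h2 := congrArg (Ideal.comap (Ideal.Quotient.mk p)) h
  rw [Ideal.Quotient.algebraMap_eq, Ideal.comap_map_of_surjective' _ Ideal.Quotient.mk_surjective,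
    Ideal.mk_ker, Ideal.comap_top] at h2
  exact (maximalIdeal.isMaximal R).ne_top
    (top_le_iff.1 (h2 ▸ sup_le (IsLocalRing.le_maximalIdeal ha) (IsLocalRing.le_maximalIdeal hp)))

theorem isAdicComplete_quotient' (p : Ideal R) [IsLocalRing (R ⧸ p)] :
    IsAdicComplete (maximalIdeal (R ⧸ p)) (R ⧸ p) := by
  rw [← IsLocalRing.map_maximalIdeal_of_surjective (algebraMap R (R ⧸ p)) Ideal.Quotient.mk_surjective]
  exact (IsAdicComplete.map_algebraMap_iff _ _).2 (AdicRing.isAdicComplete_of_finite _ _)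

/-- `dim R/p ≤ cd(I) + dim R/(I+p)`. -/
theorem dim_quotient_le_cd_add {p I : Ideal R} (hp : p ≠ ⊤) (hI : I ≠ ⊤) {k δ : ℕ}
    (hk : _root_.LocCoh.CdLE R I k) (hd : ringKrullDim (R ⧸ (I ⊔ p)) ≤ δ) :
    ringKrullDim (R ⧸ p) ≤ ((k + δ : ℕ) : WithBot ℕ∞) := by
  haveI := isLocalRing_quotient p hp
  obtain ⟨n, hn⟩ := exists_dim_quotient_eq p hp
  have := dim_le_cd_add_dim_quotient (R := R ⧸ p) hn δ (I.map (algebraMap R (R ⧸ p))) k (map_sup_ne_top p I hp hI)
    (by rwa [dim_quot_quot]) ((S0379.result R (R ⧸ p) I k).1 hk)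
  rw [hn]
  exact_mod_cast this

/-- The connectedness bound with two ideals. -/
theorem min_connDim_subdim_le (a b : Ideal R) (ha : a ≠ ⊤) (hb : b ≠ ⊤)
    (hab : ringKrullDim (R ⧸ (a ⊔ b)) < min (ringKrullDim (R ⧸ a)) (ringKrullDim (R ⧸ b))) (k : ℕ)
    (hk : _root_.LocCoh.CdLE R (a ⊓ b) k) :
    min (_root_.LocCoh.connDim (PrimeSpectrum R) + 1) (_root_.LocCoh.subdim (PrimeSpectrum R)) ≤
      ringKrullDim (R ⧸ (a ⊔ b)) + (k : WithBot ℕ∞) + 1 := by
  classical
  have hsupne : ∀ {c d : Ideal R}, c ≠ ⊤ → d ≠ ⊤ → c ⊔ d ≠ ⊤ := fun hc hd h => (maximalIdeal.isMaximal R).ne_top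
    (top_le_iff.1 (h ▸ sup_le (IsLocalRing.le_maximalIdeal hc) (IsLocalRing.le_maximalIdeal hd)))
  obtain ⟨δ, hδ⟩ := exists_dim_quotient_eq (a ⊔ b) (hsupne ha hb)
  rw [hδ] at hab ⊢
  have hinfne : a ⊓ b ≠ ⊤ := fun h => ha (top_le_iff.1 (h ▸ inf_le_left))
  have hfin : (minimalPrimes R).Finite := minimalPrimes.finite_of_isNoetherianRing R
  by_cases hcase : ∃ p ∈ minimalPrimes R, (δ : WithBot ℕ∞) < ringKrullDim (R ⧸ (a ⊔ p)) ∧
      (δ : WithBot ℕ∞) < ringKrullDim (R ⧸ (b ⊔ p))
  · obtain ⟨p, hp, hpa, hpb⟩ := hcase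
    haveI := hp.1.1
    haveI := isLocalRing_quotient p Ideal.IsPrime.ne_top'
    haveI := isAdicComplete_quotient' p
    obtain ⟨n, hn⟩ := exists_dim_quotient_eq p Ideal.IsPrime.ne_top'
    have hmap : (a.map (algebraMap R (R ⧸ p))) ⊔ (b.map (algebraMap R (R ⧸ p))) =
        (a ⊔ b).map (algebraMap R (R ⧸ p)) := (Ideal.map_sup _ _ _).symm
    obtain ⟨e, he⟩ := exists_dim_quotient_eq ((a ⊔ b) ⊔ p) (hsupne (hsupne ha hb) Ideal.IsPrime.ne_top')
    have heδ : (e : WithBot ℕ∞) ≤ δ := by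
      rw [← he, ← hδ]
      exact ringKrullDim_le_of_surjective (Ideal.Quotient.factor le_sup_left) (Ideal.Quotient.factor_surjective _)
    have hrad : ((a.map (algebraMap R (R ⧸ p))) ⊓ (b.map (algebraMap R (R ⧸ p)))).radical =
        ((a ⊓ b).map (algebraMap R (R ⧸ p))).radical := by
      refine le_antisymm (Ideal.radical_le_radical_iff.2 fun x hx => ⟨2, ?_⟩)
        (Ideal.radical_mono (le_inf (Ideal.map_mono inf_le_left) (Ideal.map_mono inf_le_right)))
      refine Ideal.map_mono Ideal.mul_le_inf ?_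
      rw [Ideal.map_mul, pow_two]
      exact Ideal.mul_mem_mul hx.1 hx.2
    have hcd : _root_.LocCoh.CdLE (R ⧸ p) (a.map (algebraMap R (R ⧸ p)) ⊓ b.map (algebraMap R (R ⧸ p))) k := by
      intro M _ _ i hi
      haveI := (S0379.result R (R ⧸ p) (a ⊓ b) k).1 hk M i hi
      obtain ⟨ε⟩ := nonempty_H_equiv_of_radical hrad i M
      exact ε.toEquiv.subsingleton
    have h := connectedness_lemma (R := R ⧸ p) hn e (a.map (algebraMap R (R ⧸ p))) (b.map (algebraMap R (R ⧸ p))) k
      (map_sup_ne_top p a Ideal.IsPrime.ne_top' ha) (map_sup_ne_top p b Ideal.IsPrime.ne_top' hb)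
      (by rw [hmap, dim_quot_quot, he]) (by
        rw [hmap, dim_quot_quot, dim_quot_quot, dim_quot_quot, he]
        exact lt_min (heδ.trans_lt hpa) (heδ.trans_lt hpb)) hcd
    refine (min_le_right _ _).trans ((subdim_le_of_minimal hp).trans ?_)
    rw [hn]
    have he2 : e ≤ δ := by exact_mod_cast heδ
    exact_mod_cast (by omega : n ≤ δ + k + 1)
  push Not at hcase
  let A := hfin.toFinset.filter fun p => ringKrullDim (R ⧸ (a ⊔ p)) ≤ (δ : WithBot ℕ∞)
  let B := hfin.toFinset.filter fun p => ringKrullDim (R ⧸ (b ⊔ p)) ≤ (δ : WithBot ℕ∞)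
  have hAB : (A : Set (Ideal R)) ∪ B = minimalPrimes R := by
    ext p
    simp only [Set.mem_union, A, B, Finset.coe_filter, Set.mem_setOf, Set.Finite.mem_toFinset]
    refine ⟨fun h => h.elim (fun h => h.1) (fun h => h.1), fun hp => ?_⟩
    by_cases h : ringKrullDim (R ⧸ (a ⊔ p)) ≤ (δ : WithBot ℕ∞)
    · exact Or.inl ⟨hp, h⟩
    · exact Or.inr ⟨hp, hcase p hp (not_le.1 h)⟩
  have hne : ∀ c : Ideal R, c ≠ ⊤ → (δ : WithBot ℕ∞) < ringKrullDim (R ⧸ c) →
      ∃ p ∈ minimalPrimes R, (δ : WithBot ℕ∞) < ringKrullDim (R ⧸ (c ⊔ p)) := by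
    intro c hc hlt
    obtain ⟨q, hq, hcq, hqd⟩ := exists_prime_ringKrullDim_quotient_eq (R := R) hc
    obtain ⟨p, hp, hpq⟩ := Ideal.exists_minimalPrimes_le (bot_le : (⊥ : Ideal R) ≤ q)
    exact ⟨p, hp, hlt.trans_le (hqd.ge.trans (ringKrullDim_le_of_surjective
      (Ideal.Quotient.factor (sup_le hcq hpq)) (Ideal.Quotient.factor_surjective _)))⟩
  have hB0 : B.Nonempty := by
    obtain ⟨p, hp, hlt⟩ := hne a ha (hab.trans_le (min_le_left _ _))
    exact ⟨p, Finset.mem_filter.2 ⟨hfin.mem_toFinset.2 hp, hcase p hp hlt⟩⟩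
  have hA0 : A.Nonempty := by
    obtain ⟨p, hp, hlt⟩ := hne b hb (hab.trans_le (min_le_right _ _))
    refine ⟨p, Finset.mem_filter.2 ⟨hfin.mem_toFinset.2 hp, ?_⟩⟩
    by_contra h
    exact hlt.not_ge (hcase p hp (not_le.1 h))
  refine (min_le_left _ _).trans (add_le_add ((connDim_spec_le hA0 hB0 hAB).trans ?_) le_rfl)
  have htop : A.inf id ⊔ B.inf id ≠ ⊤ := by
    obtain ⟨p, hp⟩ := hA0
    obtain ⟨p', hp'⟩ := hB0
    exact ne_top_of_le_ne_top (hsupne (hfin.mem_toFinset.1 (Finset.mem_filter.1 hp).1).1.1.ne_top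
      (hfin.mem_toFinset.1 (Finset.mem_filter.1 hp').1).1.1.ne_top) (sup_le_sup (Finset.inf_le hp) (Finset.inf_le hp'))
  obtain ⟨q, hq, hle, hqd⟩ := exists_prime_ringKrullDim_quotient_eq (R := R) htop
  obtain ⟨p, hp, hpq⟩ := exists_mem_le_of_inf_le hq (le_sup_left.trans hle)
  obtain ⟨p', hp', hp'q⟩ := exists_mem_le_of_inf_le hq (le_sup_right.trans hle)
  rw [← hqd]
  have hdq : ringKrullDim (R ⧸ ((a ⊓ b) ⊔ q)) ≤ (δ : WithBot ℕ∞) :=
    dim_quotient_inf_sup_le (hsupne hinfne hq.ne_top)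
      ((ringKrullDim_le_of_surjective (Ideal.Quotient.factor (sup_le_sup_left hpq a))
        (Ideal.Quotient.factor_surjective _)).trans (Finset.mem_filter.1 hp).2)
      ((ringKrullDim_le_of_surjective (Ideal.Quotient.factor (sup_le_sup_left hp'q b))
        (Ideal.Quotient.factor_surjective _)).trans (Finset.mem_filter.1 hp').2)
  refine (dim_quotient_le_cd_add hq.ne_top hinfne hk hdq).trans (le_of_eq ?_)
  exact_mod_cast Nat.add_comm k δ

/-- A minimal prime over an ideal with the radical of one generated by `r` elements. -/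
theorem subdim_le_dim_quotient_add (s : Finset R) {p : Ideal R}
    (hp : p ∈ (Ideal.span (s : Set R)).minimalPrimes) :
    _root_.LocCoh.subdim (PrimeSpectrum R) ≤ ringKrullDim (R ⧸ p) + (s.card : WithBot ℕ∞) := by
  classical
  haveI := hp.1.1
  obtain ⟨q, hq, hqp⟩ := Ideal.exists_minimalPrimes_le (bot_le : (⊥ : Ideal R) ≤ p)
  haveI := hq.1.1
  haveI := isLocalRing_quotient q Ideal.IsPrime.ne_top'
  haveI := isAdicComplete_quotient' q
  refine (subdim_le_of_minimal hq).trans ?_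
  let π := Ideal.Quotient.mk q
  haveI : (p.map π).IsPrime := isPrime_map_mk hqp
  have hmem : p.map π ∈ ((Ideal.span (s : Set R)).map π).minimalPrimes := by
    have hp2 : p ∈ (Ideal.span (s : Set R) ⊔ q).minimalPrimes :=
      ⟨⟨hp.1.1, sup_le hp.1.2 hqp⟩, fun r hr hrp => hp.2 ⟨hr.1, le_sup_left.trans hr.2⟩ hrp⟩
    rw [Ideal.minimalPrimes_map_of_surjective Ideal.Quotient.mk_surjective, Ideal.mk_ker]
    exact ⟨p, hp2, rfl⟩
  have hh : (p.map π).height ≤ (s.card : ℕ∞) := by
    refine (Ideal.height_le_spanRank_toENat_of_mem_minimalPrimes _ _ hmem).trans ?_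
    rw [Ideal.map_span]
    refine (Cardinal.toENat_le_natCast (n := s.card)).2 ?_
    refine (Submodule.spanRank_span_le_card _).trans ?_
    refine Cardinal.mk_image_le.trans ?_
    rw [Finset.coe_sort_coe, Cardinal.mk_coe_finset]
  have heq : EGA4.IsEquidim (R ⧸ q) := by
    intro P hP
    have hP' : P = ⊥ := le_bot_iff.1 (hP.2 ⟨Ideal.isPrime_bot, le_rfl⟩ bot_le)
    subst hP'
    exact ringKrullDim_eq_of_ringEquiv (RingEquiv.quotientBot (R ⧸ q))
  have h := CommAlg6.height_add_ringKrullDim_quotient_of_equidim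
    (CommAlg6.isCatenary_of_isAdicComplete (R ⧸ q)) heq (p.map π)
  rw [← h, ringKrullDim_eq_of_ringEquiv (DoubleQuot.quotQuotEquivQuotOfLE hqp), add_comm]
  exact add_le_add le_rfl (WithBot.coe_le_coe.2 hh)

/-- The connectedness theorem for complete local rings. -/
theorem min_connDim_subdim_le_connDim_quotient (a : Ideal R) (ha : a ≠ ⊤) (s : Finset R)
    (hs : (Ideal.span (s : Set R)).radical = a.radical) :
    min (_root_.LocCoh.connDim (PrimeSpectrum R) + 1) (_root_.LocCoh.subdim (PrimeSpectrum R)) ≤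
      _root_.LocCoh.connDim (PrimeSpectrum (R ⧸ a)) + (s.card : WithBot ℕ∞) + 1 := by
  classical
  haveI : Nontrivial (R ⧸ a) := Ideal.Quotient.nontrivial_iff.2 ha
  obtain ⟨A, B, hA, hB, hAB, hd⟩ := exists_partition_spec (R := R ⧸ a)
  let π := Ideal.Quotient.mk a
  have hπ : Function.Surjective π := Ideal.Quotient.mk_surjective
  have hinf : ∀ S : Finset (Ideal (R ⧸ a)), (S.inf id).comap π = (S.image (Ideal.comap π)).inf id := by
    intro S
    induction S using Finset.induction with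
    | empty => simp
    | @insert x S hx ih => rw [Finset.inf_insert, Finset.image_insert, Finset.inf_insert, Ideal.comap_inf, ih]; rfl
  let a' := (A.image (Ideal.comap π)).inf id
  let b' := (B.image (Ideal.comap π)).inf id
  have hdim : ringKrullDim (R ⧸ (a' ⊔ b')) = _root_.LocCoh.connDim (PrimeSpectrum (R ⧸ a)) := by
    rw [← hd, ← show (A.inf id ⊔ B.inf id).comap π = a' ⊔ b' by
      rw [← Ideal.map_comap_of_surjective π hπ (A.inf id), ← Ideal.map_comap_of_surjective π hπ (B.inf id),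
        ← Ideal.map_sup, Ideal.comap_map_of_surjective' π hπ, hinf, hinf, sup_eq_left]
      refine le_trans ?_ le_sup_left
      refine Finset.le_inf fun x hx => ?_
      obtain ⟨y, -, rfl⟩ := Finset.mem_image.1 hx
      exact Ideal.comap_mono bot_le]
    have hs' : Function.Surjective ((Ideal.Quotient.mk (A.inf id ⊔ B.inf id)).comp π) :=
      Ideal.Quotient.mk_surjective.comp hπ
    refine ringKrullDim_eq_of_ringEquiv ((Ideal.quotEquivOfEq ?_).trans (RingHom.quotientKerEquivOfSurjective hs'))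
    rw [← RingHom.comap_ker, Ideal.mk_ker]
  have hmin : ∀ p : Ideal (R ⧸ a), p ∈ A ∨ p ∈ B → p.comap π ∈ a.minimalPrimes := by
    intro p hp
    have h1 : p ∈ minimalPrimes (R ⧸ a) := hAB ▸ hp
    have h2 := Ideal.minimalPrimes_eq_comap (I := a)
    exact h2 ▸ ⟨p, h1, rfl⟩
  have hside : ∀ (S : Finset (Ideal (R ⧸ a))), (∀ p ∈ S, p.comap π ∈ a.minimalPrimes) → S.Nonempty →
      (S.image (Ideal.comap π)).inf id ≠ ⊤ ∧
      _root_.LocCoh.subdim (PrimeSpectrum R) ≤
        ringKrullDim (R ⧸ (S.image (Ideal.comap π)).inf id) + (s.card : WithBot ℕ∞) := by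
    intro S hS hS0
    obtain ⟨p, hp⟩ := hS0
    have hle := Finset.inf_le (f := id) (Finset.mem_image_of_mem (Ideal.comap π) hp)
    have hpm := hS p hp
    refine ⟨ne_top_of_le_ne_top hpm.1.1.ne_top hle, ?_⟩
    have hps : p.comap π ∈ (Ideal.span (s : Set R)).minimalPrimes := by
      rw [← Ideal.radical_minimalPrimes, hs, Ideal.radical_minimalPrimes]
      exact hpm
    exact (subdim_le_dim_quotient_add s hps).trans (add_le_add (ringKrullDim_le_of_surjective
      (Ideal.Quotient.factor hle) (Ideal.Quotient.factor_surjective _)) le_rfl)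
  obtain ⟨ha', hsa⟩ := hside A (fun p hp => hmin p (Or.inl hp)) hA
  obtain ⟨hb', hsb⟩ := hside B (fun p hp => hmin p (Or.inr hp)) hB
  have hle1 : ∀ c d : Ideal R, c ≤ d → ringKrullDim (R ⧸ d) ≤ ringKrullDim (R ⧸ c) := fun c d h =>
    ringKrullDim_le_of_surjective (Ideal.Quotient.factor h) (Ideal.Quotient.factor_surjective _)
  have hone : ∀ x : WithBot ℕ∞, x ≤ x + 1 := fun x => le_add_of_nonneg_right zero_le_one
  rw [← hdim]
  rcases (hle1 a' _ le_sup_left : ringKrullDim (R ⧸ (a' ⊔ b')) ≤ _).eq_or_lt with h1 | h1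
  · rw [h1]
    exact (min_le_right _ _).trans (hsa.trans (hone _))
  rcases (hle1 b' _ le_sup_right : ringKrullDim (R ⧸ (a' ⊔ b')) ≤ _).eq_or_lt with h2 | h2
  · rw [h2]
    exact (min_le_right _ _).trans (hsb.trans (hone _))
  have hrad : (a' ⊓ b').radical = (Ideal.span (s : Set R)).radical := by
    rw [hs]
    refine le_antisymm ?_ (Ideal.radical_mono ?_)
    · refine Ideal.radical_le_radical_iff.2 ?_
      rw [← Ideal.sInf_minimalPrimes (I := a)]
      refine le_sInf fun P hP => ?_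
      rw [Ideal.minimalPrimes_eq_comap] at hP
      obtain ⟨p, hp, rfl⟩ := hP
      rw [← hAB] at hp
      rcases hp with hp | hp
      · exact inf_le_left.trans (Finset.inf_le (f := id) (Finset.mem_image_of_mem _ hp))
      · exact inf_le_right.trans (Finset.inf_le (f := id) (Finset.mem_image_of_mem _ hp))
    · refine le_inf (Finset.le_inf fun x hx => ?_) (Finset.le_inf fun x hx => ?_)
      · obtain ⟨p, hp, rfl⟩ := Finset.mem_image.1 hx
        exact (hmin p (Or.inl hp)).1.2
      · obtain ⟨p, hp, rfl⟩ := Finset.mem_image.1 hx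
        exact (hmin p (Or.inr hp)).1.2
  have hcd : _root_.LocCoh.CdLE R (a' ⊓ b') s.card := fun M _ _ i hi => by
    haveI := cdLE_span_finset s M i hi
    obtain ⟨ε⟩ := nonempty_H_equiv_of_radical hrad i M
    exact ε.toEquiv.subsingleton
  exact min_connDim_subdim_le a' b' ha' hb' (lt_min h1 h2) s.card hcd

end Groth.Agent.LocCoh
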