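import Groth.Agent.LocCoh.Vanishing
import Mathlib.RingTheory.Depth.Rees
import Mathlib.RingTheory.Nakayama
import Mathlib.Algebra.Category.ModuleCat.Ext.Finite

/-!
`LocCoh.idealDepth` via `Ext` and via local cohomology.
-/

set_option autoImplicit false

universe u

open CategoryTheory Abelian
open scoped Pointwise

namespace Groth.Agent.LocCoh

variable {R : Type u} [CommRing R]

section ExtSMul

variable {M N : Type u} [AddCommGroup M] [Module R M] [AddCommGroup N] [Module R N] {n : ℕ}

theorem ext_smul_eq_zero_left {r : R} (h : ∀ x : M, r • x = 0)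
    (e : Ext (ModuleCat.of R M) (ModuleCat.of R N) n) : r • e = 0 := by
  have h0 : r • 𝟙 (ModuleCat.of R M) = 0 := ModuleCat.hom_ext (LinearMap.ext h)
  rw [← Ext.mk₀_id_comp e, ← Ext.smul_comp, ← Ext.mk₀_smul, h0, Ext.mk₀_zero, Ext.zero_comp]

theorem ext_smul_eq_zero_right {r : R} (h : ∀ x : N, r • x = 0)
    (e : Ext (ModuleCat.of R M) (ModuleCat.of R N) n) : r • e = 0 := by
  have h0 : r • 𝟙 (ModuleCat.of R N) = 0 := ModuleCat.hom_ext (LinearMap.ext h)
  rw [Ext.smul_eq_comp_mk₀, h0, Ext.mk₀_zero, Ext.comp_zero]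

theorem ext_smul_eq_precomp {X Y : ModuleCat.{u} R} (r : R) (e : Ext X Y n) :
    r • e = (Ext.mk₀ (r • 𝟙 X)).comp e (zero_add n) := by
  rw [Ext.mk₀_smul, Ext.smul_comp, Ext.mk₀_id_comp]

theorem subsingleton_ext_of_smul_eq_zero {r : R} (hr : ∀ x : N, r • x = 0)
    (h : ∀ x : M, r • x = x) : Subsingleton (Ext (ModuleCat.of R M) (ModuleCat.of R N) n) := by
  refine subsingleton_of_forall_eq 0 fun e => ?_
  have h1 : ∀ x : M, (1 - r) • x = 0 := fun x => by rw [sub_smul, one_smul, h, sub_self]
  have h2 := ext_smul_eq_zero_left h1 e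
  rwa [sub_smul, one_smul, ext_smul_eq_zero_right hr e, sub_zero] at h2

end ExtSMul

section quotSMul

variable {M N : Type u} [AddCommGroup M] [Module R M] [AddCommGroup N] [Module R N] {x : R}

theorem smulTop_exact (x : R) (M : Type u) [AddCommGroup M] [Module R M] :
    Function.Exact (x • LinearMap.id : M →ₗ[R] M) (Submodule.mkQ (x • (⊤ : Submodule R M))) :=
  fun y => by
    rw [Submodule.mkQ_apply, Submodule.Quotient.mk_eq_zero]
    exact ⟨fun hy => by
      obtain ⟨z, -, rfl⟩ := hy
      exact ⟨z, rfl⟩, fun ⟨z, hz⟩ => by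
      rw [← hz]
      exact Submodule.smul_mem_pointwise_smul z x ⊤ trivial⟩

theorem ext_quotSMul_subsingleton (hx : IsSMulRegular M x) (i : ℕ)
    (h₁ : Subsingleton (Ext (ModuleCat.of R N) (ModuleCat.of R M) i))
    (h₂ : Subsingleton (Ext (ModuleCat.of R N) (ModuleCat.of R M) (i + 1))) :
    Subsingleton (Ext (ModuleCat.of R N) (ModuleCat.of R (QuotSMulTop x M)) i) := by
  have hS : (ModuleCat.smulShortComplex (ModuleCat.of R M) x).ShortExact :=
    IsSMulRegular.smulShortComplex_shortExact (M := ModuleCat.of R M) hx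
  refine subsingleton_of_forall_eq 0 fun e => ?_
  obtain ⟨y, hy⟩ := Ext.covariant_sequence_exact₃ (ModuleCat.of R N) hS e rfl
    (@Subsingleton.elim _ h₂ _ _)
  have hy0 : y = 0 := @Subsingleton.elim _ h₁ y 0
  rw [← hy, hy0, Ext.zero_comp]
  rfl

theorem ext_smul_injective (hx : IsSMulRegular M x) (i : ℕ)
    (h : Subsingleton (Ext (ModuleCat.of R N) (ModuleCat.of R (QuotSMulTop x M)) i))
    (e : Ext (ModuleCat.of R N) (ModuleCat.of R M) (i + 1)) (he : x • e = 0) : e = 0 := by
  have hS : (ModuleCat.smulShortComplex (ModuleCat.of R M) x).ShortExact :=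
    IsSMulRegular.smulShortComplex_shortExact (M := ModuleCat.of R M) hx
  obtain ⟨y, hy⟩ := Ext.covariant_sequence_exact₁ (ModuleCat.of R N) hS e
    ((congrArg (fun φ : ModuleCat.of R M ⟶ ModuleCat.of R M => e.comp (Ext.mk₀ φ) (add_zero (i + 1)))
      (ModuleCat.smulShortComplex_f_eq_smul_id (M := ModuleCat.of R M) x)).trans ((Ext.smul_eq_comp_mk₀ e x).symm.trans he))
    (rfl : i + 1 = i + 1)
  have hy0 : y = 0 := @Subsingleton.elim _ h y 0
  rw [← hy, hy0, Ext.zero_comp]
  rfl

theorem H_quotSMul_subsingleton (hx : IsSMulRegular M x) {I : Ideal R} (i : ℕ)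
    (h₁ : Subsingleton (_root_.LocCoh.H I i M)) (h₂ : Subsingleton (_root_.LocCoh.H I (i + 1) M)) :
    Subsingleton (_root_.LocCoh.H I i (QuotSMulTop x M)) :=
  subsingleton_right (f := x • (LinearMap.id : M →ₗ[R] M)) (fun _ _ h => hx h)
    (Submodule.mkQ_surjective _) (smulTop_exact x M) i

end quotSMul

variable [IsNoetherianRing R] (I : Ideal R) (M : Type u) [AddCommGroup M] [Module R M]
  [Module.Finite R M]

open RingTheory.Sequence

theorem exists_smul_eq_zero_of_smul_top_eq_top (h : I • (⊤ : Submodule R M) = ⊤) :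
    ∃ r : R, r - 1 ∈ I ∧ ∀ x : M, r • x = 0 := by
  obtain ⟨r, hr, hr'⟩ := Submodule.exists_sub_one_mem_and_smul_eq_zero_of_fg_of_le_smul I
    (⊤ : Submodule R M) Module.Finite.fg_top h.ge
  exact ⟨r, hr, fun x => hr' x trivial⟩

theorem exists_kills_and_id_on_quot_pow (h : I • (⊤ : Submodule R M) = ⊤) (m : ℕ) :
    ∃ r : R, (∀ x : M, r • x = 0) ∧ ∀ x : R ⧸ I ^ m, r • x = x := by
  obtain ⟨r, hr, hr'⟩ := exists_smul_eq_zero_of_smul_top_eq_top I M h
  obtain ⟨c, hc⟩ := sub_dvd_pow_sub_pow (1 : R) (1 - r) m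
  refine ⟨1 - (1 - r) ^ m, fun x => ?_, fun x => ?_⟩
  · rw [one_pow] at hc
    rw [hc, sub_sub_cancel, mul_comm, mul_smul, hr', smul_zero]
  · obtain ⟨y, rfl⟩ := Submodule.Quotient.mk_surjective _ x
    rw [← Submodule.Quotient.mk_smul, Submodule.Quotient.eq, smul_eq_mul]
    rw [show (1 - (1 - r) ^ m) * y - y = -y * (1 - r) ^ m by ring]
    refine Ideal.mul_mem_left _ _ (Ideal.pow_mem_pow ?_ m)
    rw [← neg_sub]
    exact I.neg_mem hr

theorem idealDepth_eq_top (h : I • (⊤ : Submodule R M) = ⊤) :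
    _root_.LocCoh.idealDepth I M = ⊤ := by
  rw [_root_.LocCoh.idealDepth, if_pos h]

/-- Depth via regular sequences. -/
theorem natCast_le_idealDepth_iff_exists (h : I • (⊤ : Submodule R M) ≠ ⊤) (n : ℕ) :
    (n : ℕ∞) ≤ _root_.LocCoh.idealDepth I M ↔
      ∃ rs : List R, n ≤ rs.length ∧ (∀ r ∈ rs, r ∈ I) ∧ IsRegular M rs := by
  have hreg : ∀ rs : List R, IsWeaklyRegular M rs → (∀ r ∈ rs, r ∈ I) → IsRegular M rs :=
    fun rs hw hm => ⟨hw, fun heq => h (eq_top_iff.2 (heq.le.trans (Submodule.smul_mono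
      (Ideal.span_le.2 fun r hr => hm r hr) le_rfl)))⟩
  rw [_root_.LocCoh.idealDepth, if_neg h]
  constructor
  · intro hn
    rcases n with - | n
    · exact ⟨[], le_rfl, by simp, hreg [] (IsWeaklyRegular.nil R M) (by simp)⟩
    have hn' : (n : ℕ∞) < ⨆ (rs : List R) (_ : IsWeaklyRegular M rs ∧ ∀ r ∈ rs, r ∈ I),
        (rs.length : ℕ∞) := lt_of_lt_of_le (by exact_mod_cast Nat.lt_succ_self n) hn
    simp only [lt_iSup_iff] at hn'
    obtain ⟨rs, ⟨hw, hm⟩, hlt⟩ := hn'
    exact ⟨rs, by exact_mod_cast hlt, hm, hreg rs hw hm⟩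
  · rintro ⟨rs, hle, hm, hr⟩
    exact le_iSup₂_of_le rs ⟨hr.toIsWeaklyRegular, hm⟩ (by exact_mod_cast hle)

theorem nontrivial_quotient_of_smul_top_ne_top (h : I • (⊤ : Submodule R M) ≠ ⊤) : I ≠ ⊤ :=
  fun e => h (by rw [e, Submodule.top_smul])

/-- Depth via `Ext`. -/
theorem natCast_le_idealDepth_iff_ext (n : ℕ) :
    (n : ℕ∞) ≤ _root_.LocCoh.idealDepth I M ↔
      ∀ i < n, Subsingleton (Ext (ModuleCat.of R (R ⧸ I)) (ModuleCat.of R M) i) := by
  by_cases h : I • (⊤ : Submodule R M) = ⊤
  · obtain ⟨r, h1, h2⟩ := exists_kills_and_id_on_quot_pow I M h 1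
    rw [idealDepth_eq_top I M h]
    simp only [le_top, true_iff]
    intro i _
    refine subsingleton_ext_of_smul_eq_zero h1 fun x => ?_
    obtain ⟨y, rfl⟩ := Submodule.Quotient.mk_surjective _ x
    have := h2 (Submodule.Quotient.mk y)
    rw [← Submodule.Quotient.mk_smul, Submodule.Quotient.eq] at this ⊢
    rwa [pow_one] at this
  have hlt : I • (⊤ : Submodule R (ModuleCat.of R M)) < ⊤ := lt_top_iff_ne_top.2 h
  have hN : Nontrivial (R ⧸ I) :=
    Submodule.Quotient.nontrivial_iff.2 (nontrivial_quotient_of_smul_top_ne_top I M h)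
  have hsupp : Module.support R (R ⧸ I) = PrimeSpectrum.zeroLocus I := by
    rw [Module.support_eq_zeroLocus, Ideal.annihilator_quotient]
  rw [natCast_le_idealDepth_iff_exists I M h]
  constructor
  · rintro ⟨rs, hle, hm, hr⟩ i hi
    exact ModuleCat.subsingleton_ext_of_exists_isRegular I (ModuleCat.of R (R ⧸ I)) hsupp.subset
      (ModuleCat.of R M) hlt rs hm hr i (hi.trans_le hle)
  · intro hext
    obtain ⟨rs, hlen, hm, hr⟩ := ModuleCat.exists_isRegular_of_exists_subsingleton_ext I n
      (ModuleCat.of R M) hlt (ModuleCat.of R (R ⧸ I)) hsupp hext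
    exact ⟨rs, hlen.ge, hm, hr⟩

theorem subsingleton_ext_pow_of_le_idealDepth {n : ℕ}
    (h : (n : ℕ∞) ≤ _root_.LocCoh.idealDepth I M) (m i : ℕ) (hi : i < n) :
    Subsingleton (Ext (Q I m) (ModuleCat.of R M) i) := by
  by_cases hT : I • (⊤ : Submodule R M) = ⊤
  · obtain ⟨r, h1, h2⟩ := exists_kills_and_id_on_quot_pow I M hT m
    exact subsingleton_ext_of_smul_eq_zero h1 h2
  obtain ⟨rs, hle, hm, hr⟩ := (natCast_le_idealDepth_iff_exists I M hT n).1 h
  refine ModuleCat.subsingleton_ext_of_exists_isRegular I (Q I m) ?_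
    (ModuleCat.of R M) (lt_top_iff_ne_top.2 hT) rs hm hr i (hi.trans_le hle)
  rw [Module.support_eq_zeroLocus]
  show PrimeSpectrum.zeroLocus (Module.annihilator R (R ⧸ I ^ m) : Set R) ⊆ _
  rw [Ideal.annihilator_quotient]
  intro p hp a ha
  exact p.2.mem_of_pow_mem m (hp (Ideal.pow_mem_pow ha m))

theorem ext_vanishing_of_H_vanishing (n : ℕ) :
    ∀ (M : Type u) [AddCommGroup M] [Module R M] [Module.Finite R M],
      (∀ i < n, Subsingleton (_root_.LocCoh.H I i M)) →
      ∀ i < n, Subsingleton (Ext (ModuleCat.of R (R ⧸ I)) (ModuleCat.of R M) i) := by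
  induction n with
  | zero => intro M _ _ _ _ i hi; omega
  | succ n ih =>
    intro M _ _ _ h i hi
    obtain ⟨x, hxI, hx⟩ :=
      exists_regular_of_powTorsion_eq_bot (subsingleton_H0_iff.1 (h 0 (Nat.succ_pos n)))
    have hkill : ∀ q : R ⧸ I, x • q = 0 := fun q => by
      obtain ⟨y, rfl⟩ := Submodule.Quotient.mk_surjective _ q
      rw [← Submodule.Quotient.mk_smul]
      exact (Submodule.Quotient.mk_eq_zero _).2 (Ideal.mul_mem_right _ _ hxI)
    rcases i with - | i
    · haveI := IsSMulRegular.linearMap_subsingleton_of_mem_annihilator (N := R ⧸ I) hx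
        (Module.mem_annihilator.2 hkill)
      exact (Ext.addEquiv₀.trans ModuleCat.homAddEquiv).subsingleton
    · have hq : ∀ j < n, Subsingleton (_root_.LocCoh.H I j (QuotSMulTop x M)) := fun j hj =>
        H_quotSMul_subsingleton hx j (h j (by omega)) (h (j + 1) (by omega))
      exact subsingleton_of_forall_eq 0 fun e => ext_smul_injective hx i
        (ih (QuotSMulTop x M) hq i (by omega)) e (ext_smul_eq_zero_left hkill e)

/-- Depth via local cohomology. -/
theorem natCast_le_idealDepth_iff_H (n : ℕ) :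
    (n : ℕ∞) ≤ _root_.LocCoh.idealDepth I M ↔
      ∀ i < n, Subsingleton (_root_.LocCoh.H I i M) := by
  refine ⟨fun h i hi => subsingleton_H_of_ext fun m =>
    subsingleton_ext_pow_of_le_idealDepth I M h m i hi, fun h => ?_⟩
  rw [natCast_le_idealDepth_iff_ext]
  exact ext_vanishing_of_H_vanishing I n M h

theorem idealDepth_eq_nat_iff (n : ℕ) :
    _root_.LocCoh.idealDepth I M = n ↔
      (n : ℕ∞) ≤ _root_.LocCoh.idealDepth I M ∧ ¬ ((n + 1 : ℕ) : ℕ∞) ≤ _root_.LocCoh.idealDepth I M := by
  generalize _root_.LocCoh.idealDepth I M = d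
  induction d using ENat.recTopCoe with
  | top => simp
  | coe d => norm_cast; omega

theorem idealDepth_eq_iff_H (n : ℕ) :
    _root_.LocCoh.idealDepth I M = n ↔
      (∀ i < n, Subsingleton (_root_.LocCoh.H I i M)) ∧ Nontrivial (_root_.LocCoh.H I n M) := by
  rw [idealDepth_eq_nat_iff, natCast_le_idealDepth_iff_H, natCast_le_idealDepth_iff_H,
    ← not_subsingleton_iff_nontrivial]
  refine and_congr_right fun h => not_congr ⟨fun h' => h' n (Nat.lt_succ_self n), fun h' i hi => ?_⟩
  rcases Nat.lt_succ_iff_lt_or_eq.1 hi with hi | rfl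
  exacts [h i hi, h']

theorem idealDepth_eq_iff_ext (n : ℕ) :
    _root_.LocCoh.idealDepth I M = n ↔
      (∀ i < n, Subsingleton (Ext (ModuleCat.of R (R ⧸ I)) (ModuleCat.of R M) i)) ∧
        Nontrivial (Ext (ModuleCat.of R (R ⧸ I)) (ModuleCat.of R M) n) := by
  rw [idealDepth_eq_nat_iff, natCast_le_idealDepth_iff_ext, natCast_le_idealDepth_iff_ext,
    ← not_subsingleton_iff_nontrivial]
  refine and_congr_right fun h => not_congr ⟨fun h' => h' n (Nat.lt_succ_self n), fun h' i hi => ?_⟩
  rcases Nat.lt_succ_iff_lt_or_eq.1 hi with hi | rfl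
  exacts [h i hi, h']

theorem idealDepth_quotSMulTop_add_one {x : R} (hx : x ∈ I) (hreg : IsSMulRegular M x) :
    _root_.LocCoh.idealDepth I (QuotSMulTop x M) + 1 = _root_.LocCoh.idealDepth I M := by
  have hkill : ∀ q : R ⧸ I, x • q = 0 := fun q => by
    obtain ⟨y, rfl⟩ := Submodule.Quotient.mk_surjective _ q
    rw [← Submodule.Quotient.mk_smul]
    exact (Submodule.Quotient.mk_eq_zero _).2 (Ideal.mul_mem_right _ _ hx)
  have key : ∀ n : ℕ, (n : ℕ∞) ≤ _root_.LocCoh.idealDepth I (QuotSMulTop x M) ↔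
      ((n + 1 : ℕ) : ℕ∞) ≤ _root_.LocCoh.idealDepth I M := by
    intro n
    rw [natCast_le_idealDepth_iff_ext, natCast_le_idealDepth_iff_ext]
    refine ⟨fun h i hi => ?_, fun h i hi =>
      ext_quotSMul_subsingleton hreg i (h i (by omega)) (h (i + 1) (by omega))⟩
    rcases i with - | i
    · haveI := IsSMulRegular.linearMap_subsingleton_of_mem_annihilator (N := R ⧸ I) hreg
        (Module.mem_annihilator.2 hkill)
      exact (Ext.addEquiv₀.trans ModuleCat.homAddEquiv).subsingleton
    · exact subsingleton_of_forall_eq 0 fun e =>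
        ext_smul_injective hreg i (h i (by omega)) e (ext_smul_eq_zero_left hkill e)
  refine ENat.eq_of_forall_natCast_le_iff fun n => ?_
  rcases n with - | n
  · simp
  · rw [← key n]
    push_cast
    exact WithTop.add_le_add_iff_right ENat.one_ne_top

/-- Depth along short exact sequences. -/
theorem idealDepth_shortExact (N' N N'' : Type u) [AddCommGroup N'] [Module R N'] [Module.Finite R N']
    [AddCommGroup N] [Module R N] [Module.Finite R N]
    [AddCommGroup N''] [Module R N''] [Module.Finite R N''] (f : N' →ₗ[R] N) (g : N →ₗ[R] N'')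
    (hf : Function.Injective f) (hg : Function.Surjective g) (hfg : Function.Exact f g) :
    min (_root_.LocCoh.idealDepth I N') (_root_.LocCoh.idealDepth I N'') ≤
        _root_.LocCoh.idealDepth I N ∧
      min (_root_.LocCoh.idealDepth I N) (_root_.LocCoh.idealDepth I N' - 1) ≤
        _root_.LocCoh.idealDepth I N'' ∧
      min (_root_.LocCoh.idealDepth I N) (_root_.LocCoh.idealDepth I N'' + 1) ≤
        _root_.LocCoh.idealDepth I N' := by
  have le_of : ∀ {a b : ℕ∞}, (∀ n : ℕ, (n : ℕ∞) ≤ a → (n : ℕ∞) ≤ b) → a ≤ b := fun h =>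
    ENat.forall_natCast_le_iff_le.1 h
  refine ⟨le_of fun n hn => ?_, le_of fun n hn => ?_, le_of fun n hn => ?_⟩ <;>
    rw [le_min_iff] at hn <;> rw [natCast_le_idealDepth_iff_H] <;> intro i hi
  · haveI := (natCast_le_idealDepth_iff_H I N' n).1 hn.1 i hi
    haveI := (natCast_le_idealDepth_iff_H I N'' n).1 hn.2 i hi
    exact subsingleton_mid hf hg hfg i
  · have h2 : ((n + 1 : ℕ) : ℕ∞) ≤ _root_.LocCoh.idealDepth I N' := by
      generalize _root_.LocCoh.idealDepth I N' = d at hn
      induction d using ENat.recTopCoe with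
      | top => exact le_top
      | coe d =>
        have := hn.2
        norm_cast at this ⊢
        omega
    haveI := (natCast_le_idealDepth_iff_H I N n).1 hn.1 i hi
    haveI := (natCast_le_idealDepth_iff_H I N' (n + 1)).1 h2 (i + 1) (by omega)
    exact subsingleton_right hf hg hfg i
  · rcases i with - | i
    · haveI := (natCast_le_idealDepth_iff_H I N n).1 hn.1 0 hi
      exact (Hmap_zero_injective (I := I) hf hg hfg).subsingleton
    · have h2 : ((n - 1 : ℕ) : ℕ∞) ≤ _root_.LocCoh.idealDepth I N'' := by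
        generalize _root_.LocCoh.idealDepth I N'' = d at hn
        induction d using ENat.recTopCoe with
        | top => exact le_top
        | coe d =>
          have := hn.2
          norm_cast at this ⊢
          omega
      haveI := (natCast_le_idealDepth_iff_H I N n).1 hn.1 (i + 1) hi
      haveI := (natCast_le_idealDepth_iff_H I N'' (n - 1)).1 h2 i (by omega)
      exact subsingleton_left_succ hf hg hfg i

section ischebeck

variable [IsLocalRing R]

omit [IsNoetherianRing R] in
theorem smul_top_ne_top_of_nontrivial [Nontrivial M] {J : Ideal R} (hJ : J ≠ ⊤) :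
    J • (⊤ : Submodule R M) ≠ ⊤ :=
  (Submodule.top_ne_ideal_smul_of_le_jacobson_annihilator
    ((IsLocalRing.le_maximalIdeal hJ).trans (IsLocalRing.maximalIdeal_le_jacobson _))).symm

theorem subsingleton_ext_of_supportDim_add_lt {d : ℕ}
    (hd : (d : ℕ∞) ≤ _root_.LocCoh.depth R M) :
    ∀ (r : ℕ) (N : Type u) [AddCommGroup N] [Module R N] [Module.Finite R N],
      Module.supportDim R N ≤ (r : WithBot ℕ∞) → ∀ i, i + r < d →
      Subsingleton (Ext (ModuleCat.of R N) (ModuleCat.of R M) i) := by
  intro r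
  induction r using Nat.strong_induction_on with
  | _ r ih =>
    intro N _ _ hN
    refine IsNoetherianRing.induction_on_isQuotientEquivQuotientPrime R (M := N) hN
      (motive := fun L _ _ _ => Module.supportDim R L ≤ (r : WithBot ℕ∞) → ∀ i, i + r < d →
        Subsingleton (Ext (ModuleCat.of R L) (ModuleCat.of R M) i)) ?_ ?_ ?_
    · intro L _ _ _ _ _ i _
      haveI := ModuleCat.isZero_of_subsingleton (ModuleCat.of R L)
      have h0 : 𝟙 (ModuleCat.of R L) = 0 := this.eq_of_src _ _
      exact subsingleton_of_forall_eq 0 fun e => by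
        rw [← Ext.mk₀_id_comp e, h0, Ext.mk₀_zero, Ext.zero_comp]
    · intro L _ _ _ p e hL i hi
      haveI hp := p.2
      have htriv : IsLocalRing.maximalIdeal R ≤ p.1 →
          Subsingleton (Ext (ModuleCat.of R L) (ModuleCat.of R M) i) := fun hle => by
        have hpm : p.1 = IsLocalRing.maximalIdeal R :=
          le_antisymm (IsLocalRing.le_maximalIdeal hp.ne_top) hle
        let e' : ModuleCat.of R L ≅ ModuleCat.of R (R ⧸ IsLocalRing.maximalIdeal R) :=
          (e.trans (Submodule.quotEquivOfEq _ _ hpm)).toModuleIso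
        haveI := (natCast_le_idealDepth_iff_ext (IsLocalRing.maximalIdeal R) M d).1 hd i (by omega)
        refine subsingleton_of_forall_eq 0 fun z => ?_
        rw [← Ext.mk₀_id_comp z, ← e'.hom_inv_id, ← Ext.mk₀_comp_mk₀, Ext.comp_assoc_of_second_deg_zero,
          Subsingleton.elim ((Ext.mk₀ e'.inv).comp z (zero_add i)) 0, Ext.comp_zero]
      by_cases hle : IsLocalRing.maximalIdeal R ≤ p.1
      · exact htriv hle
      obtain ⟨x, hxm, hxp⟩ := Set.not_subset.1 hle
      have hxreg : IsSMulRegular L x := by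
        intro a b hab
        apply e.injective
        have hab' : x • e a = x • e b := by rw [← map_smul, ← map_smul]; exact congrArg e hab
        obtain ⟨a', ha'⟩ := Submodule.Quotient.mk_surjective _ (e a)
        obtain ⟨b', hb'⟩ := Submodule.Quotient.mk_surjective _ (e b)
        rw [← ha', ← hb', ← Submodule.Quotient.mk_smul, ← Submodule.Quotient.mk_smul,
          Submodule.Quotient.eq, ← smul_sub] at hab'
        rw [← ha', ← hb', Submodule.Quotient.eq]
        exact (hp.mem_or_mem hab').resolve_left hxp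
      have hq : Module.supportDim R (QuotSMulTop x L) + 1 ≤ (r : WithBot ℕ∞) :=
        (Module.supportDim_quotSMulTop_succ_le_of_notMem_minimalPrimes (fun q hq' hxq => by
          have hann : Module.annihilator R L = p.1 := by
            rw [e.annihilator_eq, Ideal.annihilator_quotient]
          rw [hann, Ideal.minimalPrimes_eq_subsingleton_self] at hq'
          exact hxp (hq' ▸ hxq))).trans hL
      rcases r with - | r
      · haveI : Nontrivial (R ⧸ p.1) := Submodule.Quotient.nontrivial_iff.2 hp.ne_top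
        haveI : Nontrivial L := e.toEquiv.nontrivial
        haveI : Nontrivial (QuotSMulTop x L) :=
          Submodule.Quotient.nontrivial_iff.2 (by
            rw [← Submodule.ideal_span_singleton_smul]
            exact smul_top_ne_top_of_nontrivial L fun h => (IsLocalRing.maximalIdeal.isMaximal R).ne_top
              (eq_top_iff.2 (h ▸ (Ideal.span_singleton_le_iff_mem _).2 hxm)))
        obtain ⟨k, hk⟩ := WithBot.ne_bot_iff_exists.1
          (Module.supportDim_ne_bot_of_nontrivial R (QuotSMulTop x L))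
        rw [← hk, ← WithBot.coe_one, ← WithBot.coe_add, Nat.cast_zero, ← WithBot.coe_zero,
          WithBot.coe_le_coe] at hq
        simp at hq
      have hq' : Module.supportDim R (QuotSMulTop x L) ≤ (r : WithBot ℕ∞) := by
        revert hq
        generalize Module.supportDim R (QuotSMulTop x L) = k
        intro hq
        induction k using WithBot.recBotCoe with
        | bot => exact bot_le
        | coe k =>
          induction k using ENat.recTopCoe with
          | top => exact absurd hq (not_le_of_gt (lt_of_lt_of_eq (WithBot.coe_lt_coe.2 (ENat.coe_lt_top (r + 1))) (by simp; rfl)))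
          | coe k => norm_cast at hq ⊢; omega
      haveI : Module.Finite R (Ext (ModuleCat.of R L) (ModuleCat.of R M) i) := inferInstance
      have hsurj : ∀ z : Ext (ModuleCat.of R L) (ModuleCat.of R M) i, ∃ y, x • y = z := fun z => by
        have hS := IsSMulRegular.smulShortComplex_shortExact (M := ModuleCat.of R L) hxreg
        haveI := ih r (Nat.lt_succ_self r) (QuotSMulTop x L) hq' (i + 1) (by omega)
        obtain ⟨y, hy⟩ := Ext.contravariant_sequence_exact₁ hS (ModuleCat.of R M) z (add_comm 1 i)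
          (@Subsingleton.elim _ this _ _)
        refine ⟨y, ?_⟩
        refine Eq.trans ?_ hy
        exact ext_smul_eq_precomp x y
      refine subsingleton_of_forall_eq 0 fun z => ?_
      have htop : (⊤ : Submodule R (Ext (ModuleCat.of R L) (ModuleCat.of R M) i)) = ⊥ := by
        refine Submodule.eq_bot_of_le_smul_of_le_jacobson_bot (Ideal.span {x}) _ Module.Finite.fg_top
          (fun w _ => ?_) ((Ideal.span_singleton_le_iff_mem _).2
            (IsLocalRing.maximalIdeal_le_jacobson _ hxm))
        obtain ⟨y, rfl⟩ := hsurj w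
        exact Submodule.smul_mem_smul (Ideal.mem_span_singleton_self x) trivial
      exact (Submodule.mem_bot R).1 (htop ▸ (trivial : z ∈ (⊤ : Submodule R _)))
    · intro L₁ _ _ _ L₂ _ _ _ L₃ _ _ _ f g hf hg hfg h1 h3 h2 i hi
      haveI := h1 ((Module.supportDim_le_of_injective f hf).trans h2) i hi
      haveI := h3 ((Module.supportDim_le_of_surjective g hg).trans h2) i hi
      refine subsingleton_of_forall_eq 0 fun e => ?_
      obtain ⟨y, hy⟩ := Ext.contravariant_sequence_exact₂ (shortExact_of hf hg hfg) (ModuleCat.of R M) e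
        (Subsingleton.elim _ _)
      have hy0 : y = 0 := Subsingleton.elim _ _
      rw [← hy, hy0, Ext.comp_zero]

end ischebeck

end Groth.Agent.LocCoh
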