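import Groth.Agent.LocCoh.Basic
import Groth.Prelude.Def_Wider
import Mathlib.Algebra.Category.ModuleCat.Injective
import Mathlib.RingTheory.Noetherian.Basic
import Mathlib.Algebra.Homology.ShortComplex.ModuleCat

/-!
Local cohomology `LocCoh.H I i M`: functoriality, long exact sequence, degree zero, injectives,
vanishing criteria.
-/

set_option autoImplicit false

universe u v

open CategoryTheory Limits Opposite Abelian

namespace Groth.Agent.LocCoh

section instances

variable {R : Type u} [CommRing R] {D : Type} [SmallCategory D]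

instance forgetPreservesOfFiltered [IsFiltered Dᵒᵖ] :
    PreservesColimitsOfShape Dᵒᵖ (forget (ModuleCat.{u} R)) :=
  haveI : IsFiltered (AsSmall.{u} Dᵒᵖ) := IsFiltered.of_equivalence (AsSmall.equiv (C := Dᵒᵖ))
  preservesColimitsOfShape_of_equiv (AsSmall.equiv (C := Dᵒᵖ)).symm _

end instances

variable {R : Type u} [CommRing R] (I : Ideal R)

/-- The stage `R/I^n`. -/
noncomputable abbrev Q (n : ℕ) : ModuleCat.{u} R := ModuleCat.of R (R ⧸ I ^ n)

/-- The transition map `R/I^n → R/I^m` for `m ≤ n`. -/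
noncomputable abbrev qmap {m n : ℕ} (h : m ≤ n) : Q I n ⟶ Q I m :=
  ModuleCat.ofHom (Submodule.mapQ (I ^ n) (I ^ m) LinearMap.id (Ideal.pow_le_pow_right h))

section
variable {I}
variable {M N P : Type u} [AddCommGroup M] [Module R M] [AddCommGroup N] [Module R N]
  [AddCommGroup P] [Module R P]

/-- The class of an element of `Ext^i(R/I^n, M)` in `H^i_I(M)`. -/
noncomputable def cls (n i : ℕ) :
    Ext (Q I n) (ModuleCat.of R M) i →ₗ[R] _root_.LocCoh.H I i M :=
  toH (F := localCohomology.idealPowersDiagram I) (op n) i (ModuleCat.of R M)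

variable (I) in
/-- Functoriality of local cohomology. -/
noncomputable def Hmap (i : ℕ) (f : M →ₗ[R] N) :
    _root_.LocCoh.H I i M →ₗ[R] _root_.LocCoh.H I i N :=
  ((localCohomology I i).map (ModuleCat.ofHom f)).hom

theorem Hmap_cls (n i : ℕ) (f : M →ₗ[R] N) (x : Ext (Q I n) (ModuleCat.of R M) i) :
    Hmap I i f (cls n i x) = cls n i (x.comp (Ext.mk₀ (ModuleCat.ofHom f)) (add_zero i)) :=
  toH_map (F := localCohomology.idealPowersDiagram I) (ModuleCat.ofHom f) x

theorem cls_qmap {m n : ℕ} (h : m ≤ n) (i : ℕ) (x : Ext (Q I m) (ModuleCat.of R M) i) :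
    cls n i ((Ext.mk₀ (qmap I h)).comp x (zero_add i)) = cls m i x :=
  toH_pre (F := localCohomology.idealPowersDiagram I) (homOfLE h).op x

theorem exists_cls {i : ℕ} (h : _root_.LocCoh.H I i M) :
    ∃ (n : ℕ) (x : Ext (Q I n) (ModuleCat.of R M) i), cls n i x = h := by
  obtain ⟨d, x, hx⟩ := exists_toH (F := localCohomology.idealPowersDiagram I) h
  exact ⟨d.unop, x, hx⟩

theorem cls_eq_zero_iff {n i : ℕ} (x : Ext (Q I n) (ModuleCat.of R M) i) :
    cls n i x = 0 ↔
      ∃ (m : ℕ) (h : n ≤ m), (Ext.mk₀ (qmap I h)).comp x (zero_add i) = 0 := by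
  refine (toH_eq_zero_iff (F := localCohomology.idealPowersDiagram I) x).trans ⟨?_, ?_⟩
  · rintro ⟨d, w, hw⟩
    exact ⟨d.unop, leOfHom w.unop, hw⟩
  · rintro ⟨m, h, hm⟩
    exact ⟨op m, (homOfLE h).op, hm⟩

theorem Hext {T : Type*} [AddCommGroup T] [Module R T] {i : ℕ}
    {φ ψ : _root_.LocCoh.H I i M →ₗ[R] T}
    (h : ∀ (n : ℕ) (x : Ext (Q I n) (ModuleCat.of R M) i), φ (cls n i x) = ψ (cls n i x)) : φ = ψ :=
  LinearMap.ext fun a => by obtain ⟨n, x, rfl⟩ := exists_cls a; exact h n x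

@[simp] theorem Hmap_id (i : ℕ) : Hmap I i (LinearMap.id : M →ₗ[R] M) = LinearMap.id :=
  Hext fun n x => by rw [Hmap_cls, ModuleCat.ofHom_id, Ext.comp_mk₀_id]; rfl

theorem Hmap_comp (i : ℕ) (g : N →ₗ[R] P) (f : M →ₗ[R] N) :
    Hmap I i (g.comp f) = (Hmap I i g).comp (Hmap I i f) :=
  Hext fun n x => by
    rw [LinearMap.comp_apply, Hmap_cls, Hmap_cls, Hmap_cls, Ext.comp_assoc_of_third_deg_zero,
      Ext.mk₀_comp_mk₀, ModuleCat.ofHom_comp]

theorem Hmap_add (i : ℕ) (f g : M →ₗ[R] N) : Hmap I i (f + g) = Hmap I i f + Hmap I i g :=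
  Hext fun n x => by
    rw [LinearMap.add_apply, Hmap_cls, Hmap_cls, Hmap_cls, ← map_add, ← Ext.comp_add, ← Ext.mk₀_add]
    rfl

theorem Hmap_smul (i : ℕ) (r : R) (f : M →ₗ[R] N) : Hmap I i (r • f) = r • Hmap I i f :=
  Hext fun n x => by
    rw [LinearMap.smul_apply, Hmap_cls, Hmap_cls, ← map_smul, ← Ext.comp_smul, ← Ext.mk₀_smul]
    rfl

@[simp] theorem Hmap_zero (i : ℕ) : Hmap I i (0 : M →ₗ[R] N) = 0 := by
  simpa using Hmap_smul (I := I) i (0 : R) (0 : M →ₗ[R] N)

variable (I) in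
/-- A linear equivalence induces one on local cohomology. -/
noncomputable def Hequiv (i : ℕ) (e : M ≃ₗ[R] N) :
    _root_.LocCoh.H I i M ≃ₗ[R] _root_.LocCoh.H I i N :=
  LinearEquiv.ofLinear (Hmap I i e.toLinearMap) (Hmap I i e.symm.toLinearMap)
    (by rw [← Hmap_comp, LinearEquiv.comp_coe, LinearEquiv.symm_trans_self]; exact Hmap_id i)
    (by rw [← Hmap_comp, LinearEquiv.comp_coe, LinearEquiv.self_trans_symm]; exact Hmap_id i)

theorem subsingleton_H_of_subsingleton [Subsingleton M] (i : ℕ) :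
    Subsingleton (_root_.LocCoh.H I i M) := by
  have h : (LinearMap.id : M →ₗ[R] M) = 0 := Subsingleton.elim _ _
  refine ⟨fun a b => ?_⟩
  have h2 : ∀ c : _root_.LocCoh.H I i M, c = 0 := fun c => by
    have := LinearMap.congr_fun (congrArg (Hmap I i) h) c
    rw [Hmap_id, Hmap_zero] at this
    exact this
  rw [h2 a, h2 b]

theorem smul_H_eq_zero {r : R} (hr : ∀ x : M, r • x = 0) (i : ℕ) (a : _root_.LocCoh.H I i M) :
    r • a = 0 := by
  have h : r • (LinearMap.id : M →ₗ[R] M) = 0 := LinearMap.ext hr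
  have := LinearMap.congr_fun (congrArg (Hmap I i) h) a
  rw [Hmap_smul, Hmap_id, Hmap_zero] at this
  exact this

section les

variable {f : M →ₗ[R] N} {g : N →ₗ[R] P}

theorem shortExact_of (hf : Function.Injective f) (hg : Function.Surjective g)
    (hfg : Function.Exact f g) :
    (ShortComplex.mk (ModuleCat.ofHom f) (ModuleCat.ofHom g)
      (by ext x; exact hfg.apply_apply_eq_zero x)).ShortExact where
  exact := (ShortComplex.ShortExact.moduleCat_exact_iff_function_exact _).2 hfg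
  mono_f := (ModuleCat.mono_iff_injective _).2 hf
  epi_g := (ModuleCat.epi_iff_surjective _).2 hg

variable (I) in
/-- The connecting map. -/
noncomputable def connecting (hf : Function.Injective f) (hg : Function.Surjective g)
    (hfg : Function.Exact f g) (i : ℕ) :
    _root_.LocCoh.H I i P →ₗ[R] _root_.LocCoh.H I (i + 1) M :=
  δ (localCohomology.idealPowersDiagram I) (shortExact_of hf hg hfg) rfl

variable (hf : Function.Injective f) (hg : Function.Surjective g) (hfg : Function.Exact f g)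
include hf hg hfg

theorem Hmap_exact (i : ℕ) : Function.Exact (Hmap I i f) (Hmap I i g) :=
  exact₂ (F := localCohomology.idealPowersDiagram I) (shortExact_of hf hg hfg) i

theorem Hmap_connecting_exact (i : ℕ) : Function.Exact (Hmap I i g) (connecting I hf hg hfg i) :=
  exact₃ (F := localCohomology.idealPowersDiagram I) (shortExact_of hf hg hfg) rfl

theorem connecting_Hmap_exact (i : ℕ) :
    Function.Exact (connecting I hf hg hfg i) (Hmap I (i + 1) f) :=
  exact₁ (F := localCohomology.idealPowersDiagram I) (shortExact_of hf hg hfg) rfl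

theorem Hmap_zero_injective : Function.Injective (Hmap I 0 f) :=
  map_f_injective (F := localCohomology.idealPowersDiagram I) (shortExact_of hf hg hfg)

theorem subsingleton_mid (i : ℕ) [Subsingleton (_root_.LocCoh.H I i M)]
    [Subsingleton (_root_.LocCoh.H I i P)] : Subsingleton (_root_.LocCoh.H I i N) := by
  refine ⟨fun a b => ?_⟩
  have h : ∀ c : _root_.LocCoh.H I i N, c = 0 := fun c => by
    obtain ⟨d, rfl⟩ := (Hmap_exact hf hg hfg i c).1 (Subsingleton.elim _ _)
    rw [Subsingleton.elim d 0, map_zero]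
  rw [h a, h b]

theorem subsingleton_right (i : ℕ) [Subsingleton (_root_.LocCoh.H I i N)]
    [Subsingleton (_root_.LocCoh.H I (i + 1) M)] : Subsingleton (_root_.LocCoh.H I i P) := by
  refine ⟨fun a b => ?_⟩
  have h : ∀ c : _root_.LocCoh.H I i P, c = 0 := fun c => by
    obtain ⟨d, rfl⟩ := (Hmap_connecting_exact hf hg hfg i c).1 (Subsingleton.elim _ _)
    rw [Subsingleton.elim d 0, map_zero]
  rw [h a, h b]

theorem subsingleton_left_succ (i : ℕ) [Subsingleton (_root_.LocCoh.H I i P)]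
    [Subsingleton (_root_.LocCoh.H I (i + 1) N)] : Subsingleton (_root_.LocCoh.H I (i + 1) M) := by
  refine ⟨fun a b => ?_⟩
  have h : ∀ c : _root_.LocCoh.H I (i + 1) M, c = 0 := fun c => by
    obtain ⟨d, rfl⟩ := (connecting_Hmap_exact hf hg hfg i c).1 (Subsingleton.elim _ _)
    rw [Subsingleton.elim d 0, map_zero]
  rw [h a, h b]

end les

theorem subsingleton_H_of_injective (E : Type u) [AddCommGroup E] [Module R E]
    [Module.Injective R E] {i : ℕ} (hi : 0 < i) : Subsingleton (_root_.LocCoh.H I i E) := by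
  obtain ⟨j, rfl⟩ : ∃ j, i = j + 1 := ⟨i - 1, by omega⟩
  have : Injective (ModuleCat.of R E) := Module.injective_object_of_injective_module R E
  exact subsingleton_of_injective (F := localCohomology.idealPowersDiagram I) (ModuleCat.of R E) j

/-- Vanishing from the vanishing of the stages. -/
theorem subsingleton_H_of_ext {i : ℕ}
    (h : ∀ n, Subsingleton (Ext (Q I n) (ModuleCat.of R M) i)) :
    Subsingleton (_root_.LocCoh.H I i M) :=
  subsingleton_of_ext (F := localCohomology.idealPowersDiagram I) fun d => h d.unop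

section degreeZero

variable (I) (M) in
/-- The `I`-power torsion submodule. -/
def powTorsion : Submodule R M where
  carrier := {m | ∃ n : ℕ, ∀ a ∈ I ^ n, a • m = 0}
  zero_mem' := ⟨0, fun a _ => smul_zero a⟩
  add_mem' := by
    rintro m m' ⟨n, hn⟩ ⟨n', hn'⟩
    refine ⟨n + n', fun a ha => ?_⟩
    rw [smul_add, hn a (Ideal.pow_le_pow_right (Nat.le_add_right n n') ha),
      hn' a (Ideal.pow_le_pow_right (Nat.le_add_left n' n) ha), add_zero]
  smul_mem' := by
    rintro c m ⟨n, hn⟩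
    exact ⟨n, fun a ha => by rw [smul_comm, hn a ha, smul_zero]⟩

theorem mem_powTorsion {m : M} : m ∈ powTorsion I M ↔ ∃ n : ℕ, ∀ a ∈ I ^ n, a • m = 0 := Iff.rfl

/-- Evaluation of a degree zero class at one. -/
noncomputable def eval₀ (n : ℕ) : Ext (Q I n) (ModuleCat.of R M) 0 →ₗ[R] powTorsion I M :=
  LinearMap.codRestrict _
    ((LinearMap.applyₗ (R := R) (M := Q I n) (M₂ := M) (Submodule.Quotient.mk (1 : R))).comp
      ((ModuleCat.homLinearEquiv (S := R) (M := Q I n) (N := ModuleCat.of R M)).toLinearMap.comp Ext.linearEquiv₀.toLinearMap))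
    fun x => ⟨n, fun a ha => by
      show a • (Ext.linearEquiv₀ (R := R) x).hom (Submodule.Quotient.mk 1) = 0
      rw [← map_smul, ← Submodule.Quotient.mk_smul, smul_eq_mul, mul_one,
        (Submodule.Quotient.mk_eq_zero _).2 ha, map_zero]⟩

theorem eval₀_apply (n : ℕ) (φ : Q I n ⟶ ModuleCat.of R M) :
    (eval₀ n (Ext.mk₀ φ) : M) = φ.hom (Submodule.Quotient.mk 1) := by
  show (Ext.linearEquiv₀ (R := R) (Ext.mk₀ φ)).hom (Submodule.Quotient.mk 1) = _
  rw [show Ext.linearEquiv₀ (R := R) (Ext.mk₀ φ) = φ from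
    (Ext.linearEquiv₀ (R := R)).apply_symm_apply φ]

theorem eval₀_qmap {m n : ℕ} (h : m ≤ n) (x : Ext (Q I m) (ModuleCat.of R M) 0) :
    eval₀ n ((Ext.mk₀ (qmap I h)).comp x (zero_add 0)) = eval₀ m x := by
  obtain ⟨φ, rfl⟩ : ∃ φ, Ext.mk₀ φ = x := ⟨_, Ext.mk₀_addEquiv₀_apply x⟩
  refine Subtype.ext ?_
  rw [Ext.mk₀_comp_mk₀, eval₀_apply, eval₀_apply]
  rfl

variable (I) (M) in
/-- The degree zero comparison map. -/
noncomputable def H0toTorsion : _root_.LocCoh.H I 0 M →ₗ[R] powTorsion I M :=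
  descH (F := localCohomology.idealPowersDiagram I) (M := ModuleCat.of R M)
    (fun d => eval₀ d.unop) fun w x => eval₀_qmap (leOfHom w.unop) x

theorem H0toTorsion_cls (n : ℕ) (φ : Q I n ⟶ ModuleCat.of R M) :
    (H0toTorsion I M (cls n 0 (Ext.mk₀ φ)) : M) = φ.hom (Submodule.Quotient.mk 1) := by
  refine Eq.trans (congrArg Subtype.val (descH_toH (F := localCohomology.idealPowersDiagram I)
    (M := ModuleCat.of R M) (fun d => eval₀ d.unop)
    (fun w x => eval₀_qmap (leOfHom w.unop) x) (op n) (Ext.mk₀ φ))) ?_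
  exact eval₀_apply n φ

theorem H0toTorsion_bijective : Function.Bijective (H0toTorsion I M) := by
  constructor
  · refine (injective_iff_map_eq_zero _).2 fun a ha => ?_
    obtain ⟨n, x, rfl⟩ := exists_cls a
    obtain ⟨φ, rfl⟩ : ∃ φ, Ext.mk₀ φ = x := ⟨_, Ext.mk₀_addEquiv₀_apply x⟩
    have h1 : φ.hom (Submodule.Quotient.mk 1) = 0 := by
      rw [← H0toTorsion_cls, ha]; rfl
    have : φ = 0 := ModuleCat.hom_ext (Submodule.linearMap_qext _ (LinearMap.ext_ring h1))
    rw [this, Ext.mk₀_zero, map_zero]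
  · rintro ⟨m, n, hn⟩
    have hker : I ^ n ≤ LinearMap.ker (LinearMap.toSpanSingleton R M m) := fun a ha => hn a ha
    refine ⟨cls n 0 (Ext.mk₀ (ModuleCat.ofHom (Submodule.liftQ _ _ hker))), Subtype.ext ?_⟩
    rw [H0toTorsion_cls]
    exact one_smul R m

variable (I) (M) in
/-- `H^0_I(M) ≅ Γ_I(M)`. -/
noncomputable def H0Equiv : _root_.LocCoh.H I 0 M ≃ₗ[R] powTorsion I M :=
  LinearEquiv.ofBijective (H0toTorsion I M) H0toTorsion_bijective

theorem H0Equiv_natural (f : M →ₗ[R] N) (a : _root_.LocCoh.H I 0 M) :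
    (H0Equiv I N (Hmap I 0 f a) : N) = f (H0Equiv I M a : M) := by
  obtain ⟨n, x, rfl⟩ := exists_cls a
  obtain ⟨φ, rfl⟩ : ∃ φ, Ext.mk₀ φ = x := ⟨_, Ext.mk₀_addEquiv₀_apply x⟩
  show (H0toTorsion I N _ : N) = f (H0toTorsion I M _ : M)
  rw [Hmap_cls, Ext.mk₀_comp_mk₀, H0toTorsion_cls, H0toTorsion_cls]
  rfl

theorem subsingleton_H0_iff :
    Subsingleton (_root_.LocCoh.H I 0 M) ↔ powTorsion I M = ⊥ := by
  rw [(H0Equiv I M).toEquiv.subsingleton_congr, Submodule.subsingleton_iff_eq_bot]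

end degreeZero

end

end Groth.Agent.LocCoh
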