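import Groth.Agent.LocCoh.Depth
import Groth.Agent.LocCoh.Local
import Mathlib

/-!
Vanishing of `Ext^i(-, T)` for finitely generated arguments over a Noetherian local ring, the Bass
step along covering primes, and Rees's shift along a regular sequence.
-/

set_option autoImplicit false

universe u

open CategoryTheory CategoryTheory.Abelian IsLocalRing
open scoped Pointwise

namespace Groth.Agent.LocCoh

variable {R : Type u} [CommRing R]

section basic

variable {N₁ N N₂ : Type u} [AddCommGroup N₁] [Module R N₁] [AddCommGroup N] [Module R N]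
  [AddCommGroup N₂] [Module R N₂] (T : Type u) [AddCommGroup T] [Module R T]

/-- Precomposition on `Ext`. -/
noncomputable def extPre (f : N₁ →ₗ[R] N) (i : ℕ) :
    Ext (ModuleCat.of R N) (ModuleCat.of R T) i →ₗ[R] Ext (ModuleCat.of R N₁) (ModuleCat.of R T) i :=
  (Ext.mk₀ (ModuleCat.ofHom f)).precompOfLinear R (ModuleCat.of R T) (zero_add i)

theorem extPre_apply (f : N₁ →ₗ[R] N) (i : ℕ) (e : Ext (ModuleCat.of R N) (ModuleCat.of R T) i) :
    extPre T f i e = (Ext.mk₀ (ModuleCat.ofHom f)).comp e (zero_add i) := rfl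

theorem extPre_smul_id (r : R) (i : ℕ) (e : Ext (ModuleCat.of R N) (ModuleCat.of R T) i) :
    extPre T (r • LinearMap.id : N →ₗ[R] N) i e = r • e := by
  rw [extPre_apply, show ModuleCat.ofHom (r • LinearMap.id : N →ₗ[R] N) = r • 𝟙 (ModuleCat.of R N) from rfl,
    Ext.mk₀_smul, Ext.smul_comp, Ext.mk₀_id_comp]

theorem smul_ext_eq_zero (r : R) (hr : ∀ n : N, r • n = 0) (i : ℕ)
    (e : Ext (ModuleCat.of R N) (ModuleCat.of R T) i) : r • e = 0 := by
  rw [← extPre_smul_id, show (r • LinearMap.id : N →ₗ[R] N) = 0 from LinearMap.ext fun n => hr n,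
    extPre_apply, show ModuleCat.ofHom (0 : N →ₗ[R] N) = 0 from rfl, Ext.mk₀_zero, Ext.zero_comp]

variable {f : N₁ →ₗ[R] N} {g : N →ₗ[R] N₂} (hf : Function.Injective f) (hg : Function.Surjective g)
  (hfg : Function.Exact f g)

include hf hg hfg in
theorem extPre_exact (i : ℕ) : Function.Exact (extPre T g i) (extPre T f i) := by
  have hS := shortExact_of hf hg hfg
  intro x
  refine ⟨fun h => ?_, ?_⟩
  · obtain ⟨y, hy⟩ := Ext.contravariant_sequence_exact₂ hS (ModuleCat.of R T) x h
    exact ⟨y, hy⟩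
  · rintro ⟨y, rfl⟩
    rw [extPre_apply, extPre_apply, ← Ext.comp_assoc_of_second_deg_zero, Ext.mk₀_comp_mk₀,
      show ModuleCat.ofHom f ≫ ModuleCat.ofHom g = 0 from
        ModuleCat.hom_ext (LinearMap.ext fun n => hfg.apply_apply_eq_zero n), Ext.mk₀_zero, Ext.zero_comp]

include hf hg hfg in
theorem extPre_surjective (i : ℕ) (h : Subsingleton (Ext (ModuleCat.of R N₂) (ModuleCat.of R T) (i + 1))) :
    Function.Surjective (extPre T f i) := fun x => by
  have hS := shortExact_of hf hg hfg
  obtain ⟨y, hy⟩ := Ext.contravariant_sequence_exact₁ hS (ModuleCat.of R T) x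
    (show 1 + i = i + 1 by omega) (Subsingleton.elim _ _)
  exact ⟨y, hy⟩

include hf hg hfg in
theorem extPre_injective (i : ℕ) (h : Subsingleton (Ext (ModuleCat.of R N₁) (ModuleCat.of R T) i)) :
    Function.Injective (extPre T g (i + 1)) := by
  have hS := shortExact_of hf hg hfg
  refine (injective_iff_map_eq_zero _).2 fun x hx => ?_
  obtain ⟨y, rfl⟩ := Ext.contravariant_sequence_exact₃ hS (ModuleCat.of R T) x hx
    (show 1 + i = i + 1 by omega)
  rw [Subsingleton.elim y 0, Ext.comp_zero]

include hf hg hfg in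
theorem extPre_injective_zero : Function.Injective (extPre T g 0) := by
  refine (injective_iff_map_eq_zero _).2 fun x hx => ?_
  obtain ⟨φ, rfl⟩ := Ext.mk₀_bijective _ _ |>.2 x
  rw [extPre_apply, Ext.mk₀_comp_mk₀] at hx
  have h0 : ModuleCat.ofHom g ≫ φ = 0 := (Ext.mk₀_bijective _ _).1 (hx.trans (Ext.mk₀_zero _ _).symm)
  rw [show φ = 0 from ModuleCat.hom_ext (LinearMap.ext fun m => by
    obtain ⟨n, rfl⟩ := hg m
    exact LinearMap.congr_fun (congrArg ModuleCat.Hom.hom h0) n), Ext.mk₀_zero]

include hf hg hfg in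
theorem subsingleton_ext_middle (i : ℕ)
    (h₁ : Subsingleton (Ext (ModuleCat.of R N₁) (ModuleCat.of R T) i))
    (h₂ : Subsingleton (Ext (ModuleCat.of R N₂) (ModuleCat.of R T) i)) :
    Subsingleton (Ext (ModuleCat.of R N) (ModuleCat.of R T) i) := by
  refine subsingleton_of_forall_eq 0 fun x => ?_
  obtain ⟨y, rfl⟩ := (extPre_exact T hf hg hfg i x).1 (Subsingleton.elim _ _)
  rw [@Subsingleton.elim _ h₂ y 0, map_zero]

theorem subsingleton_ext_equiv (e : N₁ ≃ₗ[R] N) (i : ℕ)
    (h : Subsingleton (Ext (ModuleCat.of R N₁) (ModuleCat.of R T) i)) :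
    Subsingleton (Ext (ModuleCat.of R N) (ModuleCat.of R T) i) :=
  subsingleton_ext_middle T (f := e.toLinearMap) (g := (0 : N →ₗ[R] PUnit.{u+1})) e.injective
    (fun _ => ⟨0, Subsingleton.elim _ _⟩) ((e.toLinearMap.exact_zero_iff_surjective _).2 e.surjective) i h
    (subsingleton_of_forall_eq 0 fun x => by
      rw [← one_smul R x]
      exact smul_ext_eq_zero T 1 (fun _ => Subsingleton.elim _ _) i x)

theorem subsingleton_ext_of_subsingleton [Subsingleton N] (i : ℕ) :
    Subsingleton (Ext (ModuleCat.of R N) (ModuleCat.of R T) i) :=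
  subsingleton_of_forall_eq 0 fun x => by
    rw [← one_smul R x]
    exact smul_ext_eq_zero T 1 (fun _ => Subsingleton.elim _ _) i x

end basic

variable [IsNoetherianRing R] (T : Type u) [AddCommGroup T] [Module R T]

/-- Dévissage below an ideal. -/
theorem subsingleton_ext_of_quotient_prime (J : Ideal R) (i : ℕ)
    (h : ∀ q : PrimeSpectrum R, J ≤ q.asIdeal →
      Subsingleton (Ext (ModuleCat.of R (R ⧸ q.asIdeal)) (ModuleCat.of R T) i))
    (M : Type u) [AddCommGroup M] [Module R M] (hM : Module.Finite R M)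
    (hJ : J ≤ Module.annihilator R M) : Subsingleton (Ext (ModuleCat.of R M) (ModuleCat.of R T) i) := by
  revert hJ
  induction hM using IsNoetherianRing.induction_on_isQuotientEquivQuotientPrime R with
  | subsingleton N => exact fun _ => subsingleton_ext_of_subsingleton T i
  | quotient N p e =>
    intro hJ
    refine subsingleton_ext_equiv T e.symm i (h p ?_)
    intro r hr
    rw [e.annihilator_eq, Ideal.annihilator_quotient] at hJ
    exact hJ hr
  | exact N₁ N₂ N₃ f g hf hg hfg ih₁ ih₃ =>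
    exact fun hJ => subsingleton_ext_middle T hf hg hfg i
      (ih₁ (hJ.trans (f.annihilator_le_of_injective hf))) (ih₃ (hJ.trans (g.annihilator_le_of_surjective hg)))

/-- Dévissage below an ideal, up to elements outside `q`. -/
theorem exists_kill_ext_of_quotient_prime (J : Ideal R) (i : ℕ) (q : Ideal R) [q.IsPrime]
    (h : ∀ p : PrimeSpectrum R, J ≤ p.asIdeal →
      ∀ x : Ext (ModuleCat.of R (R ⧸ p.asIdeal)) (ModuleCat.of R T) i, ∃ s ∉ q, s • x = 0)
    (M : Type u) [AddCommGroup M] [Module R M] (hM : Module.Finite R M)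
    (hJ : J ≤ Module.annihilator R M) :
    ∀ x : Ext (ModuleCat.of R M) (ModuleCat.of R T) i, ∃ s ∉ q, s • x = 0 := by
  revert hJ
  induction hM using IsNoetherianRing.induction_on_isQuotientEquivQuotientPrime R with
  | subsingleton N =>
    exact fun _ x => ⟨1, Ideal.IsPrime.one_notMem inferInstance,
      smul_ext_eq_zero T 1 (fun _ => Subsingleton.elim _ _) i x⟩
  | quotient N p e =>
    intro hJ x
    rw [e.annihilator_eq, Ideal.annihilator_quotient] at hJ
    obtain ⟨s, hs, hsx⟩ := h p hJ (extPre T e.symm.toLinearMap i x)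
    refine ⟨s, hs, ?_⟩
    rw [← map_smul] at hsx
    have h2 := congrArg (extPre T e.toLinearMap i) hsx
    rw [map_zero, extPre_apply, extPre_apply, ← Ext.comp_assoc_of_second_deg_zero, Ext.mk₀_comp_mk₀,
      show ModuleCat.ofHom e.toLinearMap ≫ ModuleCat.ofHom e.symm.toLinearMap = 𝟙 _ from
        ModuleCat.hom_ext (LinearMap.ext fun n => e.symm_apply_apply n), Ext.mk₀_id_comp] at h2
    exact h2
  | exact N₁ N₂ N₃ f g hf hg hfg ih₁ ih₃ =>
    intro hJ x
    obtain ⟨s, hs, hsx⟩ := ih₁ (hJ.trans (f.annihilator_le_of_injective hf)) (extPre T f i x)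
    rw [← map_smul] at hsx
    obtain ⟨y, hy⟩ := (extPre_exact T hf hg hfg i _).1 hsx
    obtain ⟨t, ht, hty⟩ := ih₃ (hJ.trans (g.annihilator_le_of_surjective hg)) y
    exact ⟨t * s, fun h' => (Ideal.IsPrime.mem_or_mem inferInstance h').elim ht hs, by
      rw [mul_smul, ← hy, ← map_smul, hty, map_zero]⟩

/-- The sequence `0 → R/p → R/p → R/(p + (a)) → 0`. -/
theorem exact_quotient_prime (p : Ideal R) [p.IsPrime] {a : R} (ha : a ∉ p) :
    ∃ g : (R ⧸ p) →ₗ[R] R ⧸ (p ⊔ Ideal.span {a}),
      Function.Injective (a • LinearMap.id : (R ⧸ p) →ₗ[R] R ⧸ p) ∧ Function.Surjective g ∧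
        Function.Exact (a • LinearMap.id : (R ⧸ p) →ₗ[R] R ⧸ p) g := by
  refine ⟨Submodule.mapQ p _ LinearMap.id le_sup_left, ?_, ?_, ?_⟩
  · refine (injective_iff_map_eq_zero _).2 fun z hz => ?_
    obtain ⟨r, rfl⟩ := Submodule.Quotient.mk_surjective _ z
    rw [LinearMap.smul_apply, LinearMap.id_apply, ← Submodule.Quotient.mk_smul,
      Submodule.Quotient.mk_eq_zero] at hz
    exact (Submodule.Quotient.mk_eq_zero _).2 ((Ideal.IsPrime.mem_or_mem inferInstance hz).resolve_left ha)
  · intro z
    obtain ⟨r, rfl⟩ := Submodule.Quotient.mk_surjective _ z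
    exact ⟨Submodule.Quotient.mk r, rfl⟩
  · intro z
    obtain ⟨r, rfl⟩ := Submodule.Quotient.mk_surjective _ z
    rw [Submodule.mapQ_apply, LinearMap.id_apply, Submodule.Quotient.mk_eq_zero]
    constructor
    · intro h
      obtain ⟨b, hb, c, hc, rfl⟩ := Submodule.mem_sup.1 h
      obtain ⟨d, rfl⟩ := Ideal.mem_span_singleton'.1 hc
      refine ⟨Submodule.Quotient.mk d, ?_⟩
      show a • (Submodule.Quotient.mk d : R ⧸ p) = _
      rw [← Submodule.Quotient.mk_smul, Submodule.Quotient.eq, smul_eq_mul, show a * d - (b + d * a) = -b by ring]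
      exact neg_mem hb
    · rintro ⟨w, hw⟩
      obtain ⟨d, rfl⟩ := Submodule.Quotient.mk_surjective _ w
      change a • (Submodule.Quotient.mk d : R ⧸ p) = _ at hw
      rw [← Submodule.Quotient.mk_smul, Submodule.Quotient.eq, smul_eq_mul] at hw
      rw [show r = -(a * d - r) + d * a by ring]
      exact add_mem (Submodule.mem_sup_left (neg_mem hw))
        (Submodule.mem_sup_right (Ideal.mul_mem_left _ _ (Ideal.mem_span_singleton_self a)))

variable [Module.Finite R T]

/-- Bass: if `Ext^i(R/p, T)_p ≠ 0` and `q` covers `p` then `Ext^(i+1)(R/q, T)_q ≠ 0`. -/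
theorem exists_ext_survivor_of_covBy (p q : PrimeSpectrum R) (hpq : p ⋖ q) (i : ℕ)
    (x : Ext (ModuleCat.of R (R ⧸ p.asIdeal)) (ModuleCat.of R T) i)
    (hx : ∀ s ∉ p.asIdeal, s • x ≠ 0) :
    ∃ y : Ext (ModuleCat.of R (R ⧸ q.asIdeal)) (ModuleCat.of R T) (i + 1),
      ∀ s ∉ q.asIdeal, s • y ≠ 0 := by
  by_contra hno
  push Not at hno
  have hlt : p.asIdeal < q.asIdeal := hpq.lt
  obtain ⟨a, haq, hap⟩ := SetLike.exists_of_lt hlt
  obtain ⟨g, hinj, hsurj, hex⟩ := exact_quotient_prime p.asIdeal hap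
  let E := Ext (ModuleCat.of R (R ⧸ p.asIdeal)) (ModuleCat.of R T) i
  have hkill : ∀ z : Ext (ModuleCat.of R (R ⧸ (p.asIdeal ⊔ Ideal.span {a}))) (ModuleCat.of R T) (i + 1),
      ∃ s ∉ q.asIdeal, s • z = 0 := by
    refine exists_kill_ext_of_quotient_prime T (p.asIdeal ⊔ Ideal.span {a}) (i + 1) q.asIdeal
      (fun r hr z => ?_) _ inferInstance (by rw [Ideal.annihilator_quotient])
    by_cases hrq : r.asIdeal ≤ q.asIdeal
    · have hpr : p < r := show p.asIdeal < r.asIdeal from lt_of_le_of_ne (le_sup_left.trans hr)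
        fun e => hap (e ▸ hr (Submodule.mem_sup_right (Ideal.mem_span_singleton_self a)))
      have : r = q := (eq_or_lt_of_le (show r ≤ q from hrq)).resolve_right fun h => hpq.2 hpr h
      subst this
      exact hno z
    · obtain ⟨s, hsr, hsq⟩ := SetLike.not_le_iff_exists.1 hrq
      refine ⟨s, hsq, smul_ext_eq_zero T s (fun n => ?_) _ z⟩
      obtain ⟨b, rfl⟩ := Submodule.Quotient.mk_surjective _ n
      rw [← Submodule.Quotient.mk_smul, Submodule.Quotient.mk_eq_zero]
      exact Ideal.mul_mem_right _ _ hsr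
  -- every element is divisible by `a` up to an element outside `q`
  have hdiv : ∀ z : E, ∃ s ∉ q.asIdeal, s • z ∈ Ideal.span {a} • (⊤ : Submodule R E) := by
    intro z
    have hS := shortExact_of hinj hsurj hex
    obtain ⟨s, hs, hsz⟩ := hkill (hS.extClass.comp z (show 1 + i = i + 1 by omega))
    rw [← Ext.comp_smul] at hsz
    obtain ⟨w, hw⟩ := Ext.contravariant_sequence_exact₁ hS (ModuleCat.of R T) (s • z)
      (show 1 + i = i + 1 by omega) hsz
    refine ⟨s, hs, ?_⟩
    rw [← hw]
    change (extPre T (a • LinearMap.id : (R ⧸ p.asIdeal) →ₗ[R] R ⧸ p.asIdeal) i w) ∈ _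
    rw [extPre_smul_id]
    exact Submodule.smul_mem_smul (Ideal.mem_span_singleton_self a) trivial
  classical
  obtain ⟨S, hS⟩ := (Module.Finite.fg_top : (⊤ : Submodule R E).FG)
  choose σ hσ hσ' using hdiv
  have hs₀ : ∏ z ∈ S, σ z ∉ q.asIdeal := fun h => by
    obtain ⟨z, -, hz⟩ := Ideal.IsPrime.prod_mem_iff.1 h
    exact hσ z hz
  set s₀ := ∏ z ∈ S, σ z
  have hrange : LinearMap.range (algebraMap R (Module.End R E) s₀) ≤
      Ideal.span {a} • (⊤ : Submodule R E) := by
    rintro _ ⟨z, rfl⟩
    rw [Module.algebraMap_end_apply]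
    have hz : z ∈ Submodule.span R (S : Set E) := by rw [hS]; trivial
    induction hz using Submodule.span_induction with
    | mem z hz =>
      rw [show s₀ = (∏ w ∈ S.erase z, σ w) * σ z from (Finset.prod_erase_mul S σ hz).symm, mul_smul]
      exact Submodule.smul_mem _ _ (hσ' z)
    | zero => rw [smul_zero]; exact zero_mem _
    | add u v _ _ hu hv => rw [smul_add]; exact add_mem hu hv
    | smul c u _ hu => rw [smul_comm]; exact Submodule.smul_mem _ _ hu
  obtain ⟨P, hP, -, hcoeff, heval⟩ :=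
    LinearMap.exists_monic_and_natDegree_eq_and_coeff_mem_pow_and_aeval_eq_zero R
      (algebraMap R (Module.End R E) s₀) (Ideal.span {a}) hrange
  rw [Polynomial.aeval_algebraMap_apply_eq_algebraMap_eval] at heval
  have hout : P.eval s₀ ∉ q.asIdeal := by
    intro h
    rw [Polynomial.eval_eq_sum_range, Finset.sum_range_succ, hP.coeff_natDegree, one_mul] at h
    have hrest : ∑ k ∈ Finset.range P.natDegree, P.coeff k * s₀ ^ k ∈ q.asIdeal := by
      refine Ideal.sum_mem _ ?_
      intro k hk
      refine Ideal.mul_mem_right _ _ ((Ideal.span_singleton_le_iff_mem _).2 haq ?_)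
      exact Ideal.pow_le_self (Nat.sub_ne_zero_of_lt (Finset.mem_range.1 hk)) (hcoeff k)
    exact hs₀ (Ideal.IsPrime.mem_of_pow_mem inferInstance P.natDegree ((Submodule.add_mem_iff_right _ hrest).1 h))
  exact hx (P.eval s₀) (fun h => hout (hlt.le h)) (by
    have h2 := LinearMap.congr_fun heval x
    rwa [Module.algebraMap_end_apply] at h2)

/-- Vanishing against the residue field from degree `N` on gives vanishing against every finitely
generated module. -/
theorem subsingleton_ext_of_residueField [IsLocalRing R] (N : ℕ)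
    (h : ∀ i, N ≤ i → Subsingleton (Ext (ModuleCat.of R (R ⧸ maximalIdeal R)) (ModuleCat.of R T) i))
    (M : Type u) [AddCommGroup M] [Module R M] [Module.Finite R M] (i : ℕ) (hi : N ≤ i) :
    Subsingleton (Ext (ModuleCat.of R M) (ModuleCat.of R T) i) := by
  suffices hP : ∀ (P : Ideal R), P.IsPrime → ∀ j, N ≤ j →
      Subsingleton (Ext (ModuleCat.of R (R ⧸ P)) (ModuleCat.of R T) j) from
    subsingleton_ext_of_quotient_prime T ⊥ i (fun q _ => hP _ q.2 i hi) M inferInstance bot_le
  intro P
  induction P using WellFoundedGT.induction with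
  | _ P ih =>
    intro hP j hj
    by_cases hPm : P = maximalIdeal R
    · subst hPm; exact h j hj
    obtain ⟨a, ham, haP⟩ := SetLike.exists_of_lt
      (lt_of_le_of_ne (IsLocalRing.le_maximalIdeal hP.ne_top) hPm)
    obtain ⟨g, hinj, hsurj, hex⟩ := exact_quotient_prime P haP
    have hnext : Subsingleton (Ext (ModuleCat.of R (R ⧸ (P ⊔ Ideal.span {a}))) (ModuleCat.of R T) (j + 1)) :=
      subsingleton_ext_of_quotient_prime T (P ⊔ Ideal.span {a}) (j + 1)
        (fun q hq => ih q.asIdeal (lt_of_le_of_ne (le_sup_left.trans hq)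
          fun e => haP (e ▸ hq (Submodule.mem_sup_right (Ideal.mem_span_singleton_self a))))
          q.2 (j + 1) (by omega))
        _ inferInstance (by rw [Ideal.annihilator_quotient])
    have hsur := extPre_surjective T hinj hsurj hex j hnext
    set E := Ext (ModuleCat.of R (R ⧸ P)) (ModuleCat.of R T) j
    have htop : (⊤ : Submodule R E) ≤ maximalIdeal R • ⊤ := fun z _ => by
      obtain ⟨w, rfl⟩ := hsur z
      rw [extPre_smul_id]
      exact Submodule.smul_mem_smul ham trivial
    have hbot := Submodule.eq_bot_of_le_smul_of_le_jacobson_bot (maximalIdeal R) (⊤ : Submodule R E)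
      Module.Finite.fg_top htop (IsLocalRing.maximalIdeal_le_jacobson _)
    exact subsingleton_of_forall_eq 0 fun z => (Submodule.mem_bot R).1 (hbot ▸ Submodule.mem_top)

omit [IsNoetherianRing R] [Module.Finite R T] in
/-- Rees: for `xs` regular on `T` and killing `N`, the first nonzero `Ext` is a `Hom`. -/
theorem ext_regular_shift : ∀ (xs : List R) (T : Type u) [AddCommGroup T] [Module R T],
    RingTheory.Sequence.IsWeaklyRegular T xs → ∀ (N : Type u) [AddCommGroup N] [Module R N],
    (∀ x ∈ xs, ∀ n : N, x • n = 0) →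
    (∀ i < xs.length, Subsingleton (Ext (ModuleCat.of R N) (ModuleCat.of R T) i)) ∧
      Nonempty (Ext (ModuleCat.of R N) (ModuleCat.of R T) xs.length ≃ₗ[R]
        (N →ₗ[R] T ⧸ (Ideal.ofList xs • (⊤ : Submodule R T)))) := by
  intro xs
  induction xs with
  | nil =>
    intro T _ _ _ N _ _ _
    refine ⟨fun i hi => absurd hi (Nat.not_lt_zero i), ?_⟩
    have hbot : Ideal.ofList ([] : List R) • (⊤ : Submodule R T) = ⊥ := by
      rw [Ideal.ofList_nil, Submodule.bot_smul]
    exact ⟨((Ext.linearEquiv₀ (R := R)).trans (ModuleCat.homLinearEquiv (S := R))).trans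
      ((Submodule.quotEquivOfEqBot _ hbot).symm.congrRight)⟩
  | cons x xs ih =>
    intro T _ _ hreg N _ _ hkill
    rw [RingTheory.Sequence.isWeaklyRegular_cons_iff] at hreg
    obtain ⟨hx, hrest⟩ := hreg
    obtain ⟨hvan, ⟨e⟩⟩ := ih (QuotSMulTop x T) hrest N fun y hy => hkill y (List.mem_cons_of_mem _ hy)
    have hexact : Function.Exact (x • LinearMap.id : T →ₗ[R] T)
        (Submodule.mkQ (x • (⊤ : Submodule R T))) := by
      intro t
      rw [Submodule.mkQ_apply, Submodule.Quotient.mk_eq_zero]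
      exact ⟨fun ⟨w, _, hw⟩ => ⟨w, hw⟩, fun ⟨w, hw⟩ => ⟨w, trivial, hw⟩⟩
    have hxi : Function.Injective (x • LinearMap.id : T →ₗ[R] T) := fun a b hab => hx hab
    have hS := shortExact_of (f := (x • LinearMap.id : T →ₗ[R] T))
      (g := Submodule.mkQ (x • (⊤ : Submodule R T))) hxi (Submodule.mkQ_surjective _) hexact
    have hzero : ∀ (i : ℕ) (z : Ext (ModuleCat.of R N) (ModuleCat.of R T) i),
        z.comp (Ext.mk₀ (ModuleCat.ofHom (x • LinearMap.id : T →ₗ[R] T))) (add_zero i) = 0 := by
      intro i z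
      rw [show ModuleCat.ofHom (x • LinearMap.id : T →ₗ[R] T) = x • 𝟙 (ModuleCat.of R T) from rfl,
        Ext.mk₀_smul, Ext.comp_smul, Ext.comp_mk₀_id]
      exact smul_ext_eq_zero T x (hkill x List.mem_cons_self) i z
    have hlow : ∀ i < xs.length + 1, Subsingleton (Ext (ModuleCat.of R N) (ModuleCat.of R T) i) := by
      intro i hi
      refine subsingleton_of_forall_eq 0 fun z => ?_
      rcases Nat.eq_zero_or_pos i with rfl | hpos
      · obtain ⟨φ, rfl⟩ := Ext.mk₀_bijective _ _ |>.2 z
        have h0 := hzero 0 (Ext.mk₀ φ)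
        rw [Ext.mk₀_comp_mk₀, ← Ext.mk₀_zero] at h0
        rw [show φ = 0 from ModuleCat.hom_ext (LinearMap.ext fun n => hx (by
          show x • φ.hom n = x • (0 : T)
          rw [smul_zero]
          exact LinearMap.congr_fun (congrArg ModuleCat.Hom.hom ((Ext.mk₀_bijective _ _).1 h0)) n)),
          Ext.mk₀_zero]
      · obtain ⟨j, rfl⟩ := Nat.exists_eq_succ_of_ne_zero (by omega : i ≠ 0)
        obtain ⟨w, rfl⟩ := Ext.covariant_sequence_exact₁ (ModuleCat.of R N) hS z (hzero _ z) (rfl : j + 1 = j + 1)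
        haveI := hvan j (by omega)
        rw [Subsingleton.elim w 0, Ext.zero_comp]
    refine ⟨hlow, ?_⟩
    let δ := hS.extClass.postcompOfLinear R (ModuleCat.of R N) (rfl : xs.length + 1 = xs.length + 1)
    have hδ : Function.Bijective δ := by
      refine ⟨(injective_iff_map_eq_zero _).2 fun z hz => ?_, fun z => ?_⟩
      · obtain ⟨w, rfl⟩ := Ext.covariant_sequence_exact₃ (ModuleCat.of R N) hS z
          (rfl : xs.length + 1 = xs.length + 1) hz
        haveI := hlow xs.length (by omega)
        rw [Subsingleton.elim w 0, Ext.zero_comp]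
      · exact Ext.covariant_sequence_exact₁ (ModuleCat.of R N) hS z (hzero _ z) rfl
    exact ⟨((LinearEquiv.ofBijective δ hδ).symm.trans e).trans
      (Submodule.quotOfListConsSMulTopEquivQuotSMulTopInner T x xs).symm.congrRight⟩

omit [IsNoetherianRing R] [Module.Finite R T] in
/-- Higher vanishing passes to quotients by regular sequences. -/
theorem subsingleton_ext_quotient_regular : ∀ (xs : List R) (a : ℕ) (N : Type u) [AddCommGroup N]
    [Module R N], RingTheory.Sequence.IsWeaklyRegular N xs →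
    (∀ i, a < i → Subsingleton (Ext (ModuleCat.of R N) (ModuleCat.of R T) i)) →
    ∀ i, a + xs.length < i →
      Subsingleton (Ext (ModuleCat.of R (N ⧸ (Ideal.ofList xs • (⊤ : Submodule R N)))) (ModuleCat.of R T) i) := by
  intro xs
  induction xs with
  | nil =>
    intro a N _ _ _ h i hi
    have hbot : Ideal.ofList ([] : List R) • (⊤ : Submodule R N) = ⊥ := by
      rw [Ideal.ofList_nil, Submodule.bot_smul]
    exact subsingleton_ext_equiv T (Submodule.quotEquivOfEqBot _ hbot).symm i (h i hi)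
  | cons x xs ih =>
    intro a N _ _ hreg h i hi
    rw [RingTheory.Sequence.isWeaklyRegular_cons_iff] at hreg
    rw [List.length_cons] at hi
    refine subsingleton_ext_equiv T (Submodule.quotOfListConsSMulTopEquivQuotSMulTopInner N x xs).symm i
      (ih (a + 1) (QuotSMulTop x N) hreg.2 (fun j hj => ?_) i (by omega))
    obtain ⟨k, rfl⟩ := Nat.exists_eq_succ_of_ne_zero (by omega : j ≠ 0)
    have hexact : Function.Exact (x • LinearMap.id : N →ₗ[R] N)
        (Submodule.mkQ (x • (⊤ : Submodule R N))) := by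
      intro t
      rw [Submodule.mkQ_apply, Submodule.Quotient.mk_eq_zero]
      exact ⟨fun ⟨w, _, hw⟩ => ⟨w, hw⟩, fun ⟨w, hw⟩ => ⟨w, trivial, hw⟩⟩
    refine subsingleton_of_forall_eq 0 fun z => ?_
    have hinj := extPre_injective T (f := (x • LinearMap.id : N →ₗ[R] N))
      (g := Submodule.mkQ (x • (⊤ : Submodule R N))) (fun a b hab => hreg.1 hab) (Submodule.mkQ_surjective _) hexact k
      (h k (by omega))
    haveI := h (k + 1) (by omega)
    exact hinj (Subsingleton.elim _ _)

end Groth.Agent.LocCoh
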