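import Groth.Agent.LocCoh.ExtLocalize
import Groth.Agent.LocCoh.ExtVanishing

/-!
If `Ext^k` of the localizations vanishes, every element of `Ext^k` is killed by an element of the
multiplicative set.
-/

set_option autoImplicit false

universe u

open CategoryTheory CategoryTheory.Abelian

namespace Groth.Agent.LocCoh

variable {R : Type u} [CommRing R] [IsNoetherianRing R] (W : Submonoid R)

theorem exists_kill_of_subsingleton_ext_localized : ∀ (k : ℕ) (N : Type u) [AddCommGroup N] [Module R N]
    [Module.Finite R N] (T : Type u) [AddCommGroup T] [Module R T],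
    Subsingleton (Ext (ModuleCat.of (Localization W) (LocalizedModule W N))
      (ModuleCat.of (Localization W) (LocalizedModule W T)) k) →
    ∀ x : Ext (ModuleCat.of R N) (ModuleCat.of R T) k, ∃ s ∈ W, s • x = 0 := by
  intro k
  induction k with
  | zero =>
    intro N _ _ _ T _ _ h x
    obtain ⟨φ, rfl⟩ := Ext.mk₀_bijective _ _ |>.2 x
    rw [subsingleton_ext_zero_iff] at h
    obtain ⟨⟨s, hs⟩, hs'⟩ := Module.Finite.exists_smul_of_comp_eq_of_isLocalizedModule W
      (LocalizedModule.mkLinearMap W T) φ.hom 0 (by
        ext m
        have h1 := LinearMap.congr_fun (h (LocalizedModule.map W φ.hom)) (LocalizedModule.mk m 1)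
        rw [LocalizedModule.map_mk, LinearMap.zero_apply] at h1
        rw [LinearMap.comp_zero, LinearMap.comp_apply, LinearMap.zero_apply, LocalizedModule.mkLinearMap_apply]
        exact h1)
    refine ⟨s, hs, ?_⟩
    rw [← Ext.mk₀_smul, show s • φ = 0 from ModuleCat.hom_ext (by
      rw [smul_zero] at hs'
      exact hs'), Ext.mk₀_zero]
  | succ k ih =>
    intro N _ _ _ T _ _ h x
    obtain ⟨n, π, hπ⟩ := Module.Finite.exists_fin' R N
    haveI : Module.Finite R (LinearMap.ker π) := Module.Finite.of_fg (IsNoetherian.noetherian _)
    have hι : Function.Injective (LinearMap.ker π).subtype := Subtype.val_injective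
    have hex : Function.Exact (LinearMap.ker π).subtype π := LinearMap.exact_subtype_ker_map π
    haveI : Projective (ModuleCat.of R (Fin n → R)) := ModuleCat.projective_of_categoryTheory_projective _
    have hS := shortExact_of hι hπ hex
    haveI : Module.Projective (Localization W) (LocalizedModule W (Fin n → R)) :=
      Module.projective_of_isLocalizedModule (Rₛ := Localization W) W
        (LocalizedModule.mkLinearMap W (Fin n → R))
    have hι' : Function.Injective (LocalizedModule.map W (LinearMap.ker π).subtype) :=
      LocalizedModule.map_injective W _ hι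
    have hπ' : Function.Surjective (LocalizedModule.map W π) := LocalizedModule.map_surjective W _ hπ
    have hex' : Function.Exact (LocalizedModule.map W (LinearMap.ker π).subtype) (LocalizedModule.map W π) :=
      LocalizedModule.map_exact W _ _ hex
    cases k with
    | zero =>
      obtain ⟨y, rfl⟩ := Ext.contravariant_sequence_exact₃ hS (ModuleCat.of R T) x
        (Ext.eq_zero_of_projective _) (show 1 + 0 = 1 from rfl)
      obtain ⟨ψ, rfl⟩ := Ext.mk₀_bijective _ _ |>.2 y
      rw [subsingleton_ext_one_iff (A := Localization W) (K := LocalizedModule W (LinearMap.ker π))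
        (F := LocalizedModule W (Fin n → R)) (N := LocalizedModule W N) (LocalizedModule W T)
        (ι := LocalizedModule.map W (LinearMap.ker π).subtype) (π := LocalizedModule.map W π) hι' hπ' hex'] at h
      obtain ⟨Φ, hΦ⟩ := h (LocalizedModule.map W ψ.hom)
      haveI : Module.FinitePresentation R (Fin n → R) := Module.finitePresentation_of_finite R _
      obtain ⟨g, ⟨s, hs⟩, hg⟩ := Module.FinitePresentation.exists_lift_of_isLocalizedModule W
        (LocalizedModule.mkLinearMap W T) ((Φ.restrictScalars R).comp (LocalizedModule.mkLinearMap W (Fin n → R)))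
      obtain ⟨⟨t, ht⟩, ht'⟩ := Module.Finite.exists_smul_of_comp_eq_of_isLocalizedModule W
        (LocalizedModule.mkLinearMap W T) (g.comp (LinearMap.ker π).subtype) (s • ψ.hom) (by
          ext m
          have h1 := LinearMap.congr_fun hg (m : Fin n → R)
          have h2 := LinearMap.congr_fun hΦ (LocalizedModule.mk m 1)
          rw [LinearMap.comp_apply, LocalizedModule.map_mk, LocalizedModule.map_mk] at h2
          change LocalizedModule.mk (g (m : Fin n → R)) 1 = LocalizedModule.mk (s • ψ.hom m) 1
          change LocalizedModule.mk (g (m : Fin n → R)) 1 = s • Φ (LocalizedModule.mk (m : Fin n → R) 1) at h1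
          rw [h1, Submodule.subtype_apply] at *
          rw [h2, LocalizedModule.smul'_mk])
      refine ⟨t * s, W.mul_mem ht hs, ?_⟩
      have hext : (t * s) • ψ = ModuleCat.ofHom (LinearMap.ker π).subtype ≫ ModuleCat.ofHom (t • g) :=
        ModuleCat.hom_ext (LinearMap.ext fun m => by
          have h3 := LinearMap.congr_fun ht' m
          simp only [LinearMap.smul_apply, LinearMap.comp_apply, Submonoid.mk_smul] at h3
          show (t * s) • ψ.hom m = t • g ((LinearMap.ker π).subtype m)
          rw [h3, mul_smul])
      rw [← Ext.comp_smul, ← Ext.mk₀_smul, hext, ← Ext.mk₀_comp_mk₀, ← Ext.comp_assoc_of_second_deg_zero]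
      erw [hS.extClass_comp]
      rw [Ext.zero_comp]
    | succ k =>
      rw [subsingleton_ext_succ_iff (A := Localization W) (K := LocalizedModule W (LinearMap.ker π))
        (F := LocalizedModule W (Fin n → R)) (N := LocalizedModule W N) (LocalizedModule W T)
        (ι := LocalizedModule.map W (LinearMap.ker π).subtype) (π := LocalizedModule.map W π) hι' hπ' hex'] at h
      obtain ⟨y, rfl⟩ := Ext.contravariant_sequence_exact₃ hS (ModuleCat.of R T) x
        (Ext.eq_zero_of_projective _) (show 1 + (k + 1) = k + 2 by omega)
      obtain ⟨s, hs, hsy⟩ := ih (LinearMap.ker π) T h y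
      exact ⟨s, hs, by rw [← Ext.comp_smul, hsy, Ext.comp_zero]⟩

theorem subsingleton_ext_localized_of_kill : ∀ (k : ℕ) (N : Type u) [AddCommGroup N] [Module R N]
    [Module.Finite R N] (T : Type u) [AddCommGroup T] [Module R T],
    (∀ x : Ext (ModuleCat.of R N) (ModuleCat.of R T) k, ∃ s ∈ W, s • x = 0) →
    Subsingleton (Ext (ModuleCat.of (Localization W) (LocalizedModule W N))
      (ModuleCat.of (Localization W) (LocalizedModule W T)) k) := by
  intro k
  induction k with
  | zero =>
    intro N _ _ _ T _ _ h
    rw [subsingleton_ext_zero_iff]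
    intro ψ
    haveI : Module.FinitePresentation R N := Module.finitePresentation_of_finite R N
    obtain ⟨φ, s, hφ⟩ := Module.FinitePresentation.exists_lift_of_isLocalizedModule W
      (LocalizedModule.mkLinearMap W T) ((ψ.restrictScalars R).comp (LocalizedModule.mkLinearMap W N))
    obtain ⟨t, ht, htφ⟩ := h (Ext.mk₀ (ModuleCat.ofHom φ))
    rw [← Ext.mk₀_smul, ← Ext.mk₀_zero] at htφ
    have htφ' : ∀ m, t • φ m = 0 := fun m =>
      LinearMap.congr_fun (congrArg ModuleCat.Hom.hom ((Ext.mk₀_bijective _ _).1 htφ)) m
    refine LinearMap.restrictScalars_injective R (IsLocalizedModule.ext W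
      (LocalizedModule.mkLinearMap W N) (IsLocalizedModule.map_units (LocalizedModule.mkLinearMap W T))
      (LinearMap.ext fun m => ?_))
    have h1 := LinearMap.congr_fun hφ m
    refine ((Module.End.isUnit_iff _).1 (IsLocalizedModule.map_units (LocalizedModule.mkLinearMap W T)
      (⟨t, ht⟩ * s))).1 ?_
    show ((⟨t, ht⟩ * s : W) : R) • ψ (LocalizedModule.mk m 1) = ((⟨t, ht⟩ * s : W) : R) • (0 : LocalizedModule W T)
    rw [smul_zero, Submonoid.coe_mul, mul_smul]
    change LocalizedModule.mk (φ m) 1 = (s : R) • ψ (LocalizedModule.mk m 1) at h1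
    rw [← h1, LocalizedModule.smul'_mk, htφ', LocalizedModule.zero_mk]
  | succ k ih =>
    intro N _ _ _ T _ _ h
    obtain ⟨n, π, hπ⟩ := Module.Finite.exists_fin' R N
    haveI : Module.Finite R (LinearMap.ker π) := Module.Finite.of_fg (IsNoetherian.noetherian _)
    have hι : Function.Injective (LinearMap.ker π).subtype := Subtype.val_injective
    have hex : Function.Exact (LinearMap.ker π).subtype π := LinearMap.exact_subtype_ker_map π
    haveI : Projective (ModuleCat.of R (Fin n → R)) := ModuleCat.projective_of_categoryTheory_projective _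
    have hS := shortExact_of hι hπ hex
    haveI : Module.Projective (Localization W) (LocalizedModule W (Fin n → R)) :=
      Module.projective_of_isLocalizedModule (Rₛ := Localization W) W
        (LocalizedModule.mkLinearMap W (Fin n → R))
    have hι' : Function.Injective (LocalizedModule.map W (LinearMap.ker π).subtype) :=
      LocalizedModule.map_injective W _ hι
    have hπ' : Function.Surjective (LocalizedModule.map W π) := LocalizedModule.map_surjective W _ hπ
    have hex' : Function.Exact (LocalizedModule.map W (LinearMap.ker π).subtype) (LocalizedModule.map W π) :=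
      LocalizedModule.map_exact W _ _ hex
    cases k with
    | zero =>
      rw [subsingleton_ext_one_iff (A := Localization W) (K := LocalizedModule W (LinearMap.ker π))
        (F := LocalizedModule W (Fin n → R)) (N := LocalizedModule W N) (LocalizedModule W T)
        (ι := LocalizedModule.map W (LinearMap.ker π).subtype) (π := LocalizedModule.map W π) hι' hπ' hex']
      intro ψ
      haveI : Module.FinitePresentation R (LinearMap.ker π) := Module.finitePresentation_of_finite R _
      obtain ⟨φ, s, hφ⟩ := Module.FinitePresentation.exists_lift_of_isLocalizedModule W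
        (LocalizedModule.mkLinearMap W T)
        ((ψ.restrictScalars R).comp (LocalizedModule.mkLinearMap W (LinearMap.ker π)))
      obtain ⟨t, ht, htφ⟩ := h (hS.extClass.comp (Ext.mk₀ (ModuleCat.ofHom φ)) (show 1 + 0 = 1 from rfl))
      rw [← Ext.comp_smul, ← Ext.mk₀_smul] at htφ
      obtain ⟨y, hy⟩ := Ext.contravariant_sequence_exact₁ hS (ModuleCat.of R T) _
        (show 1 + 0 = 1 from rfl) htφ
      obtain ⟨g, rfl⟩ := Ext.mk₀_bijective _ _ |>.2 y
      rw [Ext.mk₀_comp_mk₀] at hy
      have hg : ∀ m : LinearMap.ker π, g.hom ((LinearMap.ker π).subtype m) = t • φ m := fun m =>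
        LinearMap.congr_fun (congrArg ModuleCat.Hom.hom ((Ext.mk₀_bijective _ _).1 hy)) m
      obtain ⟨u, hu⟩ := IsLocalization.map_units (Localization W) (⟨t, ht⟩ * s)
      refine ⟨(↑u⁻¹ : Localization W) • LocalizedModule.map W g.hom, ?_⟩
      refine LinearMap.restrictScalars_injective R (IsLocalizedModule.ext W
        (LocalizedModule.mkLinearMap W (LinearMap.ker π))
        (IsLocalizedModule.map_units (LocalizedModule.mkLinearMap W T)) (LinearMap.ext fun m => ?_))
      have h1 := LinearMap.congr_fun hφ m
      simp only [LinearMap.coe_comp, Function.comp_apply, LinearMap.smul_apply,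
        LinearMap.coe_restrictScalars, LocalizedModule.mkLinearMap_apply] at h1 ⊢
      rw [LocalizedModule.map_mk, LocalizedModule.map_mk, hg, ← LocalizedModule.smul'_mk, h1,
        Submonoid.smul_def, smul_smul]
      rw [show t * (s : R) = ((⟨t, ht⟩ * s : W) : R) from rfl,
        ← IsScalarTower.algebraMap_smul (Localization W) ((⟨t, ht⟩ * s : W) : R),
        ← hu, smul_smul, Units.inv_mul, one_smul]
    | succ k =>
      rw [subsingleton_ext_succ_iff (A := Localization W) (K := LocalizedModule W (LinearMap.ker π))
        (F := LocalizedModule W (Fin n → R)) (N := LocalizedModule W N) (LocalizedModule W T)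
        (ι := LocalizedModule.map W (LinearMap.ker π).subtype) (π := LocalizedModule.map W π) hι' hπ' hex']
      refine ih (LinearMap.ker π) T fun y => ?_
      obtain ⟨t, ht, hty⟩ := h (hS.extClass.comp y (show 1 + (k + 1) = k + 2 by omega))
      rw [← Ext.comp_smul] at hty
      obtain ⟨w, hw⟩ := Ext.contravariant_sequence_exact₁ hS (ModuleCat.of R T) _
        (show 1 + (k + 1) = k + 2 by omega) hty
      exact ⟨t, ht, by rw [← hw, Ext.eq_zero_of_projective w, Ext.comp_zero]⟩

/-- `Ext^k(N,T)` vanishes if it vanishes at all maximal ideals. -/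
theorem subsingleton_ext_of_local (k : ℕ) (N : Type u) [AddCommGroup N] [Module R N] [Module.Finite R N]
    (T : Type u) [AddCommGroup T] [Module R T]
    (h : ∀ (m : Ideal R) [m.IsMaximal], Subsingleton (Ext
      (ModuleCat.of (Localization.AtPrime m) (LocalizedModule m.primeCompl N))
      (ModuleCat.of (Localization.AtPrime m) (LocalizedModule m.primeCompl T)) k)) :
    Subsingleton (Ext (ModuleCat.of R N) (ModuleCat.of R T) k) := by
  refine subsingleton_of_forall_eq 0 fun x => ?_
  by_contra hx
  obtain ⟨m, hm, hle⟩ := Ideal.exists_le_maximal (LinearMap.ker (LinearMap.toSpanSingleton R _ x))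
    (fun e => hx (by
      have : (1 : R) ∈ LinearMap.ker (LinearMap.toSpanSingleton R _ x) := by rw [e]; trivial
      simpa using this))
  obtain ⟨s, hs, hsx⟩ := exists_kill_of_subsingleton_ext_localized m.primeCompl k N T (h m) x
  exact hs (hle (by simpa using hsx))

end Groth.Agent.LocCoh
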