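import Groth.Agent.LocCoh.Gorenstein
import Groth.Agent.LocCoh.ExtLocalGlobal

/-!
Criteria for the Gorenstein property.
-/

set_option autoImplicit false

universe u

open CategoryTheory CategoryTheory.Abelian IsLocalRing RingTheory.Sequence
open scoped Pointwise

namespace Groth.Agent.LocCoh

variable {R : Type u} [CommRing R]

local notation "Gor" => _root_.LocCoh.IsGorensteinLocalRing
local notation "CMLoc" => _root_.LocCoh.IsCohenMacaulayLocalRing

/-- The socle of `R/J` is a line. -/
def IsSocleLine [IsLocalRing R] (J : Ideal R) : Prop :=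
  ∃ e : R, e ∉ J ∧ (∀ a ∈ maximalIdeal R, a * e ∈ J) ∧
    ∀ z : R, (∀ a ∈ maximalIdeal R, a * z ∈ J) → z ∈ J ⊔ Ideal.span {e}

variable [IsNoetherianRing R] [IsLocalRing R]

theorem nonempty_socle_iff {n : ℕ} {xs : List R} (hlen : xs.length = n) (hmem : ∀ x ∈ xs, x ∈ maximalIdeal R)
    (hreg : IsWeaklyRegular R xs) (hrad : maximalIdeal R ≤ (Ideal.ofList xs).radical) :
    Nonempty ((R ⧸ maximalIdeal R) ≃ₗ[R]
      _root_.LocCoh.torsionBy (maximalIdeal R) (_root_.LocCoh.H (maximalIdeal R) n R)) ↔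
      IsSocleLine (Ideal.ofList xs) := by
  set J := Ideal.ofList xs
  have hJm : J ≤ maximalIdeal R := Ideal.span_le.2 hmem
  have hq := nonempty_quotient_equiv_torsionBy_H (maximalIdeal R) xs R hmem hreg
    (hrad.trans (Ideal.radical_mono le_sup_left))
  rw [hlen, show J • (⊤ : Submodule R R) = J by rw [smul_eq_mul, Ideal.mul_top]] at hq
  obtain ⟨eq⟩ := hq
  let T := _root_.LocCoh.H (maximalIdeal R) n R
  let ι : (R ⧸ J) →ₗ[R] T := (Submodule.subtype _).comp eq.toLinearMap
  have hι : Function.Injective ι := Subtype.val_injective.comp eq.injective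
  have hsoc : ∀ t : T, t ∈ _root_.LocCoh.torsionBy (maximalIdeal R) T ↔
      ∃ z : R, (∀ a ∈ maximalIdeal R, a * z ∈ J) ∧ ι (Submodule.Quotient.mk z) = t := by
    intro t
    constructor
    · intro ht
      have htJ : t ∈ _root_.LocCoh.torsionBy J T := (Submodule.mem_torsionBySet_iff _ _).2 fun a =>
        (Submodule.mem_torsionBySet_iff _ _).1 ht ⟨a.1, hJm a.2⟩
      obtain ⟨z, hz⟩ := Submodule.Quotient.mk_surjective J (eq.symm ⟨t, htJ⟩)
      have hzt : ι (Submodule.Quotient.mk z) = t := by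
        show ((eq (Submodule.Quotient.mk z)) : T) = t
        rw [hz, eq.apply_symm_apply]
      refine ⟨z, fun a ha => ?_, hzt⟩
      rw [← Submodule.Quotient.mk_eq_zero, ← smul_eq_mul, Submodule.Quotient.mk_smul]
      refine hι ?_
      rw [map_smul, hzt, map_zero]
      exact (Submodule.mem_torsionBySet_iff _ _).1 ht ⟨a, ha⟩
    · rintro ⟨z, hz, rfl⟩
      refine (Submodule.mem_torsionBySet_iff _ _).2 fun a => ?_
      rw [← map_smul, ← Submodule.Quotient.mk_smul, smul_eq_mul, (Submodule.Quotient.mk_eq_zero J).2 (hz a.1 a.2), map_zero]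
  constructor
  · rintro ⟨s⟩
    obtain ⟨e, he, het⟩ := (hsoc _).1 (s (Submodule.Quotient.mk 1)).2
    refine ⟨e, fun h => ?_, he, fun z hz => ?_⟩
    · rw [(Submodule.Quotient.mk_eq_zero J).2 h, map_zero] at het
      have h1 : (Submodule.Quotient.mk (1 : R) : R ⧸ maximalIdeal R) = 0 :=
        s.injective (by rw [map_zero]; exact Subtype.ext het.symm)
      exact (maximalIdeal.isMaximal R).ne_top ((Ideal.eq_top_iff_one _).2 ((Submodule.Quotient.mk_eq_zero _).1 h1))
    · obtain ⟨q, hq⟩ := s.surjective ⟨_, (hsoc _).2 ⟨z, hz, rfl⟩⟩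
      obtain ⟨c, rfl⟩ := Submodule.Quotient.mk_surjective _ q
      rw [show (Submodule.Quotient.mk c : R ⧸ maximalIdeal R) = c • Submodule.Quotient.mk 1 by
        rw [← Submodule.Quotient.mk_smul, smul_eq_mul, mul_one], map_smul] at hq
      have hc : c • ι (Submodule.Quotient.mk e) = ι (Submodule.Quotient.mk z) := by
        rw [het]; exact congrArg Subtype.val hq
      rw [← map_smul, ← Submodule.Quotient.mk_smul] at hc
      have := (Submodule.Quotient.eq _).1 (hι hc)
      rw [show z = -(c • e - z) + c * e by rw [smul_eq_mul]; ring]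
      exact add_mem (Submodule.mem_sup_left (neg_mem this))
        (Submodule.mem_sup_right (Ideal.mul_mem_left _ _ (Ideal.mem_span_singleton_self e)))
  · rintro ⟨e, heJ, he, hline⟩
    let t : _root_.LocCoh.torsionBy (maximalIdeal R) T := ⟨ι (Submodule.Quotient.mk e), (hsoc _).2 ⟨e, he, rfl⟩⟩
    let φ : (R ⧸ maximalIdeal R) →ₗ[R] _root_.LocCoh.torsionBy (maximalIdeal R) T :=
      Submodule.liftQ _ (LinearMap.toSpanSingleton R _ t) fun a ha => by
        rw [LinearMap.mem_ker, LinearMap.toSpanSingleton_apply]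
        exact Subtype.ext ((Submodule.mem_torsionBySet_iff _ _).1 t.2 ⟨a, ha⟩)
    refine ⟨LinearEquiv.ofBijective φ ⟨(injective_iff_map_eq_zero _).2 fun q hq => ?_, fun w => ?_⟩⟩
    · obtain ⟨c, rfl⟩ := Submodule.Quotient.mk_surjective _ q
      by_contra hc
      rw [Submodule.Quotient.mk_eq_zero] at hc
      obtain ⟨u, hu⟩ := (IsLocalRing.notMem_maximalIdeal.1 hc)
      have h1 : c • ι (Submodule.Quotient.mk e) = 0 := congrArg Subtype.val hq
      rw [← map_smul, ← Submodule.Quotient.mk_smul] at h1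
      have h2 : c * e ∈ J := (Submodule.Quotient.mk_eq_zero J).1 (hι (h1.trans (map_zero ι).symm))
      exact heJ (by
        have := J.mul_mem_left (↑u⁻¹ : R) h2
        rwa [← hu, ← mul_assoc, Units.inv_mul, one_mul] at this)
    · obtain ⟨z, hz, hzw⟩ := (hsoc _).1 w.2
      obtain ⟨j, hj, b, hb, rfl⟩ := Submodule.mem_sup.1 (hline z hz)
      obtain ⟨c, rfl⟩ := Ideal.mem_span_singleton'.1 hb
      refine ⟨Submodule.Quotient.mk c, Subtype.ext ?_⟩
      show c • ι (Submodule.Quotient.mk e) = (w : T)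
      rw [← hzw, Submodule.Quotient.mk_add, (Submodule.Quotient.mk_eq_zero J).2 hj, zero_add, ← map_smul,
        ← Submodule.Quotient.mk_smul, smul_eq_mul]

theorem subsingleton_H_of_cm [CMLoc R] {n : ℕ} (hn : ringKrullDim R = n) :
    ∀ j < n, Subsingleton (_root_.LocCoh.H (maximalIdeal R) j R) := by
  intro j hj
  obtain ⟨xs, hlen, hmem, hreg, -⟩ := exists_parameters_in_pow hn 1
  exact subsingleton_H_of_weaklyRegular _ xs R (fun x hx => by simpa using hmem x hx) hreg.toIsWeaklyRegular j
    (hlen.symm ▸ hj)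

theorem gorenstein_iff_socle [CMLoc R] {n : ℕ} (hn : ringKrullDim R = n) :
    Gor R ↔ Nonempty ((R ⧸ maximalIdeal R) ≃ₗ[R]
      _root_.LocCoh.torsionBy (maximalIdeal R) (_root_.LocCoh.H (maximalIdeal R) n R)) := by
  refine ⟨fun h => nonempty_socle_of_gorenstein hn, fun h => ?_⟩
  obtain ⟨E, _, _, hE⟩ := Matlis6.exists_isHullAt (maximalIdeal R)
  obtain ⟨e⟩ := nonempty_H_equiv_hull hn hE h
  exact gorenstein_of_cm hn (subsingleton_H_of_cm hn) hE e

theorem isCohenMacaulay_of_subsingleton_H {n : ℕ} (hn : ringKrullDim R = n)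
    (hlow : ∀ j < n, Subsingleton (_root_.LocCoh.H (maximalIdeal R) j R)) : CMLoc R := by
  refine (CAlgH3.isCohenMacaulayLocalRing_iff_depth R).2 ?_
  rw [hn]
  exact le_antisymm (WithBot.coe_le_coe.2 ((natCast_le_idealDepth_iff_H _ R n).2 hlow))
    ((CAlgH3.depth_le_supportDim (R := R) (M := R)).trans ((Module.supportDim_le_ringKrullDim R R).trans hn.le))

/-- An injective top local cohomology module has a one-dimensional socle. -/
theorem gorenstein_of_injective {n : ℕ} (hn : ringKrullDim R = n)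
    (hlow : ∀ j < n, Subsingleton (_root_.LocCoh.H (maximalIdeal R) j R))
    (hinj : Module.Injective R (_root_.LocCoh.H (maximalIdeal R) n R)) : Gor R := by
  haveI := isCohenMacaulay_of_subsingleton_H hn hlow
  obtain ⟨xs, hlen, hmem, hreg, hrad⟩ := exists_parameters_in_pow hn 1
  have hmem' : ∀ x ∈ xs, x ∈ maximalIdeal R := fun x hx => by simpa using hmem x hx
  rw [gorenstein_iff_socle hn, nonempty_socle_iff hlen hmem' hreg.toIsWeaklyRegular hrad]
  set J := Ideal.ofList xs
  have hJm : J ≤ maximalIdeal R := Ideal.span_le.2 hmem'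
  have hq := nonempty_quotient_equiv_torsionBy_H (maximalIdeal R) xs R hmem' hreg.toIsWeaklyRegular
    (hrad.trans (Ideal.radical_mono le_sup_left))
  rw [hlen, show J • (⊤ : Submodule R R) = J by rw [smul_eq_mul, Ideal.mul_top]] at hq
  obtain ⟨eq⟩ := hq
  let T := _root_.LocCoh.H (maximalIdeal R) n R
  let ι : (R ⧸ J) →ₗ[R] T := (Submodule.subtype _).comp eq.toLinearMap
  -- a nonzero socle element
  obtain ⟨z0, hz0, hz0'⟩ : ∃ z, z * 1 ∉ J ∧ ∀ y ∈ maximalIdeal R, y * (z * 1) ∈ J := by
    classical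
    obtain ⟨N, hN⟩ := Ideal.exists_pow_le_of_le_radical_of_fg hrad (IsNoetherian.noetherian (maximalIdeal R))
    have hex : ∃ k, maximalIdeal R ^ k ≤ J := ⟨N, hN⟩
    have h0 : Nat.find hex ≠ 0 := fun h => (ne_top_of_le_ne_top (maximalIdeal.isMaximal R).ne_top hJm)
      (top_le_iff.1 (by have := Nat.find_spec hex; rwa [h, pow_zero, Ideal.one_eq_top] at this))
    obtain ⟨z, hz, hzJ⟩ := SetLike.not_le_iff_exists.1 (Nat.find_min hex (Nat.sub_lt (Nat.pos_of_ne_zero h0) one_pos))
    refine ⟨z, by rwa [mul_one], fun y hy => ?_⟩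
    rw [mul_one]
    refine Nat.find_spec hex ?_
    rw [show Nat.find hex = (Nat.find hex - 1) + 1 by omega, pow_succ']
    exact Ideal.mul_mem_mul hy hz
  rw [mul_one] at hz0
  simp only [mul_one] at hz0'
  refine ⟨z0, hz0, hz0', fun z hz => ?_⟩
  -- map the line of `z0` to `z` and extend
  have hker : ∀ c : R, c * z0 ∈ J → c • ι (Submodule.Quotient.mk z) = 0 := by
    intro c hc
    have hcm : c ∈ maximalIdeal R := by
      by_contra h
      obtain ⟨u, rfl⟩ := IsLocalRing.notMem_maximalIdeal.1 h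
      exact hz0 (by simpa [← mul_assoc] using J.mul_mem_left (↑u⁻¹ : R) hc)
    rw [← map_smul, ← Submodule.Quotient.mk_smul, smul_eq_mul, (Submodule.Quotient.mk_eq_zero J).2 (hz c hcm), map_zero]
  let σ : R →ₗ[R] R ⧸ J := LinearMap.toSpanSingleton R _ (Submodule.Quotient.mk z0)
  let τ : (R ⧸ LinearMap.ker σ) →ₗ[R] T :=
    Submodule.liftQ _ (LinearMap.toSpanSingleton R T (ι (Submodule.Quotient.mk z))) fun c hc => by
      rw [LinearMap.mem_ker, LinearMap.toSpanSingleton_apply, ← Submodule.Quotient.mk_smul,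
        Submodule.Quotient.mk_eq_zero] at hc
      exact hker c hc
  obtain ⟨φ, hφ⟩ := hinj.out (Submodule.liftQ _ σ le_rfl)
    (LinearMap.ker_eq_bot.1 (Submodule.ker_liftQ_eq_bot _ _ _ le_rfl)) τ
  have hval : φ (Submodule.Quotient.mk z0) = ι (Submodule.Quotient.mk z) := by
    have h1 := hφ (Submodule.Quotient.mk 1)
    change φ ((1 : R) • (Submodule.Quotient.mk z0 : R ⧸ J)) = (1 : R) • ι (Submodule.Quotient.mk z) at h1
    rwa [one_smul, one_smul] at h1
  -- `φ` is multiplication by some `c`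
  have hmemJ : φ (Submodule.Quotient.mk 1) ∈ _root_.LocCoh.torsionBy J T :=
    (Submodule.mem_torsionBySet_iff _ _).2 fun a => by
      rw [← map_smul, ← Submodule.Quotient.mk_smul, smul_eq_mul, (Submodule.Quotient.mk_eq_zero J).2
        (J.mul_mem_right (1 : R) a.2), map_zero]
  obtain ⟨c, hc⟩ := Submodule.Quotient.mk_surjective J (eq.symm ⟨_, hmemJ⟩)
  have hιc : ι (Submodule.Quotient.mk c) = φ (Submodule.Quotient.mk 1) := by
    show ((eq (Submodule.Quotient.mk c)) : T) = _
    rw [hc, eq.apply_symm_apply]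
  have key : ι (Submodule.Quotient.mk (z0 * c)) = ι (Submodule.Quotient.mk z) := by
    rw [← hval, show (Submodule.Quotient.mk z0 : R ⧸ J) = z0 • Submodule.Quotient.mk 1 by
      rw [← Submodule.Quotient.mk_smul, smul_eq_mul, mul_one], map_smul, ← hιc, ← map_smul,
      ← Submodule.Quotient.mk_smul, smul_eq_mul]
  have h3 := (Submodule.Quotient.eq J).1 ((Subtype.val_injective.comp eq.injective : Function.Injective ι) key)
  rw [show z = -(z0 * c - z) + c * z0 by ring]
  exact add_mem (Submodule.mem_sup_left (neg_mem h3))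
    (Submodule.mem_sup_right (Ideal.mul_mem_left _ _ (Ideal.mem_span_singleton_self z0)))

theorem gorenstein_quotient_iff {f : R} (hf : f ∈ maximalIdeal R) (hreg : IsSMulRegular R f) :
    Gor R ↔ Gor (R ⧸ Ideal.span {f}) := by
  let A := R ⧸ Ideal.span {f}
  haveI : Nontrivial A := Ideal.Quotient.nontrivial_iff.2
    (ne_top_of_le_ne_top (maximalIdeal.isMaximal R).ne_top ((Ideal.span_singleton_le_iff_mem _).2 hf))
  haveI : IsLocalRing A := .of_surjective' _ Ideal.Quotient.mk_surjective
  let mk : R →+* A := Ideal.Quotient.mk (Ideal.span {f})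
  have hsurj : Function.Surjective mk := Ideal.Quotient.mk_surjective
  have hm : (maximalIdeal A).comap mk = maximalIdeal R := by
    exact IsLocalRing.eq_maximalIdeal (Ideal.comap_isMaximal_of_surjective mk hsurj)
  -- with CM on both sides
  suffices key : ∀ [CMLoc R] [CMLoc A], Gor R ↔ Gor A by
    constructor
    · intro h
      haveI := isCohenMacaulayLocalRing_of_gorenstein (R := R)
      haveI : CMLoc A := (CAlgH3.isCohenMacaulayLocalRing_quotient_span_iff hf hreg).2 inferInstance
      exact key.1 h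
    · intro h
      haveI := isCohenMacaulayLocalRing_of_gorenstein (R := A)
      haveI : CMLoc R := (CAlgH3.isCohenMacaulayLocalRing_quotient_span_iff hf hreg).1 inferInstance
      exact key.2 h
  intro _ _
  obtain ⟨n, hn⟩ := exists_dim_eq (R := R)
  obtain ⟨d, hd⟩ := exists_dim_eq (R := A)
  obtain ⟨ys, hlen, hmem, hyreg, hyrad⟩ := exists_parameters_in_pow (R := A) hd 1
  choose g hg using hsurj
  let xs := ys.map g
  have hxs : xs.map mk = ys := by simp [xs, Function.comp_def, hg]
  have hmemx : ∀ x ∈ f :: xs, x ∈ maximalIdeal R := by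
    intro x hx
    rcases List.mem_cons.1 hx with rfl | hx
    · exact hf
    · obtain ⟨y, hy, rfl⟩ := List.mem_map.1 hx
      rw [← hm, Ideal.mem_comap, hg]
      simpa using hmem y hy
  have hwreg : IsWeaklyRegular R (f :: xs) := by
    rw [isWeaklyRegular_cons_iff]
    refine ⟨hreg, ?_⟩
    rw [LinearEquiv.isWeaklyRegular_congr ((Submodule.quotEquivOfEq _ (Ideal.span {f})
      (by rw [← Submodule.ideal_span_singleton_smul, smul_eq_mul, Ideal.mul_top]) : QuotSMulTop f R ≃ₗ[R] A))]
    rw [← isWeaklyRegular_map_algebraMap_iff (S := A) (M := A)]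
    rw [show xs.map (algebraMap R A) = ys from hxs]
    exact hyreg.toIsWeaklyRegular
  have hmap : (Ideal.ofList (f :: xs)).map mk = Ideal.ofList ys := by
    rw [Ideal.map_ofList, List.map_cons, hxs, Ideal.ofList_cons,
      show mk f = 0 from Ideal.Quotient.eq_zero_iff_mem.2 (Ideal.mem_span_singleton_self f)]
    simp
  have hcomap : (Ideal.ofList ys).comap mk = Ideal.ofList (f :: xs) := by
    rw [← hmap, Ideal.comap_map_of_surjective mk Ideal.Quotient.mk_surjective, sup_eq_left,
      ← RingHom.ker_eq_comap_bot, Ideal.mk_ker, Ideal.ofList_cons]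
    exact le_sup_left
  have hrad : maximalIdeal R ≤ (Ideal.ofList (f :: xs)).radical := by
    rw [← hcomap, ← Ideal.comap_radical, ← hm]
    exact Ideal.comap_mono hyrad
  have hxreg : IsRegular R (f :: xs) := ⟨hwreg, Submodule.top_ne_ideal_smul_of_le_jacobson_annihilator
    ((Ideal.span_le.2 hmemx).trans (IsLocalRing.maximalIdeal_le_jacobson _))⟩
  have hlenx : (f :: xs).length = n := by
    obtain ⟨h1, -⟩ := isRegular_length_le hn hxreg
    refine le_antisymm h1 ?_
    have h2 := Module.supportDim_add_length_eq_supportDim_of_isRegular (f :: xs) hxreg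
    rw [Module.supportDim_self_eq_ringKrullDim, hn] at h2
    have h0 : Module.supportDim R (R ⧸ (Ideal.ofList (f :: xs) • (⊤ : Submodule R R))) ≤ 0 := by
      rw [show Ideal.ofList (f :: xs) • (⊤ : Submodule R R) = Ideal.ofList (f :: xs) by
        rw [smul_eq_mul, Ideal.mul_top]]
      rw [Module.supportDim_eq_ringKrullDim_quotient_annihilator, Ideal.annihilator_quotient]
      haveI : Ring.KrullDimLE 0 (R ⧸ Ideal.ofList (f :: xs)) := by
        rw [Ring.krullDimLE_zero_iff]
        intro P hP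
        haveI := hP
        have h1 : P.comap (Ideal.Quotient.mk _) = maximalIdeal R := by
          refine le_antisymm (IsLocalRing.le_maximalIdeal (Ideal.IsPrime.comap _).ne_top) ?_
          refine hrad.trans ((Ideal.IsPrime.comap _).radical_le_iff.2 ?_)
          exact fun x hx => by rw [Ideal.mem_comap, Ideal.Quotient.eq_zero_iff_mem.2 hx]; exact zero_mem _
        haveI : (P.comap (Ideal.Quotient.mk _)).IsMaximal := h1 ▸ maximalIdeal.isMaximal R
        exact Ideal.map_comap_of_surjective _ Ideal.Quotient.mk_surjective P ▸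
          (Ideal.map_eq_top_or_isMaximal_of_surjective _ Ideal.Quotient.mk_surjective inferInstance).resolve_left
            (by rw [Ideal.map_comap_of_surjective _ Ideal.Quotient.mk_surjective]; exact hP.ne_top)
      exact Ring.krullDimLE_iff.1 inferInstance
    have h3 := h2.symm.le.trans (add_le_add h0 le_rfl)
    rw [zero_add] at h3
    exact_mod_cast h3
  rw [gorenstein_iff_socle hn, gorenstein_iff_socle hd,
    nonempty_socle_iff hlenx hmemx hwreg hrad,
    nonempty_socle_iff hlen (fun x hx => by simpa using hmem x hx) hyreg.toIsWeaklyRegular hyrad]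
  set J := Ideal.ofList (f :: xs)
  set J' := Ideal.ofList ys
  have hJ : ∀ r, mk r ∈ J' ↔ r ∈ J := fun r => by rw [← Ideal.mem_comap, hcomap]
  have hmm : ∀ r, mk r ∈ maximalIdeal A ↔ r ∈ maximalIdeal R := fun r => by rw [← Ideal.mem_comap, hm]
  have hs : ∀ z, (∀ a ∈ maximalIdeal A, a * mk z ∈ J') ↔ ∀ a ∈ maximalIdeal R, a * z ∈ J := fun z => by
    constructor
    · intro h a ha
      rw [← hJ, map_mul]
      exact h _ ((hmm a).2 ha)
    · intro h a ha
      obtain ⟨b, rfl⟩ := Ideal.Quotient.mk_surjective a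
      rw [← map_mul, hJ]
      exact h b ((hmm b).1 ha)
  have hline : ∀ z e, mk z ∈ J' ⊔ Ideal.span {mk e} ↔ z ∈ J ⊔ Ideal.span {e} := fun z e => by
    rw [show J' ⊔ Ideal.span {mk e} = (J ⊔ Ideal.span {e}).map mk by
      rw [Ideal.map_sup, hmap, Ideal.map_span, Set.image_singleton],
      ← Ideal.mem_comap, Ideal.comap_map_of_surjective mk Ideal.Quotient.mk_surjective]
    rw [sup_eq_left.2 (le_trans ?_ le_sup_left)]
    rw [← RingHom.ker_eq_comap_bot, Ideal.mk_ker]
    exact (le_sup_left (a := Ideal.span {f})).trans (Ideal.ofList_cons f xs).ge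
  constructor
  · rintro ⟨e, he, hes, hmax⟩
    refine ⟨mk e, fun h => he ((hJ e).1 h), (hs e).2 hes, fun z hz => ?_⟩
    obtain ⟨w, rfl⟩ := Ideal.Quotient.mk_surjective z
    exact (hline w e).2 (hmax w ((hs w).1 hz))
  · rintro ⟨e', he, hes, hmax⟩
    obtain ⟨e, rfl⟩ := Ideal.Quotient.mk_surjective e'
    exact ⟨e, fun h => he ((hJ e).2 h), (hs e).1 hes, fun z hz => (hline z e).1 (hmax (mk z) ((hs z).2 hz))⟩

end Groth.Agent.LocCoh
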