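import Groth.Agent.LocCoh.Local
import Mathlib.RingTheory.Filtration
import Mathlib.Algebra.Module.Injective
import Mathlib.LinearAlgebra.Prod
import Mathlib.RingTheory.Ideal.Operations

/-!
Injective modules over Noetherian rings: torsion part, splitting along an element; acyclicity
criterion for local cohomology; change of support along an element.
-/

set_option autoImplicit false

universe u v

open CategoryTheory Abelian

namespace Groth.Agent.LocCoh

variable {R : Type u} [CommRing R]

/-- The map on power-torsion submodules. -/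
def gammaMap (I : Ideal R) {M N : Type u} [AddCommGroup M] [Module R M] [AddCommGroup N] [Module R N]
    (f : M →ₗ[R] N) : powTorsion I M →ₗ[R] powTorsion I N :=
  f.restrict fun m ⟨n, hn⟩ => ⟨n, fun a ha => by rw [← map_smul, hn a ha, map_zero]⟩

section retract

variable {M N : Type u} [AddCommGroup M] [Module R M] [AddCommGroup N] [Module R N]

theorem injective_of_retract [Module.Injective R M] (s : N →ₗ[R] M) (r : M →ₗ[R] N)
    (h : r.comp s = LinearMap.id) : Module.Injective R N :=
  Module.Baer.injective fun J f => by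
    obtain ⟨g, hg⟩ := Module.Baer.of_injective (inferInstance : Module.Injective R M) J (s.comp f)
    refine ⟨r.comp g, fun x hx => ?_⟩
    rw [LinearMap.comp_apply, hg x hx, LinearMap.comp_apply, ← LinearMap.comp_apply (f := r), h]
    rfl

theorem injective_prod [Module.Injective R M] [Module.Injective R N] : Module.Injective R (M × N) :=
  Module.Baer.injective fun J f => by
    obtain ⟨g₁, hg₁⟩ := Module.Baer.of_injective (inferInstance : Module.Injective R M) J
      ((LinearMap.fst R M N).comp f)
    obtain ⟨g₂, hg₂⟩ := Module.Baer.of_injective (inferInstance : Module.Injective R N) J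
      ((LinearMap.snd R M N).comp f)
    exact ⟨g₁.prod g₂, fun x hx => Prod.ext (hg₁ x hx) (hg₂ x hx)⟩

end retract

/-- Over a Noetherian ring the power-torsion part of an injective module is injective. -/
theorem injective_powTorsion [IsNoetherianRing R] (I : Ideal R) (E : Type u) [AddCommGroup E]
    [Module R E] [Module.Injective R E] : Module.Injective R (powTorsion I E) := by
  refine Module.Baer.injective fun J f => ?_
  have hfg : J.FG := IsNoetherian.noetherian J
  haveI : Module.Finite R J := Module.Finite.iff_fg.2 hfg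
  obtain ⟨n, hn⟩ : ∃ n, ∀ x : J, ∀ a ∈ I ^ n, a • (f x : E) = 0 := by
    obtain ⟨s, hs⟩ := (Module.Finite.fg_top (R := R) (M := J))
    choose k hk using fun x : J => (f x).2
    classical
    refine ⟨s.sup fun x => k x, fun x a ha => ?_⟩
    have hx : x ∈ Submodule.span R (s : Set J) := by rw [hs]; trivial
    induction hx using Submodule.span_induction with
    | mem y hy => exact hk y a (Ideal.pow_le_pow_right (Finset.le_sup (f := fun x => k x) hy) ha)
    | zero => simp
    | add y z _ _ hy hz => rw [map_add, Submodule.coe_add, smul_add, hy, hz, add_zero]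
    | smul c y _ hy => rw [map_smul, Submodule.coe_smul, smul_comm, hy, smul_zero]
  obtain ⟨k, hk⟩ := Ideal.exists_pow_inf_eq_pow_smul I (J : Submodule R R)
  let ι : J →ₗ[R] R ⧸ I ^ (n + k) := (Submodule.mkQ (I ^ (n + k))).comp J.subtype
  have hker : LinearMap.ker ι ≤ LinearMap.ker ((powTorsion I E).subtype.comp f) := by
    intro x hx
    have hx1 : (x : R) ∈ I ^ (n + k) := (Submodule.Quotient.mk_eq_zero _).1 hx
    have hx2 : (x : R) ∈ I ^ (n + k) • (⊤ : Submodule R R) ⊓ (J : Submodule R R) :=
      ⟨by rwa [smul_eq_mul, Ideal.mul_top], x.2⟩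
    rw [hk (n + k) (Nat.le_add_left k n), Nat.add_sub_cancel] at hx2
    have hx3 : (x : R) ∈ I ^ n • (J : Submodule R R) := Submodule.smul_mono le_rfl inf_le_right hx2
    have key : ∀ y ∈ I ^ n • (J : Submodule R R), ∀ hy : y ∈ J, (f ⟨y, hy⟩ : E) = 0 := by
      intro y hy
      induction hy using Submodule.smul_induction_on' with
      | smul a ha z hz =>
        intro _
        have : (⟨a • z, J.smul_mem a hz⟩ : J) = a • (⟨z, hz⟩ : J) := rfl
        rw [this, map_smul, Submodule.coe_smul, hn _ a ha]
      | add y hy z hz ihy ihz =>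
        intro _
        have hyJ : y ∈ J := Submodule.smul_le_right hy
        have hzJ : z ∈ J := Submodule.smul_le_right hz
        have : (⟨y + z, J.add_mem hyJ hzJ⟩ : J) = ⟨y, hyJ⟩ + ⟨z, hzJ⟩ := rfl
        rw [this, map_add, Submodule.coe_add, ihy hyJ, ihz hzJ, add_zero]
    exact key _ hx3 x.2
  let g : (J ⧸ LinearMap.ker ι) →ₗ[R] E := Submodule.liftQ _ _ hker
  let ι' : (J ⧸ LinearMap.ker ι) →ₗ[R] R ⧸ I ^ (n + k) := Submodule.liftQ _ ι le_rfl
  have hι' : Function.Injective ι' :=
    LinearMap.ker_eq_bot.1 (Submodule.ker_liftQ_eq_bot' _ ι rfl)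
  obtain ⟨h, hh⟩ := Module.Injective.extension_property R E _ _ ι' hι' g
  have hmem : ∀ r : R, h (Submodule.mkQ (I ^ (n + k)) r) ∈ powTorsion I E := fun r =>
    ⟨n + k, fun a ha => by
      rw [← map_smul, ← map_smul, Submodule.mkQ_apply,
        (Submodule.Quotient.mk_eq_zero _).2 (by rw [smul_eq_mul]; exact Ideal.mul_mem_right _ _ ha),
        map_zero]⟩
  refine ⟨LinearMap.codRestrict _ (h.comp (Submodule.mkQ (I ^ (n + k)))) hmem, fun x hx => ?_⟩
  exact Subtype.ext (LinearMap.congr_fun hh (Submodule.Quotient.mk (⟨x, hx⟩ : J)))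

/-- Torsion with respect to an element. -/
def IsElemTorsion (b : R) (M : Type u) [AddCommGroup M] [Module R M] : Prop :=
  ∀ m : M, ∃ n : ℕ, b ^ n • m = 0

theorem isElemTorsion_iff (b : R) (M : Type u) [AddCommGroup M] [Module R M] :
    IsElemTorsion b M ↔ ∀ m : M, m ∈ powTorsion (Ideal.span {b}) M := by
  refine forall_congr' fun m => exists_congr fun n => ?_
  rw [Ideal.span_singleton_pow]
  exact ⟨fun h a ha => by
    obtain ⟨c, rfl⟩ := Ideal.mem_span_singleton'.1 ha
    rw [mul_smul, h, smul_zero], fun h => h _ (Ideal.mem_span_singleton_self _)⟩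

theorem isElemTorsion_powTorsion (b : R) (M : Type u) [AddCommGroup M] [Module R M] :
    IsElemTorsion b (powTorsion (Ideal.span {b}) M) := fun m => by
  obtain ⟨n, hn⟩ := m.2
  exact ⟨n, Subtype.ext (hn _ (Ideal.pow_mem_pow (Ideal.mem_span_singleton_self b) n))⟩

/-- An injective module splits as torsion part and a part on which `b` is bijective. -/
theorem injective_split [IsNoetherianRing R] (b : R) (E : Type u) [AddCommGroup E] [Module R E]
    [Module.Injective R E] :
    ∃ U : Submodule R E, Module.Injective R (powTorsion (Ideal.span {b}) E) ∧ Module.Injective R U ∧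
      Function.Bijective (fun x : U => b • x) ∧ IsCompl (powTorsion (Ideal.span {b}) E) U := by
  haveI hT : Module.Injective R (powTorsion (Ideal.span {b}) E) := injective_powTorsion _ E
  set T := powTorsion (Ideal.span {b}) E
  obtain ⟨π, hπ⟩ := Module.Injective.extension_property R T T E T.subtype
    T.injective_subtype LinearMap.id
  have hπ' : ∀ x : T, π (x : E) = x := fun x => LinearMap.congr_fun hπ x
  have hc : IsCompl T (LinearMap.ker π) := LinearMap.isCompl_of_proj hπ'
  have hU : Module.Injective R (LinearMap.ker π) :=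
    injective_of_retract (LinearMap.ker π).subtype
      (LinearMap.codRestrict _ (LinearMap.id - T.subtype.comp π) fun x => by
        simp [hπ'])
      (LinearMap.ext fun x => Subtype.ext (by simp [LinearMap.mem_ker.1 x.2]))
  refine ⟨LinearMap.ker π, hT, hU, ?_, hc⟩
  have inj0 : ∀ (n : ℕ) (x : LinearMap.ker π), b ^ n • x = 0 → x = 0 := fun n x hx => by
    have hxT : (x : E) ∈ T := ⟨n, fun a ha => by
      rw [Ideal.span_singleton_pow] at ha
      obtain ⟨c, rfl⟩ := Ideal.mem_span_singleton'.1 ha
      rw [mul_smul, ← Submodule.coe_smul, hx, Submodule.coe_zero, smul_zero]⟩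
    exact Subtype.ext (hc.disjoint.le_bot ⟨hxT, x.2⟩)
  refine ⟨fun x y hxy => sub_eq_zero.1 (inj0 1 _ ?_), fun x => ?_⟩
  · rw [pow_one, smul_sub]; exact sub_eq_zero.2 hxy
  · let φ : R →ₗ[R] R := LinearMap.toSpanSingleton R R b
    have hker : LinearMap.ker φ ≤ LinearMap.ker (LinearMap.toSpanSingleton R _ x) := fun r hr => by
      have hr' : r * b = 0 := hr
      refine inj0 1 _ ?_
      show b ^ 1 • (r • x) = 0
      rw [pow_one, ← mul_smul, mul_comm, hr', zero_smul]
    obtain ⟨h, hh⟩ := Module.Injective.extension_property R (LinearMap.ker π) _ _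
      (Submodule.liftQ _ φ le_rfl) (LinearMap.ker_eq_bot.1 (Submodule.ker_liftQ_eq_bot' _ φ rfl))
      (Submodule.liftQ _ _ hker)
    refine ⟨h 1, ?_⟩
    have := LinearMap.congr_fun hh (Submodule.Quotient.mk (1 : R))
    simp only [φ, LinearMap.comp_apply, Submodule.liftQ_apply, LinearMap.toSpanSingleton_apply,
      one_smul] at this
    show b • h 1 = x
    rw [← map_smul, smul_eq_mul, mul_one, this]

section support

variable {I : Ideal R} {M N : Type u} [AddCommGroup M] [Module R M] [AddCommGroup N] [Module R N]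

theorem isPowerTorsion_H (i : ℕ) : _root_.LocCoh.IsPowerTorsion I (_root_.LocCoh.H I i M) := by
  intro a
  obtain ⟨n, x, rfl⟩ := exists_cls a
  refine ⟨n, fun r hr => ?_⟩
  have h0 : r • 𝟙 (Q I n) = 0 := ModuleCat.hom_ext (LinearMap.ext fun z => by
    obtain ⟨z, rfl⟩ := Submodule.Quotient.mk_surjective _ z
    show r • (Submodule.Quotient.mk z : R ⧸ I ^ n) = 0
    rw [← Submodule.Quotient.mk_smul]
    exact (Submodule.Quotient.mk_eq_zero _).2 (Ideal.mul_mem_right _ _ hr))
  rw [← map_smul, ← Ext.mk₀_id_comp x, ← Ext.smul_comp, ← Ext.mk₀_smul, h0, Ext.mk₀_zero,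
    Ext.zero_comp, map_zero]

theorem subsingleton_H_of_bijective_smul {b : R} (hb : b ∈ I.radical)
    (hbij : Function.Bijective (fun m : M => b • m)) (i : ℕ) :
    Subsingleton (_root_.LocCoh.H I i M) := by
  obtain ⟨k, hk⟩ := hb
  let e : M ≃ₗ[R] M := LinearEquiv.ofBijective (b • (LinearMap.id : M →ₗ[R] M)) hbij
  have he : ∀ a : _root_.LocCoh.H I i M, Hequiv I i e a = b • a := fun a => by
    show Hmap I i (b • LinearMap.id) a = _
    rw [Hmap_smul, Hmap_id]; rfl
  have hz : ∀ a : _root_.LocCoh.H I i M, a = 0 := fun a => by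
    obtain ⟨n, hn⟩ := isPowerTorsion_H i a
    have h1 : b ^ (k * n) • a = 0 := by rw [pow_mul]; exact hn _ (Ideal.pow_mem_pow hk n)
    generalize k * n = t at h1
    clear hn
    induction t generalizing a with
    | zero => simpa using h1
    | succ t ih =>
      refine ih a ((Hequiv I i e).injective ?_)
      rw [map_zero, he, ← mul_smul, ← pow_succ', h1]
  exact ⟨fun a c => by rw [hz a, hz c]⟩

theorem powTorsion_sup_span (b : R) (h : IsElemTorsion b M) :
    powTorsion (I ⊔ Ideal.span {b}) M = powTorsion I M := by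
  refine le_antisymm (fun m ⟨n, hn⟩ => ⟨n, fun a ha => hn a (Ideal.pow_right_mono le_sup_left n ha)⟩)
    fun m ⟨n, hn⟩ => ?_
  obtain ⟨k, hk⟩ := (isElemTorsion_iff b M).1 h m
  refine ⟨n + k, fun a ha => ?_⟩
  obtain ⟨x, hx, y, hy, rfl⟩ := Submodule.mem_sup.1 (Ideal.sup_pow_add_le_pow_sup_pow ha)
  rw [add_smul, hn x hx, hk y hy, add_zero]

end support

section shift

variable {I : Ideal R} {M N P : Type u} [AddCommGroup M] [Module R M] [AddCommGroup N] [Module R N]
  [AddCommGroup P] [Module R P] {f : M →ₗ[R] N} {g : N →ₗ[R] P}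
  (hf : Function.Injective f) (hg : Function.Surjective g) (hfg : Function.Exact f g)
include hf hg hfg

theorem connecting_bijective (i : ℕ) [Subsingleton (_root_.LocCoh.H I i N)]
    [Subsingleton (_root_.LocCoh.H I (i + 1) N)] : Function.Bijective (connecting I hf hg hfg i) := by
  refine ⟨(injective_iff_map_eq_zero _).2 fun a ha => ?_, fun a => ?_⟩
  · obtain ⟨c, rfl⟩ := (Hmap_connecting_exact hf hg hfg i a).1 ha
    rw [Subsingleton.elim c 0, map_zero]
  · exact (connecting_Hmap_exact hf hg hfg i a).1 (Subsingleton.elim _ _)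

/-- Dimension shifting. -/
noncomputable def shiftEquiv (i : ℕ) [Subsingleton (_root_.LocCoh.H I i N)]
    [Subsingleton (_root_.LocCoh.H I (i + 1) N)] :
    _root_.LocCoh.H I i P ≃ₗ[R] _root_.LocCoh.H I (i + 1) M :=
  LinearEquiv.ofBijective _ (connecting_bijective hf hg hfg i)

/-- The cokernel description of the first local cohomology. -/
noncomputable def H1Equiv [Subsingleton (_root_.LocCoh.H I 1 N)] :
    (powTorsion I P ⧸ LinearMap.range (gammaMap I g)) ≃ₗ[R] _root_.LocCoh.H I 1 M :=
  have hsurj : Function.Surjective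
      ((connecting I hf hg hfg 0).comp (H0Equiv I P).symm.toLinearMap) := fun a => by
    obtain ⟨c, rfl⟩ := (connecting_Hmap_exact hf hg hfg 0 a).1 (Subsingleton.elim _ _)
    exact ⟨H0Equiv I P c, by simp⟩
  have hker : LinearMap.ker ((connecting I hf hg hfg 0).comp (H0Equiv I P).symm.toLinearMap) =
      LinearMap.range (gammaMap I g) := by
    ext x
    constructor
    · intro hx
      obtain ⟨c, hc⟩ := (Hmap_connecting_exact hf hg hfg 0 _).1 hx
      refine ⟨H0Equiv I N c, Subtype.ext ?_⟩
      show g (H0Equiv I N c : N) = _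
      rw [← H0Equiv_natural g c, hc]
      simp
    · rintro ⟨y, rfl⟩
      refine (Hmap_connecting_exact hf hg hfg 0 _).2 ⟨(H0Equiv I N).symm y, ?_⟩
      refine (LinearEquiv.eq_symm_apply _).2 (Subtype.ext ?_)
      rw [H0Equiv_natural g]
      simp [gammaMap]
  (Submodule.quotEquivOfEq _ _ hker.symm).trans (LinearMap.quotKerEquivOfSurjective _ hsurj)

end shift

/-- An injective embedding. -/
theorem exists_injective_embedding (M : Type u) [AddCommGroup M] [Module R M] :
    ∃ (E : Type u) (_ : AddCommGroup E) (_ : Module R E) (f : M →ₗ[R] E),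
      Module.Injective R E ∧ Function.Injective f := by
  obtain ⟨P⟩ := (EnoughInjectives.presentation (ModuleCat.of R M) : _)
  haveI : CategoryTheory.Injective (ModuleCat.of R P.J) := P.injective
  exact ⟨P.J, inferInstance, inferInstance, P.f.hom,
    Module.injective_module_of_injective_object (M := P.J) R,
    (ModuleCat.mono_iff_injective _).1 P.mono⟩

/-- Acyclicity criterion: a class of modules closed under splitting along elements. -/
theorem subsingleton_H_of_splitting
    (C : ModuleCat.{u} R → Prop)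
    (hC : ∀ (b : R) (M : ModuleCat.{u} R), C M → ∃ (T U : Submodule R M), IsCompl T U ∧
      C (ModuleCat.of R T) ∧ IsElemTorsion b T ∧ Function.Bijective (fun x : U => b • x))
    (hstep : ∀ (b : R) (I : Ideal R) (T : Type u) [AddCommGroup T] [Module R T],
      IsElemTorsion b T → (∀ i, 0 < i → Subsingleton (_root_.LocCoh.H I i T)) →
      ∀ i, 0 < i → Subsingleton (_root_.LocCoh.H (I ⊔ Ideal.span {b}) i T))
    (hbot : ∀ (M : ModuleCat.{u} R) (i : ℕ), 0 < i → Subsingleton (_root_.LocCoh.H (⊥ : Ideal R) i M))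
    (s : Finset R) (M : ModuleCat.{u} R) (hM : C M) (i : ℕ) (hi : 0 < i) :
    Subsingleton (_root_.LocCoh.H (Ideal.span (s : Set R)) i M) := by
  classical
  induction s using Finset.induction_on generalizing M i with
  | empty => rw [Finset.coe_empty, Ideal.span_empty]; exact hbot M i hi
  | insert b s hb ih =>
    obtain ⟨T, U, hc, hCT, hTb, hUb⟩ := hC b M hM
    rw [Finset.coe_insert, Ideal.span_insert, sup_comm]
    have hT : Subsingleton (_root_.LocCoh.H (Ideal.span (s : Set R) ⊔ Ideal.span {b}) i T) :=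
      hstep b _ T hTb (fun j hj => ih (ModuleCat.of R T) hCT j hj) i hi
    have hU : Subsingleton (_root_.LocCoh.H (Ideal.span (s : Set R) ⊔ Ideal.span {b}) i U) :=
      subsingleton_H_of_bijective_smul
        (Ideal.le_radical (Submodule.mem_sup_right (Ideal.mem_span_singleton_self b))) hUb i
    haveI : Subsingleton (_root_.LocCoh.H (Ideal.span (s : Set R) ⊔ Ideal.span {b}) i (T × U)) :=
      subsingleton_mid (f := LinearMap.inl R T U) (g := LinearMap.snd R T U)
        LinearMap.inl_injective LinearMap.snd_surjective Function.Exact.inl_snd i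
    exact (Hequiv _ i (Submodule.prodEquivOfIsCompl T U hc)).symm.toEquiv.subsingleton

theorem subsingleton_H_bot (M : Type u) [AddCommGroup M] [Module R M] {i : ℕ} (hi : 0 < i) :
    Subsingleton (_root_.LocCoh.H (⊥ : Ideal R) i M) := by
  obtain ⟨j, rfl⟩ : ∃ j, i = j + 1 := ⟨i - 1, by omega⟩
  refine ⟨fun a c => ?_⟩
  have hz : ∀ d : _root_.LocCoh.H (⊥ : Ideal R) (j + 1) M, d = 0 := fun d => by
    obtain ⟨n, x, rfl⟩ := exists_cls d
    rw [← cls_qmap (Nat.le_succ n) (j + 1) x]
    have hb : ((⊥ : Ideal R) ^ (n + 1)) = ⊥ := by rw [pow_succ, Ideal.mul_bot]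
    haveI : Module.Projective R (R ⧸ (⊥ : Ideal R) ^ (n + 1)) :=
      Module.Projective.of_equiv (Submodule.quotEquivOfEqBot _ hb).symm
    haveI : Projective (Q (⊥ : Ideal R) (n + 1)) :=
      (IsProjective.iff_projective _).1 inferInstance
    rw [Ext.eq_zero_of_projective ((Ext.mk₀ (qmap _ (Nat.le_succ n))).comp x (zero_add _)), map_zero]
  rw [hz a, hz c]

/-- For torsion modules along `b`, adding `b` to the support does not change local cohomology. -/
theorem nonempty_H_sup_equiv [IsNoetherianRing R] (I : Ideal R) (b : R) :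
    ∀ (i : ℕ) (N : Type u) [AddCommGroup N] [Module R N], IsElemTorsion b N →
      Nonempty (_root_.LocCoh.H (I ⊔ Ideal.span {b}) i N ≃ₗ[R] _root_.LocCoh.H I i N) := by
  intro i
  induction i with
  | zero =>
    intro N _ _ hN
    exact ⟨(H0Equiv _ N).trans ((LinearEquiv.ofEq _ _ (powTorsion_sup_span b hN)).trans
      (H0Equiv I N).symm)⟩
  | succ i ih =>
    intro N _ _ hN
    obtain ⟨E₀, _, _, f₀, hE₀, hf₀⟩ := exists_injective_embedding (R := R) N
    haveI := injective_powTorsion (Ideal.span {b}) E₀
    set E := powTorsion (Ideal.span {b}) E₀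
    let f : N →ₗ[R] E := f₀.codRestrict _ fun m => by
      obtain ⟨n, hn⟩ := (isElemTorsion_iff b N).1 hN m
      exact ⟨n, fun a ha => by rw [← map_smul, hn a ha, map_zero]⟩
    have hf : Function.Injective f := fun x y h => hf₀ (congrArg Subtype.val h)
    let g : E →ₗ[R] E ⧸ LinearMap.range f := Submodule.mkQ _
    have hg : Function.Surjective g := Submodule.mkQ_surjective _
    have hfg : Function.Exact f g := LinearMap.exact_map_mkQ_range f
    have hEt : IsElemTorsion b E := isElemTorsion_powTorsion b E₀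
    have hQt : IsElemTorsion b (E ⧸ LinearMap.range f) := fun q => by
      obtain ⟨e, rfl⟩ := hg q
      obtain ⟨n, hn⟩ := hEt e
      exact ⟨n, by rw [← map_smul, hn, map_zero]⟩
    have hac : ∀ (K : Ideal R) (j : ℕ), Subsingleton (_root_.LocCoh.H K (j + 1) E) :=
      fun K j => subsingleton_H_of_injective E (Nat.succ_pos j)
    rcases i with - | i
    · haveI := hac (I ⊔ Ideal.span {b}) 0
      haveI := hac I 0
      have e0 : (powTorsion (I ⊔ Ideal.span {b}) (E ⧸ LinearMap.range f) ⧸
            LinearMap.range (gammaMap (I ⊔ Ideal.span {b}) g)) ≃ₗ[R]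
          (powTorsion I (E ⧸ LinearMap.range f) ⧸ LinearMap.range (gammaMap I g)) := by
        refine Submodule.Quotient.equiv _ _
          (LinearEquiv.ofEq _ _ (powTorsion_sup_span b hQt)) ?_
        ext x
        constructor
        · rintro ⟨y, ⟨e, rfl⟩, rfl⟩
          exact ⟨⟨e.1, (powTorsion_sup_span (I := I) b hEt).le e.2⟩, Subtype.ext rfl⟩
        · rintro ⟨e, rfl⟩
          exact ⟨_, ⟨⟨e.1, (powTorsion_sup_span (I := I) b hEt).ge e.2⟩, rfl⟩, Subtype.ext rfl⟩
      exact ⟨((H1Equiv hf hg hfg).symm.trans e0).trans (H1Equiv hf hg hfg)⟩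
    · obtain ⟨e⟩ := ih (E ⧸ LinearMap.range f) hQt
      haveI := hac (I ⊔ Ideal.span {b}) i
      haveI := hac I i
      haveI := hac (I ⊔ Ideal.span {b}) (i + 1)
      haveI := hac I (i + 1)
      exact ⟨(shiftEquiv hf hg hfg (i + 1)).symm.trans (e.trans (shiftEquiv hf hg hfg (i + 1)))⟩

/-- Acyclicity criterion over a Noetherian ring. -/
theorem subsingleton_H_of_splits [IsNoetherianRing R] (I : Ideal R)
    (C : ModuleCat.{u} R → Prop)
    (hC : ∀ (b : R) (M : ModuleCat.{u} R), C M → ∃ (T U : Submodule R M), IsCompl T U ∧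
      C (ModuleCat.of R T) ∧ IsElemTorsion b T ∧ Function.Bijective (fun x : U => b • x))
    (M : ModuleCat.{u} R) (hM : C M) (i : ℕ) (hi : 0 < i) :
    Subsingleton (_root_.LocCoh.H I i M) := by
  obtain ⟨s, hs⟩ := IsNoetherian.noetherian I
  subst hs
  refine subsingleton_H_of_splitting C hC ?_ (fun M i hi => subsingleton_H_bot M hi) s M hM i hi
  intro b J T _ _ hT hac j hj
  obtain ⟨e⟩ := nonempty_H_sup_equiv J b j T hT
  haveI := hac j hj
  exact e.toEquiv.subsingleton

end Groth.Agent.LocCoh
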