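import Groth.Agent.LocCoh.Local
import Mathlib

/-!
Vanishing of `Ext^k(N, T)` for a finitely generated `N` over a Noetherian ring persists in
localizations.
-/

set_option autoImplicit false

universe u

open CategoryTheory CategoryTheory.Abelian

namespace Groth.Agent.LocCoh

section shift

variable {A : Type u} [CommRing A] {K F N : Type u} [AddCommGroup K] [Module A K] [AddCommGroup F]
  [Module A F] [AddCommGroup N] [Module A N] (T : Type u) [AddCommGroup T] [Module A T]

theorem subsingleton_ext_zero_iff :
    Subsingleton (Ext (ModuleCat.of A N) (ModuleCat.of A T) 0) ↔ ∀ φ : N →ₗ[A] T, φ = 0 := by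
  let e : Ext (ModuleCat.of A N) (ModuleCat.of A T) 0 ≃ (N →ₗ[A] T) :=
    Ext.homEquiv₀.trans ⟨fun f => f.hom, fun f => ModuleCat.ofHom f, fun _ => rfl, fun _ => rfl⟩
  rw [e.subsingleton_congr]
  exact ⟨fun h φ => Subsingleton.elim φ 0, fun h => ⟨fun a b => (h a).trans (h b).symm⟩⟩

variable [Module.Projective A F] {ι : K →ₗ[A] F} {π : F →ₗ[A] N}

theorem subsingleton_ext_one_iff (hι : Function.Injective ι) (hπ : Function.Surjective π)
    (hex : Function.Exact ι π) :
    Subsingleton (Ext (ModuleCat.of A N) (ModuleCat.of A T) 1) ↔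
      ∀ ψ : K →ₗ[A] T, ∃ φ : F →ₗ[A] T, φ.comp ι = ψ := by
  haveI : Projective (ModuleCat.of A F) := ModuleCat.projective_of_categoryTheory_projective _
  have hS := shortExact_of hι hπ hex
  constructor
  · intro h ψ
    obtain ⟨y, hy⟩ := Ext.contravariant_sequence_exact₁ hS (ModuleCat.of A T)
      (Ext.mk₀ (ModuleCat.ofHom ψ)) (show 1 + 0 = 1 from rfl) (Subsingleton.elim _ _)
    obtain ⟨f, rfl⟩ := Ext.mk₀_bijective _ _ |>.2 y
    rw [Ext.mk₀_comp_mk₀] at hy
    exact ⟨f.hom, congrArg ModuleCat.Hom.hom ((Ext.mk₀_bijective _ _).1 hy)⟩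
  · intro h
    refine subsingleton_of_forall_eq 0 fun x => ?_
    obtain ⟨y, rfl⟩ := Ext.contravariant_sequence_exact₃ hS (ModuleCat.of A T) x
      (Ext.eq_zero_of_projective _) (show 1 + 0 = 1 from rfl)
    obtain ⟨ψ, rfl⟩ := Ext.mk₀_bijective _ _ |>.2 y
    obtain ⟨φ, hφ⟩ := h ψ.hom
    rw [show ψ = (_ : ModuleCat.of A K ⟶ ModuleCat.of A F) ≫ ModuleCat.ofHom φ from
      (ModuleCat.hom_ext hφ.symm : ψ = ModuleCat.ofHom ι ≫ ModuleCat.ofHom φ), ← Ext.mk₀_comp_mk₀,
      ← Ext.comp_assoc_of_second_deg_zero]
    erw [hS.extClass_comp]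
    rw [Ext.zero_comp]

theorem subsingleton_ext_succ_iff (hι : Function.Injective ι) (hπ : Function.Surjective π)
    (hex : Function.Exact ι π) (k : ℕ) :
    Subsingleton (Ext (ModuleCat.of A N) (ModuleCat.of A T) (k + 2)) ↔
      Subsingleton (Ext (ModuleCat.of A K) (ModuleCat.of A T) (k + 1)) := by
  haveI : Projective (ModuleCat.of A F) := ModuleCat.projective_of_categoryTheory_projective _
  have hS := shortExact_of hι hπ hex
  constructor
  · intro h
    refine subsingleton_of_forall_eq 0 fun x => ?_
    obtain ⟨y, rfl⟩ := Ext.contravariant_sequence_exact₁ hS (ModuleCat.of A T) x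
      (show 1 + (k + 1) = k + 2 by omega) (Subsingleton.elim _ _)
    rw [Ext.eq_zero_of_projective y, Ext.comp_zero]
  · intro h
    refine subsingleton_of_forall_eq 0 fun x => ?_
    obtain ⟨y, rfl⟩ := Ext.contravariant_sequence_exact₃ hS (ModuleCat.of A T) x
      (Ext.eq_zero_of_projective _) (show 1 + (k + 1) = k + 2 by omega)
    rw [@Subsingleton.elim _ h y 0, Ext.comp_zero]

end shift

variable {R : Type u} [CommRing R] [IsNoetherianRing R] (W : Submonoid R)

theorem subsingleton_ext_localized : ∀ (k : ℕ) (N : Type u) [AddCommGroup N] [Module R N]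
    [Module.Finite R N] (T : Type u) [AddCommGroup T] [Module R T],
    Subsingleton (Ext (ModuleCat.of R N) (ModuleCat.of R T) k) →
    Subsingleton (Ext (ModuleCat.of (Localization W) (LocalizedModule W N))
      (ModuleCat.of (Localization W) (LocalizedModule W T)) k) := by
  intro k
  induction k with
  | zero =>
    intro N _ _ _ T _ _ h
    rw [subsingleton_ext_zero_iff] at h ⊢
    intro ψ
    haveI : Module.FinitePresentation R N := Module.finitePresentation_of_finite R N
    obtain ⟨φ, s, hφ⟩ := Module.FinitePresentation.exists_lift_of_isLocalizedModule W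
      (LocalizedModule.mkLinearMap W T) ((ψ.restrictScalars R).comp (LocalizedModule.mkLinearMap W N))
    rw [h φ, LinearMap.comp_zero] at hφ
    have h0 : (ψ.restrictScalars R).comp (LocalizedModule.mkLinearMap W N) = 0 := by
      ext m
      have h1 := LinearMap.congr_fun hφ m
      exact ((Module.End.isUnit_iff _).1 (IsLocalizedModule.map_units (LocalizedModule.mkLinearMap W T) s)).1
        (by simpa [Submonoid.smul_def] using h1.symm)
    refine LinearMap.restrictScalars_injective R (IsLocalizedModule.ext W
      (LocalizedModule.mkLinearMap W N) (IsLocalizedModule.map_units (LocalizedModule.mkLinearMap W T)) ?_)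
    rw [h0]; rfl
  | succ k ih =>
    intro N _ _ _ T _ _ h
    obtain ⟨n, π, hπ⟩ := Module.Finite.exists_fin' R N
    haveI : Module.Finite R (LinearMap.ker π) := Module.Finite.of_fg (IsNoetherian.noetherian _)
    have hι : Function.Injective (LinearMap.ker π).subtype := Subtype.val_injective
    have hex : Function.Exact (LinearMap.ker π).subtype π := LinearMap.exact_subtype_ker_map π
    haveI : Module.Projective (Localization W) (LocalizedModule W (Fin n → R)) :=
      Module.projective_of_isLocalizedModule (Rₛ := Localization W) W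
        (LocalizedModule.mkLinearMap W (Fin n → R))
    have hι' : Function.Injective (LocalizedModule.map W (LinearMap.ker π).subtype) :=
      LocalizedModule.map_injective W _ hι
    have hπ' : Function.Surjective (LocalizedModule.map W π) := LocalizedModule.map_surjective W _ hπ
    have hex' : Function.Exact (LocalizedModule.map W (LinearMap.ker π).subtype) (LocalizedModule.map W π) :=
      LocalizedModule.map_exact W _ _ hex
    cases k with
    | zero =>
      rw [subsingleton_ext_one_iff T hι hπ hex] at h
      rw [subsingleton_ext_one_iff (A := Localization W) (K := LocalizedModule W (LinearMap.ker π)) (F := LocalizedModule W (Fin n → R)) (N := LocalizedModule W N) (LocalizedModule W T) (ι := LocalizedModule.map W (LinearMap.ker π).subtype) (π := LocalizedModule.map W π) hι' hπ' hex']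
      intro ψ
      haveI : Module.FinitePresentation R (LinearMap.ker π) := Module.finitePresentation_of_finite R _
      obtain ⟨φ, s, hφ⟩ := Module.FinitePresentation.exists_lift_of_isLocalizedModule W
        (LocalizedModule.mkLinearMap W T)
        ((ψ.restrictScalars R).comp (LocalizedModule.mkLinearMap W (LinearMap.ker π)))
      obtain ⟨g, rfl⟩ := h φ
      obtain ⟨u, hu⟩ := IsLocalization.map_units (Localization W) s
      refine ⟨(↑u⁻¹ : Localization W) • LocalizedModule.map W g, ?_⟩
      refine LinearMap.restrictScalars_injective R (IsLocalizedModule.ext W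
        (LocalizedModule.mkLinearMap W (LinearMap.ker π))
        (IsLocalizedModule.map_units (LocalizedModule.mkLinearMap W T)) (LinearMap.ext fun m => ?_))
      have h1 := LinearMap.congr_fun hφ m
      simp only [LinearMap.coe_comp, Function.comp_apply, LinearMap.smul_apply,
        LinearMap.coe_restrictScalars, LocalizedModule.mkLinearMap_apply] at h1 ⊢
      rw [LocalizedModule.map_mk, LocalizedModule.map_mk, h1, Submonoid.smul_def,
        ← IsScalarTower.algebraMap_smul (Localization W) (s : R), ← hu, smul_smul, Units.inv_mul, one_smul]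
    | succ k =>
      rw [subsingleton_ext_succ_iff T hι hπ hex] at h
      rw [subsingleton_ext_succ_iff (A := Localization W) (K := LocalizedModule W (LinearMap.ker π)) (F := LocalizedModule W (Fin n → R)) (N := LocalizedModule W N) (LocalizedModule W T) (ι := LocalizedModule.map W (LinearMap.ker π).subtype) (π := LocalizedModule.map W π) hι' hπ' hex']
      exact ih _ T h

end Groth.Agent.LocCoh
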