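import Groth.Agent.LocCoh.Duality2
import Groth.Agent.LocCoh.NonVanishing

/-!
Basic properties of canonical modules.
-/

set_option autoImplicit false

universe u

open IsLocalRing
open scoped Pointwise

namespace Groth.Agent.LocCoh

variable {R : Type u} [CommRing R] [IsNoetherianRing R] [IsLocalRing R]

theorem supportDim_quotient_le_card (I : Ideal R) (s : Finset R) (hI : I ≤ maximalIdeal R)
    (hs : (s : Set R) ⊆ maximalIdeal R) (h : maximalIdeal R ≤ (I ⊔ Ideal.span (s : Set R)).radical) :
    Module.supportDim R (R ⧸ I) ≤ (s.card : WithBot ℕ∞) := by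
  classical
  haveI : Nontrivial (R ⧸ I) := Ideal.Quotient.nontrivial_iff.2
    (ne_top_of_le_ne_top (maximalIdeal.isMaximal R).ne_top hI)
  haveI : IsLocalRing (R ⧸ I) := .of_surjective' _ Ideal.Quotient.mk_surjective
  have hq : Module.supportDim R (R ⧸ I) = ringKrullDim (R ⧸ I) := by
    rw [Module.supportDim_eq_ringKrullDim_quotient_annihilator, Ideal.annihilator_quotient]
  have hmax : (maximalIdeal R).map (Ideal.Quotient.mk I) = maximalIdeal (R ⧸ I) :=
    IsLocalRing.map_maximalIdeal_of_surjective _ Ideal.Quotient.mk_surjective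
  have hmin : maximalIdeal (R ⧸ I) ∈
      (Ideal.span ((s.image (Ideal.Quotient.mk I) : Finset (R ⧸ I)) : Set (R ⧸ I))).minimalPrimes := by
    refine ⟨⟨(maximalIdeal.isMaximal _).isPrime, ?_⟩, fun Q hQ _ => ?_⟩
    · rw [Finset.coe_image, Ideal.span_le, ← hmax]
      rintro _ ⟨x, hx, rfl⟩
      exact Ideal.mem_map_of_mem _ (hs hx)
    · rw [← hmax]
      have hle : I ⊔ Ideal.span (s : Set R) ≤ Q.comap (Ideal.Quotient.mk I) := by
        refine sup_le (fun x hx => ?_) (Ideal.span_le.2 fun x hx => ?_)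
        · rw [Ideal.mem_comap, Ideal.Quotient.eq_zero_iff_mem.2 hx]; exact zero_mem _
        · exact hQ.2 (Ideal.subset_span (Finset.mem_coe.2 (Finset.mem_image_of_mem _ hx)))
      refine Ideal.map_le_iff_le_comap.2 ?_
      haveI := hQ.1
      exact h.trans ((Ideal.IsPrime.radical_le_iff inferInstance).2 hle)
  rw [hq, ← maximalIdeal_height_eq_ringKrullDim]
  refine (WithBot.coe_le_coe.2 (Ideal.height_le_card_of_mem_minimalPrimes_span_finset hmin)).trans ?_
  exact_mod_cast Finset.card_image_le

variable {E : Type u} [AddCommGroup E] [Module R E] {K : Type u} [AddCommGroup K] [Module R K]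

omit [IsNoetherianRing R] in
theorem isSMulRegular_of_dual_surjective (hE : Matlis6.IsHullAt (maximalIdeal R) E) (x : R)
    (h : Function.Surjective fun φ : K →ₗ[R] E => x • φ) : IsSMulRegular K x := by
  refine isSMulRegular_iff_right_eq_zero_of_smul.2 fun k hk => ?_
  by_contra hne
  obtain ⟨φ, hφ⟩ := hE.exists_apply_ne_zero_local hne
  obtain ⟨ψ, rfl⟩ := h φ
  exact hφ (by rw [LinearMap.smul_apply, ← map_smul, hk, map_zero])

theorem regular_pair_canonical {n : ℕ} (hn : ringKrullDim R = n)
    (hE : Matlis6.IsHullAt (maximalIdeal R) E) [Module.Finite R K]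
    (eK : (K →ₗ[R] E) ≃ₗ[R] _root_.LocCoh.H (maximalIdeal R) n R) (hn0 : 0 < n) (a : Fin n → R)
    (ha : ∀ i, a i ∈ maximalIdeal R)
    (hsop : maximalIdeal R ≤ (Ideal.span (Set.range a)).radical) :
    IsSMulRegular K (a ⟨0, hn0⟩) ∧
      (∀ h2 : 2 ≤ n, RingTheory.Sequence.IsRegular K [a ⟨0, hn0⟩, a ⟨1, h2⟩]) := by
  classical
  let H := _root_.LocCoh.H (maximalIdeal R) n R
  have hR : Module.supportDim R R ≤ (n : WithBot ℕ∞) :=
    (Module.supportDim_le_ringKrullDim R R).trans hn.le
  -- dimension bounds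
  have bound : ∀ (J : Ideal R) (t : Finset (Fin n)), J ≤ maximalIdeal R →
      (∀ i, i ∉ t → a i ∈ J) → Module.supportDim R (R ⧸ J) ≤ (t.card : WithBot ℕ∞) := by
    intro J t hJm hJ
    refine (supportDim_quotient_le_card J (t.image a) hJm ?_ (hsop.trans (Ideal.radical_mono ?_))).trans
      (by exact_mod_cast Finset.card_image_le)
    · rw [Finset.coe_image]
      rintro _ ⟨i, -, rfl⟩
      exact ha i
    · rw [Ideal.span_le]
      rintro _ ⟨i, rfl⟩
      by_cases hi : i ∈ t
      · exact Submodule.mem_sup_right (Ideal.subset_span (Finset.mem_coe.2 (Finset.mem_image_of_mem _ hi)))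
      · exact Submodule.mem_sup_left (hJ i hi)
  let i₀ : Fin n := ⟨0, hn0⟩
  let x := a i₀
  have hq1 : Module.supportDim R (R ⧸ Ideal.span {x}) ≤ ((n - 1 : ℕ) : WithBot ℕ∞) := by
    refine (bound _ (Finset.univ.erase i₀) ((Ideal.span_singleton_le_iff_mem _).2 (ha i₀)) fun i hi => ?_).trans
      (by rw [Finset.card_erase_of_mem (Finset.mem_univ _), Finset.card_univ, Fintype.card_fin])
    simp only [Finset.mem_erase, Finset.mem_univ, and_true, ne_eq, not_not] at hi
    rw [hi]; exact Ideal.mem_span_singleton_self x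
  have hquot : ∀ y : R, ∀ N : Submodule R R, N = y • (⊤ : Submodule R R) → N = Ideal.span {y} := fun y N h => by
    rw [h, ← Submodule.ideal_span_singleton_smul, smul_eq_mul, Ideal.mul_top]
  have hlt : ((n - 1 : ℕ) : WithBot ℕ∞) < (n : WithBot ℕ∞) := by
    rw [← WithBot.coe_natCast, ← WithBot.coe_natCast, WithBot.coe_lt_coe]
    exact Nat.cast_lt.2 (by omega)
  have hx1 : Function.Surjective (fun z : H => x • z) := by
    refine smul_H_surjective x hR ?_
    rw [Module.supportDim_eq_of_equiv (Submodule.quotEquivOfEq _ (Ideal.span {x}) (hquot x _ rfl))]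
    exact hq1.trans_lt hlt
  have hreg : IsSMulRegular K x := isSMulRegular_of_dual_surjective hE x fun φ => by
    obtain ⟨z, hz⟩ := hx1 (eK φ)
    exact ⟨eK.symm z, eK.injective (by rw [map_smul, eK.apply_symm_apply]; exact hz)⟩
  refine ⟨hreg, fun h2 => ?_⟩
  let i₁ : Fin n := ⟨1, h2⟩
  let y := a i₁
  -- the kernel of `x` on `H` is a quotient of `H^(n-1)(R/xR)`
  obtain ⟨m, rfl⟩ : ∃ m, n = m + 1 := ⟨n - 1, by omega⟩
  let μ : R →ₗ[R] R := x • LinearMap.id
  let I₁ := LinearMap.range μ
  have hI₁ : I₁ = Ideal.span {x} := by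
    refine hquot x _ ?_
    ext z
    exact ⟨fun ⟨w, hw⟩ => hw ▸ Submodule.smul_mem_pointwise_smul w x ⊤ trivial,
      fun hz => by obtain ⟨w, -, rfl⟩ := hz; exact ⟨w, rfl⟩⟩
  haveI : Subsingleton (_root_.LocCoh.H (maximalIdeal R) (m + 1) (LinearMap.ker μ)) := by
    refine subsingleton_H_of_supportDim_lt ((le_trans ?_ hq1).trans_lt hlt)
    have hann : Ideal.span {x} ≤ Module.annihilator R (LinearMap.ker μ) :=
      (Ideal.span_singleton_le_iff_mem _).2 (Module.mem_annihilator.2 fun z => Subtype.ext z.2)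
    rw [Module.supportDim_eq_ringKrullDim_quotient_annihilator,
      Module.supportDim_eq_ringKrullDim_quotient_annihilator, Ideal.annihilator_quotient]
    exact ringKrullDim_le_of_surjective (Ideal.Quotient.factor hann) (Ideal.Quotient.factor_surjective _)
  have hfg : Function.Exact (LinearMap.ker μ).subtype μ.rangeRestrict := by
    intro v
    refine ⟨fun hv => ⟨⟨v, congrArg Subtype.val hv⟩, rfl⟩, ?_⟩
    rintro ⟨w, rfl⟩
    exact Subtype.ext w.2
  have hginj : Function.Injective (Hmap (maximalIdeal R) (m + 1) μ.rangeRestrict) :=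
    (injective_iff_map_eq_zero _).2 fun z hz => by
      obtain ⟨w, rfl⟩ := (Hmap_exact (LinearMap.ker μ).injective_subtype μ.surjective_rangeRestrict hfg
        (m + 1) z).1 hz
      rw [Subsingleton.elim w 0, map_zero]
  have hgsurj : Function.Surjective (Hmap (maximalIdeal R) (m + 1) μ.rangeRestrict) :=
    Hmap_surjective_of_surjective μ.surjective_rangeRestrict hR
  have hy : Function.Surjective (fun z : _root_.LocCoh.H (maximalIdeal R) m (R ⧸ I₁) => y • z) := by
    refine smul_H_surjective y ?_ ?_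
    · rw [Module.supportDim_eq_of_equiv (Submodule.quotEquivOfEq _ _ hI₁)]
      exact hq1.trans (by norm_num)
    · let J := I₁ ⊔ Ideal.span {y}
      have hJ : Module.supportDim R (R ⧸ J) ≤ ((m - 1 : ℕ) : WithBot ℕ∞) := by
        refine (bound J ((Finset.univ.erase i₀).erase i₁) ?_ fun i hi => ?_).trans (le_of_eq ?_)
        · exact sup_le (hI₁ ▸ (Ideal.span_singleton_le_iff_mem _).2 (ha i₀))
            ((Ideal.span_singleton_le_iff_mem _).2 (ha i₁))
        · simp only [Finset.mem_erase, Finset.mem_univ, and_true, ne_eq, not_and_or, not_not] at hi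
          rcases hi with hi | hi
          · exact Submodule.mem_sup_right (hi ▸ Ideal.mem_span_singleton_self y)
          · exact Submodule.mem_sup_left (hI₁ ▸ hi ▸ Ideal.mem_span_singleton_self x)
        · rw [Finset.card_erase_of_mem (Finset.mem_erase.2 ⟨by simp [i₀, i₁, Fin.ext_iff], Finset.mem_univ _⟩),
            Finset.card_erase_of_mem (Finset.mem_univ _), Finset.card_univ, Fintype.card_fin]
          rw [show m + 1 - 1 - 1 = m - 1 by omega]
      let π : (R ⧸ J) →ₗ[R] QuotSMulTop y (R ⧸ I₁) := Submodule.liftQ J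
        ((Submodule.mkQ _).comp (Submodule.mkQ I₁)) (sup_le (fun z hz => by
          rw [LinearMap.mem_ker, LinearMap.comp_apply, Submodule.mkQ_apply (p := I₁),
            (Submodule.Quotient.mk_eq_zero I₁).2 hz, map_zero]) fun z hz => by
          obtain ⟨c, rfl⟩ := Ideal.mem_span_singleton'.1 hz
          rw [LinearMap.mem_ker, LinearMap.comp_apply, Submodule.mkQ_apply, Submodule.mkQ_apply,
            Submodule.Quotient.mk_eq_zero]
          exact ⟨Submodule.Quotient.mk c, trivial, by
            show y • (Submodule.Quotient.mk c : R ⧸ I₁) = _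
            rw [← Submodule.Quotient.mk_smul, smul_eq_mul, mul_comm]⟩)
      have hπ : Function.Surjective π := fun q => by
        obtain ⟨q, rfl⟩ := Submodule.mkQ_surjective _ q
        obtain ⟨r, rfl⟩ := Submodule.mkQ_surjective _ q
        exact ⟨Submodule.Quotient.mk r, rfl⟩
      refine ((Module.supportDim_le_of_surjective π hπ).trans hJ).trans_lt ?_
      rw [← WithBot.coe_natCast, ← WithBot.coe_natCast, WithBot.coe_lt_coe]
      exact Nat.cast_lt.2 (by omega)
  have hsurjker : ∀ φ : K →ₗ[R] E, x • φ = 0 → ∃ ψ : K →ₗ[R] E, x • ψ = 0 ∧ y • ψ = φ := by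
    intro φ hφ
    have h0 : Hmap (maximalIdeal R) (m + 1) I₁.subtype
        (Hmap (maximalIdeal R) (m + 1) μ.rangeRestrict (eK φ)) = 0 := by
      rw [← LinearMap.comp_apply, ← Hmap_comp, show I₁.subtype.comp μ.rangeRestrict = μ from rfl]
      show Hmap _ _ (x • LinearMap.id) _ = 0
      rw [Hmap_smul, Hmap_id, LinearMap.smul_apply, LinearMap.id_apply, ← map_smul, hφ, map_zero]
    obtain ⟨z, hz⟩ := (connecting_Hmap_exact I₁.injective_subtype (Submodule.mkQ_surjective I₁)
      (LinearMap.exact_subtype_mkQ I₁) m _).1 h0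
    obtain ⟨w, rfl⟩ := hy z
    obtain ⟨v, hv⟩ := hgsurj (connecting (maximalIdeal R) I₁.injective_subtype
      (Submodule.mkQ_surjective I₁) (LinearMap.exact_subtype_mkQ I₁) m w)
    refine ⟨eK.symm v, eK.injective ?_, eK.injective (hginj ?_)⟩
    · rw [map_smul, eK.apply_symm_apply, map_zero]
      have h1 : Hmap (maximalIdeal R) (m + 1) μ v = 0 := by
        rw [show μ = I₁.subtype.comp μ.rangeRestrict from rfl, Hmap_comp, LinearMap.comp_apply, hv,
          (connecting_Hmap_exact I₁.injective_subtype (Submodule.mkQ_surjective I₁)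
            (LinearMap.exact_subtype_mkQ I₁) m).apply_apply_eq_zero]
      rwa [show μ = x • (LinearMap.id : R →ₗ[R] R) from rfl, Hmap_smul, Hmap_id] at h1
    · rw [map_smul, eK.apply_symm_apply, map_smul, hv, ← map_smul]
      exact hz
  haveI hKnt : Nontrivial K := by
    by_contra hK
    rw [not_nontrivial_iff_subsingleton] at hK
    haveI := hK
    haveI : Nontrivial (_root_.LocCoh.H (maximalIdeal R) (m + 1) R) :=
      nontrivial_H_supportDim R (m + 1) ((Module.supportDim_self_eq_ringKrullDim (R := R)).trans hn)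
    haveI : Subsingleton (K →ₗ[R] E) :=
      ⟨fun f g => LinearMap.ext fun k => by rw [Subsingleton.elim k 0, map_zero, map_zero]⟩
    exact not_subsingleton _ eK.symm.toEquiv.subsingleton
  refine ⟨?_, ?_⟩
  · rw [RingTheory.Sequence.isWeaklyRegular_cons_iff]
    refine ⟨hreg, ?_⟩
    rw [RingTheory.Sequence.isWeaklyRegular_cons_iff]
    refine ⟨isSMulRegular_iff_right_eq_zero_of_smul.2 fun q hq => ?_,
      RingTheory.Sequence.IsWeaklyRegular.nil _ _⟩
    obtain ⟨k, rfl⟩ := Submodule.mkQ_surjective _ q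
    by_contra hne
    obtain ⟨χ, hχ⟩ := hE.exists_apply_ne_zero_local hne
    let φ : K →ₗ[R] E := χ.comp (Submodule.mkQ _)
    have hxq : ∀ q' : QuotSMulTop x K, x • q' = 0 := fun q' => by
      obtain ⟨k', rfl⟩ := Submodule.mkQ_surjective _ q'
      rw [← map_smul, Submodule.mkQ_apply, Submodule.Quotient.mk_eq_zero]
      exact Submodule.smul_mem_pointwise_smul k' x ⊤ trivial
    obtain ⟨ψ, hψ, hψ'⟩ := hsurjker φ (LinearMap.ext fun k' => by
      show x • χ _ = 0
      rw [← map_smul, hxq, map_zero])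
    have hk : y • k ∈ x • (⊤ : Submodule R K) := by
      rw [← map_smul, Submodule.mkQ_apply, Submodule.Quotient.mk_eq_zero] at hq
      exact hq
    obtain ⟨k', -, hk'⟩ := hk
    refine hχ ?_
    show φ k = 0
    rw [← hψ', LinearMap.smul_apply, ← map_smul, ← hk']
    show ψ (x • k') = 0
    rw [map_smul, ← LinearMap.smul_apply, hψ]
    rfl
  · intro h
    refine (Submodule.top_ne_ideal_smul_of_le_jacobson_annihilator ?_) h
    refine le_trans ?_ (IsLocalRing.maximalIdeal_le_jacobson _)
    rw [Ideal.ofList, Ideal.span_le]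
    intro z hz
    simp only [List.mem_cons, List.not_mem_nil, or_false, Set.mem_setOf_eq] at hz
    rcases hz with rfl | rfl
    exacts [ha _, ha _]

end Groth.Agent.LocCoh
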