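import Groth.Agent.LocCoh.GorensteinImage

/-!
Finite length of the lower local cohomology: equidimensional and Cohen–Macaulay on the punctured
spectrum.
-/

set_option autoImplicit false

universe u

open IsLocalRing

namespace Groth.Agent.LocCoh

theorem exists_supportDim_eq {R : Type u} [CommRing R] [IsNoetherianRing R] [IsLocalRing R] (M : Type u)
    [AddCommGroup M] [Module R M] [Nontrivial M] : ∃ d : ℕ, Module.supportDim R M = d := by
  obtain ⟨n, hn⟩ := exists_dim_eq (R := R)
  have h1 := (Module.supportDim_le_ringKrullDim R M).trans_eq hn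
  have h0 : (0 : WithBot ℕ∞) ≤ Module.supportDim R M :=
    Order.krullDim_nonneg_iff.2 Module.nonempty_support_of_nontrivial.to_subtype
  generalize Module.supportDim R M = d at h0 h1
  induction d with
  | bot => exact absurd h0 (by simp)
  | coe d =>
    induction d with
    | top => exact absurd h1 (by rw [not_le]; exact WithBot.coe_lt_coe.2 (ENat.natCast_lt_top n))
    | coe d => exact ⟨d, rfl⟩

variable {R' R : Type u} [CommRing R'] [_root_.LocCoh.IsGorensteinLocalRing R'] [CommRing R]
  [IsNoetherianRing R] [IsLocalRing R] (g : R' →+* R) (hg : Function.Surjective g)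
  (M : Type u) [AddCommGroup M] [Module R M] [Module.Finite R M]

include hg in
/-- Nonvanishing moves up along primes, with degree shifted by the drop in dimension. -/
theorem subsingleton_atPrime_of_le (p q : Ideal R) [p.IsPrime] [q.IsPrime] (hpq : p ≤ q) (ep eq' : ℕ)
    (hep : ringKrullDim (R ⧸ p) = ep) (heq : ringKrullDim (R ⧸ q) = eq') (jp jq : ℕ) (hj : jq + eq' = jp + ep)
    (hq : Subsingleton (_root_.LocCoh.H (maximalIdeal (Localization.AtPrime q)) jq
      (LocalizedModule q.primeCompl M))) :
    Subsingleton (_root_.LocCoh.H (maximalIdeal (Localization.AtPrime p)) jp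
      (LocalizedModule p.primeCompl M)) := by
  letI : Algebra R' R := g.toAlgebra
  letI : Module R' M := Module.compHom M g
  haveI : IsScalarTower R' R M := IsScalarTower.of_algebraMap_smul fun _ _ => rfl
  haveI : Module.Finite R' R := Module.Finite.of_surjective (Algebra.linearMap R' R) hg
  haveI : Module.Finite R' M := Module.Finite.trans R M
  obtain ⟨h, hh⟩ := exists_dim_eq (R := R')
  have hdimq : ∀ (x : Ideal R), ringKrullDim (R' ⧸ x.comap g) = ringKrullDim (R ⧸ x) := by
    intro x
    have hs : Function.Surjective ((Ideal.Quotient.mk x).comp g) := Ideal.Quotient.mk_surjective.comp hg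
    refine ringKrullDim_eq_of_ringEquiv ((Ideal.quotEquivOfEq ?_).trans
      (RingHom.quotientKerEquivOfSurjective hs))
    rw [← RingHom.comap_ker, Ideal.mk_ker]
  rw [subsingleton_H_atPrime_comap (R := R') (A := R) hg] at hq ⊢
  obtain ⟨a, ha, hae⟩ := exists_height_eq hh (p.comap g) ((hdimq p).trans hep)
  obtain ⟨b, hb, hbe⟩ := exists_height_eq hh (q.comap g) ((hdimq q).trans heq)
  rcases lt_or_ge a jp with hja | hja
  · refine subsingleton_H_of_supportDim_lt (lt_of_le_of_lt ((Module.supportDim_le_ringKrullDim _ _).trans_eq
      (IsLocalization.AtPrime.ringKrullDim_eq_height (p.comap g) (Localization.AtPrime (p.comap g)))) ?_)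
    rw [ha]
    exact_mod_cast hja
  · refine (extKilledAt_iff _ ha (a - jp)).1 (ExtKilledAt.mono (Ideal.comap_mono hpq) ?_) jp (by omega)
    refine (extKilledAt_iff _ hb (a - jp)).2 fun j hj' => ?_
    obtain rfl : j = jq := by omega
    exact hq

include hg in
theorem isFiniteLength_H_below_iff (n : ℕ) (hn : Module.supportDim R M = n) :
    (∀ i : ℕ, i < n → IsFiniteLength R (_root_.LocCoh.H (maximalIdeal R) i M)) ↔
      ((∀ p ∈ (Module.annihilator R M).minimalPrimes, ringKrullDim (R ⧸ p) = n) ∧
        ∀ (p : Ideal R) [p.IsPrime], p ≠ maximalIdeal R → Module.annihilator R M ≤ p →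
          _root_.LocCoh.IsCohenMacaulayModule (Localization.AtPrime p) (LocalizedModule p.primeCompl M)) := by
  have hiff : ∀ i, IsFiniteLength R (_root_.LocCoh.H (maximalIdeal R) i M) ↔
      ∀ (p : Ideal R) [p.IsPrime], p ≠ maximalIdeal R → ∀ j : ℕ, (j : WithBot ℕ∞) + ringKrullDim (R ⧸ p) = i →
        Subsingleton (_root_.LocCoh.H (maximalIdeal (Localization.AtPrime p)) j
          (LocalizedModule p.primeCompl M)) := fun i => by
    rw [isFiniteLength_H_iff, le_radical_annihilator_H_iff_image g hg M]
    exact ⟨fun h p _ hp => h p fun h' =>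
        hp ((maximalIdeal.isMaximal R).eq_of_le (Ideal.IsPrime.ne_top inferInstance) h').symm,
      fun h p _ hp => h p fun h' => hp h'.ge⟩
  have hsupp : ∀ (p : Ideal R) [p.IsPrime], Module.annihilator R M ≤ p →
      Nontrivial (LocalizedModule p.primeCompl M) := fun p _ hp =>
    CAlgH3.nontrivial_localizedModule_of_mem_support (p := p)
      (by rw [Module.support_eq_zeroLocus]; exact hp : (⟨p, inferInstance⟩ : PrimeSpectrum R) ∈ Module.support R M)
  have hfin : ∀ (p : Ideal R) [p.IsPrime],
      Module.Finite (Localization.AtPrime p) (LocalizedModule p.primeCompl M) := fun p _ =>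
    Module.Finite.of_isLocalizedModule (Rₚ := Localization.AtPrime p) p.primeCompl
      (LocalizedModule.mkLinearMap p.primeCompl M)
  have hbound : ∀ (p : Ideal R) [p.IsPrime], Module.annihilator R M ≤ p → ∀ (e d : ℕ),
      ringKrullDim (R ⧸ p) = e → Module.supportDim (Localization.AtPrime p) (LocalizedModule p.primeCompl M) = d →
      d + e ≤ n := by
    intro p _ hp e d he hd
    haveI := hfin p
    by_contra hgt
    have hz : Subsingleton (_root_.LocCoh.H (maximalIdeal R) (d + e) M) :=
      subsingleton_H_of_supportDim_lt (hn.le.trans_lt (by exact_mod_cast (by omega : n < d + e)))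
    have hm : ringKrullDim (R ⧸ maximalIdeal R) = (0 : ℕ) := by
      haveI : IsField (R ⧸ maximalIdeal R) := (Ideal.Quotient.maximal_ideal_iff_isField_quotient _).1 inferInstance
      letI := (Ideal.Quotient.field (maximalIdeal R))
      exact ringKrullDim_eq_zero_of_field (R ⧸ maximalIdeal R)
    haveI hloc : Subsingleton (_root_.LocCoh.H (maximalIdeal (Localization.AtPrime (maximalIdeal R))) (d + e)
        (LocalizedModule (maximalIdeal R).primeCompl M)) := by
      rw [subsingleton_H_atPrime_iff]
      exact fun x => ⟨1, Ideal.IsPrime.one_notMem inferInstance, Subsingleton.elim _ _⟩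
    have h0 := subsingleton_atPrime_of_le g hg M p (maximalIdeal R) (IsLocalRing.le_maximalIdeal
      (Ideal.IsPrime.ne_top inferInstance)) e 0 he hm d (d + e) (by omega) hloc
    haveI := nontrivial_H_supportDim (R := Localization.AtPrime p) (LocalizedModule p.primeCompl M) d hd
    exact not_subsingleton _ h0
  constructor
  · intro h
    have hdepth : ∀ (p : Ideal R) [p.IsPrime], p ≠ maximalIdeal R → Module.annihilator R M ≤ p →
        ∀ (e d : ℕ), ringKrullDim (R ⧸ p) = e →
        Module.supportDim (Localization.AtPrime p) (LocalizedModule p.primeCompl M) = d →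
        n = d + e ∧ _root_.LocCoh.IsCohenMacaulayModule (Localization.AtPrime p) (LocalizedModule p.primeCompl M) := by
      intro p _ hpm hp e d he hd
      haveI := hfin p
      haveI := hsupp p hp
      have hle : ((n - e : ℕ) : ℕ∞) ≤ _root_.LocCoh.depth (Localization.AtPrime p) (LocalizedModule p.primeCompl M) := by
        rw [_root_.LocCoh.depth, natCast_le_idealDepth_iff_H]
        intro j hj
        exact (hiff (j + e)).1 (h (j + e) (by omega)) p hpm j (by rw [he]; norm_cast)
      have hle2 := CAlgH3.depth_le_supportDim (R := Localization.AtPrime p) (M := LocalizedModule p.primeCompl M)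
      have h3 := (WithBot.coe_le_coe.2 hle).trans hle2
      rw [hd] at h3
      have h4 : n - e ≤ d := by exact_mod_cast h3
      have h5 := hbound p hp e d he hd
      refine ⟨by omega, le_antisymm ?_ hle2⟩
      rw [hd]
      exact (by exact_mod_cast (by omega : d ≤ n - e) : ((d : ℕ) : WithBot ℕ∞) ≤ ((n - e : ℕ) : WithBot ℕ∞)).trans
        (WithBot.coe_le_coe.2 hle)
    refine ⟨fun p hp => ?_, fun p _ hpm hp => ?_⟩
    · haveI := hp.1.1
      obtain ⟨e, he⟩ := ringKrullDim_quotient_exists p
      by_cases hpm : p = maximalIdeal R
      · subst hpm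
        have hrad : ∀ q : PrimeSpectrum R, q ∈ Module.support R M → q.asIdeal = maximalIdeal R := fun q hq => by
          rw [Module.support_eq_zeroLocus] at hq
          exact le_antisymm (IsLocalRing.le_maximalIdeal q.2.ne_top)
            (hp.2 ⟨q.2, hq⟩ (IsLocalRing.le_maximalIdeal q.2.ne_top))
        haveI : Subsingleton (Module.support R M) :=
          ⟨fun a b => Subtype.ext (PrimeSpectrum.ext ((hrad a.1 a.2).trans (hrad b.1 b.2).symm))⟩
        have h0 : Module.supportDim R M ≤ 0 := Order.krullDim_nonpos_of_subsingleton
        rw [hn] at h0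
        have : n = 0 := Nat.le_zero.1 (by exact_mod_cast h0)
        subst this
        letI := (Ideal.Quotient.field (maximalIdeal R))
        exact ringKrullDim_eq_zero_of_field (R ⧸ maximalIdeal R)
      · haveI := hfin p
        haveI := hsupp p hp.1.2
        obtain ⟨d, hd⟩ := exists_supportDim_eq (R := Localization.AtPrime p) (LocalizedModule p.primeCompl M)
        obtain ⟨hsum, -⟩ := hdepth p hpm hp.1.2 e d he hd
        have hd0 : d = 0 := by
          have hsub : ∀ q : PrimeSpectrum (Localization.AtPrime p),
              q ∈ Module.support (Localization.AtPrime p) (LocalizedModule p.primeCompl M) →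
              q.asIdeal = maximalIdeal (Localization.AtPrime p) := by
            intro q hq
            refine le_antisymm (IsLocalRing.le_maximalIdeal q.2.ne_top) ?_
            rw [Module.support_eq_zeroLocus] at hq
            have hle : Module.annihilator R M ≤ q.asIdeal.under R := by
              intro r hr
              rw [Ideal.mem_comap]
              refine hq (Module.mem_annihilator.2 fun x => ?_)
              induction x using LocalizedModule.induction_on with
              | h m t =>
                rw [IsScalarTower.algebraMap_smul, LocalizedModule.smul'_mk, Module.mem_annihilator.1 hr,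
                  LocalizedModule.zero_mk]
            haveI : (q.asIdeal.under R).IsPrime := Ideal.IsPrime.under R q.asIdeal
            have hqp : q.asIdeal.under R ≤ p := by
              exact (Ideal.comap_mono (IsLocalRing.le_maximalIdeal q.2.ne_top)).trans_eq
                (IsLocalization.AtPrime.under_maximalIdeal (Localization.AtPrime p) p)
            have hge := hp.2 ⟨inferInstance, hle⟩ hqp
            rw [← Localization.AtPrime.map_eq_maximalIdeal, Ideal.map_le_iff_le_comap]
            exact hge
          haveI : Subsingleton (Module.support (Localization.AtPrime p) (LocalizedModule p.primeCompl M)) :=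
            ⟨fun a b => Subtype.ext (PrimeSpectrum.ext ((hsub a.1 a.2).trans (hsub b.1 b.2).symm))⟩
          have h0 : Module.supportDim (Localization.AtPrime p) (LocalizedModule p.primeCompl M) ≤ 0 :=
            Order.krullDim_nonpos_of_subsingleton
          rw [hd] at h0
          exact Nat.le_zero.1 (by exact_mod_cast h0)
        rw [he]
        exact_mod_cast (by omega : e = n)
    · haveI := hfin p
      haveI := hsupp p hp
      obtain ⟨e, he⟩ := ringKrullDim_quotient_exists p
      obtain ⟨d, hd⟩ := exists_supportDim_eq (R := Localization.AtPrime p) (LocalizedModule p.primeCompl M)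
      exact (hdepth p hpm hp e d he hd).2
  · rintro ⟨hequi, hcm⟩ i hi
    rw [hiff]
    intro p _ hpm j hj
    obtain ⟨e, he⟩ := ringKrullDim_quotient_exists p
    rw [he] at hj
    have hje : j + e = i := by exact_mod_cast hj
    haveI := hfin p
    by_cases hp : Module.annihilator R M ≤ p
    · haveI := hsupp p hp
      obtain ⟨p0, hp0, hle⟩ := Ideal.exists_minimalPrimes_le hp
      haveI := hp0.1.1
      haveI := hfin p0
      haveI := hsupp p0 hp0.1.2
      obtain ⟨d, hd⟩ := exists_supportDim_eq (R := Localization.AtPrime p) (LocalizedModule p.primeCompl M)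
      obtain ⟨d0, hd0⟩ := exists_supportDim_eq (R := Localization.AtPrime p0) (LocalizedModule p0.primeCompl M)
      have he0 := hequi p0 hp0
      have hd00 : d0 = 0 := by have := hbound p0 hp0.1.2 n d0 he0 hd0; omega
      subst hd00
      have hlow : n - e ≤ d := by
        by_contra hlt
        haveI := nontrivial_H_supportDim (R := Localization.AtPrime p0) (LocalizedModule p0.primeCompl M) 0 hd0
        refine not_subsingleton _ (subsingleton_atPrime_of_le g hg M p0 p hle n e he0 he 0 (n - e) (by omega)
          (subsingleton_H_of_supportDim_lt ?_))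
        rw [hd]
        exact_mod_cast (by omega : d < n - e)
      have hdep : _root_.LocCoh.depth (Localization.AtPrime p) (LocalizedModule p.primeCompl M) = (d : ℕ∞) := by
        have h1 : Module.supportDim (Localization.AtPrime p) (LocalizedModule p.primeCompl M) = _ := hcm p hpm hp
        rw [hd] at h1
        exact (WithBot.coe_inj.1 h1).symm
      exact (natCast_le_idealDepth_iff_H _ _ d).1 hdep.ge j (by omega)
    · haveI : Subsingleton (LocalizedModule p.primeCompl M) := by
        obtain ⟨c, hc, hcp⟩ := SetLike.not_le_iff_exists.1 hp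
        exact LocalizedModule.subsingleton_iff.2 fun m => ⟨c, hcp, Module.mem_annihilator.1 hc m⟩
      exact subsingleton_H_of_subsingleton _

end Groth.Agent.LocCoh
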