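import Groth.Agent.LocCoh.GorensteinCriteria
import Groth.Agent.LocCoh.Canonical
import Groth.Agent.LocCoh.GorensteinCM

/-!
Canonical modules: associated primes, and the Cohen–Macaulay case.
-/

set_option autoImplicit false

universe u

open CategoryTheory CategoryTheory.Abelian IsLocalRing

namespace Groth.Agent.LocCoh

variable {R : Type u} [CommRing R] [IsNoetherianRing R] [IsLocalRing R] {n : ℕ}
  {E : Type u} [AddCommGroup E] [Module R E] {K : Type u} [AddCommGroup K] [Module R K] [Module.Finite R K]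

theorem subsingleton_of_dual_subsingleton (hE : Matlis6.IsHullAt (maximalIdeal R) E) (X : Type u)
    [AddCommGroup X] [Module R X] (h : Subsingleton (X →ₗ[R] E)) : Subsingleton X :=
  subsingleton_of_forall_eq 0 fun x => by
    by_contra hx
    obtain ⟨φ, hφ⟩ := hE.exists_apply_ne_zero_local hx
    exact hφ (by rw [Subsingleton.elim φ 0]; rfl)

theorem associatedPrimes_canonical (hn : ringKrullDim R = n) (hE : Matlis6.IsHullAt (maximalIdeal R) E)
    (eK : (K →ₗ[R] E) ≃ₗ[R] _root_.LocCoh.H (maximalIdeal R) n R) :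
    associatedPrimes R K = {p : Ideal R | p.IsPrime ∧ ringKrullDim (R ⧸ p) = n} := by
  have hiff : ∀ p : Ideal R, p.IsPrime →
      (Subsingleton ((R ⧸ p) →ₗ[R] K) ↔ ringKrullDim (R ⧸ p) ≠ n) := by
    intro p hp
    haveI := hp
    have e := topDual hn.le hE.inj eK (R ⧸ p)
    have hdim : Module.supportDim R (R ⧸ p) = ringKrullDim (R ⧸ p) := by
      rw [Module.supportDim_eq_ringKrullDim_quotient_annihilator, Ideal.annihilator_quotient]
    constructor
    · intro hs he
      haveI := nontrivial_H_supportDim (R ⧸ p) n (hdim.trans he)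
      exact not_subsingleton (_root_.LocCoh.H (maximalIdeal R) n (R ⧸ p)) e.toEquiv.subsingleton
    · intro he
      haveI : Subsingleton (_root_.LocCoh.H (maximalIdeal R) n (R ⧸ p)) :=
        subsingleton_H_of_supportDim_lt (lt_of_le_of_ne
          ((Module.supportDim_le_ringKrullDim _ _).trans_eq hn) (hdim.symm ▸ he))
      exact subsingleton_of_dual_subsingleton hE _ e.symm.toEquiv.subsingleton
  ext p
  constructor
  · intro hp
    haveI := hp.isPrime
    refine ⟨hp.isPrime, ?_⟩
    by_contra he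
    obtain ⟨_, f, hf⟩ := (isAssociatedPrime_iff_exists_injective_linearMap p K).1 hp
    haveI := (hiff p hp.isPrime).2 he
    haveI : Nontrivial (R ⧸ p) := Ideal.Quotient.nontrivial_iff.2 hp.isPrime.ne_top
    obtain ⟨a, b, hab⟩ := exists_pair_ne (R ⧸ p)
    exact hab (hf (by rw [Subsingleton.elim f 0]; rfl))
  · rintro ⟨hp, he⟩
    haveI := hp
    have hns : ¬ Subsingleton ((R ⧸ p) →ₗ[R] K) := fun h => (hiff p hp).1 h he
    obtain ⟨φ, hφ⟩ : ∃ φ : (R ⧸ p) →ₗ[R] K, φ (Submodule.Quotient.mk 1) ≠ 0 := by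
      by_contra h
      push Not at h
      exact hns (subsingleton_of_forall_eq 0 fun φ => LinearMap.ext fun q => by
        obtain ⟨r, rfl⟩ := Submodule.Quotient.mk_surjective _ q
        rw [show (Submodule.Quotient.mk r : R ⧸ p) = r • Submodule.Quotient.mk 1 by
          rw [← Submodule.Quotient.mk_smul, smul_eq_mul, mul_one], map_smul, h, smul_zero]
        rfl)
    obtain ⟨q, hq, hle⟩ := exists_le_isAssociatedPrime_of_isNoetherianRing R _ hφ
    have hpq : p ≤ q := fun r hr => hle (by
      simp only [LinearMap.mem_ker, Submodule.mem_colon_singleton, Submodule.mem_bot,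
        LinearMap.toSpanSingleton_apply]
      rw [← map_smul, ← Submodule.Quotient.mk_smul, smul_eq_mul, (Submodule.Quotient.mk_eq_zero p).2 (p.mul_mem_right _ hr), map_zero])
    haveI := IsAssociatedPrime.isPrime hq
    rcases eq_or_lt_of_le hpq with rfl | hlt
    · exact hq
    exfalso
    obtain ⟨_, f, hf⟩ := (isAssociatedPrime_iff_exists_injective_linearMap q K).1 hq
    have heq : ringKrullDim (R ⧸ q) = n := by
      by_contra hne
      haveI := (hiff q inferInstance).2 hne
      haveI : Nontrivial (R ⧸ q) := Ideal.Quotient.nontrivial_iff.2 (Ideal.IsPrime.ne_top inferInstance)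
      obtain ⟨a, b, hab⟩ := exists_pair_ne (R ⧸ q)
      exact hab (hf (by rw [Subsingleton.elim f 0]; rfl))
    have h1 := CAlgH3.ringKrullDim_quotient_add_one_le hlt
    rw [heq, he] at h1
    norm_cast at h1
    omega

variable [_root_.LocCoh.IsCohenMacaulayLocalRing R]

theorem canonical_duality (hn : ringKrullDim R = n) (hE : Matlis6.IsHullAt (maximalIdeal R) E)
    (eK : (K →ₗ[R] E) ≃ₗ[R] _root_.LocCoh.H (maximalIdeal R) n R) (i j : ℕ) (hij : j + i = n) :
    DualAt (R := R) K E i j :=
  dualAt hn.le hE.inj eK (subsingleton_H_of_cm hn) i j hij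

theorem subsingleton_ext_canonical (hn : ringKrullDim R = n) (hE : Matlis6.IsHullAt (maximalIdeal R) E)
    (eK : (K →ₗ[R] E) ≃ₗ[R] _root_.LocCoh.H (maximalIdeal R) n R) (hn0 : 0 < n)
    (M : Type u) [AddCommGroup M] [Module R M] [Module.Finite R M] :
    Subsingleton (Ext (ModuleCat.of R M) (ModuleCat.of R K) (n + 1)) := by
  obtain ⟨m, π, hπ⟩ := Module.Finite.exists_fin' R M
  haveI : Module.Finite R (LinearMap.ker π) := Module.Finite.of_fg (IsNoetherian.noetherian _)
  obtain ⟨j, rfl⟩ := Nat.exists_eq_succ_of_ne_zero (by omega : n ≠ 0)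
  rw [subsingleton_ext_succ_iff K (LinearMap.ker π).injective_subtype hπ (LinearMap.exact_subtype_ker_map π) j]
  obtain ⟨d⟩ := canonical_duality hn hE eK (j + 1) 0 (by omega) (LinearMap.ker π)
  haveI h0 : Subsingleton (_root_.LocCoh.H (maximalIdeal R) 0 (LinearMap.ker π)) := by
    have hR0 := subsingleton_H0_iff.1 (subsingleton_H_of_cm hn 0 (by omega))
    refine subsingleton_H0_iff.2 (eq_bot_iff.2 fun z hz => ?_)
    obtain ⟨r, hr⟩ := hz
    refine (Submodule.mem_bot R).2 (Subtype.ext (funext fun a => ?_))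
    have : (z : Fin m → R) a ∈ powTorsion (maximalIdeal R) R :=
      ⟨r, fun b hb => congrFun (congrArg Subtype.val (hr b hb)) a⟩
    rw [hR0] at this
    exact (Submodule.mem_bot R).1 this
  exact subsingleton_of_dual_subsingleton hE _ d.symm.toEquiv.subsingleton

theorem injective_canonical_of_dim_zero (hn : ringKrullDim R = 0) (hE : Matlis6.IsHullAt (maximalIdeal R) E)
    (eK : (K →ₗ[R] E) ≃ₗ[R] _root_.LocCoh.H (maximalIdeal R) 0 R) : Module.Injective R K := by
  haveI : Ring.KrullDimLE 0 R := Ring.krullDimLE_iff.2 (le_of_eq (by rw [hn]; rfl))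
  haveI : IsArtinianRing R := isArtinianRing_iff_krullDimLE_zero.2 inferInstance
  have hfl : IsFiniteLength R R := Matlis6.isFiniteLength_of_artinian_finite
  have hnil : maximalIdeal R ≤ (Ideal.ofList ([] : List R) ⊔ Module.annihilator R R).radical := by
    refine le_trans (fun x hx => ?_) (Ideal.radical_mono bot_le)
    rw [Ideal.radical_eq_sInf, Submodule.mem_sInf]
    rintro P ⟨-, hP⟩
    haveI := hP
    rwa [IsLocalRing.eq_maximalIdeal (Ideal.IsPrime.isMaximal' (I := P) inferInstance)]
  have h0 := nonempty_quotient_equiv_torsionBy_H (maximalIdeal R) ([] : List R) R (by simp)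
    (RingTheory.Sequence.IsWeaklyRegular.nil R R) hnil
  rw [Ideal.ofList_nil, Submodule.bot_smul] at h0
  obtain ⟨e0⟩ := h0
  have htop : _root_.LocCoh.torsionBy (⊥ : Ideal R) (_root_.LocCoh.H (maximalIdeal R) 0 R) = ⊤ :=
    eq_top_iff.2 fun z _ => (Submodule.mem_torsionBySet_iff _ _).2 fun a => by
      rw [(Submodule.mem_bot R).1 a.2, zero_smul]
  let e1 : R ≃ₗ[R] (K →ₗ[R] E) :=
    (((Submodule.quotEquivOfEqBot _ rfl).symm.trans e0).trans (LinearEquiv.ofTop _ htop)).trans eK.symm
  obtain ⟨e⟩ := nonempty_equiv_of_hull_dual (hE := hE) (K := K) e1 hfl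
  exact of_equiv_injective e hE.inj
where
  of_equiv_injective {A B : Type u} [AddCommGroup A] [Module R A] [AddCommGroup B] [Module R B]
      (e : A ≃ₗ[R] B) (hB : Module.Injective R B) : Module.Injective R A :=
    ⟨fun X Y _ _ _ _ f hf g => by
      obtain ⟨h, hh⟩ := hB.out f hf (e.toLinearMap.comp g)
      exact ⟨e.symm.toLinearMap.comp h, fun x => by simp [hh x]⟩⟩
  nonempty_equiv_of_hull_dual (hE : Matlis6.IsHullAt (maximalIdeal R) E) {K : Type u} [AddCommGroup K]
      [Module R K] [Module.Finite R K] [IsArtinianRing R] (e1 : R ≃ₗ[R] (K →ₗ[R] E)) (hfl : IsFiniteLength R R) :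
      Nonempty (K ≃ₗ[R] E) := by
    have hK : IsFiniteLength R K := Matlis6.isFiniteLength_of_artinian_finite
    obtain ⟨t, ht⟩ := Matlis6.exists_pow_killed_of_isFiniteLength hK
    exact ⟨((LinearEquiv.ofBijective _ (hE.applyl_bijective hK ht)).trans (e1.congrLeft E R).symm).trans
        (LinearMap.ringLmapEquivSelf R R E)⟩

theorem canonical_structure (hn : ringKrullDim R = n) (hE : Matlis6.IsHullAt (maximalIdeal R) E)
    (eK : (K →ₗ[R] E) ≃ₗ[R] _root_.LocCoh.H (maximalIdeal R) n R) :
    HasInjectiveDimensionLT (ModuleCat.of R K) (n + 1) ∧ ¬ HasInjectiveDimensionLT (ModuleCat.of R K) n ∧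
      _root_.LocCoh.IsCohenMacaulayModule R K ∧ Module.supportDim R K = n := by
  haveI hKnt : Nontrivial K := by
    by_contra hK
    rw [not_nontrivial_iff_subsingleton] at hK
    haveI := hK
    haveI := nontrivial_H_supportDim R n ((Module.supportDim_self_eq_ringKrullDim (R := R)).trans hn)
    haveI : Subsingleton (K →ₗ[R] E) :=
      ⟨fun f g => LinearMap.ext fun k => by rw [Subsingleton.elim k 0, map_zero, map_zero]⟩
    exact not_subsingleton (_root_.LocCoh.H (maximalIdeal R) n R) eK.symm.toEquiv.subsingleton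
  have hk0 : Module.supportDim R (R ⧸ maximalIdeal R) = (0 : ℕ) := by
    rw [Module.supportDim_eq_ringKrullDim_quotient_annihilator, Ideal.annihilator_quotient]
    letI := Ideal.Quotient.field (maximalIdeal R)
    exact ringKrullDim_eq_zero_of_field (R ⧸ maximalIdeal R)
  refine ⟨?_, ?_, ?_⟩
  · rcases Nat.eq_zero_or_pos n with rfl | hn0
    · haveI := injective_canonical_of_dim_zero (by simpa using hn) hE eK
      haveI : Injective (ModuleCat.of R K) := Module.injective_object_of_injective_module R K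
      infer_instance
    · exact CAlgH3.hasInjectiveDimensionLT_of_forall_ideal n _ fun I =>
        subsingleton_ext_canonical hn hE eK hn0 (R ⧸ I)
  · intro h
    haveI := nontrivial_H_supportDim (R ⧸ maximalIdeal R) 0 hk0
    obtain ⟨d⟩ := canonical_duality hn hE eK n 0 (zero_add n) (R ⧸ maximalIdeal R)
    haveI := HasInjectiveDimensionLT.subsingleton (ModuleCat.of R K) n n le_rfl (ModuleCat.of R (R ⧸ maximalIdeal R))
    exact not_subsingleton (_root_.LocCoh.H (maximalIdeal R) 0 (R ⧸ maximalIdeal R)) d.toEquiv.subsingleton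
  have hdep : (n : ℕ∞) ≤ _root_.LocCoh.depth R K := by
    rw [_root_.LocCoh.depth, natCast_le_idealDepth_iff_ext]
    intro i hi
    obtain ⟨d⟩ := canonical_duality hn hE eK i (n - i) (by omega) (R ⧸ maximalIdeal R)
    haveI : Subsingleton (_root_.LocCoh.H (maximalIdeal R) (n - i) (R ⧸ maximalIdeal R)) :=
      subsingleton_H_of_supportDim_lt (hk0.le.trans_lt (by exact_mod_cast (by omega : 0 < n - i)))
    exact subsingleton_of_dual_subsingleton hE _ d.symm.toEquiv.subsingleton
  have h1 := CAlgH3.depth_le_supportDim (R := R) (M := K)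
  have h2 := (Module.supportDim_le_ringKrullDim R K).trans_eq hn
  refine ⟨le_antisymm (h2.trans (WithBot.coe_le_coe.2 hdep)) h1, le_antisymm h2 ((WithBot.coe_le_coe.2 hdep).trans h1)⟩

theorem gorenstein_iff_canonical_free (hn : ringKrullDim R = n) (hE : Matlis6.IsHullAt (maximalIdeal R) E)
    (eK : (K →ₗ[R] E) ≃ₗ[R] _root_.LocCoh.H (maximalIdeal R) n R) :
    _root_.LocCoh.IsGorensteinLocalRing R ↔ Nonempty (K ≃ₗ[R] R) := by
  constructor
  · intro h
    obtain ⟨e⟩ := nonempty_H_equiv_hull_of_gorenstein hn hE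
    exact nonempty_equiv_of_dual_equiv hE K R ((eK.trans e).trans (LinearMap.ringLmapEquivSelf R R E).symm)
  · rintro ⟨f⟩
    exact gorenstein_of_cm hn (subsingleton_H_of_cm hn) hE
      ((eK.symm.trans (f.congrLeft E R)).trans (LinearMap.ringLmapEquivSelf R R E))

end Groth.Agent.LocCoh
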