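import Groth.Agent.LocCoh.BSeq
import Groth.Agent.LocCoh.BaseChange
import Mathlib.RingTheory.Localization.BaseChange
import Mathlib.RingTheory.Flat.Localization

/-!
Local cohomology and localization at primes: `H_I^i(M)` vanishes if `H_{pA_p}^i(M_p)` vanishes at every
`p ⊇ I`; comparison of supports.
-/

set_option autoImplicit false

universe u

open scoped TensorProduct

namespace Groth.Agent.LocCoh

variable {R : Type u} [CommRing R] [IsNoetherianRing R]

/-- Local cohomology commutes with localization. -/
theorem nonempty_localized_H_equiv (S : Submonoid R) (I : Ideal R) (M : Type u) [AddCommGroup M]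
    [Module R M] (i : ℕ) :
    Nonempty (LocalizedModule S (_root_.LocCoh.H I i M) ≃ₗ[Localization S]
      _root_.LocCoh.H (I.map (algebraMap R (Localization S))) i (LocalizedModule S M)) := by
  haveI : IsNoetherianRing (Localization S) := IsLocalization.isNoetherianRing S _ inferInstance
  haveI : Module.Flat R (Localization S) := IsLocalization.flat (Localization S) S
  obtain ⟨e⟩ := nonempty_H_baseChange R (Localization S) I i M
  exact ⟨((LocalizedModule.equivTensorProduct S _).trans e).trans
    (Hequiv _ i (LocalizedModule.equivTensorProduct S M).symm)⟩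

theorem nontrivial_H_localization (p : Ideal R) [p.IsPrime] (M : Type u) [AddCommGroup M]
    [Module R M] (i : ℕ) (x : _root_.LocCoh.H p i M) (hx : ∀ s : R, s ∉ p → s • x ≠ 0) :
    Nontrivial (_root_.LocCoh.H (IsLocalRing.maximalIdeal (Localization.AtPrime p)) i
      (LocalizedModule p.primeCompl M)) := by
  obtain ⟨e⟩ := nonempty_localized_H_equiv p.primeCompl p M i
  rw [← Localization.AtPrime.map_eq_maximalIdeal]
  refine nontrivial_of_ne (e (LocalizedModule.mkLinearMap p.primeCompl _ x)) 0 fun h0 => ?_
  rw [LinearEquiv.map_eq_zero_iff] at h0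
  obtain ⟨⟨s, hs⟩, h1⟩ := (IsLocalizedModule.eq_zero_iff p.primeCompl
    (LocalizedModule.mkLinearMap p.primeCompl _)).1 h0
  exact hx s hs h1

/-- Vanishing is local at the primes containing the ideal. -/
theorem subsingleton_H_of_local (I : Ideal R) (M : Type u) [AddCommGroup M] [Module R M] (i : ℕ)
    (h : ∀ p : PrimeSpectrum R, I ≤ p.asIdeal → Subsingleton (_root_.LocCoh.H
      (IsLocalRing.maximalIdeal (Localization.AtPrime p.asIdeal)) i
      (LocalizedModule p.asIdeal.primeCompl M))) :
    Subsingleton (_root_.LocCoh.H I i M) := by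
  induction I using IsNoetherian.induction with
  | hgt J ih =>
    refine subsingleton_of_forall_eq 0 fun x => ?_
    by_contra hx
    have key : ∀ y : _root_.LocCoh.H J i M, y ≠ 0 → ∀ b : R, b ∉ J → ∀ n : ℕ, b ^ n • y ≠ 0 := by
      intro y hy b hb n h0
      have hlt : J < J ⊔ Ideal.span {b} :=
        lt_of_le_of_ne le_sup_left fun e => hb (e ▸ Submodule.mem_sup_right (Ideal.mem_span_singleton_self b))
      haveI := ih _ hlt fun p hp => h p (le_sup_left.trans hp)
      obtain ⟨z, rfl⟩ := (mem_range_Hle_iff J b i M y).2 ⟨n, h0⟩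
      exact hy (by rw [Subsingleton.elim z 0, map_zero])
    have hJ1 : (1 : R) ∉ J := fun h1 => by
      obtain ⟨n, hn⟩ := isPowerTorsion_H i x
      exact hx (by simpa using hn (1 ^ n) (Ideal.pow_mem_pow h1 n))
    haveI hp : Ideal.IsPrime J := by
      refine ⟨fun e => hJ1 (e ▸ trivial), fun {a b} hab => ?_⟩
      by_contra hcon
      push Not at hcon
      obtain ⟨n, hn⟩ := isPowerTorsion_H i x
      have h0 := hn _ (Ideal.pow_mem_pow hab n)
      rw [mul_pow, mul_comm, mul_smul] at h0
      exact key (a ^ n • x) (key x hx a hcon.1 n) b hcon.2 n h0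
    have := nontrivial_H_localization J M i x fun s hs h0 => key x hx s hs 1 (by rw [pow_one]; exact h0)
    exact not_subsingleton _ (h ⟨J, hp⟩ le_rfl)

/-- The localization of `M_b` at a prime is `M_p` or has vanishing local cohomology. -/
theorem subsingleton_H_atPrime_loc (b : R) (M : Type u) [AddCommGroup M] [Module R M] (i : ℕ)
    (p : PrimeSpectrum R) (h : b ∉ p.asIdeal → Subsingleton (_root_.LocCoh.H
      (IsLocalRing.maximalIdeal (Localization.AtPrime p.asIdeal)) i
      (LocalizedModule p.asIdeal.primeCompl M))) :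
    Subsingleton (_root_.LocCoh.H (IsLocalRing.maximalIdeal (Localization.AtPrime p.asIdeal)) i
      (LocalizedModule p.asIdeal.primeCompl (Loc b M))) := by
  let A := Localization.AtPrime p.asIdeal
  haveI : IsNoetherianRing A := IsLocalization.isNoetherianRing p.asIdeal.primeCompl A inferInstance
  by_cases hb : b ∈ p.asIdeal
  · refine subsingleton_H_of_bijective_smul (b := algebraMap R A b)
      (Ideal.le_radical (by rw [← Localization.AtPrime.map_eq_maximalIdeal]; exact Ideal.mem_map_of_mem _ hb)) ?_ i
    have h2 : Function.Bijective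
        (LocalizedModule.map p.asIdeal.primeCompl (b • (LinearMap.id : Loc b M →ₗ[R] Loc b M))) :=
      ⟨LocalizedModule.map_injective _ _ (bijective_smul_loc b).1,
        LocalizedModule.map_surjective _ _ (bijective_smul_loc b).2⟩
    convert h2 using 1
    funext x
    rw [IsScalarTower.algebraMap_smul, map_smul]
    induction x using LocalizedModule.induction_on with
    | _ m s =>
      show b • LocalizedModule.mk m s = b • LocalizedModule.map _ LinearMap.id (LocalizedModule.mk m s)
      rw [LocalizedModule.map_mk]
      rfl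
  · haveI := h hb
    let f := lm b M
    let g := LocalizedModule.map p.asIdeal.primeCompl f
    have hg : Function.Bijective g := by
      constructor
      · refine (injective_iff_map_eq_zero _).2 fun x hx => ?_
        induction x using LocalizedModule.induction_on with
        | _ m s =>
          rw [LocalizedModule.map_mk, ← LocalizedModule.zero_mk 1, LocalizedModule.mk_eq] at hx
          obtain ⟨⟨u, hu⟩, h0⟩ := hx
          simp only [smul_zero, one_smul, Submonoid.smul_def] at h0
          rw [← map_smul, IsLocalizedModule.eq_zero_iff (Submonoid.powers b) (lm b M)] at h0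
          obtain ⟨⟨_, n, rfl⟩, hn⟩ := h0
          rw [← LocalizedModule.zero_mk 1, LocalizedModule.mk_eq]
          refine ⟨⟨b ^ n * u, p.asIdeal.primeCompl.mul_mem (fun hh => hb (p.2.mem_of_pow_mem n hh)) hu⟩, ?_⟩
          simp only [smul_zero, one_smul, Submonoid.smul_def, mul_smul]
          exact hn
      · intro y
        induction y using LocalizedModule.induction_on with
        | _ z s =>
          obtain ⟨⟨m, ⟨_, n, rfl⟩⟩, hm⟩ := IsLocalizedModule.surj (Submonoid.powers b) (lm b M) z
          refine ⟨LocalizedModule.mk m (⟨b ^ n, fun hh => hb (p.2.mem_of_pow_mem n hh)⟩ * s), ?_⟩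
          rw [LocalizedModule.map_mk, ← hm]
          exact LocalizedModule.mk_cancel_common_left (⟨b ^ n, fun hh => hb (p.2.mem_of_pow_mem n hh)⟩ : p.asIdeal.primeCompl) s z
    exact (Hequiv _ i (LinearEquiv.ofBijective g hg)).symm.toEquiv.subsingleton

/-- Enlarging the support: surjectivity and injectivity of `H_{I'}^i → H_I^i`. -/
theorem Hle_surjective_injective_of_local {I I' : Ideal R} (hII' : I ≤ I') (M : Type u)
    [AddCommGroup M] [Module R M] (i : ℕ) :
    ((∀ p : PrimeSpectrum R, I ≤ p.asIdeal → ¬ I' ≤ p.asIdeal → Subsingleton (_root_.LocCoh.H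
        (IsLocalRing.maximalIdeal (Localization.AtPrime p.asIdeal)) i
        (LocalizedModule p.asIdeal.primeCompl M))) → Function.Surjective (Hle hII' i M)) ∧
    ((∀ p : PrimeSpectrum R, I ≤ p.asIdeal → ¬ I' ≤ p.asIdeal → ∀ j : ℕ, j + 1 = i →
        Subsingleton (_root_.LocCoh.H (IsLocalRing.maximalIdeal (Localization.AtPrime p.asIdeal)) j
        (LocalizedModule p.asIdeal.primeCompl M))) → Function.Injective (Hle hII' i M)) := by
  have main : ∀ K : Ideal R, K.FG → K ≤ I' → ∀ J : Ideal R, I ≤ J → J ≤ I' →
      ((∀ p : PrimeSpectrum R, I ≤ p.asIdeal → ¬ I' ≤ p.asIdeal → Subsingleton (_root_.LocCoh.H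
        (IsLocalRing.maximalIdeal (Localization.AtPrime p.asIdeal)) i
        (LocalizedModule p.asIdeal.primeCompl M))) →
        Function.Surjective (Hle (le_sup_left : J ≤ J ⊔ K) i M)) ∧
      ((∀ p : PrimeSpectrum R, I ≤ p.asIdeal → ¬ I' ≤ p.asIdeal → ∀ j : ℕ, j + 1 = i →
        Subsingleton (_root_.LocCoh.H (IsLocalRing.maximalIdeal (Localization.AtPrime p.asIdeal)) j
        (LocalizedModule p.asIdeal.primeCompl M))) →
        Function.Injective (Hle (le_sup_left : J ≤ J ⊔ K) i M)) := by
    intro K hK
    induction K, hK using Submodule.fg_induction with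
    | singleton b =>
      intro hb J hIJ hJI'
      have hbI : b ∈ I' := hb (Submodule.mem_span_singleton_self b)
      refine ⟨fun hs => fun x => ?_, fun hi => ?_⟩
      · haveI : Subsingleton (_root_.LocCoh.H J i (Loc b M)) :=
          subsingleton_H_of_local J _ i fun p hp => subsingleton_H_atPrime_loc b M i p fun hbp =>
            hs p (hIJ.trans hp) fun hle => hbp (hle hbI)
        exact (exact_Hle_Hmap J b i M x).1 (Subsingleton.elim _ _)
      · cases i with
        | zero => exact Hle_zero_injective _
        | succ j =>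
          haveI : Subsingleton (_root_.LocCoh.H J j (Loc b M)) :=
            subsingleton_H_of_local J _ j fun p hp => subsingleton_H_atPrime_loc b M j p fun hbp =>
              hi p (hIJ.trans hp) (fun hle => hbp (hle hbI)) j rfl
          obtain ⟨κ⟩ := nonempty_coker_equiv_ker J b j M
          refine LinearMap.ker_eq_bot.1 (Submodule.subsingleton_iff_eq_bot.1 ?_)
          exact κ.symm.toEquiv.subsingleton
    | sup S T _ _ hS hT =>
      intro hST J hIJ hJI'
      obtain ⟨s1, i1⟩ := hS (le_sup_left.trans hST) J hIJ hJI'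
      obtain ⟨s2, i2⟩ := hT (le_sup_right.trans hST) (J ⊔ S) (hIJ.trans le_sup_left)
        (sup_le hJI' (le_sup_left.trans hST))
      have hcomp : ∀ (K : Ideal R) (hK : K = J ⊔ S ⊔ T) (hle : J ≤ K),
          ((Function.Surjective (Hle (le_sup_left : J ≤ J ⊔ S) i M) →
            Function.Surjective (Hle (le_sup_left : J ⊔ S ≤ J ⊔ S ⊔ T) i M) →
            Function.Surjective (Hle hle i M)) ∧
          (Function.Injective (Hle (le_sup_left : J ≤ J ⊔ S) i M) →
            Function.Injective (Hle (le_sup_left : J ⊔ S ≤ J ⊔ S ⊔ T) i M) →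
            Function.Injective (Hle hle i M))) := by
        rintro K rfl hle
        have he : ⇑(Hle hle i M) = Hle (le_sup_left : J ≤ J ⊔ S) i M ∘
            Hle (le_sup_left : J ⊔ S ≤ J ⊔ S ⊔ T) i M := funext fun a => (Hle_comp _ _ i a).symm
        rw [he]
        exact ⟨fun a b => a.comp b, fun a b => a.comp b⟩
      obtain ⟨cs, ci⟩ := hcomp _ (sup_assoc J S T).symm le_sup_left
      exact ⟨fun h => cs (s1 h) (s2 h), fun h => ci (i1 h) (i2 h)⟩
  have e : I ⊔ I' = I' := sup_eq_right.2 hII'
  have := main I' (IsNoetherian.noetherian I') le_rfl I le_rfl hII'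
  have gen : ∀ (K : Ideal R) (hK : K = I') (hle : I ≤ K),
      (Function.Surjective (Hle hle i M) → Function.Surjective (Hle hII' i M)) ∧
      (Function.Injective (Hle hle i M) → Function.Injective (Hle hII' i M)) := by
    rintro K rfl hle
    exact ⟨id, id⟩
  exact ⟨fun h => (gen _ e _).1 (this.1 h), fun h => (gen _ e _).2 (this.2 h)⟩

end Groth.Agent.LocCoh
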