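import Groth.Agent.LocCoh.Duality
import Groth.Agent.Matlis6.Local
import Groth.Agent.CAlgH3.CMRing
import Groth.Agent.CAlgH3.RegularCore

/-!
The top local cohomology of a Cohen–Macaulay local ring with one-dimensional socle is an injective
hull of the residue field; uniqueness of a module with a prescribed Matlis dual.
-/

set_option autoImplicit false

universe u

open CategoryTheory IsLocalRing

namespace Groth.Agent.LocCoh

variable {R : Type u} [CommRing R] [IsNoetherianRing R] [IsLocalRing R]

section cm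

omit [IsNoetherianRing R] in
theorem isRegular_length_le {xs : List R} {n : ℕ} (hn : ringKrullDim R = n) [IsNoetherianRing R]
    (h : RingTheory.Sequence.IsRegular R xs) :
    xs.length ≤ n ∧ (xs.length = n → maximalIdeal R ≤ (Ideal.ofList xs).radical) := by
  haveI : Nontrivial (R ⧸ (Ideal.ofList xs • (⊤ : Submodule R R))) :=
    Submodule.Quotient.nontrivial_iff.2 h.top_ne_smul.symm
  have h1 := Module.supportDim_add_length_eq_supportDim_of_isRegular xs h
  rw [Module.supportDim_self_eq_ringKrullDim, hn] at h1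
  have h0 : (0 : WithBot ℕ∞) ≤ Module.supportDim R (R ⧸ (Ideal.ofList xs • (⊤ : Submodule R R))) :=
    Order.krullDim_nonneg_iff.2 Module.nonempty_support_of_nontrivial.to_subtype
  refine ⟨?_, fun hlen => ?_⟩
  · have h2 := (add_le_add h0 (le_refl ((xs.length : ℕ) : WithBot ℕ∞))).trans_eq h1
    rw [zero_add] at h2
    exact_mod_cast h2
  · rw [hlen] at h1
    have h2 : Module.supportDim R (R ⧸ (Ideal.ofList xs • (⊤ : Submodule R R))) ≤ 0 := by
      generalize Module.supportDim R (R ⧸ (Ideal.ofList xs • (⊤ : Submodule R R))) = d at h1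
      induction d with
      | bot => exact bot_le
      | coe c =>
        induction c with
        | top =>
          exfalso
          have h3 : (⊤ : ℕ∞) + n = n := by exact_mod_cast h1
          rw [top_add] at h3
          exact absurd h3.symm (ENat.natCast_ne_top n)
        | coe c =>
          have h3 : c + n = n := by exact_mod_cast h1
          exact_mod_cast Nat.le_zero.2 (by omega : c = 0)
    intro x hx
    rw [Ideal.radical_eq_sInf, Submodule.mem_sInf]
    rintro P ⟨hP, hPp⟩
    haveI := hPp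
    have h3 : ringKrullDim (R ⧸ P) ≤ 0 := by
      refine (CAlgH3.ringKrullDim_quotient_le_supportDim (p := ⟨P, hPp⟩) ?_).trans h2
      rw [Module.support_eq_zeroLocus, PrimeSpectrum.mem_zeroLocus]
      intro r hr
      have := Module.mem_annihilator.1 hr (Submodule.Quotient.mk 1)
      rw [← Submodule.Quotient.mk_smul, Submodule.Quotient.mk_eq_zero] at this
      exact hP (by simpa using this)
    by_contra hxP
    have hlt : P < maximalIdeal R :=
      lt_of_le_of_ne (IsLocalRing.le_maximalIdeal hPp.ne_top) fun e => hxP (e ▸ hx)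
    have h4 := (CAlgH3.ringKrullDim_quotient_add_one_le hlt).trans h3
    haveI : Nontrivial (R ⧸ maximalIdeal R) :=
      Ideal.Quotient.nontrivial_iff.2 (maximalIdeal.isMaximal R).ne_top
    have h5 := (add_le_add (ringKrullDim_nonneg_of_nontrivial (R := R ⧸ maximalIdeal R)) le_rfl).trans h4
    exact absurd h5 (by decide +revert)

theorem exists_parameters_in_pow [_root_.LocCoh.IsCohenMacaulayLocalRing R] {n : ℕ}
    (hn : ringKrullDim R = n) (j : ℕ) :
    ∃ xs : List R, xs.length = n ∧ (∀ x ∈ xs, x ∈ maximalIdeal R ^ j) ∧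
      RingTheory.Sequence.IsRegular R xs ∧ maximalIdeal R ≤ (Ideal.ofList xs).radical := by
  have hdep : (n : ℕ∞) ≤ _root_.LocCoh.idealDepth (maximalIdeal R) R := by
    have h1 := (CAlgH3.isCohenMacaulayLocalRing_iff_depth R).1 inferInstance
    rw [hn] at h1
    exact le_of_eq (WithBot.coe_inj.1 h1)
  by_cases hj : j = 0
  · subst hj
    obtain ⟨xs, hlen, -, hreg⟩ := (natCast_le_idealDepth_iff_exists _ R
      CAlgH3.maximal_smul_top_ne_top n).1 hdep
    obtain ⟨h1, h2⟩ := isRegular_length_le hn hreg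
    exact ⟨xs, le_antisymm h1 hlen, fun x _ => by simp, hreg, h2 (le_antisymm h1 hlen)⟩
  have hne : maximalIdeal R ^ j • (⊤ : Submodule R R) ≠ ⊤ := fun e =>
    CAlgH3.maximal_smul_top_ne_top (R := R) (M := R)
      (top_le_iff.1 (e.ge.trans (Submodule.smul_mono_left (Ideal.pow_le_self hj))))
  have hdepj : (n : ℕ∞) ≤ _root_.LocCoh.idealDepth (maximalIdeal R ^ j) R := by
    rw [natCast_le_idealDepth_iff_local] at hdep ⊢
    exact fun p hp => hdep p (p.2.le_of_pow_le hp)
  obtain ⟨xs, hlen, hmem, hreg⟩ := (natCast_le_idealDepth_iff_exists _ R hne n).1 hdepj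
  obtain ⟨h1, h2⟩ := isRegular_length_le hn hreg
  exact ⟨xs, le_antisymm h1 hlen, hmem, hreg, h2 (le_antisymm h1 hlen)⟩

end cm

section hull

omit [IsNoetherianRing R] [IsLocalRing R] in
/-- Homs out of `R/I` are the `I`-torsion. -/
theorem nonempty_torsionBy_equiv_hom (I : Ideal R) (C : Type u) [AddCommGroup C] [Module R C] :
    Nonempty (_root_.LocCoh.torsionBy I C ≃ₗ[R] ((R ⧸ I) →ₗ[R] C)) := by
  refine ⟨LinearEquiv.ofBijective
    { toFun := fun x => Submodule.liftQ I (LinearMap.toSpanSingleton R C x.1)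
        (fun a ha => by simpa using (Submodule.mem_torsionBySet_iff _ _).1 x.2 ⟨a, ha⟩)
      map_add' := fun x y => LinearMap.ext fun q => by
        obtain ⟨r, rfl⟩ := Submodule.Quotient.mk_surjective _ q
        exact smul_add r (x : C) (y : C)
      map_smul' := fun c x => LinearMap.ext fun q => by
        obtain ⟨r, rfl⟩ := Submodule.Quotient.mk_surjective _ q
        exact smul_comm r c (x : C) }
    ⟨fun x y h => Subtype.ext ?_, fun φ => ⟨⟨φ (Submodule.Quotient.mk 1), ?_⟩, LinearMap.ext fun q => ?_⟩⟩⟩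
  · have h1 := LinearMap.congr_fun h (Submodule.Quotient.mk 1)
    change (1 : R) • (x : C) = (1 : R) • (y : C) at h1
    simpa using h1
  · refine (Submodule.mem_torsionBySet_iff _ _).2 fun a => ?_
    rw [← map_smul, ← Submodule.Quotient.mk_smul, (Submodule.Quotient.mk_eq_zero _).2
      (by simpa using a.2), map_zero]
  · obtain ⟨r, rfl⟩ := Submodule.Quotient.mk_surjective _ q
    show r • φ (Submodule.Quotient.mk 1) = φ (Submodule.Quotient.mk r)
    rw [← map_smul, ← Submodule.Quotient.mk_smul, smul_eq_mul, mul_one]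

theorem isFiniteLength_of_pow_le {I : Ideal R} {j : ℕ} (h : maximalIdeal R ^ j ≤ I) :
    IsFiniteLength R (R ⧸ I) := by
  refine Module.length_ne_top_iff.1 (ne_top_of_le_ne_top
    (Module.length_ne_top_iff.2 (Matlis6.isFiniteLength_quotient_pow (m := maximalIdeal R) j)) ?_)
  exact Module.length_le_of_surjective (Submodule.mapQ (maximalIdeal R ^ j) I LinearMap.id h)
    fun q => by
      obtain ⟨r, rfl⟩ := Submodule.Quotient.mk_surjective _ q
      exact ⟨Submodule.Quotient.mk r, rfl⟩

/-- In a Cohen–Macaulay local ring with socle line in `H^n_m(R)`, that module is the hull. -/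
theorem nonempty_H_equiv_hull [_root_.LocCoh.IsCohenMacaulayLocalRing R] {n : ℕ}
    (hn : ringKrullDim R = n) {E : Type u} [AddCommGroup E] [Module R E]
    (hE : Matlis6.IsHullAt (maximalIdeal R) E)
    (hsoc : Nonempty ((R ⧸ maximalIdeal R) ≃ₗ[R]
      _root_.LocCoh.torsionBy (maximalIdeal R) (_root_.LocCoh.H (maximalIdeal R) n R))) :
    Nonempty (_root_.LocCoh.H (maximalIdeal R) n R ≃ₗ[R] E) := by
  obtain ⟨s⟩ := hsoc
  let T := _root_.LocCoh.H (maximalIdeal R) n R
  let e : T := (s (Submodule.Quotient.mk 1)).1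
  have he : e ≠ 0 := fun h => by
    have := s.map_eq_zero_iff.1 (Subtype.ext h : s (Submodule.Quotient.mk 1) = 0)
    rw [Submodule.Quotient.mk_eq_zero] at this
    exact (maximalIdeal.isMaximal R).ne_top ((Ideal.eq_top_iff_one _).2 this)
  have hme : ∀ a ∈ maximalIdeal R, a • e = 0 := fun a ha =>
    (Submodule.mem_torsionBySet_iff _ _).1 (s (Submodule.Quotient.mk 1)).2 ⟨a, ha⟩
  obtain ⟨g, hg⟩ := Matlis6.exists_injective_of_socle_line hE
    (T := T) (isPowerTorsion_H n) he hme fun x hx => by
      obtain ⟨q, hq⟩ := s.surjective ⟨x, (Submodule.mem_torsionBySet_iff _ _).2 fun a => hx a.1 a.2⟩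
      obtain ⟨c, rfl⟩ := Submodule.Quotient.mk_surjective _ q
      refine ⟨c, ?_⟩
      have h1 : s (Submodule.Quotient.mk c) = c • s (Submodule.Quotient.mk 1) := by
        rw [← map_smul, ← Submodule.Quotient.mk_smul, smul_eq_mul, mul_one]
      exact (congrArg Subtype.val (h1.symm.trans hq)).symm
  refine ⟨LinearEquiv.ofBijective g ⟨hg, fun y => ?_⟩⟩
  obtain ⟨j, hj⟩ := hE.isPowerTorsion y
  obtain ⟨xs, hlen, hxs, hreg, hrad⟩ := exists_parameters_in_pow hn j
  obtain ⟨k, hk⟩ := Ideal.exists_pow_le_of_le_radical_of_fg hrad (IsNoetherian.noetherian _)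
  set I := Ideal.ofList xs
  have hIm : ∀ x ∈ xs, x ∈ maximalIdeal R := fun x hx => by
    by_contra hu
    refine hreg.top_ne_smul ?_
    rw [show Ideal.ofList xs = ⊤ from Ideal.eq_top_of_isUnit_mem _ (Ideal.subset_span hx)
      (IsLocalRing.notMem_maximalIdeal.1 hu), Submodule.top_smul]
  obtain ⟨t⟩ := nonempty_quotient_equiv_torsionBy_H (maximalIdeal R) xs R hIm hreg.toIsWeaklyRegular
    (hrad.trans (Ideal.radical_mono le_sup_left))
  rw [hlen] at t
  obtain ⟨hE'⟩ := nonempty_torsionBy_equiv_hom I E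
  have hfl := isFiniteLength_of_pow_le hk
  have hkill : ∀ a ∈ maximalIdeal R ^ k, ∀ q : R ⧸ I, a • q = 0 := fun a ha q => by
    obtain ⟨r, rfl⟩ := Submodule.Quotient.mk_surjective _ q
    rw [← Submodule.Quotient.mk_smul, Submodule.Quotient.mk_eq_zero]
    exact Ideal.mul_mem_right _ _ (hk ha)
  let gI : _root_.LocCoh.torsionBy I T →ₗ[R] _root_.LocCoh.torsionBy I E :=
    g.restrict fun x hx => by
      rw [_root_.LocCoh.torsionBy, Submodule.mem_torsionBySet_iff] at hx ⊢
      exact fun a => by rw [← map_smul, hx a, map_zero]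
  have hgI : Function.Injective gI := fun a b h => Subtype.ext (hg (congrArg Subtype.val h))
  have hT : Module.length R (_root_.LocCoh.torsionBy I T) = Module.length R (R ⧸ I) :=
    t.symm.length_eq.trans (Submodule.quotEquivOfEq _ I ((smul_eq_mul _ _).trans (Ideal.mul_top I))).length_eq
  have hlen' : Module.length R (_root_.LocCoh.torsionBy I E) =
      Module.length R (_root_.LocCoh.torsionBy I T) := by
    rw [hT, hE'.length_eq, hE.length_dual hfl hkill]
  obtain ⟨x, hx⟩ := Matlis6.surjective_of_injective_of_length_eq gI hgI hlen'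
    (by rw [hT]; exact Module.length_ne_top_iff.2 hfl)
    ⟨y, (Submodule.mem_torsionBySet_iff _ _).2 fun a => hj a.1 (Ideal.span_le.2 hxs a.2)⟩
  exact ⟨x.1, congrArg Subtype.val hx⟩

/-- For a regular local ring the socle of `H^n_m(R)` is a line. -/
theorem nonempty_socle_of_regular {R : Type u} [CommRing R] [IsRegularLocalRing R] {n : ℕ}
    (hn : ringKrullDim R = n) :
    Nonempty ((R ⧸ maximalIdeal R) ≃ₗ[R]
      _root_.LocCoh.torsionBy (maximalIdeal R) (_root_.LocCoh.H (maximalIdeal R) n R)) := by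
  obtain ⟨rs, hlen, hspan, hreg⟩ := CAlgH3.exists_isRegular_ofList_eq_maximalIdeal (R := R)
  obtain ⟨t⟩ := nonempty_quotient_equiv_torsionBy_H (maximalIdeal R) rs R
    (fun r hr => hspan ▸ Ideal.subset_span hr) hreg.toIsWeaklyRegular
    (hspan ▸ le_sup_left.trans Ideal.le_radical)
  have hn' : rs.length = n := by
    have h1 := IsRegularLocalRing.spanFinrank_maximalIdeal (R := R)
    rw [hn, ← hlen] at h1
    exact_mod_cast h1
  rw [hn', hspan] at t
  exact ⟨(Submodule.quotEquivOfEq (maximalIdeal R) _ (by simp)).trans t⟩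

end hull

section unique

/-- A surjection congruent to a given map on the quotient by a high power of the maximal ideal. -/
theorem exists_surjective_of_quotients (K K' : Type u) [AddCommGroup K] [Module R K] [Module.Finite R K]
    [AddCommGroup K'] [Module R K'] [Module.Finite R K']
    (h : ∀ j : ℕ, Nonempty ((K ⧸ (maximalIdeal R ^ j • (⊤ : Submodule R K))) ≃ₗ[R]
      (K' ⧸ (maximalIdeal R ^ j • (⊤ : Submodule R K'))))) :
    ∃ f : K →ₗ[R] K', Function.Surjective f := by
  classical
  let m := maximalIdeal R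
  obtain ⟨s, π, hπ⟩ := Module.Finite.exists_fin' R K
  obtain ⟨r, c, hc⟩ := Submodule.fg_iff_exists_fin_generating_family.1
    (IsNoetherian.noetherian (LinearMap.ker π))
  let L : (Fin s → K') →ₗ[R] (Fin r → K') :=
    LinearMap.pi fun l => ∑ i, c l i • LinearMap.proj i
  obtain ⟨k, hk⟩ := Ideal.exists_pow_inf_eq_pow_smul m (LinearMap.range L)
  obtain ⟨φ⟩ := h (k + 1)
  let J := m ^ (k + 1)
  choose v hv using fun i : Fin s => Submodule.Quotient.mk_surjective _
    (φ (Submodule.Quotient.mk (π (Pi.single i 1))))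
  have hpi : ∀ {t : ℕ} (u : Fin t → K'), (∀ l, u l ∈ J • (⊤ : Submodule R K')) →
      u ∈ J • (⊤ : Submodule R (Fin t → K')) := fun {t} u hu => by
    rw [← Finset.univ_sum_single u]
    refine Submodule.sum_mem _ fun l _ => ?_
    have h1 := Submodule.mem_map_of_mem (f := LinearMap.single R (fun _ : Fin t => K') l) (hu l)
    rw [Submodule.map_smul''] at h1
    exact Submodule.smul_mono le_rfl le_top h1
  have hL : ∀ u l, L u l = ∑ i, c l i • u i := fun u l => by simp [L]
  have hLv : L v ∈ J • (⊤ : Submodule R (Fin r → K')) := hpi _ fun l => by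
    rw [← Submodule.Quotient.mk_eq_zero, hL, ← Submodule.mkQ_apply, map_sum]
    simp only [Submodule.mkQ_apply, Submodule.Quotient.mk_smul, hv, ← map_smul]
    rw [← map_sum]
    have h0 : π (c l) = 0 := (LinearMap.mem_ker).1 (hc ▸ Submodule.subset_span (Set.mem_range_self l))
    have h1 : (∑ i, c l i • Submodule.Quotient.mk (π (Pi.single i 1)) :
        K ⧸ (J • (⊤ : Submodule R K))) = Submodule.Quotient.mk (π (c l)) := by
      conv_rhs => rw [show c l = ∑ i, c l i • Pi.single i (1 : R) from pi_eq_sum_univ' (c l)]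
      simp only [← Submodule.mkQ_apply, ← map_smul, ← map_sum]
    rw [h1, h0, Submodule.Quotient.mk_zero, map_zero]
  have hmem : L v ∈ m • LinearMap.range L := by
    have h1 : L v ∈ m ^ (k + 1) • ⊤ ⊓ LinearMap.range L := ⟨hLv, ⟨v, rfl⟩⟩
    rw [hk (k + 1) (Nat.le_succ k), Nat.add_sub_cancel_left, pow_one] at h1
    exact Submodule.smul_mono le_rfl inf_le_right h1
  rw [show m • LinearMap.range L = (m • (⊤ : Submodule R (Fin s → K'))).map L by
    rw [Submodule.map_smul'', Submodule.map_top]] at hmem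
  obtain ⟨w, hw, hLw⟩ := hmem
  let f₀ : (Fin s → R) →ₗ[R] K' := Fintype.linearCombination R (v - w)
  have hker : LinearMap.ker π ≤ LinearMap.ker f₀ := by
    rw [← hc, Submodule.span_le]
    rintro _ ⟨l, rfl⟩
    rw [SetLike.mem_coe, LinearMap.mem_ker, Fintype.linearCombination_apply, ← hL,
      map_sub, hLw, sub_self, Pi.zero_apply]
  let f : K →ₗ[R] K' := ((LinearMap.ker π).liftQ f₀ hker).comp
    (π.quotKerEquivOfSurjective hπ).symm.toLinearMap
  have hf : ∀ u, f (π u) = f₀ u := fun u => by
    show (LinearMap.ker π).liftQ f₀ hker ((π.quotKerEquivOfSurjective hπ).symm (π u)) = f₀ u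
    rw [show (π.quotKerEquivOfSurjective hπ).symm (π u) = Submodule.Quotient.mk u from
      (LinearEquiv.symm_apply_eq _).2 rfl]
    rfl
  refine ⟨f, LinearMap.range_eq_top.1 ?_⟩
  refine top_le_iff.1 (Submodule.le_of_le_smul_of_le_jacobson_bot Module.Finite.fg_top
    (IsLocalRing.maximalIdeal_le_jacobson _) fun y _ => ?_)
  obtain ⟨q, hq⟩ := φ.surjective (Submodule.Quotient.mk y)
  obtain ⟨x, rfl⟩ := Submodule.Quotient.mk_surjective _ q
  obtain ⟨u, rfl⟩ := hπ x
  have hfu : ∑ i, u i • v i - y ∈ m • (⊤ : Submodule R K') := by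
    refine Submodule.smul_mono_left (Ideal.pow_le_self (Nat.succ_ne_zero k)) ?_
    rw [← Submodule.Quotient.eq, ← hq, ← Submodule.mkQ_apply, map_sum]
    simp only [Submodule.mkQ_apply, Submodule.Quotient.mk_smul, hv, ← map_smul]
    rw [← map_sum]
    congr 1
    simp only [← Submodule.mkQ_apply, ← map_smul, ← map_sum]
    rw [← pi_eq_sum_univ' u]
  have hwm : ∑ i, u i • w i ∈ m • (⊤ : Submodule R K') := by
    refine Submodule.sum_mem _ fun i _ => Submodule.smul_mem _ _ ?_
    have h1 := Submodule.mem_map_of_mem (f := (LinearMap.proj i : (Fin s → K') →ₗ[R] K')) hw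
    rw [Submodule.map_smul''] at h1
    exact Submodule.smul_mono le_rfl le_top h1
  refine Submodule.mem_sup.2 ⟨f (π u), ⟨_, rfl⟩, y - f (π u), ?_, add_sub_cancel _ _⟩
  have h2 : y - f (π u) = ∑ i, u i • w i - (∑ i, u i • v i - y) := by
    rw [hf, Fintype.linearCombination_apply]
    simp only [Pi.sub_apply, smul_sub, Finset.sum_sub_distrib]
    abel
  rw [h2]
  exact sub_mem hwm hfu

/-- A finite module is determined by its Matlis dual. -/
theorem nonempty_equiv_of_dual_equiv {E : Type u} [AddCommGroup E] [Module R E]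
    (hE : Matlis6.IsHullAt (maximalIdeal R) E)
    (K K' : Type u) [AddCommGroup K] [Module R K] [Module.Finite R K] [AddCommGroup K'] [Module R K']
    [Module.Finite R K'] (e : (K →ₗ[R] E) ≃ₗ[R] (K' →ₗ[R] E)) : Nonempty (K ≃ₗ[R] K') := by
  have key : ∀ j : ℕ, Nonempty ((K ⧸ (maximalIdeal R ^ j • (⊤ : Submodule R K))) ≃ₗ[R]
      (K' ⧸ (maximalIdeal R ^ j • (⊤ : Submodule R K')))) := by
    intro j
    let m := maximalIdeal R
    have dualQuot : ∀ (X : Type u) [AddCommGroup X] [Module R X],
        LinearMap.range (LinearMap.lcomp R E ((m ^ j • (⊤ : Submodule R X)).mkQ)) =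
          Submodule.torsionBySet R (X →ₗ[R] E) ((m ^ j : Ideal R) : Set R) := by
      intro X _ _
      ext φ
      rw [Submodule.mem_torsionBySet_iff]
      constructor
      · rintro ⟨ψ, rfl⟩ ⟨a, ha⟩
        refine LinearMap.ext fun x => ?_
        show a • ψ (Submodule.Quotient.mk x) = 0
        rw [← map_smul, ← Submodule.Quotient.mk_smul,
          (Submodule.Quotient.mk_eq_zero _).2 (Submodule.smul_mem_smul ha Submodule.mem_top), map_zero]
      · intro h
        refine ⟨(m ^ j • (⊤ : Submodule R X)).liftQ φ ?_, LinearMap.ext fun x => rfl⟩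
        rw [Submodule.smul_le]
        intro a ha x _
        rw [LinearMap.mem_ker, map_smul]
        exact LinearMap.congr_fun (h ⟨a, ha⟩) x
    have hinj : ∀ (X : Type u) [AddCommGroup X] [Module R X],
        Function.Injective (LinearMap.lcomp R E ((m ^ j • (⊤ : Submodule R X)).mkQ)) := fun X _ _ =>
      (Matlis6.lcomp_exact (R := R) (E := E) (LinearMap.exact_subtype_mkQ _)
        (Submodule.mkQ_surjective _)).1
    have hmap : (Submodule.torsionBySet R (K →ₗ[R] E) ((m ^ j : Ideal R) : Set R)).map e.toLinearMap =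
        Submodule.torsionBySet R (K' →ₗ[R] E) ((m ^ j : Ideal R) : Set R) := by
      ext φ
      rw [Submodule.mem_map_equiv, Submodule.mem_torsionBySet_iff, Submodule.mem_torsionBySet_iff]
      simp [← map_smul]
    let eD := (LinearEquiv.ofInjective _ (hinj K)).trans (((LinearEquiv.ofEq _ _ (dualQuot K)).trans
      ((e.submoduleMap _).trans (LinearEquiv.ofEq _ _ hmap))).trans
      ((LinearEquiv.ofEq _ _ (dualQuot K').symm).trans (LinearEquiv.ofInjective _ (hinj K')).symm))
    have hk : ∀ (X : Type u) [AddCommGroup X] [Module R X], ∀ a ∈ m ^ j,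
        ∀ q : X ⧸ (m ^ j • (⊤ : Submodule R X)), a • q = 0 := fun X _ _ a ha q => by
      obtain ⟨x, rfl⟩ := Submodule.Quotient.mk_surjective _ q
      rw [← Submodule.Quotient.mk_smul, Submodule.Quotient.mk_eq_zero]
      exact Submodule.smul_mem_smul ha Submodule.mem_top
    have hfl : ∀ (X : Type u) [AddCommGroup X] [Module R X] [Module.Finite R X],
        IsFiniteLength R (X ⧸ (m ^ j • (⊤ : Submodule R X))) := fun X _ _ _ => by
      obtain ⟨s, π, hπ⟩ := Module.Finite.exists_fin' R (X ⧸ (m ^ j • (⊤ : Submodule R X)))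
      have hA := isFiniteLength_iff_isNoetherian_isArtinian.1
        (Matlis6.isFiniteLength_quotient_pow (m := m) j)
      haveI := hA.2
      refine isFiniteLength_iff_isNoetherian_isArtinian.2 ⟨inferInstance, ?_⟩
      let v : Fin s → X ⧸ (m ^ j • (⊤ : Submodule R X)) := fun i => π (Pi.single i 1)
      let g : Fin s → ((R ⧸ m ^ j) →ₗ[R] X ⧸ (m ^ j • (⊤ : Submodule R X))) := fun i =>
        Submodule.liftQ (m ^ j) (LinearMap.toSpanSingleton R _ (v i))
          (fun a ha => by simpa using hk X a ha (v i))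
      refine isArtinian_of_surjective (Fin s → R ⧸ m ^ j)
        (∑ i, (g i).comp (LinearMap.proj i)) fun q => ?_
      obtain ⟨u, rfl⟩ := hπ q
      refine ⟨fun i => Submodule.Quotient.mk (u i), ?_⟩
      conv_rhs => rw [show u = ∑ i, u i • Pi.single i (1 : R) from pi_eq_sum_univ' u, map_sum]
      rw [LinearMap.sum_apply]
      exact Finset.sum_congr rfl fun i _ => (map_smul π (u i) _).symm
    exact ⟨((LinearEquiv.ofBijective _ (hE.applyl_bijective (hfl K) (hk K))).trans
      (eD.congrLeft E R)).trans (LinearEquiv.ofBijective _ (hE.applyl_bijective (hfl K') (hk K'))).symm⟩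
  obtain ⟨f, hf⟩ := exists_surjective_of_quotients K K' key
  obtain ⟨g, hg⟩ := exists_surjective_of_quotients K' K fun j => ⟨(key j).some.symm⟩
  have hgf := OrzechProperty.injective_of_surjective_endomorphism (g.comp f) (hg.comp hf)
  exact ⟨LinearEquiv.ofBijective f ⟨fun a b h => hgf (congrArg g h), hf⟩⟩

end unique

section regular

variable {R : Type u} [CommRing R] [IsRegularLocalRing R]

theorem exists_dualizing_equiv_of_regular {n : ℕ} (hn : ringKrullDim R = n) {E : Type u}
    [AddCommGroup E] [Module R E] (hE : Matlis6.IsHullAt (maximalIdeal R) E) :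
    Nonempty ((R →ₗ[R] E) ≃ₗ[R] _root_.LocCoh.H (maximalIdeal R) n R) := by
  haveI := CAlgH3.isCohenMacaulayLocalRing_of_regular R
  obtain ⟨e⟩ := nonempty_H_equiv_hull hn hE (nonempty_socle_of_regular hn)
  exact ⟨(LinearMap.ringLmapEquivSelf R R E).trans e.symm⟩

theorem subsingleton_H_regular {n : ℕ} (hn : ringKrullDim R = n) :
    ∀ j < n, Subsingleton (_root_.LocCoh.H (maximalIdeal R) j R) := by
  refine (natCast_le_idealDepth_iff_H (I := maximalIdeal R) (M := R) n).1 (le_of_eq ?_)
  have h1 := CAlgH3.depth_eq_ringKrullDim (R := R)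
  rw [hn] at h1
  exact (WithBot.coe_inj.1 h1).symm

/-- Local duality over a regular local ring. -/
theorem regular_duality {n : ℕ} (hn : ringKrullDim R = n) {E : Type u} [AddCommGroup E] [Module R E]
    (hE : Matlis6.IsHullAt (maximalIdeal R) E) (i j : ℕ) (hij : j + i = n) :
    DualAt (R := R) R E i j := by
  obtain ⟨eK⟩ := exists_dualizing_equiv_of_regular hn hE
  exact dualAt hn.le hE.inj eK (subsingleton_H_regular hn) i j hij

theorem subsingleton_ext_regular {n : ℕ} (hn : ringKrullDim R = n) (i : ℕ) (hi : i ≤ n)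
    (M : Type u) [AddCommGroup M] [Module R M] [Module.Finite R M]
    (h : Subsingleton (_root_.LocCoh.H (maximalIdeal R) (n - i) M)) :
    Subsingleton (CategoryTheory.Abelian.Ext (ModuleCat.of R M) (ModuleCat.of R R) i) := by
  obtain ⟨E, _, _, hE⟩ := Matlis6.exists_isHullAt (maximalIdeal R)
  obtain ⟨e⟩ := regular_duality hn hE i (n - i) (Nat.sub_add_cancel hi) M
  refine subsingleton_of_forall_eq 0 fun x => ?_
  by_contra hx
  obtain ⟨φ, hφ⟩ := hE.exists_apply_ne_zero_local hx
  obtain ⟨y, hy⟩ := e.surjective φ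
  rw [← hy, Subsingleton.elim y 0, map_zero] at hφ
  exact hφ rfl

end regular

end Groth.Agent.LocCoh
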