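import Groth.Agent.LocCoh.ExtVanishing
import Groth.Agent.LocCoh.ExtLocalize
import Groth.Agent.LocCoh.Duality2
import Groth.Agent.CAlgH3.ProjDim
import Groth.Agent.Matlis6.HullExistence

/-!
Gorenstein local rings: Cohen–Macaulayness, the `Ext` groups of the residue field, the top local
cohomology, local duality, localization, and criteria.
-/

set_option autoImplicit false

universe u

open CategoryTheory CategoryTheory.Abelian IsLocalRing RingTheory.Sequence
open scoped Pointwise

namespace Groth.Agent.LocCoh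

variable {R : Type u} [CommRing R]

local notation "Gor" => _root_.LocCoh.IsGorensteinLocalRing
local notation "CMLoc" => _root_.LocCoh.IsCohenMacaulayLocalRing

theorem exists_dim_eq [IsNoetherianRing R] [IsLocalRing R] : ∃ n : ℕ, ringKrullDim R = n := by
  obtain ⟨n, hn⟩ := ENat.ne_top_iff_exists.1
    (Ideal.height_ne_top (I := maximalIdeal R) (maximalIdeal.isMaximal R).ne_top)
  exact ⟨n, by rw [← maximalIdeal_height_eq_ringKrullDim, ← hn]; rfl⟩

theorem gorenstein_of_forall_ext [IsNoetherianRing R] [IsLocalRing R] (N : ℕ)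
    (h : ∀ i, N ≤ i → Subsingleton (Ext (ModuleCat.of R (R ⧸ maximalIdeal R)) (ModuleCat.of R R) i)) :
    Gor R where
  exists_hasInjectiveDimensionLT := ⟨N + 1, CAlgH3.hasInjectiveDimensionLT_of_forall_ideal N _ fun I =>
    subsingleton_ext_of_residueField R N h (R ⧸ I) (N + 1) (by omega)⟩

theorem subsingleton_ext_gorenstein [Gor R] : ∃ N : ℕ, ∀ i, N ≤ i → ∀ (M : Type u) [AddCommGroup M]
    [Module R M], Subsingleton (Ext (ModuleCat.of R M) (ModuleCat.of R R) i) := by
  obtain ⟨N, hN⟩ := _root_.LocCoh.IsGorensteinLocalRing.exists_hasInjectiveDimensionLT (A := R)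
  exact ⟨N, fun i hi M _ _ =>
    HasInjectiveDimensionLT.subsingleton (ModuleCat.of R R) N i hi (ModuleCat.of R M)⟩

section chain

variable [IsNoetherianRing R] [IsLocalRing R]

/-- Along a chain of maximal length the socle survives: `Ext^n(k, R) ≠ 0` for `n = dim R`. -/
theorem nontrivial_ext_residueField {n : ℕ} (hn : ringKrullDim R = n) :
    Nontrivial (Ext (ModuleCat.of R (R ⧸ maximalIdeal R)) (ModuleCat.of R R) n) := by
  obtain ⟨l, hl⟩ := Order.le_krullDim_iff.1 hn.ge
  have hmax : ∀ l' : LTSeries (PrimeSpectrum R), l'.length ≤ n := fun l' => by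
    have := (Order.LTSeries.length_le_krullDim l').trans hn.le
    exact_mod_cast this
  have key : ∀ k : ℕ, ∀ hk : k < l.length + 1,
      ∃ y : Ext (ModuleCat.of R (R ⧸ (l ⟨k, hk⟩).asIdeal)) (ModuleCat.of R R) k,
        ∀ s ∉ (l ⟨k, hk⟩).asIdeal, s • y ≠ 0 := by
    intro k
    induction k with
    | zero =>
      intro hk
      set p := l ⟨0, hk⟩
      have hmin : p.asIdeal ∈ minimalPrimes R := by
        refine ⟨⟨p.2, bot_le⟩, fun Q hQ hQp => ?_⟩
        by_contra hne
        have := hmax (l.cons ⟨Q, hQ.1⟩ (show (⟨Q, hQ.1⟩ : PrimeSpectrum R) < l.head from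
          (show Q < p.asIdeal from lt_of_le_not_ge hQp hne)))
        simp only [RelSeries.cons, RelSeries.append_length, RelSeries.singleton_length] at this
        omega
      have hass : p.asIdeal ∈ associatedPrimes R R := by
        have := Module.associatedPrimes.minimalPrimes_annihilator_subset_associatedPrimes R R
        refine this ?_
        rwa [Module.annihilator_eq_bot.2 inferInstance]
      obtain ⟨_, f, hf⟩ := isAssociatedPrime_iff_exists_injective_linearMap p.asIdeal R |>.1 hass
      refine ⟨Ext.mk₀ (ModuleCat.ofHom f), fun s hs h0 => hs ?_⟩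
      rw [← Ext.mk₀_smul, ← Ext.mk₀_zero] at h0
      have h1 := LinearMap.congr_fun (congrArg ModuleCat.Hom.hom ((Ext.mk₀_bijective _ _).1 h0))
        (Submodule.Quotient.mk 1)
      change s • f (Submodule.Quotient.mk 1) = 0 at h1
      rw [← map_smul, ← Submodule.Quotient.mk_smul, smul_eq_mul, mul_one, ← map_zero f] at h1
      exact (Submodule.Quotient.mk_eq_zero _).1 (hf h1)
    | succ k ih =>
      intro hk
      obtain ⟨x, hx⟩ := ih (by omega)
      refine exists_ext_survivor_of_covBy R _ _ ⟨l.step ⟨k, by omega⟩, fun c hc1 hc2 => ?_⟩ k x hx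
      have := hmax (l.insertNth ⟨k, by omega⟩ c hc1 hc2)
      change l.length + 1 ≤ n at this
      omega
  obtain ⟨y, hy⟩ := key n (by omega)
  have hlast : (l ⟨n, by omega⟩).asIdeal = maximalIdeal R := by
    by_contra hne
    have hlt : l.last < ⟨maximalIdeal R, (maximalIdeal.isMaximal R).isPrime⟩ := by
      rw [show l.last = l ⟨n, by omega⟩ from congrArg l (Fin.ext (by simp [hl]))]
      exact (lt_of_le_of_ne (IsLocalRing.le_maximalIdeal (l ⟨n, by omega⟩).2.ne_top) hne :
        (l ⟨n, by omega⟩).asIdeal < maximalIdeal R)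
    have := hmax (l.snoc _ hlt)
    simp only [RelSeries.snoc, RelSeries.append_length, RelSeries.singleton_length] at this
    omega
  have hnt : Nontrivial (Ext (ModuleCat.of R (R ⧸ (l ⟨n, by omega⟩).asIdeal)) (ModuleCat.of R R) n) :=
    nontrivial_of_ne y 0 fun h => hy 1 (Ideal.IsPrime.one_notMem (l ⟨n, by omega⟩).2) (by
      rw [one_smul]; exact h)
  rwa [hlast] at hnt

end chain

/-- `Ext` transported along an isomorphism. -/
noncomputable def extEquivOfEquiv {R : Type u} [CommRing R] {A B : Type u} [AddCommGroup A] [Module R A] [AddCommGroup B] [Module R B]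
    (e : A ≃ₗ[R] B) (n : ℕ) :
    Ext (ModuleCat.of R B) (ModuleCat.of R R) n ≃ₗ[R] Ext (ModuleCat.of R A) (ModuleCat.of R R) n :=
  { extPre R e.toLinearMap n with
    invFun := extPre R e.symm.toLinearMap n
    left_inv := fun x => by
      show extPre R e.symm.toLinearMap n (extPre R e.toLinearMap n x) = x
      rw [extPre_apply, extPre_apply, ← Ext.comp_assoc_of_second_deg_zero, Ext.mk₀_comp_mk₀,
        show ModuleCat.ofHom e.symm.toLinearMap ≫ ModuleCat.ofHom e.toLinearMap = 𝟙 _ from
          ModuleCat.hom_ext (LinearMap.ext fun z => e.apply_symm_apply z), Ext.mk₀_id_comp]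
    right_inv := fun x => by
      show extPre R e.toLinearMap n (extPre R e.symm.toLinearMap n x) = x
      rw [extPre_apply, extPre_apply, ← Ext.comp_assoc_of_second_deg_zero, Ext.mk₀_comp_mk₀,
        show ModuleCat.ofHom e.toLinearMap ≫ ModuleCat.ofHom e.symm.toLinearMap = 𝟙 _ from
          ModuleCat.hom_ext (LinearMap.ext fun z => e.symm_apply_apply z), Ext.mk₀_id_comp] }

section gor

variable [Gor R]

/-- Regular sequences, the vanishing of `Ext^i(k, R)`, and the dimension. -/
theorem gorenstein_structure {n : ℕ} (hn : ringKrullDim R = n) :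
    ∃ xs : List R, xs.length = n ∧ (∀ x ∈ xs, x ∈ maximalIdeal R) ∧ IsRegular R xs ∧
      (∀ i, n < i → ∀ (M : Type u) [AddCommGroup M] [Module R M] [Module.Finite R M],
        Subsingleton (Ext (ModuleCat.of R M) (ModuleCat.of R R) i)) := by
  classical
  obtain ⟨N, hN⟩ := subsingleton_ext_gorenstein (R := R)
  let k := R ⧸ maximalIdeal R
  have hne : Nontrivial (Ext (ModuleCat.of R k) (ModuleCat.of R R) n) := nontrivial_ext_residueField hn
  -- the largest nonvanishing degree
  let s := Nat.findGreatest (fun i => ¬ Subsingleton (Ext (ModuleCat.of R k) (ModuleCat.of R R) i)) N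
  have hnN : n ≤ N := by
    by_contra h
    exact not_subsingleton _ (hN n (by omega) k)
  have hns : n ≤ s := Nat.le_findGreatest hnN (not_subsingleton _)
  have hs : ¬ Subsingleton (Ext (ModuleCat.of R k) (ModuleCat.of R R) s) :=
    Nat.findGreatest_spec (P := fun i => ¬ Subsingleton (Ext (ModuleCat.of R k) (ModuleCat.of R R) i))
      hnN (not_subsingleton _)
  have habove : ∀ i, s + 1 ≤ i → Subsingleton (Ext (ModuleCat.of R k) (ModuleCat.of R R) i) := by
    intro i hi
    by_contra hns'
    by_cases hiN : i ≤ N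
    · exact Nat.findGreatest_is_greatest (P := fun i => ¬ Subsingleton (Ext (ModuleCat.of R k)
        (ModuleCat.of R R) i)) (show s < i by omega) hiN hns'
    · exact hns' (hN i (by omega) k)
  have hall := fun (M : Type u) [AddCommGroup M] [Module R M] [Module.Finite R M] (i : ℕ) (hi : s + 1 ≤ i) =>
    subsingleton_ext_of_residueField R (s + 1) habove M i hi
  -- a longest regular sequence
  let P : ℕ → Prop := fun t => ∃ xs : List R, xs.length = t ∧ (∀ x ∈ xs, x ∈ maximalIdeal R) ∧ IsRegular R xs
  have hP0 : P 0 := ⟨[], rfl, by simp, IsRegular.nil R R⟩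
  let t := Nat.findGreatest P n
  obtain ⟨xs, hlen, hmem, hreg⟩ : P t := Nat.findGreatest_spec (Nat.zero_le n) hP0
  haveI : Nontrivial (R ⧸ (Ideal.ofList xs • (⊤ : Submodule R R))) :=
    Submodule.Quotient.nontrivial_iff.2 hreg.top_ne_smul.symm
  have hass : maximalIdeal R ∈ associatedPrimes R (R ⧸ (Ideal.ofList xs • (⊤ : Submodule R R))) := by
    by_contra h
    obtain ⟨x, hx, hxreg⟩ := CAlgH3.exists_regular_iff_notMem_associatedPrimes.2 h
    have hmem' : ∀ y ∈ xs ++ [x], y ∈ maximalIdeal R := by
      intro y hy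
      rcases List.mem_append.1 hy with hy | hy
      · exact hmem y hy
      · rw [List.mem_singleton.1 hy]; exact hx
    have hreg' : IsRegular R (xs ++ [x]) := by
      refine ⟨(isWeaklyRegular_append_iff R xs [x]).2 ⟨hreg.toIsWeaklyRegular,
        (isWeaklyRegular_cons_iff _ x []).2 ⟨hxreg, IsWeaklyRegular.nil _ _⟩⟩, ?_⟩
      refine Submodule.top_ne_ideal_smul_of_le_jacobson_annihilator ?_
      exact (Ideal.span_le.2 hmem').trans (IsLocalRing.maximalIdeal_le_jacobson _)
    have h1 := (isRegular_length_le hn hreg').1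
    rw [List.length_append, List.length_singleton, hlen] at h1
    exact absurd (show P (t + 1) from ⟨_, by simp [hlen], hmem', hreg'⟩)
      (Nat.findGreatest_is_greatest (Nat.lt_succ_self t) h1)
  obtain ⟨_, f, hf⟩ := (isAssociatedPrime_iff_exists_injective_linearMap (maximalIdeal R) _).1 hass
  have hst : s ≤ t := by
    by_contra hlt
    have hfree : ∀ i, 0 < i → Subsingleton (Ext (ModuleCat.of R R) (ModuleCat.of R R) i) := fun i hi => by
      obtain ⟨j, rfl⟩ := Nat.exists_eq_succ_of_ne_zero (by omega : i ≠ 0)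
      haveI : Projective (ModuleCat.of R R) := ModuleCat.projective_of_categoryTheory_projective _
      exact subsingleton_of_forall_eq 0 fun e => Ext.eq_zero_of_projective e
    have h0 := subsingleton_ext_quotient_regular R xs 0 R hreg.toIsWeaklyRegular hfree s (by omega)
    have hsurj := extPre_surjective R hf (Submodule.mkQ_surjective (LinearMap.range f))
      (LinearMap.exact_map_mkQ_range f) s (hall _ (s + 1) le_rfl)
    exact hs hsurj.subsingleton
  obtain ⟨h1, -⟩ := isRegular_length_le hn hreg
  exact ⟨xs, by omega, hmem, hreg, fun i hi M _ _ _ => hall M i (by omega)⟩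

theorem isCohenMacaulayLocalRing_of_gorenstein : CMLoc R := by
  obtain ⟨n, hn⟩ := exists_dim_eq (R := R)
  obtain ⟨xs, hlen, hmem, hreg, -⟩ := gorenstein_structure hn
  refine (CAlgH3.isCohenMacaulayLocalRing_iff_depth R).2 ?_
  rw [hn]
  refine le_antisymm (WithBot.coe_le_coe.2 ?_) ?_
  · exact le_iSup₂_of_le' ⟨hreg.toIsWeaklyRegular, hmem⟩ hlen
  · exact (CAlgH3.depth_le_supportDim (R := R) (M := R)).trans ((Module.supportDim_le_ringKrullDim R R).trans hn.le)
where
  le_iSup₂_of_le' {xs : List R} {n : ℕ}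
      (h : IsWeaklyRegular R xs ∧ ∀ x ∈ xs, x ∈ maximalIdeal R) (hlen : xs.length = n) :
      (n : ℕ∞) ≤ _root_.LocCoh.depth R R := by
    rw [_root_.LocCoh.depth, natCast_le_idealDepth_iff_exists _ R CAlgH3.maximal_smul_top_ne_top]
    exact ⟨xs, hlen.ge, h.2, h.1, Submodule.top_ne_ideal_smul_of_le_jacobson_annihilator
      ((Ideal.span_le.2 h.2).trans (IsLocalRing.maximalIdeal_le_jacobson _))⟩

theorem length_ext_eq {n : ℕ} (hhigh : ∀ (M : Type u) [AddCommGroup M] [Module R M] [Module.Finite R M],
      Subsingleton (Ext (ModuleCat.of R M) (ModuleCat.of R R) (n + 1)))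
    (hlow : 0 < n → ∀ (M : Type u) [AddCommGroup M] [Module R M], IsFiniteLength R M →
      Subsingleton (Ext (ModuleCat.of R M) (ModuleCat.of R R) (n - 1)))
    (M : Type u) [AddCommGroup M] [Module R M] (hM : IsFiniteLength R M) :
    Module.length R (Ext (ModuleCat.of R M) (ModuleCat.of R R) n) = Module.length R M *
      Module.length R (Ext (ModuleCat.of R (R ⧸ maximalIdeal R)) (ModuleCat.of R R) n) := by
  induction hM with
  | @of_subsingleton M _ _ _ =>
    haveI : Subsingleton (Ext (ModuleCat.of R M) (ModuleCat.of R R) n) := subsingleton_ext_of_subsingleton R n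
    rw [Module.length_eq_zero, Module.length_eq_zero, zero_mul]
  | @of_simple_quotient M _ _ N _ hN ih =>
    haveI : IsNoetherian R M :=
      (isFiniteLength_iff_isNoetherian_isArtinian.1 (IsFiniteLength.of_simple_quotient hN)).1
    haveI : Module.Finite R N := Module.Finite.of_fg (IsNoetherian.noetherian N)
    have hinj : Function.Injective (extPre R (Submodule.mkQ N) n) := by
      rcases Nat.eq_zero_or_pos n with rfl | hpos
      · exact extPre_injective_zero R N.injective_subtype (Submodule.mkQ_surjective N)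
          (LinearMap.exact_subtype_mkQ N)
      · obtain ⟨j, rfl⟩ := Nat.exists_eq_succ_of_ne_zero (by omega : n ≠ 0)
        exact extPre_injective R N.injective_subtype (Submodule.mkQ_surjective N)
          (LinearMap.exact_subtype_mkQ N) j (hlow (by omega) N hN)
    rw [Module.length_eq_add_of_exact _ _ hinj
      (extPre_surjective R N.injective_subtype (Submodule.mkQ_surjective N) (LinearMap.exact_subtype_mkQ N)
        n (hhigh _))
      (extPre_exact R N.injective_subtype (Submodule.mkQ_surjective N) (LinearMap.exact_subtype_mkQ N) n),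
      Module.length_eq_add_of_exact N.subtype N.mkQ N.injective_subtype (Submodule.mkQ_surjective N)
        (LinearMap.exact_subtype_mkQ N), Module.length_eq_one R (M ⧸ N), add_mul, one_mul, ih, add_comm]
    congr 1
    obtain ⟨I, hI, ⟨e⟩⟩ := isSimpleModule_iff_quot_maximal.1 (inferInstance : IsSimpleModule R (M ⧸ N))
    rw [IsLocalRing.eq_maximalIdeal hI] at e
    exact (extEquivOfEquiv e n).length_eq.symm

/-- The socle of `H^n_m(R)` is a line. -/
theorem nonempty_socle_of_gorenstein {n : ℕ} (hn : ringKrullDim R = n) :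
    Nonempty ((R ⧸ maximalIdeal R) ≃ₗ[R]
      _root_.LocCoh.torsionBy (maximalIdeal R) (_root_.LocCoh.H (maximalIdeal R) n R)) := by
  obtain ⟨xs, hlen, hmem, hreg, hhigh⟩ := gorenstein_structure hn
  haveI := isCohenMacaulayLocalRing_of_gorenstein (R := R)
  obtain ⟨-, hrad⟩ := isRegular_length_le hn hreg
  have hrad := hrad hlen
  set J := Ideal.ofList xs
  have hJtop : J • (⊤ : Submodule R R) = J := by rw [smul_eq_mul, Ideal.mul_top]
  obtain ⟨r, hr⟩ := Ideal.exists_pow_le_of_le_radical_of_fg hrad (IsNoetherian.noetherian (maximalIdeal R))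
  have hfl : IsFiniteLength R (R ⧸ J) := isFiniteLength_of_pow_le hr
  have hlow : ∀ (M : Type u) [AddCommGroup M] [Module R M], IsFiniteLength R M →
      ∀ i < n, Subsingleton (Ext (ModuleCat.of R M) (ModuleCat.of R R) i) := by
    intro M _ _ hM
    induction hM with
    | @of_subsingleton M _ _ _ => exact fun i _ => subsingleton_ext_of_subsingleton R i
    | @of_simple_quotient M _ _ N _ hN ih =>
      intro i hi
      obtain ⟨I, hI, ⟨e⟩⟩ := isSimpleModule_iff_quot_maximal.1 (inferInstance : IsSimpleModule R (M ⧸ N))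
      rw [IsLocalRing.eq_maximalIdeal hI] at e
      refine subsingleton_ext_middle R N.injective_subtype (Submodule.mkQ_surjective N)
        (LinearMap.exact_subtype_mkQ N) i (ih i hi) (subsingleton_ext_equiv R e.symm i ?_)
      refine (ext_regular_shift xs R hreg.toIsWeaklyRegular _ fun x hx z => ?_).1 i (hlen ▸ hi)
      obtain ⟨b, rfl⟩ := Submodule.Quotient.mk_surjective _ z
      rw [← Submodule.Quotient.mk_smul, Submodule.Quotient.mk_eq_zero]
      exact Ideal.mul_mem_right _ _ (hmem x hx)
  have hkill : ∀ I : Ideal R, J ≤ I → ∀ x ∈ xs, ∀ z : R ⧸ I, x • z = 0 := fun I hI x hx z => by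
    obtain ⟨b, rfl⟩ := Submodule.Quotient.mk_surjective _ z
    rw [← Submodule.Quotient.mk_smul, Submodule.Quotient.mk_eq_zero]
    exact Ideal.mul_mem_right _ _ (hI (Ideal.subset_span hx))
  have hJm : J ≤ maximalIdeal R := Ideal.span_le.2 hmem
  have hlenD := length_ext_eq (n := n) (fun M _ _ _ => hhigh (n + 1) (by omega) M)
    (fun hpos M _ _ hM => hlow M hM (n - 1) (by omega)) (R ⧸ J) hfl
  obtain ⟨eJ⟩ := (ext_regular_shift xs R hreg.toIsWeaklyRegular (R ⧸ J) (hkill J le_rfl)).2
  obtain ⟨ek⟩ := (ext_regular_shift xs R hreg.toIsWeaklyRegular (R ⧸ maximalIdeal R) (hkill _ hJm)).2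
  rw [hlen, hJtop] at eJ ek
  -- `Hom(R/J, R/J) ≅ R/J`
  have hend : Module.length R ((R ⧸ J) →ₗ[R] R ⧸ J) = Module.length R (R ⧸ J) := by
    obtain ⟨e⟩ := nonempty_torsionBy_equiv_hom J (R ⧸ J)
    rw [← e.length_eq, show _root_.LocCoh.torsionBy J (R ⧸ J) = ⊤ from eq_top_iff.2 fun z _ =>
      (Submodule.mem_torsionBySet_iff _ _).2 fun a => by
        obtain ⟨b, rfl⟩ := Submodule.Quotient.mk_surjective _ z
        rw [← Submodule.Quotient.mk_smul, Submodule.Quotient.mk_eq_zero]
        exact Ideal.mul_mem_right _ _ a.2, Module.length_top]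
  rw [eJ.length_eq, hend, ek.length_eq] at hlenD
  obtain ⟨a, ha⟩ := ENat.ne_top_iff_exists.1 (Module.length_ne_top_iff.2 hfl)
  haveI : Nontrivial (R ⧸ J) := Ideal.Quotient.nontrivial_iff.2
    (ne_top_of_le_ne_top (maximalIdeal.isMaximal R).ne_top hJm)
  have ha0 : a ≠ 0 := fun h => by
    have := Module.length_pos (R := R) (M := R ⧸ J)
    rw [← ha, h] at this
    simp at this
  rw [← ha] at hlenD
  have hone : Module.length R ((R ⧸ maximalIdeal R) →ₗ[R] R ⧸ J) = 1 := by
    generalize Module.length R ((R ⧸ maximalIdeal R) →ₗ[R] R ⧸ J) = b at hlenD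
    induction b with
    | top => rw [ENat.mul_top (by exact_mod_cast ha0)] at hlenD; exact absurd hlenD (ENat.natCast_ne_top a)
    | coe b =>
      rw [← Nat.cast_mul, Nat.cast_inj] at hlenD
      rw [show b = 1 from Nat.eq_of_mul_eq_mul_left (Nat.pos_of_ne_zero ha0) (by rw [mul_one]; exact hlenD.symm),
        Nat.cast_one]
  haveI : IsSimpleModule R ((R ⧸ maximalIdeal R) →ₗ[R] R ⧸ J) := Module.length_eq_one_iff.1 hone
  obtain ⟨I, hI, ⟨e1⟩⟩ := isSimpleModule_iff_quot_maximal.1
    (inferInstance : IsSimpleModule R ((R ⧸ maximalIdeal R) →ₗ[R] R ⧸ J))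
  rw [IsLocalRing.eq_maximalIdeal hI] at e1
  have hq := nonempty_quotient_equiv_torsionBy_H (maximalIdeal R) xs R hmem hreg.toIsWeaklyRegular
    (hrad.trans (Ideal.radical_mono le_sup_left))
  rw [hlen, hJtop] at hq
  obtain ⟨eq⟩ := hq
  obtain ⟨e2⟩ := nonempty_torsionBy_equiv_hom (maximalIdeal R) (R ⧸ J)
  -- the socle lies in the `J`-torsion
  let T := _root_.LocCoh.H (maximalIdeal R) n R
  let e3 : _root_.LocCoh.torsionBy (maximalIdeal R) (R ⧸ J) ≃ₗ[R] _root_.LocCoh.torsionBy (maximalIdeal R) T :=
    { toFun := fun z => ⟨(eq z.1).1, (Submodule.mem_torsionBySet_iff _ _).2 fun a => by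
        rw [← Submodule.coe_smul, ← map_smul, (Submodule.mem_torsionBySet_iff _ _).1 z.2 a, map_zero]
        rfl⟩
      map_add' := fun y z => Subtype.ext (congrArg Subtype.val (eq.map_add y.1 z.1) :)
      map_smul' := fun c z => Subtype.ext (congrArg Subtype.val (eq.map_smul c z.1) :)
      invFun := fun w => ⟨eq.symm ⟨w.1, (Submodule.mem_torsionBySet_iff _ _).2 fun a =>
          (Submodule.mem_torsionBySet_iff _ _).1 w.2 ⟨a.1, hJm a.2⟩⟩,
        (Submodule.mem_torsionBySet_iff _ _).2 fun a => eq.injective (by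
          rw [map_smul, map_zero, eq.apply_symm_apply]
          exact Subtype.ext ((Submodule.mem_torsionBySet_iff _ _).1 w.2 a))⟩
      left_inv := fun z => Subtype.ext (eq.injective (by simp))
      right_inv := fun w => Subtype.ext (by simp) }
  exact ⟨(e1.symm.trans e2.symm).trans e3⟩

/-- The top local cohomology of a Gorenstein local ring is an injective hull of the residue field. -/
theorem nonempty_H_equiv_hull_of_gorenstein {n : ℕ} (hn : ringKrullDim R = n) {E : Type u}
    [AddCommGroup E] [Module R E] (hE : Matlis6.IsHullAt (maximalIdeal R) E) :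
    Nonempty (_root_.LocCoh.H (maximalIdeal R) n R ≃ₗ[R] E) := by
  haveI := isCohenMacaulayLocalRing_of_gorenstein (R := R)
  exact nonempty_H_equiv_hull hn hE (nonempty_socle_of_gorenstein hn)

theorem subsingleton_H_gorenstein {n : ℕ} (hn : ringKrullDim R = n) :
    ∀ j < n, Subsingleton (_root_.LocCoh.H (maximalIdeal R) j R) := by
  obtain ⟨xs, hlen, hmem, hreg, -⟩ := gorenstein_structure hn
  exact fun j hj => subsingleton_H_of_weaklyRegular _ xs R hmem hreg.toIsWeaklyRegular j (hlen.symm ▸ hj)

/-- Local duality. -/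
theorem gorenstein_duality {n : ℕ} (hn : ringKrullDim R = n) {E : Type u} [AddCommGroup E] [Module R E]
    (hE : Matlis6.IsHullAt (maximalIdeal R) E) (i j : ℕ) (hij : j + i = n) : DualAt (R := R) R E i j := by
  obtain ⟨e⟩ := nonempty_H_equiv_hull_of_gorenstein hn hE
  exact dualAt hn.le hE.inj ((LinearMap.ringLmapEquivSelf R R E).trans e.symm)
    (subsingleton_H_gorenstein hn) i j hij

theorem subsingleton_ext_of_dim_lt {n : ℕ} (hn : ringKrullDim R = n) (i : ℕ) (hi : n < i) (M : Type u)
    [AddCommGroup M] [Module R M] [Module.Finite R M] :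
    Subsingleton (Ext (ModuleCat.of R M) (ModuleCat.of R R) i) := by
  obtain ⟨xs, -, -, -, h⟩ := gorenstein_structure hn
  exact h i hi M

theorem hasInjectiveDimensionLT_gorenstein {n : ℕ} (hn : ringKrullDim R = n) :
    HasInjectiveDimensionLT (ModuleCat.of R R) (n + 1) :=
  CAlgH3.hasInjectiveDimensionLT_of_forall_ideal n _ fun I =>
    subsingleton_ext_of_dim_lt hn (n + 1) (by omega) (R ⧸ I)

theorem gorenstein_localization (p : Ideal R) [p.IsPrime] : Gor (Localization.AtPrime p) := by
  obtain ⟨N, hN⟩ := subsingleton_ext_gorenstein (R := R)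
  refine gorenstein_of_forall_ext N fun i hi => ?_
  have h1 := subsingleton_ext_localized p.primeCompl i (R ⧸ p) R (hN i hi (R ⧸ p))
  let e : LocalizedModule p.primeCompl (R ⧸ p) ≃ₗ[Localization.AtPrime p]
      (Localization.AtPrime p ⧸ maximalIdeal (Localization.AtPrime p)) := by
    refine (localizedQuotientEquiv p.primeCompl p).symm.trans (Submodule.quotEquivOfEq _ _ ?_)
    rw [← Localization.AtPrime.map_eq_maximalIdeal]
    exact (Ideal.localized'_eq_map (Localization.AtPrime p) p.primeCompl p)
  exact subsingleton_ext_equiv (Localization.AtPrime p) e i h1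

end gor

/-- A Cohen–Macaulay local ring whose top local cohomology is the hull of the residue field is
Gorenstein. -/
theorem gorenstein_of_cm [IsNoetherianRing R] [IsLocalRing R] {n : ℕ} (hn : ringKrullDim R = n)
    (hlow : ∀ j < n, Subsingleton (_root_.LocCoh.H (maximalIdeal R) j R)) {E : Type u} [AddCommGroup E]
    [Module R E] (hE : Matlis6.IsHullAt (maximalIdeal R) E)
    (e : _root_.LocCoh.H (maximalIdeal R) n R ≃ₗ[R] E) : Gor R := by
  have hdual := fun i j hij => dualAt hn.le hE.inj ((LinearMap.ringLmapEquivSelf R R E).trans e.symm)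
    hlow i j hij
  have hzero : ∀ (M : Type u) [AddCommGroup M] [Module R M] [Module.Finite R M],
      Subsingleton (Ext (ModuleCat.of R M) (ModuleCat.of R R) (n + 1)) := by
    intro M _ _ _
    obtain ⟨m, π, hπ⟩ := Module.Finite.exists_fin' R M
    haveI : Module.Finite R (LinearMap.ker π) := Module.Finite.of_fg (IsNoetherian.noetherian _)
    have hinjK := (LinearMap.ker π).injective_subtype
    rcases Nat.eq_zero_or_pos n with rfl | hpos
    · haveI : Module.Injective R R := by
        haveI : Ring.KrullDimLE 0 R := Ring.krullDimLE_iff.2 hn.le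
        have hnil : maximalIdeal R ≤ (Ideal.ofList ([] : List R) ⊔ Module.annihilator R R).radical := by
          refine le_trans (fun x hx => ?_) (Ideal.radical_mono bot_le)
          rw [Ideal.radical_eq_sInf, Submodule.mem_sInf]
          rintro P ⟨-, hP⟩
          haveI := hP
          rwa [IsLocalRing.eq_maximalIdeal (Ideal.IsPrime.isMaximal' (I := P) inferInstance)]
        have h0 := nonempty_quotient_equiv_torsionBy_H (maximalIdeal R) ([] : List R) R (by simp)
          (IsWeaklyRegular.nil R R) hnil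
        rw [Ideal.ofList_nil, Submodule.bot_smul] at h0
        obtain ⟨e0⟩ := h0
        have htop : _root_.LocCoh.torsionBy (⊥ : Ideal R) (_root_.LocCoh.H (maximalIdeal R) 0 R) = ⊤ :=
          eq_top_iff.2 fun z _ => (Submodule.mem_torsionBySet_iff _ _).2 fun a => by
            rw [(Submodule.mem_bot R).1 a.2, zero_smul]
        let e1 : R ≃ₗ[R] E := (((Submodule.quotEquivOfEqBot _ rfl).symm.trans e0).trans
          (LinearEquiv.ofTop _ htop)).trans e
        haveI := hE.inj
        exact ⟨fun X Y _ _ _ _ f hf g => by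
          obtain ⟨h, hh⟩ := Module.Injective.out f hf (e1.toLinearMap.comp g)
          exact ⟨e1.symm.toLinearMap.comp h, fun x => by simp [hh x]⟩⟩
      haveI : Injective (ModuleCat.of R R) := Module.injective_object_of_injective_module R R
      exact subsingleton_of_forall_eq 0 fun z => Ext.eq_zero_of_injective z
    obtain ⟨j, rfl⟩ := Nat.exists_eq_succ_of_ne_zero (by omega : n ≠ 0)
    rw [subsingleton_ext_succ_iff R hinjK hπ (LinearMap.exact_subtype_ker_map π) j]
    obtain ⟨d⟩ := hdual (j + 1) 0 (by omega) (LinearMap.ker π)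
    haveI h0 : Subsingleton (_root_.LocCoh.H (maximalIdeal R) 0 (LinearMap.ker π)) := by
      have hR0 := subsingleton_H0_iff.1 (hlow 0 hpos)
      refine subsingleton_H0_iff.2 (eq_bot_iff.2 fun z hz => ?_)
      obtain ⟨r, hr⟩ := hz
      refine (Submodule.mem_bot R).2 (Subtype.ext (funext fun a => ?_))
      have : (z : Fin m → R) a ∈ powTorsion (maximalIdeal R) R :=
        ⟨r, fun b hb => congrFun (congrArg Subtype.val (hr b hb)) a⟩
      rw [hR0] at this
      exact (Submodule.mem_bot R).1 this
    refine subsingleton_of_forall_eq 0 fun z => ?_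
    by_contra hz
    obtain ⟨φ, hφ⟩ := hE.exists_apply_ne_zero_local hz
    exact hφ (by rw [← d.apply_symm_apply φ, Subsingleton.elim (d.symm φ) 0, map_zero]; rfl)
  exact { exists_hasInjectiveDimensionLT := ⟨n + 1,
    CAlgH3.hasInjectiveDimensionLT_of_forall_ideal n _ fun I => hzero (R ⧸ I)⟩ }

end Groth.Agent.LocCoh
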