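import Groth.Agent.LocCoh.Comparison
import Mathlib.Algebra.Module.LocalizedModule.Exact

/-!
The long exact sequence relating supports `I`, `I + (b)` and localization at `b`; local cohomology
commutes with localization at an element.
-/

set_option autoImplicit false

universe u

open CategoryTheory

namespace Groth.Agent.LocCoh

variable {R : Type u} [CommRing R] (I : Ideal R) (b : R)

/-- The localization of a module at the powers of `b`. -/
abbrev Loc (M : Type u) [AddCommGroup M] [Module R M] : Type u :=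
  LocalizedModule (Submonoid.powers b) M

/-- The localization map. -/
noncomputable abbrev lm (M : Type u) [AddCommGroup M] [Module R M] : M →ₗ[R] Loc b M :=
  LocalizedModule.mkLinearMap (Submonoid.powers b) M

variable {M N P : Type u} [AddCommGroup M] [Module R M] [AddCommGroup N] [Module R N]
  [AddCommGroup P] [Module R P]

/-- The localized map. -/
noncomputable abbrev locMap (f : M →ₗ[R] N) : Loc b M →ₗ[R] Loc b N :=
  IsLocalizedModule.map (Submonoid.powers b) (lm b M) (lm b N) f

theorem locMap_comp_lm (f : M →ₗ[R] N) : (locMap b f).comp (lm b M) = (lm b N).comp f :=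
  IsLocalizedModule.map_comp _ _ _ f

theorem bijective_smul_loc : Function.Bijective (fun x : Loc b M => b • x) :=
  (Module.End.isUnit_iff _).1
    (IsLocalizedModule.map_units (lm b M) (⟨b, Submonoid.mem_powers b⟩ : Submonoid.powers b))

theorem subsingleton_H_loc {K : Ideal R} (hb : b ∈ K.radical) (i : ℕ) :
    Subsingleton (_root_.LocCoh.H K i (Loc b M)) :=
  subsingleton_H_of_bijective_smul hb (bijective_smul_loc b) i

variable [IsNoetherianRing R]

theorem exists_loc_injective (E : Type u) [AddCommGroup E] [Module R E] [Module.Injective R E] :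
    ∃ U : Submodule R E, Module.Injective R U ∧ Function.Bijective ((lm b E).comp U.subtype) := by
  obtain ⟨U, -, hU, hbij, hc⟩ := injective_split b E
  refine ⟨U, hU, ?_, ?_⟩
  · refine (injective_iff_map_eq_zero _).2 fun u hu => ?_
    obtain ⟨⟨_, n, rfl⟩, hn⟩ := (IsLocalizedModule.eq_zero_iff (Submonoid.powers b) (lm b E)).1 hu
    have h1 : (u : E) ∈ powTorsion (Ideal.span {b}) E := ⟨n, fun a ha => by
      rw [Ideal.span_singleton_pow] at ha
      obtain ⟨c, rfl⟩ := Ideal.mem_span_singleton'.1 ha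
      rw [mul_smul]
      exact (congrArg (c • ·) hn).trans (smul_zero c)⟩
    exact Subtype.ext (hc.disjoint.le_bot ⟨h1, u.2⟩)
  · intro z
    obtain ⟨⟨e, s⟩, rfl⟩ := IsLocalizedModule.mk'_surjective (Submonoid.powers b) (lm b E) z
    obtain ⟨t, ht, v, hv, rfl⟩ :=
      Submodule.mem_sup.1 (hc.codisjoint.eq_top.ge (Submodule.mem_top (x := e)))
    obtain ⟨n, hn⟩ := s.2
    have hpow : ∀ k : ℕ, Function.Surjective (fun x : U => b ^ k • x) := by
      intro k
      induction k with
      | zero => exact fun x => ⟨x, by simp⟩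
      | succ k ih =>
        intro x
        obtain ⟨y, hy⟩ := hbij.2 x
        obtain ⟨w, hw⟩ := ih y
        exact ⟨w, by simp only at hy hw ⊢; rw [pow_succ', mul_smul, hw, hy]⟩
    obtain ⟨w, hw⟩ := hpow n ⟨v, hv⟩
    refine ⟨w, ?_⟩
    show lm b E (w : E) = IsLocalizedModule.mk' (lm b E) (t + v) s
    rw [eq_comm, IsLocalizedModule.mk'_eq_iff, map_add]
    have h0 : lm b E t = 0 := by
      obtain ⟨k, hk⟩ := ht
      exact (IsLocalizedModule.eq_zero_iff (Submonoid.powers b) (lm b E)).2
        ⟨⟨b ^ k, k, rfl⟩, hk _ (Ideal.pow_mem_pow (Ideal.mem_span_singleton_self b) k)⟩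
    rw [h0, zero_add, Submonoid.smul_def, ← map_smul]
    refine congrArg (lm b E) ?_
    rw [← hn]
    exact (congrArg Subtype.val hw).symm

theorem subsingleton_H_loc_injective (E : Type u) [AddCommGroup E] [Module R E]
    [Module.Injective R E] {i : ℕ} (hi : 0 < i) : Subsingleton (_root_.LocCoh.H I i (Loc b E)) := by
  obtain ⟨U, hU, hbij⟩ := exists_loc_injective b E
  haveI := subsingleton_H_of_injective (I := I) U hi
  exact (Hequiv I i (LinearEquiv.ofBijective _ hbij)).symm.toEquiv.subsingleton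

theorem Hmap_lm_surjective_injective (E : Type u) [AddCommGroup E] [Module R E]
    [Module.Injective R E] (i : ℕ) : Function.Surjective (Hmap I i (lm b E)) := by
  obtain ⟨U, hU, hbij⟩ := exists_loc_injective b E
  intro z
  obtain ⟨w, hw⟩ := (Hequiv I i (LinearEquiv.ofBijective _ hbij)).surjective z
  refine ⟨Hmap I i U.subtype w, ?_⟩
  rw [← hw, ← LinearMap.comp_apply, ← Hmap_comp]
  rfl

omit [IsNoetherianRing R] in
theorem Hmap_lm_Hle (i : ℕ) (a : _root_.LocCoh.H (I ⊔ Ideal.span {b}) i M) :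
    Hmap I i (lm b M) (Hle le_sup_left i M a) = 0 := by
  rw [← Hle_natural_apply]
  haveI : Subsingleton (_root_.LocCoh.H (I ⊔ Ideal.span {b}) i (Loc b M)) :=
    subsingleton_H_loc b (Ideal.le_radical
      (Submodule.mem_sup_right (Ideal.mem_span_singleton_self b))) i
  rw [Subsingleton.elim (Hmap (I ⊔ Ideal.span {b}) i (lm b M) a) 0, map_zero]

omit [IsNoetherianRing R] in
theorem exact_Hle_Hmap_zero (M : Type u) [AddCommGroup M] [Module R M] :
    Function.Exact (Hle (le_sup_left : I ≤ I ⊔ Ideal.span {b}) 0 M) (Hmap I 0 (lm b M)) := by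
  refine fun a => ⟨fun ha => ?_, ?_⟩
  · obtain ⟨n, hn⟩ := (H0Equiv I M a).2
    have h0 : lm b M (H0Equiv I M a : M) = 0 := by rw [← H0Equiv_natural, ha]; simp
    obtain ⟨⟨_, k, rfl⟩, hk⟩ := (IsLocalizedModule.eq_zero_iff (Submonoid.powers b) (lm b M)).1 h0
    have hm : (H0Equiv I M a : M) ∈ powTorsion (I ⊔ Ideal.span {b}) M := by
      refine ⟨n + k, fun c hc => ?_⟩
      obtain ⟨x, hx, y, hy, rfl⟩ := Submodule.mem_sup.1 (Ideal.sup_pow_add_le_pow_sup_pow hc)
      rw [Ideal.span_singleton_pow] at hy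
      obtain ⟨d, rfl⟩ := Ideal.mem_span_singleton'.1 hy
      rw [add_smul, hn x hx, mul_smul, zero_add]
      exact (congrArg (d • ·) hk).trans (smul_zero d)
    refine ⟨(H0Equiv _ M).symm ⟨_, hm⟩, (H0Equiv I M).injective (Subtype.ext ?_)⟩
    rw [H0Equiv_Hle]
    simp
  · rintro ⟨c, rfl⟩
    exact Hmap_lm_Hle I b 0 c

section step

variable {f : M →ₗ[R] N} {g : N →ₗ[R] P} (hf : Function.Injective f) (hg : Function.Surjective g)
  (hfg : Function.Exact f g)
include hf hg hfg

omit [IsNoetherianRing R] in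
theorem connecting_lm (i : ℕ) (y : _root_.LocCoh.H I i P) :
    Hmap I (i + 1) (lm b M) (connecting I hf hg hfg i y) =
      connecting I (IsLocalizedModule.map_injective (Submonoid.powers b) (lm b M) (lm b N) f hf)
        (IsLocalizedModule.map_surjective (Submonoid.powers b) (lm b N) (lm b P) g hg)
        (IsLocalizedModule.map_exact (Submonoid.powers b) (lm b M) (lm b N) (lm b P) f g hfg) i
        (Hmap I i (lm b P) y) :=
  LinearMap.congr_fun (connecting_natural hf hg hfg _ _ _ (lm b M) (lm b N) (lm b P)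
    (locMap_comp_lm b f) (locMap_comp_lm b g) i) y

end step

/-- Exactness of `H_{I+(b)} → H_I → H_I(-_b)`. -/
theorem exact_Hle_Hmap : ∀ (i : ℕ) (M : Type u) [AddCommGroup M] [Module R M],
    Function.Exact (Hle (le_sup_left : I ≤ I ⊔ Ideal.span {b}) i M) (Hmap I i (lm b M)) := by
  intro i
  induction i with
  | zero => intro M _ _; exact exact_Hle_Hmap_zero I b M
  | succ i ih =>
    intro M _ _ x
    refine ⟨fun hx => ?_, by rintro ⟨c, rfl⟩; exact Hmap_lm_Hle I b _ c⟩
    obtain ⟨E, _, _, f, hE, hf⟩ := exists_injective_embedding (R := R) M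
    let g : E →ₗ[R] E ⧸ LinearMap.range f := Submodule.mkQ _
    have hg : Function.Surjective g := Submodule.mkQ_surjective _
    have hfg : Function.Exact f g := LinearMap.exact_map_mkQ_range f
    haveI := subsingleton_H_of_injective (I := I) E (Nat.succ_pos i)
    obtain ⟨y, rfl⟩ := (connecting_Hmap_exact (I := I) hf hg hfg i x).1 (Subsingleton.elim _ _)
    rw [connecting_lm I b hf hg hfg] at hx
    obtain ⟨e, he⟩ := (Hmap_connecting_exact (I := I) _ _ _ i _).1 hx
    obtain ⟨e', rfl⟩ := Hmap_lm_surjective_injective I b E i e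
    have h2 : Hmap I i (lm b _) (y - Hmap I i g e') = 0 := by
      rw [map_sub, ← he, sub_eq_zero, ← LinearMap.comp_apply, ← Hmap_comp, ← LinearMap.comp_apply,
        ← Hmap_comp, locMap_comp_lm]
    obtain ⟨y', hy'⟩ := (ih _ _).1 h2
    refine ⟨connecting _ hf hg hfg i y', ?_⟩
    rw [Hle_connecting, hy', map_sub,
      (Hmap_connecting_exact (I := I) hf hg hfg i _).2 ⟨e', rfl⟩, sub_zero]

/-- The connecting isomorphism of the sequence. -/
theorem nonempty_coker_equiv_ker : ∀ (i : ℕ) (M : Type u) [AddCommGroup M] [Module R M],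
    Nonempty ((_root_.LocCoh.H I i (Loc b M) ⧸ LinearMap.range (Hmap I i (lm b M))) ≃ₗ[R]
      LinearMap.ker (Hle (le_sup_left : I ≤ I ⊔ Ideal.span {b}) (i + 1) M)) := by
  intro i
  induction i with
  | zero =>
    intro M _ _
    obtain ⟨E, _, _, f, hE, hf⟩ := exists_injective_embedding (R := R) M
    let g : E →ₗ[R] E ⧸ LinearMap.range f := Submodule.mkQ _
    have hg : Function.Surjective g := Submodule.mkQ_surjective _
    have hfg : Function.Exact f g := LinearMap.exact_map_mkQ_range f
    let J := I ⊔ Ideal.span {b}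
    have hIJ : I ≤ J := le_sup_left
    haveI := subsingleton_H_of_injective (I := I) E Nat.one_pos
    haveI := subsingleton_H_of_injective (I := J) E Nat.one_pos
    let S := Submonoid.powers b
    have hf' : Function.Injective (locMap b f) :=
      IsLocalizedModule.map_injective S (lm b M) (lm b E) f hf
    have hg' : Function.Surjective (locMap b g) :=
      IsLocalizedModule.map_surjective S (lm b E) (lm b _) g hg
    have hfg' : Function.Exact (locMap b f) (locMap b g) :=
      IsLocalizedModule.map_exact S (lm b M) (lm b E) (lm b _) f g hfg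
    have inj1 : Function.Injective (Hmap I 0 (locMap b f)) := Hmap_zero_injective hf' hg' hfg'
    have inj2 : Function.Injective (Hle hIJ 0 (E ⧸ LinearMap.range f)) := Hle_zero_injective hIJ
    let Pm : Submodule R (_root_.LocCoh.H I 0 E) :=
      LinearMap.ker ((Hmap I 0 (lm b (E ⧸ LinearMap.range f))).comp (Hmap I 0 g))
    have hcomm : ∀ e, Hmap I 0 (locMap b g) (Hmap I 0 (lm b E) e) =
        Hmap I 0 (lm b (E ⧸ LinearMap.range f)) (Hmap I 0 g e) := fun e => by
      rw [← LinearMap.comp_apply, ← Hmap_comp, ← LinearMap.comp_apply, ← Hmap_comp, locMap_comp_lm]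
    have m1 : ∀ e : Pm, Hmap I 0 (lm b E) e ∈ LinearMap.range (Hmap I 0 (locMap b f)) := fun e =>
      (Hmap_exact hf' hg' hfg' 0 _).1 ((hcomm e).trans e.2)
    have m2 : ∀ e : Pm, Hmap I 0 g e ∈ LinearMap.range (Hle hIJ 0 (E ⧸ LinearMap.range f)) :=
      fun e => (exact_Hle_Hmap_zero I b _ _).1 e.2
    let φ1 : Pm →ₗ[R] _root_.LocCoh.H I 0 (Loc b M) :=
      (LinearEquiv.ofInjective _ inj1).symm.toLinearMap.comp
        (LinearMap.codRestrict _ ((Hmap I 0 (lm b E)).comp Pm.subtype) m1)
    have hφ1 : ∀ e : Pm, Hmap I 0 (locMap b f) (φ1 e) = Hmap I 0 (lm b E) e := fun e =>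
      congrArg Subtype.val ((LinearEquiv.ofInjective _ inj1).apply_symm_apply _)
    let ψ : Pm →ₗ[R] _root_.LocCoh.H J 0 (E ⧸ LinearMap.range f) :=
      (LinearEquiv.ofInjective _ inj2).symm.toLinearMap.comp
        (LinearMap.codRestrict _ ((Hmap I 0 g).comp Pm.subtype) m2)
    have hψ : ∀ e : Pm, Hle hIJ 0 _ (ψ e) = Hmap I 0 g e := fun e =>
      congrArg Subtype.val ((LinearEquiv.ofInjective _ inj2).apply_symm_apply _)
    let φ2 : Pm →ₗ[R] LinearMap.ker (Hle hIJ 1 M) :=
      LinearMap.codRestrict _ ((connecting J hf hg hfg 0).comp ψ) fun e => by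
        rw [LinearMap.mem_ker, LinearMap.comp_apply, Hle_connecting, hψ]
        exact (Hmap_connecting_exact (I := I) hf hg hfg 0 _).2 ⟨_, rfl⟩
    have s1 : Function.Surjective φ1 := fun x => by
      obtain ⟨e, he⟩ := Hmap_lm_surjective_injective I b E 0 (Hmap I 0 (locMap b f) x)
      have heP : e ∈ Pm := by
        rw [LinearMap.mem_ker, LinearMap.comp_apply, ← hcomm, he]
        exact (Hmap_exact hf' hg' hfg' 0).apply_apply_eq_zero x
      exact ⟨⟨e, heP⟩, inj1 ((hφ1 _).trans he)⟩
    have s2 : Function.Surjective φ2 := fun z => by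
      obtain ⟨y, hy⟩ := (connecting_Hmap_exact (I := J) hf hg hfg 0 z.1).1 (Subsingleton.elim _ _)
      have h1 : connecting I hf hg hfg 0 (Hle hIJ 0 _ y) = 0 := by
        rw [← Hle_connecting, hy]; exact z.2
      obtain ⟨e, he⟩ := (Hmap_connecting_exact (I := I) hf hg hfg 0 _).1 h1
      have heP : e ∈ Pm := by
        rw [LinearMap.mem_ker, LinearMap.comp_apply, he]
        exact Hmap_lm_Hle I b 0 y
      refine ⟨⟨e, heP⟩, Subtype.ext ?_⟩
      show connecting J hf hg hfg 0 (ψ ⟨e, heP⟩) = z.1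
      rw [inj2 ((hψ ⟨e, heP⟩).trans he), hy]
    let Φ1 := (LinearMap.range (Hmap I 0 (lm b M))).mkQ.comp φ1
    have hs : Function.Surjective Φ1 := (Submodule.mkQ_surjective _).comp s1
    have hker : LinearMap.ker Φ1 = LinearMap.ker φ2 := by
      ext e
      rw [LinearMap.mem_ker, LinearMap.comp_apply, Submodule.mkQ_apply,
        Submodule.Quotient.mk_eq_zero, LinearMap.mem_ker]
      have hfl : ∀ m, Hmap I 0 (lm b E) (Hmap I 0 f m) = Hmap I 0 (locMap b f) (Hmap I 0 (lm b M) m) :=
        fun m => by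
          rw [← LinearMap.comp_apply, ← Hmap_comp, ← LinearMap.comp_apply, ← Hmap_comp, locMap_comp_lm]
      constructor
      · rintro ⟨m, hm⟩
        have h1 : Hmap I 0 (lm b E) ((e : _root_.LocCoh.H I 0 E) - Hmap I 0 f m) = 0 := by
          rw [map_sub, hfl, hm, hφ1, sub_self]
        obtain ⟨e', he'⟩ := (exact_Hle_Hmap_zero I b _ _).1 h1
        have h2 : ψ e = Hmap J 0 g e' := inj2 (by
          rw [hψ, Hle_natural_apply, he', map_sub,
            (Hmap_exact (I := I) hf hg hfg 0).apply_apply_eq_zero, sub_zero])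
        refine Subtype.ext ?_
        show connecting J hf hg hfg 0 (ψ e) = 0
        rw [h2]
        exact (Hmap_connecting_exact (I := J) hf hg hfg 0 _).2 ⟨_, rfl⟩
      · intro he
        obtain ⟨e', he'⟩ := (Hmap_connecting_exact (I := J) hf hg hfg 0 _).1 (congrArg Subtype.val he)
        have h1 : Hmap I 0 g ((e : _root_.LocCoh.H I 0 E) - Hle hIJ 0 E e') = 0 := by
          rw [map_sub, ← Hle_natural_apply, he', hψ, sub_self]
        obtain ⟨m, hm⟩ := (Hmap_exact (I := I) hf hg hfg 0 _).1 h1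
        refine ⟨m, inj1 ?_⟩
        rw [hφ1, ← hfl, hm, map_sub, Hmap_lm_Hle, sub_zero]
    exact ⟨((LinearMap.quotKerEquivOfSurjective Φ1 hs).symm.trans
      (Submodule.quotEquivOfEq _ _ hker)).trans (LinearMap.quotKerEquivOfSurjective φ2 s2)⟩
  | succ i ih =>
    intro M _ _
    obtain ⟨E, _, _, f, hE, hf⟩ := exists_injective_embedding (R := R) M
    let g : E →ₗ[R] E ⧸ LinearMap.range f := Submodule.mkQ _
    have hg : Function.Surjective g := Submodule.mkQ_surjective _
    have hfg : Function.Exact f g := LinearMap.exact_map_mkQ_range f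
    obtain ⟨κ⟩ := ih (E ⧸ LinearMap.range f)
    let J := I ⊔ Ideal.span {b}
    have hIJ : I ≤ J := le_sup_left
    haveI hI1 := subsingleton_H_of_injective (I := I) E (Nat.succ_pos i)
    haveI := subsingleton_H_of_injective (I := I) E (Nat.succ_pos (i + 1))
    haveI := subsingleton_H_of_injective (I := J) E (Nat.succ_pos i)
    haveI := subsingleton_H_of_injective (I := J) E (Nat.succ_pos (i + 1))
    haveI := subsingleton_H_loc_injective I b E (Nat.succ_pos i)
    let S := Submonoid.powers b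
    have hf' : Function.Injective (locMap b f) :=
      IsLocalizedModule.map_injective S (lm b M) (lm b E) f hf
    have hg' : Function.Surjective (locMap b g) :=
      IsLocalizedModule.map_surjective S (lm b E) (lm b _) g hg
    have hfg' : Function.Exact (locMap b f) (locMap b g) :=
      IsLocalizedModule.map_exact S (lm b M) (lm b E) (lm b _) f g hfg
    let Φ := (LinearMap.range (Hmap I (i + 1) (lm b M))).mkQ.comp (connecting I hf' hg' hfg' i)
    have hs : Function.Surjective Φ := (Submodule.mkQ_surjective _).comp fun a =>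
      (connecting_Hmap_exact (I := I) hf' hg' hfg' i a).1 (Subsingleton.elim _ _)
    have hker : LinearMap.ker Φ = LinearMap.range (Hmap I i (lm b (E ⧸ LinearMap.range f))) := by
      ext y
      rw [LinearMap.mem_ker, LinearMap.comp_apply, Submodule.mkQ_apply, Submodule.Quotient.mk_eq_zero]
      constructor
      · rintro ⟨x, hx⟩
        obtain ⟨x', rfl⟩ := (connecting_Hmap_exact (I := I) hf hg hfg i x).1 (Subsingleton.elim _ _)
        rw [connecting_lm I b hf hg hfg] at hx
        obtain ⟨e, he⟩ := (Hmap_connecting_exact (I := I) hf' hg' hfg' i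
          (y - Hmap I i (lm b _) x')).1 (by rw [map_sub]; exact sub_eq_zero.2 hx.symm)
        obtain ⟨e', rfl⟩ := Hmap_lm_surjective_injective I b E i e
        refine ⟨x' + Hmap I i g e', ?_⟩
        rw [map_add, ← eq_sub_iff_add_eq', ← he, ← LinearMap.comp_apply, ← Hmap_comp,
          ← LinearMap.comp_apply, ← Hmap_comp, locMap_comp_lm]
      · rintro ⟨x, rfl⟩
        exact ⟨connecting I hf hg hfg i x, connecting_lm I b hf hg hfg i x⟩
    have hk : (LinearMap.ker (Hle hIJ (i + 1) (E ⧸ LinearMap.range f))).map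
        (shiftEquiv (I := J) hf hg hfg (i + 1)).toLinearMap = LinearMap.ker (Hle hIJ (i + 2) M) := by
      ext z
      rw [Submodule.mem_map_equiv, LinearMap.mem_ker, LinearMap.mem_ker]
      conv_rhs => rw [← (shiftEquiv (I := J) hf hg hfg (i + 1)).apply_symm_apply z]
      show _ ↔ Hle hIJ (i + 1 + 1) M (connecting J hf hg hfg (i + 1) _) = 0
      rw [Hle_connecting]
      exact ((connecting_bijective (I := I) hf hg hfg (i + 1)).1.eq_iff' (map_zero _)).symm
    exact ⟨(((LinearMap.quotKerEquivOfSurjective Φ hs).symm.trans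
      (Submodule.quotEquivOfEq _ _ hker)).trans κ).trans
      (((shiftEquiv (I := J) hf hg hfg (i + 1)).submoduleMap _).trans (LinearEquiv.ofEq _ _ hk))⟩

/-- Local cohomology commutes with localization at an element. -/
theorem isLocalizedModule_Hmap_lm (i : ℕ) (M : Type u) [AddCommGroup M] [Module R M] :
    IsLocalizedModule (Submonoid.powers b) (Hmap I i (lm b M)) where
  map_units := by
    have hb : IsUnit (algebraMap R (Module.End R (_root_.LocCoh.H I i (Loc b M))) b) := by
      rw [Module.End.isUnit_iff]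
      let e : Loc b M ≃ₗ[R] Loc b M :=
        LinearEquiv.ofBijective (b • (LinearMap.id : Loc b M →ₗ[R] Loc b M)) (bijective_smul_loc b)
      have he : ∀ a : _root_.LocCoh.H I i (Loc b M), Hequiv I i e a = b • a := fun a => by
        show Hmap I i (b • LinearMap.id) a = _
        rw [Hmap_smul, Hmap_id]; rfl
      show Function.Bijective (fun a : _root_.LocCoh.H I i (Loc b M) => b • a)
      rw [show (fun a : _root_.LocCoh.H I i (Loc b M) => b • a) = Hequiv I i e from
        (funext he).symm]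
      exact (Hequiv I i e).bijective
    rintro ⟨_, n, rfl⟩
    rw [map_pow]
    exact hb.pow n
  surj := fun y => by
    obtain ⟨κ⟩ := nonempty_coker_equiv_ker I b i M
    obtain ⟨n, hn⟩ := isPowerTorsion_H (i + 1)
      (κ (Submodule.Quotient.mk y) : _root_.LocCoh.H (I ⊔ Ideal.span {b}) (i + 1) M)
    have h1 : κ (b ^ n • Submodule.Quotient.mk y) = 0 := by
      rw [map_smul]
      exact Subtype.ext (hn _ (Ideal.pow_mem_pow
        (Submodule.mem_sup_right (Ideal.mem_span_singleton_self b)) n))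
    rw [LinearEquiv.map_eq_zero_iff, ← Submodule.Quotient.mk_smul,
      Submodule.Quotient.mk_eq_zero] at h1
    obtain ⟨x, hx⟩ := h1
    exact ⟨⟨x, ⟨b ^ n, n, rfl⟩⟩, hx.symm⟩
  exists_of_eq := fun {x₁ x₂} h => by
    obtain ⟨z, hz⟩ := (exact_Hle_Hmap I b i M (x₁ - x₂)).1 (by rw [map_sub, h, sub_self])
    obtain ⟨n, hn⟩ := isPowerTorsion_H i z
    refine ⟨⟨b ^ n, n, rfl⟩, ?_⟩
    rw [Submonoid.smul_def, Submonoid.smul_def, ← sub_eq_zero, ← smul_sub, ← hz]
    show b ^ n • _ = 0
    rw [← map_smul, hn _ (Ideal.pow_mem_pow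
      (Submodule.mem_sup_right (Ideal.mem_span_singleton_self b)) n), map_zero]

omit [IsNoetherianRing R] in
theorem powTorsion_bot (N : Type u) [AddCommGroup N] [Module R N] :
    powTorsion (⊥ : Ideal R) N = ⊤ :=
  eq_top_iff.2 fun x _ => ⟨1, fun a ha => by
    rw [pow_one, Ideal.mem_bot] at ha
    rw [ha, zero_smul]⟩

/-- `H_⊥^0` is the identity functor. -/
noncomputable def H0BotEquiv (N : Type u) [AddCommGroup N] [Module R N] :
    _root_.LocCoh.H (⊥ : Ideal R) 0 N ≃ₗ[R] N :=
  (H0Equiv (⊥ : Ideal R) N).trans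
    ((LinearEquiv.ofEq _ _ (powTorsion_bot N)).trans Submodule.topEquiv)

omit [IsNoetherianRing R] in
theorem H0BotEquiv_natural (f : M →ₗ[R] N) (a : _root_.LocCoh.H (⊥ : Ideal R) 0 M) :
    H0BotEquiv N (Hmap _ 0 f a) = f (H0BotEquiv M a) := by
  simp [H0BotEquiv, H0Equiv_natural]

/-- `H_{(b)}^1(N) = N_b / N`. -/
theorem nonempty_H1_span_equiv {N N' : Type u} [AddCommGroup N] [Module R N] [AddCommGroup N']
    [Module R N'] (ν : N →ₗ[R] N') [IsLocalizedModule (Submonoid.powers b) ν] :
    Nonempty (_root_.LocCoh.H (Ideal.span {b}) 1 N ≃ₗ[R] N' ⧸ LinearMap.range ν) := by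
  obtain ⟨κ⟩ := nonempty_coker_equiv_ker (⊥ : Ideal R) b 0 N
  haveI := subsingleton_H_bot (R := R) N Nat.one_pos
  have h1 : LinearMap.ker
      (Hle (le_sup_left : (⊥ : Ideal R) ≤ ⊥ ⊔ Ideal.span {b}) (0 + 1) N) = ⊤ :=
    eq_top_iff.2 fun x _ => Subsingleton.elim (α := _root_.LocCoh.H (⊥ : Ideal R) 1 N) _ _
  have h2 : Nonempty ((Loc b N ⧸ LinearMap.range (lm b N)) ≃ₗ[R]
      _root_.LocCoh.H (⊥ ⊔ Ideal.span {b}) 1 N) := by
    refine ⟨((Submodule.Quotient.equiv _ _ (H0BotEquiv (Loc b N)) ?_).symm.trans κ).trans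
      ((LinearEquiv.ofEq _ _ h1).trans Submodule.topEquiv)⟩
    ext x
    simp only [Submodule.mem_map, LinearMap.mem_range]
    constructor
    · rintro ⟨_, ⟨c, rfl⟩, rfl⟩
      exact ⟨_, (H0BotEquiv_natural (lm b N) c).symm⟩
    · rintro ⟨c, rfl⟩
      exact ⟨_, ⟨(H0BotEquiv N).symm c, rfl⟩, by simp [H0BotEquiv_natural]⟩
  rw [bot_sup_eq] at h2
  obtain ⟨h2⟩ := h2
  refine ⟨h2.symm.trans (Submodule.Quotient.equiv _ _
    (IsLocalizedModule.linearEquiv (Submonoid.powers b) (lm b N) ν) ?_)⟩
  ext x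
  simp only [Submodule.mem_map, LinearMap.mem_range]
  constructor
  · rintro ⟨_, ⟨c, rfl⟩, rfl⟩
    exact ⟨c, (IsLocalizedModule.linearEquiv_apply _ _ _ c).symm⟩
  · rintro ⟨c, rfl⟩
    exact ⟨_, ⟨c, rfl⟩, IsLocalizedModule.linearEquiv_apply _ _ _ c⟩

/-- The range of `H_{I+(b)} → H_I` is the `b`-power torsion. -/
theorem mem_range_Hle_iff (i : ℕ) (M : Type u) [AddCommGroup M] [Module R M]
    (x : _root_.LocCoh.H I i M) :
    x ∈ LinearMap.range (Hle (le_sup_left : I ≤ I ⊔ Ideal.span {b}) i M) ↔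
      ∃ n : ℕ, b ^ n • x = 0 := by
  haveI := isLocalizedModule_Hmap_lm I b i M
  rw [← (exact_Hle_Hmap I b i M).linearMap_ker_eq, LinearMap.mem_ker,
    IsLocalizedModule.eq_zero_iff (Submonoid.powers b)]
  constructor
  · rintro ⟨⟨_, n, rfl⟩, h⟩; exact ⟨n, h⟩
  · rintro ⟨n, h⟩; exact ⟨⟨_, n, rfl⟩, h⟩

end Groth.Agent.LocCoh
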