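import Groth.Prelude.Def_W4bk5brsh16IT
import Mathlib.Algebra.Category.ModuleCat.FilteredColimits
import Mathlib.CategoryTheory.Limits.ConcreteCategory.Basic
import Mathlib.RingTheory.Filtration
import Groth.Agent.LocCoh.BSeq
import Groth.Agent.LocCoh.Sum

/-!
Ideal transforms: elements, the exact sequence `0 → Γ_I M → M → D_I M → H^1_I M → 0`, invariance
under maps with torsion kernel and cokernel.
-/

universe u
open CategoryTheory CategoryTheory.Limits Opposite
set_option autoImplicit false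

namespace Groth.Agent.LocCoh
variable {R : Type u} [CommRing R] {I : Ideal R}
variable {M N : Type u} [AddCommGroup M] [Module R M] [AddCommGroup N] [Module R N]

noncomputable def τ (n : ℕ) : (↥(I ^ n) →ₗ[R] M) →ₗ[R] _root_.LocCoh.DT I M :=
  ((colimit.ι (_root_.LocCoh.transformDiagram I) (op (op n))).app (ModuleCat.of R M)).hom ∘ₗ
    (ModuleCat.homLinearEquiv (S := R) (M := ModuleCat.of R ↥(I ^ n)) (N := ModuleCat.of R M)).symm.toLinearMap

theorem τ_hom {n : ℕ} (f : ModuleCat.of R ↥(I ^ n) ⟶ ModuleCat.of R M) :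
    τ n f.hom = ((colimit.ι (_root_.LocCoh.transformDiagram I) (op (op n))).app (ModuleCat.of R M)).hom f := rfl

theorem τ_restrict {m n : ℕ} (h : m ≤ n) (f : ↥(I ^ m) →ₗ[R] M) :
    τ n (f ∘ₗ Submodule.inclusion (Ideal.pow_le_pow_right h)) = τ m f :=
  LinearMap.congr_fun (congrArg (fun g => (g.app (ModuleCat.of R M)).hom)
    (colimit.w (_root_.LocCoh.transformDiagram I) (homOfLE h).op.op)) (ModuleCat.ofHom f)

noncomputable def dtIsColimit (I : Ideal R) (M : Type u) [AddCommGroup M] [Module R M] :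
    IsColimit (((evaluation _ _).obj (ModuleCat.of R M)).mapCocone
      (colimit.cocone (_root_.LocCoh.transformDiagram I))) :=
  isColimitOfPreserves _ (colimit.isColimit _)

instance preservesColimitsNatOpOp : PreservesColimitsOfShape ℕᵒᵖᵒᵖ (forget (ModuleCat.{u} R)) :=
  haveI : IsFiltered (AsSmall.{u} ℕᵒᵖᵒᵖ) := IsFiltered.of_equivalence (AsSmall.equiv (C := ℕᵒᵖᵒᵖ))
  preservesColimitsOfShape_of_equiv (AsSmall.equiv (C := ℕᵒᵖᵒᵖ)).symm _

theorem exists_τ (x : _root_.LocCoh.DT I M) : ∃ (n : ℕ) (f : ↥(I ^ n) →ₗ[R] M), τ n f = x := by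
  obtain ⟨j, y, hy⟩ := Concrete.isColimit_exists_rep _ (dtIsColimit I M) x
  exact ⟨(unop (unop j)), ModuleCat.Hom.hom y, hy⟩

theorem τ_eq_zero_iff {n : ℕ} (f : ↥(I ^ n) →ₗ[R] M) :
    τ n f = 0 ↔ ∃ (m : ℕ) (h : n ≤ m), ∀ r (hr : r ∈ I ^ m), f ⟨r, Ideal.pow_le_pow_right h hr⟩ = 0 := by
  constructor
  · intro h
    let φ : ModuleCat.of R ↥(I ^ n) ⟶ ModuleCat.of R M := ModuleCat.ofHom f
    obtain ⟨k, f₁, g₁, hfg⟩ := (Concrete.isColimit_rep_eq_iff_exists
      (_root_.LocCoh.transformDiagram I ⋙ (evaluation _ _).obj (ModuleCat.of R M))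
      (i := op (op n)) (j := op (op n)) (dtIsColimit I M) φ 0).1
        (h.trans (map_zero _).symm)
    refine ⟨unop (unop k), leOfHom f₁.unop.unop, fun r hr => ?_⟩
    rw [map_zero] at hfg
    exact LinearMap.congr_fun (congrArg ModuleCat.Hom.hom hfg) ⟨r, hr⟩
  · rintro ⟨m, h, hm⟩
    rw [← τ_restrict h f]
    exact (congrArg (τ m) (LinearMap.ext fun r => hm r.1 r.2)).trans (map_zero _)

noncomputable def DTmap (g : M →ₗ[R] N) : _root_.LocCoh.DT I M →ₗ[R] _root_.LocCoh.DT I N :=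
  ((_root_.LocCoh.idealTransform I).map (ModuleCat.ofHom g)).hom

theorem DTmap_τ (g : M →ₗ[R] N) (n : ℕ) (f : ↥(I ^ n) →ₗ[R] M) :
    DTmap g (τ n f) = τ n (g ∘ₗ f) :=
  (LinearMap.congr_fun (congrArg ModuleCat.Hom.hom
    ((colimit.ι (_root_.LocCoh.transformDiagram I) (op (op n))).naturality (ModuleCat.ofHom g)))
      (ModuleCat.ofHom f)).symm

theorem toDT_eq (m : M) :
    _root_.LocCoh.toDT I M m = τ 0 (((LinearMap.lsmul R M).domRestrict (I ^ 0)).flip m) := rfl

theorem DTmapOfLE_τ {J : Ideal R} (h : I ≤ J) (n : ℕ) (f : ↥(J ^ n) →ₗ[R] M) :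
    ((_root_.LocCoh.DTmapOfLE h).app (ModuleCat.of R M)).hom (τ n f) =
      τ n (f ∘ₗ Submodule.inclusion (Ideal.pow_right_mono h n)) := by
  refine (LinearMap.congr_fun (congrArg (fun g => (g.app (ModuleCat.of R M)).hom)
    (ι_colimMap (Functor.whiskerRight (NatTrans.op (Functor.whiskerRight (_root_.LocCoh.powLE h) _root_.LocCoh.idealModFunctor))
    (linearCoyoneda R (ModuleCat.{u} R))) (op (op n)))) (ModuleCat.ofHom f)).trans ?_
  rfl

theorem torsionSub_eq (I : Ideal R) (M : Type u) [AddCommGroup M] [Module R M] :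
    DRing.torsionSub I M = powTorsion I M := rfl

/-- A finitely generated torsion submodule is killed by a power of `I`. -/
theorem exists_pow_smul_eq_zero {S : Submodule R M} (hS : S.FG) :
    S ≤ powTorsion I M → ∃ k : ℕ, ∀ a ∈ I ^ k, ∀ x ∈ S, a • x = 0 := by
  induction S, hS using Submodule.fg_induction with
  | singleton x =>
    intro h
    obtain ⟨k, hk⟩ := h (Submodule.mem_span_singleton_self x)
    refine ⟨k, fun a ha y hy => ?_⟩
    obtain ⟨c, rfl⟩ := Submodule.mem_span_singleton.1 hy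
    rw [smul_comm, hk a ha, smul_zero]
  | sup S T _ _ hS hT =>
    intro h
    obtain ⟨k, hk⟩ := hS (le_sup_left.trans h)
    obtain ⟨l, hl⟩ := hT (le_sup_right.trans h)
    refine ⟨k + l, fun a ha y hy => ?_⟩
    obtain ⟨s, hs, t, ht, rfl⟩ := Submodule.mem_sup.1 hy
    rw [smul_add, hk a (Ideal.pow_le_pow_right (Nat.le_add_right k l) ha) s hs,
      hl a (Ideal.pow_le_pow_right (Nat.le_add_left l k) ha) t ht, add_zero]

theorem τ_eq_toDT {n : ℕ} (f : ↥(I ^ n) →ₗ[R] M) (m : M) (h : ∀ r : ↥(I ^ n), f r = (r : R) • m) :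
    τ n f = _root_.LocCoh.toDT I M m := by
  rw [toDT_eq, ← τ_restrict (Nat.zero_le n)]
  exact congrArg (τ n) (LinearMap.ext fun r => h r)

theorem smul_τ {n : ℕ} (f : ↥(I ^ n) →ₗ[R] M) (r : ↥(I ^ n)) :
    (r : R) • τ n f = _root_.LocCoh.toDT I M (f r) := by
  rw [← map_smul]
  refine τ_eq_toDT _ _ fun s => ?_
  rw [LinearMap.smul_apply, ← map_smul, ← map_smul]
  exact congrArg f (Subtype.ext (mul_comm (r : R) (s : R)))

theorem toDT_natural (g : M →ₗ[R] N) (m : M) :
    DTmap g (_root_.LocCoh.toDT I M m) = _root_.LocCoh.toDT I N (g m) := by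
  rw [toDT_eq, DTmap_τ, toDT_eq]
  exact congrArg (τ 0) (LinearMap.ext fun r => g.map_smul _ _)

theorem DTmap_smul_id (r : R) (x : _root_.LocCoh.DT I M) :
    DTmap (r • LinearMap.id : M →ₗ[R] M) x = r • x := by
  obtain ⟨n, f, rfl⟩ := exists_τ x
  rw [DTmap_τ, ← map_smul, LinearMap.smul_comp, LinearMap.id_comp]

theorem toDT_eq_zero_iff (m : M) : _root_.LocCoh.toDT I M m = 0 ↔ m ∈ powTorsion I M := by
  rw [toDT_eq, τ_eq_zero_iff]
  exact ⟨fun ⟨k, _, hk⟩ => ⟨k, hk⟩, fun ⟨k, hk⟩ => ⟨k, Nat.zero_le k, hk⟩⟩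

theorem ker_toDT : LinearMap.ker (_root_.LocCoh.toDT I M) = powTorsion I M :=
  Submodule.ext fun m => LinearMap.mem_ker.trans (toDT_eq_zero_iff m)

theorem exists_pow_smul_mem_range (x : _root_.LocCoh.DT I M) :
    ∃ n : ℕ, ∀ a ∈ I ^ n, a • x ∈ LinearMap.range (_root_.LocCoh.toDT I M) := by
  obtain ⟨n, f, rfl⟩ := exists_τ x
  exact ⟨n, fun a ha => ⟨f ⟨a, ha⟩, (smul_τ f ⟨a, ha⟩).symm⟩⟩

theorem isPowerTorsion_coker_toDT : _root_.LocCoh.IsPowerTorsion I
    (_root_.LocCoh.DT I M ⧸ LinearMap.range (_root_.LocCoh.toDT I M)) := fun q => by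
  obtain ⟨x, rfl⟩ := Submodule.Quotient.mk_surjective _ q
  obtain ⟨n, hn⟩ := exists_pow_smul_mem_range x
  exact ⟨n, fun a ha => by
    rw [← Submodule.Quotient.mk_smul]; exact (Submodule.Quotient.mk_eq_zero _).2 (hn a ha)⟩

theorem powTorsion_DT_eq_bot [IsNoetherianRing R] :
    powTorsion I (_root_.LocCoh.DT I M) = ⊥ := by
  refine eq_bot_iff.2 ?_
  rintro x ⟨k, hk⟩
  obtain ⟨n, f, rfl⟩ := exists_τ x
  rw [Submodule.mem_bot, τ_eq_zero_iff]
  obtain ⟨l, hl⟩ := exists_pow_smul_eq_zero (S := (Submodule.comap (Submodule.subtype (I ^ n)) (I ^ (n + k))).map f)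
    ((IsNoetherian.noetherian _).map f) (by
      rintro _ ⟨r, hr, rfl⟩
      have h0 : _root_.LocCoh.toDT I M (f r) = 0 := by
        rw [← smul_τ, hk r.1 (Ideal.pow_le_pow_right (Nat.le_add_left k n) hr)]
      exact (toDT_eq_zero_iff _).1 h0)
  refine ⟨l + (n + k), by omega, fun r hr => ?_⟩
  have hr' : r ∈ I ^ l * I ^ (n + k) := by rwa [← pow_add]
  suffices ∀ hh : r ∈ I ^ n, f ⟨r, hh⟩ = 0 from this _
  induction hr' using Submodule.mul_induction_on' with
  | mem_mul_mem a ha c hc =>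
    intro hh
    have hc' : c ∈ I ^ n := Ideal.pow_le_pow_right (Nat.le_add_right n k) hc
    refine Eq.trans ?_ (hl a ha (f ⟨c, hc'⟩) ⟨⟨c, hc'⟩, hc, rfl⟩)
    rw [← map_smul]
    exact congrArg f (Subtype.ext rfl)
  | add a ha c hc iha ihc =>
    intro hh
    have ha' : a ∈ I ^ n := Ideal.pow_le_pow_right (by omega) (pow_add I l (n+k) ▸ ha : a ∈ I ^ (l + (n + k)))
    have hc' : c ∈ I ^ n := Ideal.pow_le_pow_right (by omega) (pow_add I l (n+k) ▸ hc : c ∈ I ^ (l + (n + k)))
    refine Eq.trans ?_ (show f ⟨a, ha'⟩ + f ⟨c, hc'⟩ = 0 by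
      rw [iha (pow_add I l (n+k) ▸ ha) ha', ihc (pow_add I l (n+k) ▸ hc) hc', add_zero])
    rw [← map_add]
    exact congrArg f (Subtype.ext rfl)

theorem DTmap_injective [IsNoetherianRing R] (g : M →ₗ[R] N)
    (hker : LinearMap.ker g ≤ powTorsion I M) : Function.Injective (DTmap (I := I) g) := by
  refine (injective_iff_map_eq_zero _).2 fun x hx => ?_
  obtain ⟨n, f, rfl⟩ := exists_τ x
  have hmem : τ n f ∈ powTorsion I (_root_.LocCoh.DT I M) := by
    rw [DTmap_τ, τ_eq_zero_iff] at hx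
    obtain ⟨m, hnm, hm⟩ := hx
    obtain ⟨k, hk⟩ := exists_pow_smul_eq_zero
      (S := (Submodule.comap (Submodule.subtype (I ^ n)) (I ^ m)).map f)
      ((IsNoetherian.noetherian _).map f) (by
        rintro _ ⟨r, hr, rfl⟩
        exact hker (hm r.1 hr))
    refine ⟨k + m, fun a ha => ?_⟩
    rw [pow_add] at ha
    induction ha using Submodule.mul_induction_on' with
    | mem_mul_mem c hc d hd =>
      rw [mul_smul, show d • τ n f = _ from smul_τ f ⟨d, Ideal.pow_le_pow_right hnm hd⟩, ← map_smul,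
        hk c hc _ ⟨⟨d, Ideal.pow_le_pow_right hnm hd⟩, hd, rfl⟩, map_zero]
    | add c _ d _ hc hd => rw [add_smul, hc, hd, add_zero]
  rw [powTorsion_DT_eq_bot] at hmem
  exact (Submodule.mem_bot R).1 hmem

theorem DTmap_surjective [IsNoetherianRing R] (g : M →ₗ[R] N)
    (hker : LinearMap.ker g ≤ powTorsion I M)
    (hcoker : _root_.LocCoh.IsPowerTorsion I (N ⧸ LinearMap.range g)) :
    Function.Surjective (DTmap (I := I) g) := by
  intro x
  obtain ⟨n, f', rfl⟩ := exists_τ x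
  obtain ⟨k, hk⟩ := exists_pow_smul_eq_zero (I := I)
    (S := (LinearMap.range f').map (LinearMap.range g).mkQ)
    (((LinearMap.range_eq_map f').symm ▸ ((IsNoetherian.noetherian ⊤).map f') : (LinearMap.range f').FG).map _)
    (fun q _ => hcoker q)
  have hran : ∀ r (hr : r ∈ I ^ (k + n)),
      f' ⟨r, Ideal.pow_le_pow_right (Nat.le_add_left n k) hr⟩ ∈ LinearMap.range g := by
    intro r hr
    have hr' : r ∈ I ^ k * I ^ n := by rwa [← pow_add]
    suffices ∀ hh : r ∈ I ^ n, f' ⟨r, hh⟩ ∈ LinearMap.range g from this _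
    induction hr' using Submodule.mul_induction_on' with
    | mem_mul_mem a ha c hc =>
      intro hh
      have : f' ⟨a * c, hh⟩ = a • f' ⟨c, hc⟩ := by
        rw [← map_smul]; exact congrArg f' (Subtype.ext rfl)
      rw [this, ← Submodule.Quotient.mk_eq_zero, Submodule.Quotient.mk_smul]
      exact hk a ha _ ⟨_, ⟨_, rfl⟩, rfl⟩
    | add a ha c hc iha ihc =>
      intro hh
      have ha' : a ∈ I ^ n := Ideal.pow_le_pow_right (Nat.le_add_left n k) (pow_add I k n ▸ ha : a ∈ I ^ (k + n))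
      have hc' : c ∈ I ^ n := Ideal.pow_le_pow_right (Nat.le_add_left n k) (pow_add I k n ▸ hc : c ∈ I ^ (k + n))
      have : f' ⟨a + c, hh⟩ = f' ⟨a, ha'⟩ + f' ⟨c, hc'⟩ := by
        rw [← map_add]; exact congrArg f' (Subtype.ext rfl)
      rw [this]
      exact add_mem (iha (pow_add I k n ▸ ha) ha') (ihc (pow_add I k n ▸ hc) hc')
  let fm : ↥(I ^ (k + n)) →ₗ[R] LinearMap.range g :=
    (f' ∘ₗ Submodule.inclusion (Ideal.pow_le_pow_right (Nat.le_add_left n k))).codRestrict _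
      fun r => hran r.1 r.2
  obtain ⟨s, π, hπ⟩ := Module.Finite.exists_fin' R ↥(I ^ (k + n))
  obtain ⟨h, hh⟩ := Module.projective_lifting_property g.rangeRestrict (fm ∘ₗ π) g.surjective_rangeRestrict
  have hh' : ∀ v, g (h v) = f' ⟨(π v).1, Ideal.pow_le_pow_right (Nat.le_add_left n k) (π v).2⟩ :=
    fun v => congrArg Subtype.val (LinearMap.congr_fun hh v)
  obtain ⟨l, hl⟩ := exists_pow_smul_eq_zero (I := I) (S := (LinearMap.ker π).map h)
    ((IsNoetherian.noetherian _).map h) (by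
      rintro _ ⟨v, hv, rfl⟩
      refine hker ?_
      rw [LinearMap.mem_ker, hh']
      rw [SetLike.mem_coe, LinearMap.mem_ker] at hv
      simp only [hv]
      exact map_zero f')
  obtain ⟨c, hc⟩ := Ideal.exists_pow_inf_eq_pow_smul I (LinearMap.ker π)
  let S : Submodule R (Fin s → R) := I ^ (l + c) • ⊤
  have hS : S.map ((Submodule.subtype _).comp π) = I ^ (l + c + (k + n)) := by
    rw [Submodule.map_comp, Submodule.map_smul'', Submodule.map_top, LinearMap.range_eq_top.2 hπ,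
      Submodule.map_smul'', Submodule.map_top, Submodule.range_subtype, smul_eq_mul, ← pow_add]
  let πS : S →ₗ[R] ↥(I ^ (l + c + (k + n))) :=
    ((Submodule.subtype _).comp π).restrict (fun v hv => hS ▸ ⟨v, hv, rfl⟩)
  have hπS : Function.Surjective πS := fun r => by
    obtain ⟨v, hv, he⟩ := hS.ge r.2
    exact ⟨⟨v, hv⟩, Subtype.ext he⟩
  have hkerle : LinearMap.ker πS ≤ LinearMap.ker (h ∘ₗ S.subtype) := by
    intro v hv
    rw [LinearMap.mem_ker] at hv
    have h1 : π v.1 = 0 := Subtype.ext (congrArg Subtype.val hv :)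
    have h2 : v.1 ∈ I ^ (l + c) • ⊤ ⊓ LinearMap.ker π := ⟨v.2, h1⟩
    rw [hc _ (Nat.le_add_left c l), Nat.add_sub_cancel] at h2
    show h v.1 = 0
    refine Submodule.smul_induction_on h2 (fun a ha w hw => ?_) fun x y hx hy => ?_
    · rw [map_smul]; exact hl a ha _ ⟨w, hw.2, rfl⟩
    · rw [map_add, hx, hy, add_zero]
  let φ : ↥(I ^ (l + c + (k + n))) →ₗ[R] M :=
    (Submodule.liftQ _ (h ∘ₗ S.subtype) hkerle) ∘ₗ
      (LinearMap.quotKerEquivOfSurjective πS hπS).symm.toLinearMap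
  refine ⟨τ _ φ, ?_⟩
  rw [DTmap_τ, ← τ_restrict (show n ≤ l + c + (k + n) by omega) f']
  refine congrArg (τ _) (LinearMap.ext fun r => ?_)
  obtain ⟨v, rfl⟩ := hπS r
  show g (Submodule.liftQ _ (h ∘ₗ S.subtype) hkerle
    ((LinearMap.quotKerEquivOfSurjective πS hπS).symm (πS v))) = _
  rw [show (LinearMap.quotKerEquivOfSurjective πS hπS).symm (πS v) = Submodule.Quotient.mk v from
    (LinearEquiv.symm_apply_eq _).2 rfl, Submodule.liftQ_apply]
  exact hh' v.1

theorem DTmap_bijective [IsNoetherianRing R] (g : M →ₗ[R] N)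
    (hker : LinearMap.ker g ≤ powTorsion I M)
    (hcoker : _root_.LocCoh.IsPowerTorsion I (N ⧸ LinearMap.range g)) :
    Function.Bijective (DTmap (I := I) g) :=
  ⟨DTmap_injective g hker, DTmap_surjective g hker hcoker⟩

theorem subsingleton_DT [IsNoetherianRing R] (h : _root_.LocCoh.IsPowerTorsion I M) :
    Subsingleton (_root_.LocCoh.DT I M) := by
  have h0 : ∀ x : _root_.LocCoh.DT I M, x = 0 := fun x => by
    obtain ⟨n, hn⟩ := exists_pow_smul_mem_range x
    refine (Submodule.mem_bot R).1 (powTorsion_DT_eq_bot.le ⟨n, fun a ha => ?_⟩)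
    obtain ⟨m, hm⟩ := hn a ha
    rw [← hm, (toDT_eq_zero_iff m).2 (h m)]
  exact ⟨fun a b => by rw [h0 a, h0 b]⟩

theorem toDT_DT_eq (x : _root_.LocCoh.DT I M) :
    _root_.LocCoh.toDT I (_root_.LocCoh.DT I M) x = DTmap (_root_.LocCoh.toDT I M) x := by
  obtain ⟨n, f, rfl⟩ := exists_τ x
  rw [DTmap_τ]
  exact (τ_eq_toDT _ _ fun r => (smul_τ f r).symm).symm

theorem toDT_DT_bijective [IsNoetherianRing R] :
    Function.Bijective (_root_.LocCoh.toDT I (_root_.LocCoh.DT I M)) := by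
  rw [show ⇑(_root_.LocCoh.toDT I (_root_.LocCoh.DT I M)) =
    ⇑(DTmap (I := I) (_root_.LocCoh.toDT I M)) from funext toDT_DT_eq]
  exact DTmap_bijective _ ker_toDT.le isPowerTorsion_coker_toDT

theorem toDT_surjective_of_injective (E : Type u) [AddCommGroup E] [Module R E]
    [Module.Injective R E] : Function.Surjective (_root_.LocCoh.toDT I E) := by
  intro x
  obtain ⟨n, f, rfl⟩ := exists_τ x
  obtain ⟨g, hg⟩ := Module.Baer.of_injective (inferInstance : Module.Injective R E) (I ^ n) f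
  refine ⟨g 1, (τ_eq_toDT f _ fun r => ?_).symm⟩
  rw [← map_smul, smul_eq_mul, mul_one, hg r.1 r.2]

theorem mem_range_DTmap {P : Type u} [AddCommGroup P] [Module R P] {f : M →ₗ[R] N}
    {g : N →ₗ[R] P} (hf : Function.Injective f) (hfg : Function.Exact f g)
    {y : _root_.LocCoh.DT I N} (hy : DTmap g y = 0) : y ∈ LinearMap.range (DTmap (I := I) f) := by
  obtain ⟨n, φ, rfl⟩ := exists_τ y
  rw [DTmap_τ, τ_eq_zero_iff] at hy
  obtain ⟨m, hnm, hm⟩ := hy
  let φ' := φ ∘ₗ Submodule.inclusion (Ideal.pow_le_pow_right (I := I) hnm)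
  have hmem : ∀ r, φ' r ∈ LinearMap.range f := fun r => (hfg _).1 (hm r.1 r.2)
  let ψ : ↥(I ^ m) →ₗ[R] M :=
    (LinearEquiv.ofInjective f hf).symm.toLinearMap ∘ₗ φ'.codRestrict _ hmem
  refine ⟨τ m ψ, ?_⟩
  rw [DTmap_τ, ← τ_restrict hnm φ]
  exact congrArg (τ m) (LinearMap.ext fun r =>
    congrArg Subtype.val ((LinearEquiv.ofInjective f hf).apply_symm_apply ⟨φ' r, hmem r⟩))

/-- `coker (M → D_I M) ≅ H^1_I(M)`. -/
theorem nonempty_coker_toDT_equiv [IsNoetherianRing R] (I : Ideal R) (M : Type u) [AddCommGroup M]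
    [Module R M] : Nonempty ((_root_.LocCoh.DT I M ⧸ LinearMap.range (_root_.LocCoh.toDT I M)) ≃ₗ[R]
      _root_.LocCoh.H I 1 M) := by
  obtain ⟨E, _, _, f, hE, hf⟩ := exists_injective_embedding (R := R) M
  let g : E →ₗ[R] E ⧸ LinearMap.range f := Submodule.mkQ _
  have hg : Function.Surjective g := Submodule.mkQ_surjective _
  have hfg : Function.Exact f g := LinearMap.exact_map_mkQ_range f
  haveI := subsingleton_H_of_injective (I := I) E Nat.one_pos
  have hinj : Function.Injective (DTmap (I := I) f) := DTmap_injective f (by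
    rw [LinearMap.ker_eq_bot.2 hf]; exact bot_le)
  let P : Submodule R E := (powTorsion I (E ⧸ LinearMap.range f)).comap g
  have hm : ∀ e : P, _root_.LocCoh.toDT I E e ∈ LinearMap.range (DTmap (I := I) f) := fun e =>
    mem_range_DTmap hf hfg (by rw [toDT_natural]; exact (toDT_eq_zero_iff _).2 e.2)
  let Ψ : P →ₗ[R] _root_.LocCoh.DT I M := (LinearEquiv.ofInjective _ hinj).symm.toLinearMap ∘ₗ
    LinearMap.codRestrict _ ((_root_.LocCoh.toDT I E).comp P.subtype) hm
  have hΨ : ∀ e : P, DTmap f (Ψ e) = _root_.LocCoh.toDT I E e := fun e =>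
    congrArg Subtype.val ((LinearEquiv.ofInjective _ hinj).apply_symm_apply _)
  let Φ1 := (LinearMap.range (_root_.LocCoh.toDT I M)).mkQ.comp Ψ
  let Φ2 := (LinearMap.range (gammaMap I g)).mkQ.comp
    (LinearMap.codRestrict (powTorsion I (E ⧸ LinearMap.range f)) (g.comp P.subtype) fun e => e.2)
  have hs1 : Function.Surjective Φ1 := (Submodule.mkQ_surjective _).comp fun x => by
    obtain ⟨e, he⟩ := toDT_surjective_of_injective E (DTmap f x)
    have heP : e ∈ P := by
      show g e ∈ powTorsion I _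
      obtain ⟨n, φ, rfl⟩ := exists_τ x
      rw [← toDT_eq_zero_iff, ← toDT_natural, he, DTmap_τ, DTmap_τ, ← LinearMap.comp_assoc,
        hfg.linearMap_comp_eq_zero, LinearMap.zero_comp, map_zero]
    exact ⟨⟨e, heP⟩, hinj ((hΨ _).trans he)⟩
  have hs2 : Function.Surjective Φ2 := (Submodule.mkQ_surjective _).comp fun q => by
    obtain ⟨e, he⟩ := hg q.1
    exact ⟨⟨e, show g e ∈ powTorsion I _ from he ▸ q.2⟩, Subtype.ext he⟩
  have hker : LinearMap.ker Φ1 = LinearMap.ker Φ2 := by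
    ext e
    simp only [Φ1, Φ2, LinearMap.mem_ker, LinearMap.comp_apply, Submodule.mkQ_apply,
      Submodule.Quotient.mk_eq_zero, LinearMap.mem_range]
    constructor
    · rintro ⟨m, hm⟩
      have h1 : (e : E) - f m ∈ powTorsion I E := by
        rw [← toDT_eq_zero_iff, map_sub, ← hΨ, ← hm, ← toDT_natural, sub_self]
      refine ⟨⟨_, h1⟩, Subtype.ext ?_⟩
      show g ((e : E) - f m) = g e
      rw [map_sub, hfg.apply_apply_eq_zero, sub_zero]
    · rintro ⟨t, ht⟩
      obtain ⟨m, hm⟩ := (hfg ((e : E) - t)).1 (by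
        rw [map_sub, show g t = g e from congrArg Subtype.val ht, sub_self])
      refine ⟨m, hinj ?_⟩
      rw [hΨ, toDT_natural, hm, map_sub, (toDT_eq_zero_iff (t : E)).2 t.2, sub_zero]
  exact ⟨(((LinearMap.quotKerEquivOfSurjective Φ1 hs1).symm.trans
    (Submodule.quotEquivOfEq _ _ hker)).trans (LinearMap.quotKerEquivOfSurjective Φ2 hs2)).trans
    (H1Equiv hf hg hfg)⟩

theorem subsingleton_H1_of_toDT_surjective [IsNoetherianRing R]
    (h : Function.Surjective (_root_.LocCoh.toDT I M)) : Subsingleton (_root_.LocCoh.H I 1 M) := by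
  obtain ⟨e⟩ := nonempty_coker_toDT_equiv I M
  haveI : Subsingleton (_root_.LocCoh.DT I M ⧸ LinearMap.range (_root_.LocCoh.toDT I M)) :=
    Submodule.Quotient.subsingleton_iff.2 (LinearMap.range_eq_top.2 h)
  exact e.symm.toEquiv.subsingleton

/-- `toDT` induces isomorphisms in degrees at least two. -/
theorem Hmap_toDT_bijective [IsNoetherianRing R] (I : Ideal R) (M : Type u) [AddCommGroup M]
    [Module R M] {i : ℕ} (hi : 1 < i) :
    Function.Bijective (Hmap I i (_root_.LocCoh.toDT I M)) := by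
  obtain ⟨j, rfl⟩ : ∃ j, i = j + 1 + 1 := ⟨i - 2, by omega⟩
  let a : M →ₗ[R] LinearMap.range (_root_.LocCoh.toDT I M) := (_root_.LocCoh.toDT I M).rangeRestrict
  have ha : Function.Surjective a := LinearMap.surjective_rangeRestrict _
  have hka : Function.Exact (LinearMap.ker a).subtype a := LinearMap.exact_subtype_ker_map a
  have hkt : _root_.LocCoh.IsPowerTorsion I (LinearMap.ker a) := fun m => by
    obtain ⟨n, hn⟩ := (toDT_eq_zero_iff m.1).1 (congrArg Subtype.val m.2)
    exact ⟨n, fun c hc => Subtype.ext (hn c hc)⟩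
  haveI h1 : ∀ k, Subsingleton (_root_.LocCoh.H I (k + 1) (LinearMap.ker a)) :=
    fun k => subsingleton_H_of_powerTorsion _ _ hkt (Nat.succ_pos k)
  let b := (LinearMap.range (_root_.LocCoh.toDT I M)).subtype
  have hb : Function.Injective b := Subtype.val_injective
  have hbq : Function.Exact b (LinearMap.range (_root_.LocCoh.toDT I M)).mkQ :=
    LinearMap.exact_subtype_mkQ _
  haveI h2 : ∀ k, Subsingleton (_root_.LocCoh.H I (k + 1)
      (_root_.LocCoh.DT I M ⧸ LinearMap.range (_root_.LocCoh.toDT I M))) :=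
    fun k => subsingleton_H_of_powerTorsion _ _ isPowerTorsion_coker_toDT (Nat.succ_pos k)
  have hcomp : Hmap I (j + 1 + 1) (_root_.LocCoh.toDT I M) =
      (Hmap I (j + 1 + 1) b).comp (Hmap I (j + 1 + 1) a) := by
    rw [← Hmap_comp]
    rfl
  rw [hcomp, LinearMap.coe_comp]
  refine Function.Bijective.comp ⟨?_, fun y => ?_⟩ ⟨?_, fun y => ?_⟩
  · refine (injective_iff_map_eq_zero _).2 fun y hy => ?_
    obtain ⟨c, rfl⟩ :=
      (connecting_Hmap_exact hb (Submodule.mkQ_surjective _) hbq (j + 1) y).1 hy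
    rw [Subsingleton.elim c 0, map_zero]
  · exact (Hmap_exact hb (Submodule.mkQ_surjective _) hbq _ y).1 (Subsingleton.elim _ _)
  · refine (injective_iff_map_eq_zero _).2 fun y hy => ?_
    obtain ⟨c, rfl⟩ := (Hmap_exact Subtype.val_injective ha hka _ y).1 hy
    rw [Subsingleton.elim c 0, map_zero]
  · exact (Hmap_connecting_exact Subtype.val_injective ha hka _ y).1 (Subsingleton.elim _ _)

/-- For a principal ideal the ideal transform is the localization. -/
theorem isLocalizedModule_toDT [IsNoetherianRing R] (a : R) (M : Type u) [AddCommGroup M]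
    [Module R M] :
    IsLocalizedModule (Submonoid.powers a) (_root_.LocCoh.toDT (Ideal.span {a}) M) where
  map_units := by
    have hb : IsUnit (algebraMap R (Module.End R (_root_.LocCoh.DT (Ideal.span {a}) M)) a) := by
      rw [Module.End.isUnit_iff]
      show Function.Bijective (fun x : _root_.LocCoh.DT (Ideal.span {a}) M => a • x)
      rw [show (fun x : _root_.LocCoh.DT (Ideal.span {a}) M => a • x) =
        ⇑(DTmap (a • LinearMap.id : M →ₗ[R] M)) from funext fun x => (DTmap_smul_id a x).symm]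
      refine DTmap_bijective _ (fun m hm => ⟨1, fun c hc => ?_⟩) fun q => ⟨1, fun c hc => ?_⟩
      · rw [pow_one, Ideal.mem_span_singleton'] at hc
        obtain ⟨d, rfl⟩ := hc
        rw [mul_smul, show a • m = 0 from hm, smul_zero]
      · rw [pow_one, Ideal.mem_span_singleton'] at hc
        obtain ⟨d, rfl⟩ := hc
        obtain ⟨m, rfl⟩ := Submodule.Quotient.mk_surjective _ q
        rw [← Submodule.Quotient.mk_smul, Submodule.Quotient.mk_eq_zero]
        exact ⟨d • m, by simp only [LinearMap.smul_apply, LinearMap.id_apply]; rw [mul_smul, smul_comm]⟩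
    rintro ⟨_, n, rfl⟩
    rw [map_pow]
    exact hb.pow n
  surj := fun y => by
    obtain ⟨n, hn⟩ := exists_pow_smul_mem_range y
    obtain ⟨m, hm⟩ := hn _ (Ideal.pow_mem_pow (Ideal.mem_span_singleton_self a) n)
    exact ⟨⟨m, ⟨a ^ n, n, rfl⟩⟩, hm.symm⟩
  exists_of_eq := fun {x₁ x₂} h => by
    obtain ⟨n, hn⟩ := (toDT_eq_zero_iff (x₁ - x₂)).1 (by rw [map_sub, h, sub_self])
    exact ⟨⟨a ^ n, n, rfl⟩, sub_eq_zero.1 (by
      rw [← smul_sub]; exact hn _ (Ideal.pow_mem_pow (Ideal.mem_span_singleton_self a) n))⟩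

end Groth.Agent.LocCoh
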