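import Groth.Agent.LocCoh.NonVanishing
import Groth.Agent.LocCoh.IdealTransform
import Groth.Prelude.Def_W4bk5brsh7111920
import Mathlib.RingTheory.Ideal.KrullsHeightTheorem

/-!
Depth of localizations along a chain of primes and the inequality between the finiteness dimension and
the adjusted depths.
-/

set_option autoImplicit false

universe u

open IsLocalRing
open scoped Pointwise

namespace Groth.Agent.LocCoh

section height

variable {R : Type u} [CommRing R]

/-- The height of `q/p` in `R/p`. -/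
noncomputable abbrev hq (p q : Ideal R) : ℕ∞ := (q.map (Ideal.Quotient.mk p)).height

theorem isPrime_map_mk {p q : Ideal R} [q.IsPrime] (h : p ≤ q) :
    (q.map (Ideal.Quotient.mk p)).IsPrime :=
  Ideal.map_isPrime_of_surjective Ideal.Quotient.mk_surjective (by rwa [Ideal.mk_ker])

theorem comap_map_mk {p q : Ideal R} (h : p ≤ q) :
    (q.map (Ideal.Quotient.mk p)).comap (Ideal.Quotient.mk p) = q := by
  rw [Ideal.comap_map_of_surjective _ Ideal.Quotient.mk_surjective, ← RingHom.ker_eq_comap_bot,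
    Ideal.mk_ker, sup_eq_left.2 h]

theorem hq_add_one_le {p r q : Ideal R} [r.IsPrime] [q.IsPrime] (hpr : p ≤ r) (hrq : r < q) :
    hq p r + 1 ≤ hq p q := by
  haveI := isPrime_map_mk hpr
  haveI := isPrime_map_mk (hpr.trans hrq.le)
  refine Ideal.height_add_one_le_of_lt_of_isPrime (lt_of_le_of_ne (Ideal.map_mono hrq.le) fun e => hrq.ne ?_)
  rw [← comap_map_mk hpr, ← comap_map_mk (hpr.trans hrq.le), e]

theorem add_natCast_le_hq [IsNoetherianRing R] {p s : Ideal R} [s.IsPrime] (hps : p ≤ s) :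
    ∀ (n : ℕ) (q : Ideal R) [q.IsPrime], s ≤ q → (n : ℕ∞) ≤ hq s q → hq p s + n ≤ hq p q := by
  intro n
  induction n with
  | zero =>
    intro q _ hsq _
    simpa using Ideal.height_mono (Ideal.map_mono hsq)
  | succ n ih =>
    intro q _ hsq hn
    haveI := isPrime_map_mk hsq
    obtain ⟨J, hJ, hlt, hJn⟩ : ∃ J : Ideal (R ⧸ s), J.IsPrime ∧ J < q.map (Ideal.Quotient.mk s) ∧
        (n : ℕ∞) ≤ J.height := by
      by_contra hcon
      push Not at hcon
      have h1 : (q.map (Ideal.Quotient.mk s)).height ≤ (n : ℕ∞) :=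
        Ideal.height_le_iff.2 fun J hJ hlt => hcon J hJ hlt
      exact absurd (hn.trans h1) (not_le.2 (by exact_mod_cast Nat.lt_succ_self n))
    let r := J.comap (Ideal.Quotient.mk s)
    have hsr : s ≤ r := fun x hx => by
      show Ideal.Quotient.mk s x ∈ J
      rw [Ideal.Quotient.eq_zero_iff_mem.2 hx]
      exact zero_mem _
    have hrJ : r.map (Ideal.Quotient.mk s) = J :=
      Ideal.map_comap_of_surjective _ Ideal.Quotient.mk_surjective J
    have hrq : r < q := lt_of_le_of_ne
      ((Ideal.comap_mono hlt.le).trans (comap_map_mk hsq).le) fun e => hlt.ne (by rw [← hrJ, e])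
    have h1 := ih r hsr (by rw [hq, hrJ]; exact hJn)
    calc hq p s + ((n + 1 : ℕ) : ℕ∞) = hq p s + n + 1 := by rw [Nat.cast_add, Nat.cast_one, add_assoc]
      _ ≤ hq p r + 1 := by gcongr
      _ ≤ hq p q := hq_add_one_le (hps.trans hsr) hrq

theorem hq_ne_top [IsNoetherianRing R] {p q : Ideal R} [q.IsPrime] (h : p ≤ q) : hq p q ≠ ⊤ := by
  haveI := isPrime_map_mk h
  exact Ideal.height_ne_top Ideal.IsPrime.ne_top'

theorem hq_add_le [IsNoetherianRing R] {p s q : Ideal R} [s.IsPrime] [q.IsPrime] (hps : p ≤ s)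
    (hsq : s ≤ q) : hq p s + hq s q ≤ hq p q := by
  obtain ⟨n, hn⟩ := ENat.ne_top_iff_exists.1 (hq_ne_top hsq)
  rw [← hn]
  exact add_natCast_le_hq hps n q hsq hn.le

theorem exists_prime_between [IsNoetherianRing R] {s q : Ideal R} [s.IsPrime] [q.IsPrime]
    (hsq : s < q) (hht : 1 < hq s q) {a : R} (haq : a ∈ q) (has : a ∉ s) :
    ∃ t : Ideal R, t.IsPrime ∧ s < t ∧ t < q ∧ a ∉ t := by
  haveI := isPrime_map_mk hsq.le
  let T := R ⧸ s
  set Q : Ideal T := q.map (Ideal.Quotient.mk s)
  let α : T := Ideal.Quotient.mk s a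
  have hα : α ≠ 0 := fun h => has (Ideal.Quotient.eq_zero_iff_mem.1 h)
  obtain ⟨c, hcQ, hc⟩ : ∃ c ∈ Q, ∀ P ∈ (Ideal.span {α}).minimalPrimes, c ∉ P := by
    by_contra hcon
    push Not at hcon
    have hsub : (Q : Set T) ⊆ ⋃ P ∈ (Ideal.span {α}).minimalPrimes, (P : Set T) := fun x hx => by
      obtain ⟨P, hP, hxP⟩ := hcon x hx
      exact Set.mem_biUnion hP hxP
    obtain ⟨P, hP, hle⟩ := (Ideal.subset_union_prime_finite
      (Ideal.finite_minimalPrimes_of_isNoetherianRing T _) ⊤ ⊤ fun P hP _ _ => hP.1.1).1 hsub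
    haveI := hP.1.1
    exact absurd ((Ideal.height_mono hle).trans (Ideal.height_le_one_of_isPrincipal_of_mem_minimalPrimes _ P hP))
      (not_le.2 hht)
  obtain ⟨P, hP, hPQ⟩ := Ideal.exists_minimalPrimes_le (I := Ideal.span {c}) (J := Q)
    ((Ideal.span_singleton_le_iff_mem _).2 hcQ)
  haveI := hP.1.1
  have hP1 : P.height ≤ 1 := Ideal.height_le_one_of_isPrincipal_of_mem_minimalPrimes _ P hP
  have hPne : P ≠ Q := fun e => absurd hP1 (by rw [e]; exact not_le.2 hht)
  have hc0 : c ≠ 0 := fun h0 => by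
    obtain ⟨P', hP', -⟩ := Ideal.exists_minimalPrimes_le (I := Ideal.span {α}) (J := Q)
      ((Ideal.span_singleton_le_iff_mem _).2 (Ideal.mem_map_of_mem _ haq))
    exact hc P' hP' (h0 ▸ zero_mem _)
  refine ⟨P.comap (Ideal.Quotient.mk s), inferInstance, ?_, ?_, fun haP => ?_⟩
  · refine lt_of_le_of_ne (fun x hx => by
      show Ideal.Quotient.mk s x ∈ P
      rw [Ideal.Quotient.eq_zero_iff_mem.2 hx]; exact zero_mem _) fun e => hc0 ?_
    obtain ⟨x, rfl⟩ := Ideal.Quotient.mk_surjective c
    have : x ∈ P.comap (Ideal.Quotient.mk s) := hP.1.2 (Ideal.mem_span_singleton_self _)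
    rw [← e] at this
    exact Ideal.Quotient.eq_zero_iff_mem.2 this
  · refine lt_of_le_of_ne ((Ideal.comap_mono hPQ).trans (comap_map_mk hsq.le).le) fun e => hPne ?_
    rw [← Ideal.map_comap_of_surjective _ Ideal.Quotient.mk_surjective P, e]
  · obtain ⟨P', hP', hle⟩ := Ideal.exists_minimalPrimes_le (I := Ideal.span {α}) (J := P)
      ((Ideal.span_singleton_le_iff_mem _).2 haP)
    haveI := hP'.1.1
    refine hc P' hP' ?_
    rcases hle.eq_or_lt with h | h
    · exact h ▸ hP.1.2 (Ideal.mem_span_singleton_self _)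
    · exfalso
      have h2 := (Ideal.height_add_one_le_of_lt_of_isPrime h).trans hP1
      have h3 : P'.height = 0 := by
        by_contra h0
        have := (add_le_add_left (Order.one_le_iff_pos.2 (pos_iff_ne_zero.2 h0)) 1).trans h2
        exact absurd this (by decide)
      rw [Ideal.height_eq_zero_iff_eq_bot] at h3
      exact hα ((Submodule.mem_bot T).1 (h3 ▸ hP'.1.2 (Ideal.mem_span_singleton_self _)))

/-- `dim R_q/pR_q ≤ ht (q/p)`. -/
theorem ringKrullDim_quotient_map_atPrime_le (p q : Ideal R) [q.IsPrime] :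
    ringKrullDim (Localization.AtPrime q ⧸ p.map (algebraMap R (Localization.AtPrime q))) ≤
      (hq p q : WithBot ℕ∞) := by
  by_cases hpq : p ≤ q
  · haveI := isPrime_map_mk hpq
    let Qp : PrimeSpectrum (R ⧸ p) := ⟨q.map (Ideal.Quotient.mk p), inferInstance⟩
    have h1 : (hq p q : WithBot ℕ∞) = Order.krullDim (Set.Iic Qp) := by
      rw [← Order.height_eq_krullDim_Iic, ← PrimeSpectrum.height_eq_orderHeight]
    rw [h1, ringKrullDim_quotient]
    let g : PrimeSpectrum.zeroLocus
        ((p.map (algebraMap R (Localization.AtPrime q)) : Ideal (Localization.AtPrime q)) :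
          Set (Localization.AtPrime q)) → Set.Iic Qp := fun P => ⟨⟨(P.1.asIdeal.comap
        (algebraMap R (Localization.AtPrime q))).map (Ideal.Quotient.mk p),
      isPrime_map_mk (Ideal.map_le_iff_le_comap.1 P.2)⟩, Ideal.map_mono ((Ideal.comap_mono
        (IsLocalRing.le_maximalIdeal P.1.2.ne_top)).trans
          (IsLocalization.AtPrime.comap_maximalIdeal (Localization.AtPrime q) q).le)⟩
    refine Order.krullDim_le_of_strictMono g fun P P' hlt => ?_
    refine lt_of_le_of_ne (Ideal.map_mono (Ideal.comap_mono (show P.1.asIdeal ≤ P'.1.asIdeal from le_of_lt (α := PrimeSpectrum _) hlt))) fun e => hlt.ne ?_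
    apply Subtype.ext
    apply PrimeSpectrum.ext
    have e' := congrArg (fun x : Set.Iic Qp => x.1.asIdeal.comap (Ideal.Quotient.mk p)) e
    simp only [g] at e'
    rw [comap_map_mk (Ideal.map_le_iff_le_comap.1 P.2), comap_map_mk (Ideal.map_le_iff_le_comap.1 P'.2)] at e'
    exact ((IsLocalization.map_comap q.primeCompl (Localization.AtPrime q) P.1.asIdeal).symm.trans
      (congrArg (Ideal.map (algebraMap R (Localization.AtPrime q))) e')).trans
      (IsLocalization.map_comap q.primeCompl (Localization.AtPrime q) P'.1.asIdeal)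
  · have h0 : p.map (algebraMap R (Localization.AtPrime q)) = ⊤ := by
      obtain ⟨x, hx, hxq⟩ := SetLike.not_le_iff_exists.1 hpq
      exact Ideal.eq_top_of_isUnit_mem _ (Ideal.mem_map_of_mem _ hx)
        (IsLocalization.map_units _ (⟨x, hxq⟩ : q.primeCompl))
    rw [h0]
    haveI : Subsingleton (Localization.AtPrime q ⧸ (⊤ : Ideal (Localization.AtPrime q))) :=
      Ideal.Quotient.subsingleton_iff.2 rfl
    exact le_of_eq_of_le ringKrullDim_eq_bot_of_subsingleton bot_le

end height

variable {R : Type u} [CommRing R] [IsNoetherianRing R]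

/-- Every element of `H_p^j(M)` is killed outside `p`. -/
def Zat (p : Ideal R) (j : ℕ) (M : Type u) [AddCommGroup M] [Module R M] : Prop :=
  ∀ x : _root_.LocCoh.H p j M, ∃ u ∉ p, u • x = 0

theorem zat_iff (p : Ideal R) [p.IsPrime] (j : ℕ) (M : Type u) [AddCommGroup M] [Module R M] :
    Zat p j M ↔ Subsingleton (_root_.LocCoh.H (maximalIdeal (Localization.AtPrime p)) j
      (LocalizedModule p.primeCompl M)) := by
  obtain ⟨e⟩ := nonempty_localized_H_equiv p.primeCompl p M j
  rw [← Localization.AtPrime.map_eq_maximalIdeal, ← e.toEquiv.subsingleton_congr]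
  constructor
  · intro h
    refine subsingleton_of_forall_eq 0 fun z => ?_
    induction z using LocalizedModule.induction_on with
    | _ x s =>
      obtain ⟨u, hu, hux⟩ := h x
      rw [← LocalizedModule.zero_mk 1, LocalizedModule.mk_eq]
      exact ⟨⟨u, hu⟩, by simp [Submonoid.smul_def, hux]⟩
  · intro h x
    obtain ⟨⟨u, hu⟩, h0⟩ := (IsLocalizedModule.eq_zero_iff p.primeCompl
      (LocalizedModule.mkLinearMap p.primeCompl _)).1 (Subsingleton.elim
        (LocalizedModule.mkLinearMap p.primeCompl _ x) 0)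
    exact ⟨u, hu, h0⟩

/-- `depth M_q ≤ depth M_p + ht(q/p)`. -/
theorem depth_le_depth_add_hq (M : Type u) [AddCommGroup M] [Module R M] [Module.Finite R M]
    (p q : Ideal R) [p.IsPrime] [q.IsPrime] (hpq : p ≤ q) :
    _root_.LocCoh.depth (Localization.AtPrime q) (LocalizedModule q.primeCompl M) ≤
      _root_.LocCoh.depth (Localization.AtPrime p) (LocalizedModule p.primeCompl M) + hq p q := by
  let A := Localization.AtPrime q
  haveI : IsNoetherianRing A := IsLocalization.isNoetherianRing q.primeCompl A inferInstance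
  obtain ⟨r, hr⟩ := ENat.ne_top_iff_exists.1 (hq_ne_top hpq)
  rw [← hr]
  by_contra hcon
  rw [not_le] at hcon
  obtain ⟨t, ht⟩ := ENat.ne_top_iff_exists.1 (ne_top_of_lt (lt_of_le_of_lt le_self_add hcon))
  rw [← ht] at hcon
  have hd : ((t + r + 1 : ℕ) : ℕ∞) ≤ _root_.LocCoh.depth A (LocalizedModule q.primeCompl M) := by
    have := Order.add_one_le_of_lt hcon
    push_cast
    exact this
  let J := p.map (algebraMap R A)
  have hvan : Subsingleton (_root_.LocCoh.H J t (LocalizedModule q.primeCompl M)) := by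
    refine subsingleton_H_of_ext fun m => ?_
    refine subsingleton_ext_of_supportDim_add_lt (R := A) (M := LocalizedModule q.primeCompl M) hd r (A ⧸ J ^ m) ?_ t (by omega)
    haveI : Module.Finite A (A ⧸ J ^ m) := inferInstance
    refine le_of_eq_of_le (Module.supportDim_eq_ringKrullDim_quotient_annihilator A _) ?_
    rw [Ideal.annihilator_quotient, ringKrullDim_quotient]
    refine le_trans (Order.krullDim_le_of_strictMono (fun P => (⟨P.1, fun x hx => ?_⟩ :
      PrimeSpectrum.zeroLocus (J : Set A))) fun P P' h => h) ?_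
    · exact P.1.2.mem_of_pow_mem m (P.2 (Ideal.pow_mem_pow hx m))
    · rw [← ringKrullDim_quotient, show ((r : ℕ) : WithBot ℕ∞) = ((hq p q : ℕ∞) : WithBot ℕ∞) by rw [← hr]; rfl]
      exact ringKrullDim_quotient_map_atPrime_le p q
  obtain ⟨e⟩ := nonempty_localized_H_equiv q.primeCompl p M t
  have hZ : Zat p t M := fun x => by
    haveI := e.toEquiv.subsingleton
    obtain ⟨⟨u, hu⟩, h0⟩ := (IsLocalizedModule.eq_zero_iff q.primeCompl
      (LocalizedModule.mkLinearMap q.primeCompl _)).1 (Subsingleton.elim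
        (LocalizedModule.mkLinearMap q.primeCompl _ x) 0)
    exact ⟨u, fun h => hu (hpq h), h0⟩
  haveI := (zat_iff p t M).1 hZ
  haveI : IsNoetherianRing (Localization.AtPrime p) :=
    IsLocalization.isNoetherianRing p.primeCompl _ inferInstance
  exact (not_nontrivial_iff_subsingleton.2 ((zat_iff p t M).1 hZ)) ((idealDepth_eq_iff_H (maximalIdeal (Localization.AtPrime p))
    (LocalizedModule p.primeCompl M) t).1 ht.symm).2

theorem idealDepth_le_depth {A : Type u} [CommRing A] [IsLocalRing A] [IsNoetherianRing A]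
    (J : Ideal A) (hJ : J ≠ ⊤) (N : Type u) [AddCommGroup N] [Module A N] [Module.Finite A N]
    [Nontrivial N] : _root_.LocCoh.idealDepth J N ≤ _root_.LocCoh.depth A N := by
  refine ENat.forall_natCast_le_iff_le.1 fun n hn => ?_
  have hJm : J ≤ maximalIdeal A := IsLocalRing.le_maximalIdeal hJ
  have hm : maximalIdeal A • (⊤ : Submodule A N) ≠ ⊤ :=
    smul_top_ne_top_of_nontrivial (M := N) (maximalIdeal.isMaximal A).ne_top
  obtain ⟨rs, h1, h2, h3⟩ := (natCast_le_idealDepth_iff_exists J N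
    (fun h => hm (eq_top_iff.2 (h.ge.trans (Submodule.smul_mono hJm le_rfl)))) n).1 hn
  exact (natCast_le_idealDepth_iff_exists (maximalIdeal A) N hm n).2 ⟨rs, h1, fun r hr => hJm (h2 r hr), h3⟩

theorem not_le_radical_annihilator {b : Ideal R} {H : Type u} [AddCommGroup H] [Module R H] {β : R}
    (hβ : β ∈ b) (h : ¬ ∃ k : ℕ, ∀ x : H, β ^ k • x = 0) :
    ¬ b ≤ (Module.annihilator R H).radical := fun hle => by
  obtain ⟨k, hk⟩ := hle hβ
  exact h ⟨k, Module.mem_annihilator.1 hk⟩

theorem not_kill_of_nontrivial_localized (S : Submonoid R) (a : Ideal R) (M : Type u)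
    [AddCommGroup M] [Module R M] (i : ℕ) {β : R} (hβ : β ∈ S)
    (h : Nontrivial (_root_.LocCoh.H (a.map (algebraMap R (Localization S))) i (LocalizedModule S M))) :
    ¬ ∃ k : ℕ, ∀ x : _root_.LocCoh.H a i M, β ^ k • x = 0 := by
  rintro ⟨k, hk⟩
  obtain ⟨e⟩ := nonempty_localized_H_equiv S a M i
  haveI : Subsingleton (LocalizedModule S (_root_.LocCoh.H a i M)) := by
    refine subsingleton_of_forall_eq 0 fun z => ?_
    induction z using LocalizedModule.induction_on with
    | _ x s =>
      rw [← LocalizedModule.zero_mk 1, LocalizedModule.mk_eq]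
      exact ⟨⟨β ^ k, pow_mem hβ k⟩, by simp [Submonoid.smul_def, hk x]⟩
  exact not_subsingleton _ e.symm.toEquiv.subsingleton

theorem exists_nontrivial_H_le_depth (a : Ideal R) (p : Ideal R) [p.IsPrime] (hap : a ≤ p)
    (M : Type u) [AddCommGroup M] [Module R M] [Module.Finite R M] (t : ℕ)
    (ht : _root_.LocCoh.depth (Localization.AtPrime p) (LocalizedModule p.primeCompl M) = t) :
    ∃ i ≤ t, Nontrivial (_root_.LocCoh.H (a.map (algebraMap R (Localization.AtPrime p))) i
      (LocalizedModule p.primeCompl M)) := by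
  let A := Localization.AtPrime p
  haveI : IsNoetherianRing A := IsLocalization.isNoetherianRing p.primeCompl A inferInstance
  by_contra hcon
  push Not at hcon
  have h1 : ((t + 1 : ℕ) : ℕ∞) ≤ _root_.LocCoh.idealDepth (a.map (algebraMap R A)) (LocalizedModule p.primeCompl M) :=
    (natCast_le_idealDepth_iff_H _ _ _).2 fun i hi => hcon i (by omega)
  haveI : Nontrivial (LocalizedModule p.primeCompl M) := not_subsingleton_iff_nontrivial.1 fun hs => by
    haveI := subsingleton_H_of_subsingleton (I := maximalIdeal A) (M := LocalizedModule p.primeCompl M) t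
    exact (not_nontrivial_iff_subsingleton.2 this) ((idealDepth_eq_iff_H (maximalIdeal A)
      (LocalizedModule p.primeCompl M) t).1 ht).2
  have h2 := h1.trans (idealDepth_le_depth (a.map (algebraMap R A)) (fun h => (maximalIdeal.isMaximal A).ne_top
    (top_le_iff.1 (by rw [← h, ← Localization.AtPrime.map_eq_maximalIdeal]; exact Ideal.map_mono hap))) _)
  rw [ht] at h2
  exact absurd h2 (not_le.2 (by exact_mod_cast Nat.lt_succ_self t))

section local1

variable [IsLocalRing R] (a p : Ideal R) [p.IsPrime] {β c : R}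

/-- `H_a^1(R/p) ≠ 0` when `R/p` is one-dimensional and `a + p` is not the unit ideal and `a ⊄ p`. -/
theorem nontrivial_H_one_quotient (hp : ringKrullDim (R ⧸ p) = 1) (hap : a ⊔ p ≠ ⊤) (ha : ¬ a ≤ p) :
    Nontrivial (_root_.LocCoh.H a 1 (R ⧸ p)) := by
  haveI : IsLocalRing (R ⧸ p) :=
    IsLocalRing.of_surjective' (Ideal.Quotient.mk p) Ideal.Quotient.mk_surjective
  obtain ⟨φ, -⟩ := exists_H_independence R (R ⧸ p) a 1 (R ⧸ p)
  have hrad : (a.map (algebraMap R (R ⧸ p))).radical = (maximalIdeal (R ⧸ p)).radical := by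
    refine le_antisymm (Ideal.radical_mono (IsLocalRing.le_maximalIdeal fun h => hap ?_)) ?_
    · rw [← Ideal.comap_top (f := Ideal.Quotient.mk p), ← h, Ideal.Quotient.algebraMap_eq,
        Ideal.comap_map_of_surjective _ Ideal.Quotient.mk_surjective, ← RingHom.ker_eq_comap_bot, Ideal.mk_ker]
    · refine Ideal.radical_le_radical_iff.2 fun x hx => ?_
      rw [Ideal.radical_eq_sInf, Ideal.mem_sInf]
      rintro P ⟨hP, hPp⟩
      haveI := hPp
      have hne : P ≠ ⊥ := fun e => ha fun z hz =>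
        Ideal.Quotient.eq_zero_iff_mem.1 ((Submodule.mem_bot _).1 (e ▸ hP (Ideal.mem_map_of_mem _ hz)))
      by_contra hxP
      have h1 := Ideal.height_add_one_le_of_lt_of_isPrime (I := P) (J := maximalIdeal (R ⧸ p))
        (lt_of_le_of_ne (IsLocalRing.le_maximalIdeal hPp.ne_top) fun e => hxP (e ▸ hx))
      have h2 : (maximalIdeal (R ⧸ p)).height = 1 := by
        have := IsLocalRing.maximalIdeal_height_eq_ringKrullDim (R := R ⧸ p)
        rw [hp] at this
        exact_mod_cast this
      have h3 : P.height = 0 := by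
        by_contra h0
        rw [h2] at h1
        exact absurd ((add_le_add_left (Order.one_le_iff_pos.2 (pos_iff_ne_zero.2 h0)) 1).trans h1) (by decide)
      exact hne (Ideal.height_eq_zero_iff_eq_bot.1 h3)
  obtain ⟨ε⟩ := nonempty_H_equiv_of_radical hrad 1 (R ⧸ p)
  haveI := nontrivial_H_ring (R ⧸ p) 1 (by rw [hp]; rfl)
  haveI : Nontrivial (_root_.LocCoh.H (a.map (algebraMap R (R ⧸ p))) 1 (R ⧸ p)) := ε.toEquiv.nontrivial
  exact φ.symm.toEquiv.nontrivial

theorem smul_pow_surjective_quotient (hp : ringKrullDim (R ⧸ p) = 1) (hβ : β ∉ p) (k : ℕ) :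
    Function.Surjective (fun z : _root_.LocCoh.H a 1 (R ⧸ p) => β ^ k • z) := by
  have hdim : Module.supportDim R (R ⧸ p) ≤ ((1 : ℕ) : WithBot ℕ∞) := by
    rw [Module.supportDim_eq_ringKrullDim_quotient_annihilator, Ideal.annihilator_quotient, hp]; rfl
  refine smul_H_surjective (β ^ k) hdim (supportDim_lt_of_forall _ 1 fun q hq => ?_)
  rw [Module.support_eq_zeroLocus] at hq
  have hann : ∀ r, (∀ z : QuotSMulTop (β ^ k) (R ⧸ p), r • z = 0) → r ∈ q.asIdeal := fun r hr =>
    hq (Module.mem_annihilator.2 hr)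
  have hpq : p ≤ q.asIdeal := fun r hr => hann r fun z => by
    obtain ⟨z, rfl⟩ := Submodule.Quotient.mk_surjective _ z
    obtain ⟨z, rfl⟩ := Ideal.Quotient.mk_surjective z
    rw [← Submodule.Quotient.mk_smul, Algebra.smul_def, Ideal.Quotient.algebraMap_eq, ← map_mul,
      Ideal.Quotient.eq_zero_iff_mem.2 (Ideal.mul_mem_right _ _ hr)]
    rfl
  have hβq : β ^ k ∈ q.asIdeal := hann _ fun z => by
    obtain ⟨z, rfl⟩ := Submodule.Quotient.mk_surjective _ z
    rw [← Submodule.Quotient.mk_smul, Submodule.Quotient.mk_eq_zero]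
    exact Submodule.smul_mem_pointwise_smul z (β ^ k) ⊤ trivial
  exact lt_of_add_one_le (le_of_eq_of_le hp le_rfl) (CAlgH3.ringKrullDim_quotient_add_one_le
    (lt_of_le_of_ne hpq fun e => hβ ((inferInstance : p.IsPrime).mem_of_pow_mem k (e ▸ hβq))))

theorem zat_zero_of_kill (hp : ringKrullDim (R ⧸ p) = 1) (hap : a ⊔ p ≠ ⊤) (hc : c ∈ a) (hcp : c ∉ p)
    (hβ : β ∉ p) (M : Type u) [AddCommGroup M] [Module R M] [Module.Finite R M]
    (h : ∃ k : ℕ, ∀ x : _root_.LocCoh.H a 1 M, β ^ k • x = 0) : Zat p 0 M := by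
  by_contra hcon
  simp only [Zat, not_forall, not_exists, not_and] at hcon
  obtain ⟨x, hx⟩ := hcon
  obtain ⟨z, hzann⟩ : ∃ z : M, ∀ r : R, r • z = 0 ↔ r ∈ p := by
    let m : M := (H0Equiv p M x : M)
    have hm : ∀ u ∉ p, u • m ≠ 0 := fun u hu h0 => hx u hu ((H0Equiv p M).injective (by
      rw [map_smul, map_zero]; exact Subtype.ext h0))
    classical
    have hex : ∃ n : ℕ, ∀ r ∈ p ^ n, ∃ u ∉ p, u • r • m = 0 := by
      obtain ⟨n, hn⟩ := (H0Equiv p M x).2
      exact ⟨n, fun r hr => ⟨1, fun h1 => (inferInstance : p.IsPrime).ne_top (eq_top_iff.2 fun _ _ => by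
        simpa using p.mul_mem_left _ h1), by rw [one_smul]; exact hn r hr⟩⟩
    obtain ⟨n, hn, hmin⟩ : ∃ n, (∀ r ∈ p ^ n, ∃ u ∉ p, u • r • m = 0) ∧
        ∀ n' < n, ¬ ∀ r ∈ p ^ n', ∃ u ∉ p, u • r • m = 0 :=
      ⟨Nat.find hex, Nat.find_spec hex, fun n' h => Nat.find_min hex h⟩
    cases n with
    | zero =>
      obtain ⟨u, hu, h0⟩ := hn 1 (by simp)
      rw [one_smul] at h0
      exact absurd h0 (hm u hu)
    | succ n =>
      have := hmin n (Nat.lt_succ_self n)
      push Not at this
      obtain ⟨r, hr, hr'⟩ := this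
      obtain ⟨s, hs⟩ := (IsNoetherian.noetherian p : p.FG)
      choose u hu hu0 using fun v : (s : Set R) => hn (v.1 * r)
        (by rw [pow_succ']; exact Ideal.mul_mem_mul (hs ▸ Submodule.subset_span v.2) hr)
      refine ⟨(∏ v, u v) • r • m, fun v => ⟨fun h0 => ?_, fun hv => ?_⟩⟩
      · by_contra hv
        refine hr' (v * ∏ v, u v) ?_ (by rw [mul_smul]; exact h0)
        exact fun h => ((inferInstance : p.IsPrime).mem_or_mem h).elim hv fun h =>
          (Ideal.IsPrime.prod_mem_iff.1 h).elim fun v hv => hu v hv.2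
      · rw [← hs] at hv
        induction hv using Submodule.span_induction with
        | mem w hw =>
          have h0 := hu0 ⟨w, hw⟩
          rw [mul_smul] at h0
          rw [← mul_smul, mul_comm, mul_smul,
            ← Finset.prod_erase_mul _ _ (Finset.mem_univ (⟨w, hw⟩ : (s : Set R))), mul_smul, h0, smul_zero]
        | zero => simp
        | add v w _ _ hv hw => rw [add_smul, hv, hw, add_zero]
        | smul e v _ hv => rw [smul_eq_mul, mul_smul, hv, smul_zero]
  let f : R ⧸ p →ₗ[R] M := Submodule.liftQ p (LinearMap.toSpanSingleton R M z) fun r hr => (hzann r).2 hr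
  have hf : Function.Injective f := (injective_iff_map_eq_zero f).2 fun y hy => by
    obtain ⟨r, rfl⟩ := Submodule.Quotient.mk_surjective _ y
    exact (Submodule.Quotient.mk_eq_zero _).2 ((hzann r).1 hy)
  have hg : Function.Surjective (LinearMap.range f).mkQ := Submodule.mkQ_surjective _
  have hfg : Function.Exact f (LinearMap.range f).mkQ := LinearMap.exact_map_mkQ_range f
  obtain ⟨k, hk⟩ := h
  haveI hfinQ : Module.Finite R (_root_.LocCoh.H a 0 (M ⧸ LinearMap.range f)) :=
    Module.Finite.equiv (H0Equiv a (M ⧸ LinearMap.range f)).symm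
  obtain ⟨l, hl⟩ := exists_pow_smul_eq_zero (I := a) hfinQ.fg_top (fun y _ => isPowerTorsion_H 0 y)
  haveI := nontrivial_H_one_quotient a p hp hap (fun h => hcp (h hc))
  obtain ⟨y, hy⟩ := exists_ne (0 : _root_.LocCoh.H a 1 (R ⧸ p))
  obtain ⟨y₁, hy₁⟩ := smul_pow_surjective_quotient a p hp hcp l y
  obtain ⟨y₂, rfl⟩ := smul_pow_surjective_quotient a p hp hβ k y₁
  obtain ⟨w, hw⟩ := (connecting_Hmap_exact (I := a) hf hg hfg 0 (β ^ k • y₂)).1
    (by rw [map_smul]; exact hk _)
  refine hy (hy₁.symm.trans ?_)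
  show c ^ l • (β ^ k • y₂) = 0
  rw [← hw, ← map_smul, hl _ (Ideal.pow_mem_pow hc l) w trivial, map_zero]

theorem kill_quotient {T N Q : Type u} [AddCommGroup T] [Module R T] [AddCommGroup N] [Module R N]
    [AddCommGroup Q] [Module R Q] {f : T →ₗ[R] N} {g : N →ₗ[R] Q} (hf : Function.Injective f)
    (hg : Function.Surjective g) (hfg : Function.Exact f g) (i : ℕ) {k l : ℕ}
    (hN : ∀ x : _root_.LocCoh.H a i N, β ^ k • x = 0)
    (hT : ∀ x : _root_.LocCoh.H a (i + 1) T, β ^ l • x = 0) (x : _root_.LocCoh.H a i Q) :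
    β ^ (k + l) • x = 0 := by
  obtain ⟨w, hw⟩ := (Hmap_connecting_exact (I := a) hf hg hfg i (β ^ l • x)).1 (by rw [map_smul]; exact hT _)
  rw [pow_add, mul_smul, ← hw, ← map_smul, hN, map_zero]

/-- The one-dimensional step. -/
theorem zat_of_kill (hp : ringKrullDim (R ⧸ p) = 1) (hap : a ⊔ p ≠ ⊤) (hc : c ∈ a) (hcp : c ∉ p)
    (hβ : β ∉ p) : ∀ (t : ℕ) (M : Type u) [AddCommGroup M] [Module R M] [Module.Finite R M],
    (∀ i ≤ t + 1, ∃ k : ℕ, ∀ x : _root_.LocCoh.H a i M, β ^ k • x = 0) → ∀ j ≤ t, Zat p j M := by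
  intro t
  induction t with
  | zero =>
    intro M _ _ _ h j hj
    obtain rfl : j = 0 := by omega
    exact zat_zero_of_kill a p hp hap hc hcp hβ M (h 1 le_rfl)
  | succ t ih =>
    intro M _ _ _ h j hj
    rcases Nat.lt_or_ge j (t + 1) with h1 | h1
    · exact ih M (fun i hi => h i (by omega)) j (by omega)
    obtain rfl : j = t + 1 := by omega
    let T := powTorsion (Ideal.span {β}) M
    obtain ⟨l, hl⟩ := exists_pow_smul_eq_zero (I := Ideal.span {β}) (IsNoetherian.noetherian T) le_rfl
    have hl' : ∀ x : T, β ^ l • x = 0 := fun x =>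
      Subtype.ext (hl _ (Ideal.pow_mem_pow (Ideal.mem_span_singleton_self β) l) x.1 x.2)
    have hexT := LinearMap.exact_subtype_mkQ T
    have h' : ∀ i ≤ t + 1 + 1, ∃ k : ℕ, ∀ x : _root_.LocCoh.H a i (M ⧸ T), β ^ k • x = 0 := fun i hi => by
      obtain ⟨k, hk⟩ := h i hi
      exact ⟨k + l, kill_quotient a T.injective_subtype (Submodule.mkQ_surjective T) hexT i hk
        (smul_H_eq_zero hl' (i + 1))⟩
    have hZ0 : Zat p 0 (M ⧸ T) := ih _ (fun i hi => h' i (by omega)) 0 (Nat.zero_le _)
    have hass : ∀ P ∈ associatedPrimes R (M ⧸ T), ¬ p ≤ P := by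
      intro P hP hle
      obtain ⟨hPp, m, hm⟩ := isAssociatedPrime_iff.1 (AssociatedPrimes.mem_iff.1 hP)
      have hmem : ∀ r, r ∈ P ↔ r • m = 0 := fun r => by rw [hm]; simp
      have hm0 : m ≠ 0 := fun h0 => hPp.ne_top (eq_top_iff.2 fun r _ => (hmem r).2 (by rw [h0, smul_zero]))
      have hβP : β ∉ P := fun hb => hm0 ((Submodule.mem_bot R).1
        ((powTorsion_quotient_eq_bot (J := Ideal.span {β}) M).le ⟨1, fun d hd => by
          rw [pow_one, Ideal.mem_span_singleton'] at hd
          obtain ⟨e, rfl⟩ := hd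
          rw [mul_smul, (hmem β).1 hb, smul_zero]⟩))
      haveI := hPp
      rcases hle.eq_or_lt with e | hlt
      · subst e
        have hm1 : m ∈ powTorsion p (M ⧸ T) := ⟨1, fun d hd => (hmem d).1 (by rwa [pow_one] at hd)⟩
        obtain ⟨u, hu, h0⟩ := hZ0 ((H0Equiv p (M ⧸ T)).symm ⟨m, hm1⟩)
        rw [← map_smul, LinearEquiv.map_eq_zero_iff] at h0
        exact hu ((hmem u).2 (congrArg Subtype.val h0))
      · have h2 := CAlgH3.ringKrullDim_quotient_add_one_le hlt
        rw [hp] at h2
        have hPm : P = maximalIdeal R := by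
          by_contra hne
          have h3 := CAlgH3.ringKrullDim_quotient_add_one_le
            (lt_of_le_of_ne (IsLocalRing.le_maximalIdeal hPp.ne_top) hne)
          have h4 : ((0 : ℕ∞) : WithBot ℕ∞) + 1 ≤ ringKrullDim (R ⧸ P) := by
            refine le_trans ?_ h3
            have : ringKrullDim (R ⧸ maximalIdeal R) = 0 := ringKrullDim_eq_zero_of_field (ResidueField R)
            rw [this]
            rfl
          have h5 := (add_le_add_left h4 1).trans h2
          exact absurd h5 (by decide)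
        obtain ⟨k, hk⟩ := h' 0 (Nat.zero_le _)
        have hm2 : m ∈ powTorsion a (M ⧸ T) := ⟨1, fun d hd => (hmem d).1 (by
          rw [pow_one] at hd
          rw [hPm]
          exact IsLocalRing.le_maximalIdeal (fun e => hap (by rw [e, top_sup_eq])) hd)⟩
        have h6 := hk ((H0Equiv a (M ⧸ T)).symm ⟨m, hm2⟩)
        rw [← map_smul, LinearEquiv.map_eq_zero_iff] at h6
        exact hβP (hPp.mem_of_pow_mem k ((hmem _).2 (congrArg Subtype.val h6)))
    obtain ⟨y, hy, hyreg⟩ : ∃ y ∈ p, IsSMulRegular (M ⧸ T) y := by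
      by_contra hcon
      push Not at hcon
      have hsub : (p : Set R) ⊆ ⋃ P ∈ associatedPrimes R (M ⧸ T), (P : Set R) := by
        rw [biUnion_associatedPrimes_eq_compl_regular R (M ⧸ T)]
        exact fun r hr hreg => hcon r hr hreg
      obtain ⟨P, hP, hle⟩ := (Ideal.subset_union_prime_finite (associatedPrimes.finite R (M ⧸ T)) ⊤ ⊤
        fun P hP _ _ => IsAssociatedPrime.isPrime hP).1 hsub
      exact hass P hP hle
    have hinj : Function.Injective (y • LinearMap.id : (M ⧸ T) →ₗ[R] M ⧸ T) := fun _ _ hh => hyreg hh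
    have hex := smulTop_exact y (M ⧸ T)
    have hkQ : ∀ i ≤ t + 1, ∃ k : ℕ, ∀ x : _root_.LocCoh.H a i (QuotSMulTop y (M ⧸ T)), β ^ k • x = 0 := fun i hi => by
      obtain ⟨k₁, hk₁⟩ := h' i (by omega)
      obtain ⟨k₂, hk₂⟩ := h' (i + 1) (by omega)
      exact ⟨k₁ + k₂, kill_quotient a hinj (Submodule.mkQ_surjective _) hex i hk₁ hk₂⟩
    have hZQ : Zat p t (QuotSMulTop y (M ⧸ T)) := ih _ hkQ t le_rfl
    intro x
    obtain ⟨v, hv, hvx⟩ : ∃ v ∉ p, v • Hmap p (t + 1) T.mkQ x = 0 := by
      suffices H : ∀ (n : ℕ) (z : _root_.LocCoh.H p (t + 1) (M ⧸ T)), y ^ n • z = 0 → ∃ v ∉ p, v • z = 0 by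
        obtain ⟨n, hn⟩ := isPowerTorsion_H (t + 1) (Hmap p (t + 1) T.mkQ x)
        exact H n _ (hn _ (Ideal.pow_mem_pow hy n))
      intro n
      induction n with
      | zero =>
        intro z hz
        exact ⟨1, fun h1 => (inferInstance : p.IsPrime).ne_top ((Ideal.eq_top_iff_one p).2 h1),
          by simpa using hz⟩
      | succ n ihn =>
        intro z hz
        rw [pow_succ, mul_smul] at hz
        obtain ⟨v, hv, hvz⟩ := ihn (y • z) hz
        obtain ⟨w, hw⟩ := (connecting_Hmap_exact (I := p) hinj (Submodule.mkQ_surjective _) hex t (v • z)).1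
          (by rw [Hmap_smul, Hmap_id]; show y • v • z = 0; rw [smul_comm]; exact hvz)
        obtain ⟨u, hu, huw⟩ := hZQ w
        exact ⟨u * v, fun h => ((inferInstance : p.IsPrime).mem_or_mem h).elim hu hv, by
          rw [mul_smul, ← hw, ← map_smul, huw, map_zero]⟩
    obtain ⟨w, hw⟩ := (Hmap_exact (I := p) T.injective_subtype (Submodule.mkQ_surjective T) hexT (t + 1)
      (v • x)).1 (by rw [map_smul]; exact hvx)
    exact ⟨β ^ l * v, fun h => ((inferInstance : p.IsPrime).mem_or_mem h).elim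
      (fun h => hβ ((inferInstance : p.IsPrime).mem_of_pow_mem l h)) hv, by
        rw [mul_smul, ← hw, ← map_smul, smul_H_eq_zero hl', map_zero]⟩

end local1

theorem one_le_map_height_of_not_le {p q : Ideal R} [p.IsPrime] [q.IsPrime] (h : p < q) :
    1 ≤ hq p q := by
  haveI := isPrime_map_mk h.le
  rw [Order.one_le_iff_pos, pos_iff_ne_zero, ne_eq, Ideal.height_eq_zero_iff_eq_bot]
  intro e
  exact h.ne (by rw [← comap_map_mk h.le, e, ← RingHom.ker_eq_comap_bot, Ideal.mk_ker])

theorem ringKrullDim_quotient_atPrime_eq_one {p q : Ideal R} [p.IsPrime] [q.IsPrime] (hpq : p < q)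
    (h1 : hq p q = 1) :
    (p.map (algebraMap R (Localization.AtPrime q))).IsPrime ∧
      ringKrullDim (Localization.AtPrime q ⧸ p.map (algebraMap R (Localization.AtPrime q))) = 1 := by
  have hd : Disjoint (q.primeCompl : Set R) p := Set.disjoint_left.2 fun x hx hxp => hx (hpq.le hxp)
  haveI hp' := IsLocalization.isPrime_of_isPrime_disjoint q.primeCompl (Localization.AtPrime q) p inferInstance hd
  refine ⟨hp', le_antisymm ((ringKrullDim_quotient_map_atPrime_le p q).trans (by rw [h1]; rfl)) ?_⟩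
  have hlt : p.map (algebraMap R (Localization.AtPrime q)) < maximalIdeal (Localization.AtPrime q) :=
    lt_of_le_of_ne (IsLocalRing.le_maximalIdeal hp'.ne_top) fun e => hpq.ne (by
      have e2 := congrArg (Ideal.comap (algebraMap R (Localization.AtPrime q))) e
      exact ((IsLocalization.comap_map_of_isPrime_disjoint q.primeCompl (Localization.AtPrime q) (by assumption) hd).symm.trans
        (e2.trans (IsLocalization.AtPrime.comap_maximalIdeal (Localization.AtPrime q) q))))
  have := CAlgH3.ringKrullDim_quotient_add_one_le hlt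
  refine le_trans ?_ this
  rw [show ringKrullDim (Localization.AtPrime q ⧸ maximalIdeal (Localization.AtPrime q)) = 0 from
    ringKrullDim_eq_zero_of_field (ResidueField (Localization.AtPrime q))]
  rfl

/-- Transfer of the one-dimensional step to an arbitrary Noetherian ring. -/
theorem zat_of_kill_global (a : Ideal R) {p q : Ideal R} [p.IsPrime] [q.IsPrime] (hpq : p < q)
    (h1 : hq p q = 1) (haq : a ≤ q) {c β : R} (hc : c ∈ a) (hcp : c ∉ p) (hβ : β ∉ p) (t : ℕ)
    (M : Type u) [AddCommGroup M] [Module R M] [Module.Finite R M]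
    (h : ∀ i ≤ t + 1, ∃ k : ℕ, ∀ x : _root_.LocCoh.H a i M, β ^ k • x = 0) :
    ∀ j ≤ t, Zat p j M := by
  let A := Localization.AtPrime q
  haveI : IsNoetherianRing A := IsLocalization.isNoetherianRing q.primeCompl A inferInstance
  obtain ⟨hp', hdim⟩ := ringKrullDim_quotient_atPrime_eq_one hpq h1
  haveI := hp'
  have hd : Disjoint (q.primeCompl : Set R) p := Set.disjoint_left.2 fun x hx hxp => hx (hpq.le hxp)
  have hcm : ∀ x : R, algebraMap R A x ∈ p.map (algebraMap R A) ↔ x ∈ p := fun x => by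
    refine ⟨fun hx => ?_, Ideal.mem_map_of_mem _⟩
    have h2 : x ∈ (p.map (algebraMap R A)).comap (algebraMap R A) := hx
    exact (IsLocalization.comap_map_of_isPrime_disjoint q.primeCompl A (by assumption) hd).le h2
  have hkill : ∀ i ≤ t + 1, ∃ k : ℕ, ∀ x : _root_.LocCoh.H (a.map (algebraMap R A)) i
      (LocalizedModule q.primeCompl M), algebraMap R A β ^ k • x = 0 := fun i hi => by
    obtain ⟨k, hk⟩ := h i hi
    obtain ⟨e⟩ := nonempty_localized_H_equiv q.primeCompl a M i
    refine ⟨k, fun x => e.symm.injective ?_⟩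
    rw [map_smul, map_zero, ← map_pow, IsScalarTower.algebraMap_smul]
    generalize e.symm x = z
    induction z using LocalizedModule.induction_on with
    | _ z s => rw [LocalizedModule.smul'_mk, hk z, LocalizedModule.zero_mk]
  intro j hj x
  have hZ := zat_of_kill (a.map (algebraMap R A)) (p.map (algebraMap R A)) hdim (fun e => by
      refine (maximalIdeal.isMaximal A).ne_top (top_le_iff.1 (e ▸ sup_le ?_ (IsLocalRing.le_maximalIdeal hp'.ne_top)))
      rw [← Localization.AtPrime.map_eq_maximalIdeal]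
      exact Ideal.map_mono haq)
    (c := algebraMap R A c) (Ideal.mem_map_of_mem _ hc) (fun hh => hcp ((hcm c).1 hh))
    (β := algebraMap R A β) (fun hh => hβ ((hcm β).1 hh)) t (LocalizedModule q.primeCompl M) hkill j hj
  obtain ⟨e⟩ := nonempty_localized_H_equiv q.primeCompl p M j
  obtain ⟨u, hu, hux⟩ := hZ (e (LocalizedModule.mkLinearMap q.primeCompl _ x))
  rw [← map_smul, LinearEquiv.map_eq_zero_iff] at hux
  obtain ⟨⟨u', s⟩, rfl⟩ := IsLocalization.mk'_surjective q.primeCompl u
  have h2 : u' • LocalizedModule.mkLinearMap q.primeCompl _ x = 0 := by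
    have h3 := congrArg (fun z => algebraMap R A (s : R) • z) hux
    simp only [smul_zero] at h3
    rwa [← mul_smul, mul_comm, IsLocalization.mk'_spec, IsScalarTower.algebraMap_smul] at h3
  rw [← map_smul] at h2
  obtain ⟨⟨w, hw⟩, h4⟩ := (IsLocalizedModule.eq_zero_iff q.primeCompl
    (LocalizedModule.mkLinearMap q.primeCompl _)).1 h2
  refine ⟨w * u', fun hh => ((inferInstance : p.IsPrime).mem_or_mem hh).elim (fun hh => hw (hpq.le hh))
    (fun hh => hu ?_), by rw [mul_smul]; exact h4⟩
  exact IsLocalization.mk'_mem_iff.2 ((hcm u').2 hh)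

/-- The adjusted depth bounds the least degree of local cohomology not killed by a power of `b`. -/
theorem exists_le_not_killed (a b : Ideal R) (M : Type u) [AddCommGroup M] [Module R M]
    [Module.Finite R M] : ∀ (h : ℕ) (p q : Ideal R) [p.IsPrime] [q.IsPrime], a ≤ q → p ≤ q →
    hq p q = h → ¬ b ≤ p → ∀ t : ℕ,
    _root_.LocCoh.depth (Localization.AtPrime p) (LocalizedModule p.primeCompl M) = t →
    ∃ i ≤ t + h, ¬ b ≤ (Module.annihilator R (_root_.LocCoh.H a i M)).radical := by
  intro h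
  induction h using Nat.strong_induction_on with
  | _ h ih =>
    intro p q _ _ haq hpq hh hbp t ht
    obtain ⟨β, hβ, hβp⟩ := SetLike.not_le_iff_exists.1 hbp
    by_cases hap : a ≤ p
    · obtain ⟨i, hi, hne⟩ := exists_nontrivial_H_le_depth a p hap M t ht
      exact ⟨i, hi.trans (Nat.le_add_right t h), not_le_radical_annihilator hβ
        (not_kill_of_nontrivial_localized p.primeCompl a M i hβp hne)⟩
    obtain ⟨c, hc, hcp⟩ := SetLike.not_le_iff_exists.1 hap
    have hlt : p < q := lt_of_le_of_ne hpq fun e => hap (e ▸ haq)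
    have h1 : 1 ≤ h := by
      have := one_le_map_height_of_not_le hlt
      rw [hh] at this
      exact_mod_cast this
    rcases h1.eq_or_lt with rfl | h2
    · by_contra hcon
      push Not at hcon
      have hkill : ∀ i ≤ t + 1, ∃ k : ℕ, ∀ x : _root_.LocCoh.H a i M, β ^ k • x = 0 := fun i hi => by
        obtain ⟨k, hk⟩ := hcon i hi hβ
        exact ⟨k, Module.mem_annihilator.1 hk⟩
      have hZ := zat_of_kill_global a hlt hh haq hc hcp hβp t M hkill t le_rfl
      haveI : IsNoetherianRing (Localization.AtPrime p) :=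
        IsLocalization.isNoetherianRing p.primeCompl _ inferInstance
      exact (not_nontrivial_iff_subsingleton.2 ((zat_iff p t M).1 hZ))
        ((idealDepth_eq_iff_H (maximalIdeal (Localization.AtPrime p))
          (LocalizedModule p.primeCompl M) t).1 ht).2
    · by_cases hβq : β ∈ q
      · obtain ⟨s, hs, hps, hsq, hβs⟩ := exists_prime_between hlt (by rw [hh]; exact_mod_cast h2) hβq hβp
        exact step h ih p q haq hh t ht β hβ s hps hsq hβs
      · obtain ⟨d, hdq, hdp⟩ := SetLike.exists_of_lt hlt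
        obtain ⟨s, hs, hps, hsq, -⟩ := exists_prime_between hlt (by rw [hh]; exact_mod_cast h2) hdq hdp
        exact step h ih p q haq hh t ht β hβ s hps hsq (fun hh' => hβq (hsq.le hh'))
where
  step (h : ℕ) (ih : ∀ m < h, ∀ (p q : Ideal R) [p.IsPrime] [q.IsPrime], a ≤ q → p ≤ q →
      hq p q = m → ¬ b ≤ p → ∀ t : ℕ,
      _root_.LocCoh.depth (Localization.AtPrime p) (LocalizedModule p.primeCompl M) = t →
      ∃ i ≤ t + m, ¬ b ≤ (Module.annihilator R (_root_.LocCoh.H a i M)).radical)
      (p q : Ideal R) [p.IsPrime] [q.IsPrime] (haq : a ≤ q) (hh : hq p q = h) (t : ℕ)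
      (ht : _root_.LocCoh.depth (Localization.AtPrime p) (LocalizedModule p.primeCompl M) = t)
      (β : R) (hβ : β ∈ b) (s : Ideal R) [s.IsPrime] (hps : p < s) (hsq : s < q) (hβs : β ∉ s) :
      ∃ i ≤ t + h, ¬ b ≤ (Module.annihilator R (_root_.LocCoh.H a i M)).radical := by
    obtain ⟨h1, hh1⟩ := ENat.ne_top_iff_exists.1 (hq_ne_top hps.le)
    obtain ⟨h2, hh2⟩ := ENat.ne_top_iff_exists.1 (hq_ne_top hsq.le)
    have hsum := hq_add_le hps.le hsq.le
    rw [← hh1, ← hh2, hh] at hsum
    have hsum' : h1 + h2 ≤ h := by exact_mod_cast hsum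
    have hpos : 1 ≤ h1 := by
      have := one_le_map_height_of_not_le hps
      rw [← hh1] at this
      exact_mod_cast this
    have hds := depth_le_depth_add_hq M p s hps.le
    rw [ht, ← hh1] at hds
    obtain ⟨ts, hts⟩ := ENat.ne_top_iff_exists.1
      (ne_top_of_le_ne_top (by exact_mod_cast ENat.natCast_ne_top (t + h1)) hds)
    rw [← hts] at hds
    have hds' : ts ≤ t + h1 := by exact_mod_cast hds
    obtain ⟨i, hi, hne⟩ := ih h2 (by omega) s q haq hsq.le hh2.symm (fun hbs => hβs (hbs hβ)) ts hts.symm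
    exact ⟨i, by omega, hne⟩

theorem finDimRel_le_minAdjDepth (a b : Ideal R) (M : Type u) [AddCommGroup M] [Module R M]
    [Module.Finite R M] :
    _root_.LocCoh.finDimRel a b M ≤ _root_.LocCoh.minAdjDepth a b M := by
  refine le_iInf₂ fun p hbp => ?_
  unfold _root_.LocCoh.adjDepth
  by_cases hd : _root_.LocCoh.depth (Localization.AtPrime p.asIdeal) (LocalizedModule p.asIdeal.primeCompl M) = ⊤
  · rw [hd, top_add]; exact le_top
  by_cases hh : ((a ⊔ p.asIdeal).map (Ideal.Quotient.mk p.asIdeal)).height = ⊤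
  · rw [hh, add_top]; exact le_top
  obtain ⟨t, ht⟩ := ENat.ne_top_iff_exists.1 hd
  obtain ⟨n, hn⟩ := ENat.ne_top_iff_exists.1 hh
  obtain ⟨Q, hQ, hle, hQn⟩ := Ideal.exists_isPrime_height_eq hn.symm
  haveI := hQ
  let q := Q.comap (Ideal.Quotient.mk p.asIdeal)
  have hq1 : a ⊔ p.asIdeal ≤ q := Ideal.map_le_iff_le_comap.1 hle
  have hq2 : hq p.asIdeal q = n := by
    rw [hq, Ideal.map_comap_of_surjective _ Ideal.Quotient.mk_surjective]; exact hQn
  obtain ⟨i, hi, hne⟩ := exists_le_not_killed a b M n p.asIdeal q (le_sup_left.trans hq1)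
    (le_sup_right.trans hq1) hq2 hbp t ht.symm
  rw [← ht, ← hn]
  exact iInf₂_le_of_le i hne (by exact_mod_cast hi)

end Groth.Agent.LocCoh
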