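import Groth.Agent.LocCoh.NonVanishing
import Groth.Agent.LocCoh.Sum
import Groth.Agent.S3261

/-!
Artinianness and finiteness criteria for local cohomology of finite modules.
-/

set_option autoImplicit false

universe u

namespace Groth.Agent.LocCoh

variable {R : Type u} [CommRing R] [IsNoetherianRing R]

/-- Dividing out the torsion does not change local cohomology in positive degrees. -/
theorem Hmap_mkQ_bijective (I : Ideal R) (M : Type u) [AddCommGroup M] [Module R M] (i : ℕ) :
    Function.Bijective (Hmap I (i + 1) (powTorsion I M).mkQ) := by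
  let T := powTorsion I M
  have hT : _root_.LocCoh.IsPowerTorsion I T := fun m => by
    obtain ⟨n, hn⟩ := m.2
    exact ⟨n, fun a ha => Subtype.ext (hn a ha)⟩
  haveI := subsingleton_H_of_powerTorsion (i + 1) T hT (Nat.succ_pos i)
  haveI := subsingleton_H_of_powerTorsion (i + 2) T hT (Nat.succ_pos _)
  refine ⟨(injective_iff_map_eq_zero _).2 fun a ha => ?_, fun b => ?_⟩
  · obtain ⟨c, rfl⟩ := (Hmap_exact T.injective_subtype (Submodule.mkQ_surjective T)
      (LinearMap.exact_subtype_mkQ T) (i + 1) a).1 ha
    rw [Subsingleton.elim c 0, map_zero]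
  · exact (Hmap_connecting_exact T.injective_subtype (Submodule.mkQ_surjective T)
      (LinearMap.exact_subtype_mkQ T) (i + 1) b).1 (Subsingleton.elim _ _)

/-- The `i+1`-st local cohomology of `M` is that of `M` modulo torsion. -/
noncomputable def HquotEquiv (I : Ideal R) (M : Type u) [AddCommGroup M] [Module R M] (i : ℕ) :
    _root_.LocCoh.H I (i + 1) M ≃ₗ[R] _root_.LocCoh.H I (i + 1) (M ⧸ powTorsion I M) :=
  LinearEquiv.ofBijective _ (Hmap_mkQ_bijective I M i)

theorem exists_regular_quot (I : Ideal R) (M : Type u) [AddCommGroup M] [Module R M]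
    [Module.Finite R M] : ∃ x ∈ I, IsSMulRegular (M ⧸ powTorsion I M) x :=
  exists_regular_of_powTorsion_eq_bot (powTorsion_quotient_eq_bot (J := I) M)

omit [IsNoetherianRing R] in
/-- The kernel of a regular element on `H^{i+1}` comes from `H^i` of the quotient. -/
theorem mem_range_connecting_of_smul_eq_zero {I : Ideal R} {M : Type u} [AddCommGroup M]
    [Module R M] {x : R} (hx : IsSMulRegular M x) (i : ℕ) (a : _root_.LocCoh.H I (i + 1) M)
    (ha : x • a = 0) :
    a ∈ LinearMap.range (connecting I (f := x • (LinearMap.id : M →ₗ[R] M)) (fun _ _ h => hx h)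
      (Submodule.mkQ_surjective _) (smulTop_exact x M) i) :=
  (connecting_Hmap_exact (I := I) (f := x • (LinearMap.id : M →ₗ[R] M)) (fun _ _ h => hx h)
    (Submodule.mkQ_surjective _) (smulTop_exact x M) i a).1 (by rw [Hmap_smul, Hmap_id]; exact ha)

omit [IsNoetherianRing R] in
theorem isArtinian_H_succ_of_regular {I : Ideal R} {M : Type u} [AddCommGroup M] [Module R M]
    {x : R} (hxI : x ∈ I) (hx : IsSMulRegular M x) (i : ℕ)
    (h : IsArtinian R (_root_.LocCoh.H I i (QuotSMulTop x M))) :
    IsArtinian R (_root_.LocCoh.H I (i + 1) M) := by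
  refine S3261.result (Ideal.span {x}) ⟨{x}, by simp⟩ _ (fun m => ?_) ?_
  · obtain ⟨n, hn⟩ := isPowerTorsion_H (i + 1) m
    exact ⟨n, fun a ha => hn a (Ideal.pow_right_mono
      ((Ideal.span_singleton_le_iff_mem _).2 hxI) n ha)⟩
  · haveI := h
    exact isArtinian_of_le fun a ha => mem_range_connecting_of_smul_eq_zero hx i a
      ((Submodule.mem_torsionBySet_iff _ _).1 ha ⟨x, Ideal.mem_span_singleton_self x⟩)

theorem isArtinian_of_supportDim_le_zero [IsLocalRing R] (M : Type u) [AddCommGroup M]
    [Module R M] [Module.Finite R M] (h : Module.supportDim R M ≤ (0 : ℕ)) : IsArtinian R M := by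
  haveI : Ring.KrullDimLE 0 (R ⧸ Module.annihilator R M) :=
    Ring.krullDimLE_iff.2 ((Module.supportDim_eq_ringKrullDim_quotient_annihilator R M).symm.le.trans h)
  haveI : IsArtinianRing (R ⧸ Module.annihilator R M) :=
    IsNoetherianRing.isArtinianRing_of_krullDimLE_zero
  letI : Module (R ⧸ Module.annihilator R M) M :=
    (Module.isTorsionBySet_annihilator R M).module
  haveI : IsScalarTower R (R ⧸ Module.annihilator R M) M :=
    (Module.isTorsionBySet_annihilator R M).isScalarTower
  haveI : Module.Finite (R ⧸ Module.annihilator R M) M :=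
    Module.Finite.of_restrictScalars_finite R _ M
  haveI : IsArtinian (R ⧸ Module.annihilator R M) M := isArtinian_of_fg_of_artinian'
  exact isArtinian_of_surjective_algebraMap (R := R ⧸ Module.annihilator R M)
    Ideal.Quotient.mk_surjective

theorem isArtinian_H_maximalIdeal [IsLocalRing R] : ∀ (i : ℕ) (M : Type u) [AddCommGroup M]
    [Module R M] [Module.Finite R M],
    IsArtinian R (_root_.LocCoh.H (IsLocalRing.maximalIdeal R) i M) := by
  intro i
  induction i with
  | zero =>
    intro M _ _ _
    let T := powTorsion (IsLocalRing.maximalIdeal R) M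
    haveI : Module.Finite R T := Module.Finite.iff_fg.2 (IsNoetherian.noetherian T)
    haveI : IsArtinian R T := by
      refine isArtinian_of_supportDim_le_zero T ?_
      rcases subsingleton_or_nontrivial T with hs | hn
      · rw [Module.supportDim_eq_bot_of_subsingleton R T]
        exact bot_le
      · by_contra hcon
        push Not at hcon
        obtain ⟨p, hp, hpd⟩ : ∃ p ∈ Module.support R T, p.asIdeal ≠ IsLocalRing.maximalIdeal R := by
          by_contra hall
          push Not at hall
          haveI : Subsingleton (Module.support R T) :=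
            ⟨fun a b => Subtype.ext (PrimeSpectrum.ext ((hall a.1 a.2).trans (hall b.1 b.2).symm))⟩
          exact hcon.not_ge (Order.krullDim_nonpos_of_subsingleton.trans (by simp))
        obtain ⟨t, ht⟩ := Module.mem_support_iff'.1 hp
        obtain ⟨n, hn⟩ := t.2
        have hle : IsLocalRing.maximalIdeal R ≤ p.asIdeal := fun a ha =>
          p.2.mem_of_pow_mem n (not_not.1 fun hna => ht (a ^ n) hna
            (Subtype.ext (hn _ (Ideal.pow_mem_pow ha n))))
        exact hpd ((IsLocalRing.maximalIdeal.isMaximal R).eq_of_le p.2.ne_top hle).symm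
    exact isArtinian_of_linearEquiv (H0Equiv _ M).symm
  | succ i ih =>
    intro M _ _ _
    obtain ⟨x, hx, hreg⟩ := exists_regular_quot (IsLocalRing.maximalIdeal R) M
    haveI := isArtinian_H_succ_of_regular hx hreg i (ih (QuotSMulTop x _))
    exact isArtinian_of_linearEquiv (HquotEquiv _ M i).symm

theorem isArtinian_H_of_supportDim_le [IsLocalRing R] (I : Ideal R) : ∀ (n : ℕ) (M : Type u)
    [AddCommGroup M] [Module R M] [Module.Finite R M], Module.supportDim R M ≤ (n : ℕ) →
      IsArtinian R (_root_.LocCoh.H I n M) := by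
  intro n
  induction n with
  | zero =>
    intro M _ _ _ hM
    haveI := isArtinian_of_supportDim_le_zero M hM
    exact isArtinian_of_linearEquiv (H0Equiv I M).symm
  | succ n ih =>
    intro M _ _ _ hM
    obtain ⟨x, hx, hreg⟩ := exists_regular_quot I M
    suffices h : IsArtinian R (_root_.LocCoh.H I n (QuotSMulTop x (M ⧸ powTorsion I M))) from
      haveI := isArtinian_H_succ_of_regular hx hreg n h
      isArtinian_of_linearEquiv (HquotEquiv I M n).symm
    rcases subsingleton_or_nontrivial (QuotSMulTop x (M ⧸ powTorsion I M)) with hs | hn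
    · haveI : Subsingleton (_root_.LocCoh.H I n (QuotSMulTop x (M ⧸ powTorsion I M))) :=
        subsingleton_H_of_subsingleton n
      infer_instance
    · have hxm : x ∈ IsLocalRing.maximalIdeal R := by
        by_contra hxu
        have hu : IsUnit x := not_not.1 fun h => hxu h
        refine not_subsingleton (QuotSMulTop x (M ⧸ powTorsion I M)) ?_
        refine Submodule.Quotient.subsingleton_iff.2
          (eq_top_iff.2 fun (m : M ⧸ powTorsion I M) _ => ?_)
        obtain ⟨u, rfl⟩ := hu
        have := Submodule.smul_mem_pointwise_smul ((↑(u⁻¹) : R) • m) (u : R) (⊤ : Submodule R (M ⧸ powTorsion I M)) trivial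
        rwa [← mul_smul, Units.mul_inv, one_smul] at this
      refine ih _ ?_
      have h1 := Module.supportDim_quotSMulTop_succ_eq_supportDim hreg hxm
      have h2 := (Module.supportDim_le_of_surjective _ (powTorsion I M).mkQ_surjective).trans hM
      rw [← h1] at h2
      obtain ⟨d, hd⟩ := WithBot.ne_bot_iff_exists.1
        (Module.supportDim_ne_bot_of_nontrivial R (QuotSMulTop x (M ⧸ powTorsion I M)))
      rw [← hd] at h2 ⊢
      change (d : WithBot ℕ∞) + ((1 : ℕ∞) : WithBot ℕ∞) ≤ ((n + 1 : ℕ) : ℕ∞) at h2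
      show (d : WithBot ℕ∞) ≤ ((n : ℕ∞) : WithBot ℕ∞)
      rw [← WithBot.coe_add, WithBot.coe_le_coe, Nat.cast_succ] at h2
      exact WithBot.coe_le_coe.2 ((WithTop.add_le_add_iff_right ENat.one_ne_top).1 h2)

/-- Finiteness from annihilation. -/
theorem finite_H_of_pow_smul_eq_zero (I : Ideal R) : ∀ (n : ℕ) (k : ℕ) (M : Type u)
    [AddCommGroup M] [Module R M] [Module.Finite R M],
    (∀ i ≤ n, ∀ a ∈ I ^ k, ∀ z : _root_.LocCoh.H I i M, a • z = 0) →
      Module.Finite R (_root_.LocCoh.H I n M) := by
  intro n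
  induction n with
  | zero =>
    intro k M _ _ _ _
    haveI : Module.Finite R (powTorsion I M) := Module.Finite.iff_fg.2 (IsNoetherian.noetherian _)
    exact Module.Finite.equiv (H0Equiv I M).symm
  | succ n ih =>
    intro k M _ _ _ hM
    obtain ⟨x, hx, hreg⟩ := exists_regular_quot I M
    let M' := M ⧸ powTorsion I M
    have hM' : ∀ i ≤ n + 1, ∀ a ∈ I ^ k, ∀ z : _root_.LocCoh.H I i M', a • z = 0 := by
      intro i hi a ha z
      rcases i with - | i
      · haveI := (subsingleton_H0_iff (I := I) (M := M')).2 (powTorsion_quotient_eq_bot (J := I) M)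
        exact Subsingleton.elim _ _
      · obtain ⟨w, rfl⟩ := (Hmap_mkQ_bijective I M i).2 z
        rw [← map_smul, hM _ hi a ha w, map_zero]
    have hy : IsSMulRegular M' (x ^ k) := hreg.pow k
    haveI : Module.Finite R (_root_.LocCoh.H I n (QuotSMulTop (x ^ k) M')) := by
      refine ih (k + k) _ fun i hi a ha z => ?_
      rw [pow_add] at ha
      induction ha using Submodule.mul_induction_on' with
      | mem_mul_mem b hb c hc =>
        have h1 : c • connecting I (f := (x ^ k) • (LinearMap.id : M' →ₗ[R] M'))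
            (fun _ _ h => hy h) (Submodule.mkQ_surjective _) (smulTop_exact (x ^ k) M') i z = 0 :=
          hM' (i + 1) (by omega) c hc _
        rw [← map_smul] at h1
        obtain ⟨w, hw⟩ := (Hmap_connecting_exact (f := (x ^ k) • (LinearMap.id : M' →ₗ[R] M'))
          (fun _ _ h => hy h) (Submodule.mkQ_surjective _) (smulTop_exact (x ^ k) M') i _).1 h1
        rw [mul_smul, ← hw, ← map_smul, hM' i (by omega) b hb w, map_zero]
      | add b _ c _ hb hc => rw [add_smul, hb, hc, add_zero]
    have hsurj : Function.Surjective (connecting I (f := (x ^ k) • (LinearMap.id : M' →ₗ[R] M'))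
        (fun _ _ h => hy h) (Submodule.mkQ_surjective _) (smulTop_exact (x ^ k) M') n) := fun a =>
      mem_range_connecting_of_smul_eq_zero hy n a
        (hM' (n + 1) le_rfl _ (Ideal.pow_mem_pow hx k) a)
    haveI := Module.Finite.of_surjective _ hsurj
    exact Module.Finite.equiv (HquotEquiv I M n).symm

/-- A finite local cohomology module is killed by a power of the ideal. -/
theorem exists_pow_smul_H_eq_zero (I : Ideal R) (M : Type u) [AddCommGroup M] [Module R M] (i : ℕ)
    [Module.Finite R (_root_.LocCoh.H I i M)] :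
    ∃ k : ℕ, ∀ a ∈ I ^ k, ∀ z : _root_.LocCoh.H I i M, a • z = 0 := by
  obtain ⟨s, hs⟩ := Module.Finite.fg_top (R := R) (M := _root_.LocCoh.H I i M)
  choose k hk using fun z : _root_.LocCoh.H I i M => isPowerTorsion_H i z
  refine ⟨s.sup k, fun a ha z => ?_⟩
  have hz : z ∈ Submodule.span R (s : Set (_root_.LocCoh.H I i M)) := hs ▸ trivial
  induction hz using Submodule.span_induction with
  | mem z hz => exact hk z a (Ideal.pow_le_pow_right (Finset.le_sup hz) ha)
  | zero => simp
  | add z w _ _ hz hw => rw [smul_add, hz, hw, add_zero]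
  | smul r z _ hz => rw [smul_comm, hz, smul_zero]

theorem finite_H_iff_annihilated (I : Ideal R) (M : Type u) [AddCommGroup M] [Module R M]
    [Module.Finite R M] (n : ℕ) :
    (∀ i : ℕ, i ≤ n → Module.Finite R (_root_.LocCoh.H I i M)) ↔
      ∃ J : Ideal R, I ≤ J.radical ∧
        ∀ i : ℕ, i ≤ n → ∀ a ∈ J, ∀ x : _root_.LocCoh.H I i M, a • x = 0 := by
  constructor
  · intro h
    have hk : ∀ i : Fin (n + 1), ∃ k : ℕ, ∀ a ∈ I ^ k, ∀ z : _root_.LocCoh.H I i M, a • z = 0 :=
      fun i => by
        haveI := h i (Nat.le_of_lt_succ i.2)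
        exact exists_pow_smul_H_eq_zero I M i
    choose k hk using hk
    refine ⟨I ^ (Finset.univ.sup k), fun a ha => ⟨_, Ideal.pow_mem_pow ha _⟩, fun i hi a ha z => ?_⟩
    exact hk ⟨i, Nat.lt_succ_of_le hi⟩ a
      (Ideal.pow_le_pow_right (Finset.le_sup (f := k) (Finset.mem_univ _)) ha) z
  · rintro ⟨J, hIJ, hJ⟩ i hi
    obtain ⟨k, hk⟩ : ∃ k, I ^ k ≤ J := by
      obtain ⟨k, hk⟩ := J.exists_radical_pow_le_of_fg (IsNoetherian.noetherian _)
      exact ⟨k, (Ideal.pow_right_mono hIJ k).trans hk⟩
    exact finite_H_of_pow_smul_eq_zero I i k M fun j hj a ha z => hJ j (hj.trans hi) a (hk ha) z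

/-- `N` is finitely generated locally at `p`. -/
def FinAt (p : Ideal R) (N : Type u) [AddCommGroup N] [Module R N] : Prop :=
  ∃ S : Submodule R N, S.FG ∧ ∀ z : N, ∃ s ∉ p, s • z ∈ S

omit [IsNoetherianRing R] in
theorem finAt_of_finite_localized (p : Ideal R) [p.IsPrime] (N : Type u) [AddCommGroup N]
    [Module R N] [Module.Finite (Localization.AtPrime p) (LocalizedModule p.primeCompl N)] :
    FinAt p N := by
  classical
  obtain ⟨t, ht⟩ := Module.Finite.fg_top (R := Localization.AtPrime p)
    (M := LocalizedModule p.primeCompl N)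
  have hrep : ∀ w : LocalizedModule p.primeCompl N, ∃ (m : N) (s : p.primeCompl),
      LocalizedModule.mk m s = w := fun w => by
    induction w using LocalizedModule.induction_on with
    | _ m s => exact ⟨m, s, rfl⟩
  choose num den hnd using hrep
  let S : Submodule R N := Submodule.span R (t.image num : Set N)
  refine ⟨S, Submodule.fg_span (Finset.finite_toSet _), fun z => ?_⟩
  have hL : Submodule.localized p.primeCompl S = ⊤ := by
    rw [eq_top_iff, ← ht, Submodule.span_le]
    intro w hw
    exact (Submodule.mem_localized' _ _ _ _ w).2 ⟨num w,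
      Submodule.subset_span (Finset.mem_image_of_mem num hw), den w, by
        rw [← IsLocalizedModule.mk_eq_mk', hnd]⟩
  obtain ⟨m, hm, s, hs⟩ := (Submodule.mem_localized' _ _ _ _ (LocalizedModule.mk z 1)).1
    (hL.symm ▸ Submodule.mem_top : LocalizedModule.mk z 1 ∈ Submodule.localized p.primeCompl S)
  rw [← IsLocalizedModule.mk_eq_mk', LocalizedModule.mk_eq] at hs
  obtain ⟨u, hu⟩ := hs
  refine ⟨(u : R) * s, (u * s).2, ?_⟩
  simp only [one_smul, Submonoid.smul_def] at hu
  rw [mul_smul, ← hu]
  exact S.smul_mem _ hm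

theorem FinAt.of_exact {p : Ideal R} [p.IsPrime] {N₁ N₂ N₃ : Type u} [AddCommGroup N₁] [Module R N₁]
    [AddCommGroup N₂] [Module R N₂] [AddCommGroup N₃] [Module R N₃] {f : N₁ →ₗ[R] N₂}
    {g : N₂ →ₗ[R] N₃} (hfg : Function.Exact f g) (h₁ : FinAt p N₁) (h₃ : FinAt p N₃) :
    FinAt p N₂ := by
  obtain ⟨S₁, hS₁, h₁⟩ := h₁
  obtain ⟨S₃, hS₃, h₃⟩ := h₃
  obtain ⟨S₂, hS₂, hmap⟩ : ∃ S₂ : Submodule R N₂, S₂.FG ∧
      S₂.map g = S₃ ⊓ LinearMap.range g := by
    haveI : Module.Finite R S₃ := Module.Finite.iff_fg.2 hS₃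
    obtain ⟨t, ht⟩ : (S₃ ⊓ LinearMap.range g).FG := by
      have := (IsNoetherian.noetherian ((S₃ ⊓ LinearMap.range g).comap S₃.subtype)).map S₃.subtype
      rwa [Submodule.map_comap_subtype, ← inf_assoc, inf_idem] at this
    have hsub : (t : Set N₃) ⊆ g '' Set.univ := fun y hy => by
      have hy' : y ∈ S₃ ⊓ LinearMap.range g := ht ▸ Submodule.subset_span hy
      obtain ⟨v, rfl⟩ := hy'.2
      exact ⟨v, trivial, rfl⟩
    choose v hv using fun y : (t : Set N₃) => hsub y.2
    refine ⟨Submodule.span R (Set.range v), Submodule.fg_span (Set.finite_range v), ?_⟩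
    rw [Submodule.map_span, ← ht, ← Set.range_comp]
    congr 1
    ext y
    exact ⟨fun ⟨a, ha⟩ => by rw [← ha, Function.comp_apply, (hv a).2]; exact a.2,
      fun hy => ⟨⟨y, hy⟩, (hv ⟨y, hy⟩).2⟩⟩
  refine ⟨S₂ ⊔ S₁.map f, hS₂.sup (hS₁.map f), fun z => ?_⟩
  obtain ⟨s, hs, hsz⟩ := h₃ (g z)
  have hmem : g (s • z) ∈ S₂.map g := hmap ▸ ⟨by rwa [map_smul], ⟨_, rfl⟩⟩
  obtain ⟨w, hw, hwz⟩ := hmem
  obtain ⟨v, hv⟩ := (hfg (s • z - w)).1 (by rw [map_sub, hwz, sub_self])
  obtain ⟨r, hr, hrv⟩ := h₁ v
  refine ⟨r * s, fun h => (Ideal.IsPrime.mem_or_mem ‹_› h).elim hr hs, ?_⟩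
  rw [mul_smul, ← sub_add_cancel (s • z) w, smul_add, ← hv, ← map_smul]
  exact add_mem (Submodule.mem_sup_right ⟨_, hrv, rfl⟩) (Submodule.mem_sup_left (S₂.smul_mem _ hw))

/-- Finiteness is local. -/
theorem finite_H_of_finAt (I : Ideal R) : ∀ (n : ℕ) (M : Type u) [AddCommGroup M] [Module R M]
    [Module.Finite R M],
    (∀ (p : Ideal R) [p.IsPrime], ∀ i ≤ n, FinAt p (_root_.LocCoh.H I i M)) →
      Module.Finite R (_root_.LocCoh.H I n M) := by
  intro n
  induction n with
  | zero =>
    intro M _ _ _ _
    haveI : Module.Finite R (powTorsion I M) := Module.Finite.iff_fg.2 (IsNoetherian.noetherian _)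
    exact Module.Finite.equiv (H0Equiv I M).symm
  | succ n ih =>
    intro M _ _ _ hM
    obtain ⟨x, hxI, hreg⟩ := exists_regular_quot I M
    let M' := M ⧸ powTorsion I M
    let H := _root_.LocCoh.H I (n + 1) M'
    have hM' : ∀ (p : Ideal R) [p.IsPrime], ∀ i ≤ n + 1, FinAt p (_root_.LocCoh.H I i M') := by
      intro p hp i hi
      rcases i with - | i
      · haveI := (subsingleton_H0_iff (I := I) (M := M')).2 (powTorsion_quotient_eq_bot (J := I) M)
        exact ⟨⊥, Submodule.fg_bot, fun z => ⟨1, p.one_notMem, by simp [Subsingleton.elim z 0]⟩⟩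
      · obtain ⟨S, hS, h⟩ := hM p (i + 1) hi
        refine ⟨S.map (Hmap I (i + 1) (powTorsion I M).mkQ), hS.map _, fun z => ?_⟩
        obtain ⟨w, rfl⟩ := (Hmap_mkQ_bijective I M i).2 z
        obtain ⟨s, hs, hsw⟩ := h w
        exact ⟨s, hs, _, hsw, map_smul _ _ _⟩
    let N : ℕ → Submodule R H := fun j => LinearMap.ker ((x ^ j) • (LinearMap.id : H →ₗ[R] H))
    have hmemN : ∀ (j : ℕ) (z : H), z ∈ N j ↔ x ^ j • z = 0 := fun j z => Iff.rfl
    have hmono : ∀ {i j : ℕ}, i ≤ j → N i ≤ N j := fun {i j} h z hz => by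
      rw [hmemN] at hz ⊢
      rw [← Nat.sub_add_cancel h, pow_add, mul_smul, hz, smul_zero]
    have hfg : ∀ j, (N j).FG := fun j => by
      have hy : IsSMulRegular M' (x ^ j) := hreg.pow j
      haveI : Module.Finite R (_root_.LocCoh.H I n (QuotSMulTop (x ^ j) M')) := by
        refine ih _ fun p hp i hi => ?_
        exact FinAt.of_exact (Hmap_connecting_exact (f := (x ^ j) • (LinearMap.id : M' →ₗ[R] M'))
            (fun _ _ h => hy h) (Submodule.mkQ_surjective _) (smulTop_exact (x ^ j) M') i)
          (hM' p i (by omega))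
          (hM' p (i + 1) (by omega))
      haveI : Module.Finite R (LinearMap.range (connecting I
          (f := (x ^ j) • (LinearMap.id : M' →ₗ[R] M')) (fun _ _ h => hy h)
          (Submodule.mkQ_surjective _) (smulTop_exact (x ^ j) M') n)) := Module.Finite.range _
      haveI : IsNoetherian R (LinearMap.range (connecting I
          (f := (x ^ j) • (LinearMap.id : M' →ₗ[R] M')) (fun _ _ h => hy h)
          (Submodule.mkQ_surjective _) (smulTop_exact (x ^ j) M') n)) := inferInstance
      haveI : IsNoetherian R (N j) :=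
        isNoetherian_of_le fun z hz => mem_range_connecting_of_smul_eq_zero hy n z hz
      exact (Module.Finite.iff_fg).1 inferInstance
    obtain ⟨j₀, hj₀⟩ := monotone_stabilizes_iff_noetherian.2 (inferInstance : IsNoetherian R R)
      ⟨fun j => (N j).colon (N (j + 1) : Set H), monotone_nat_of_le_succ fun j a ha => by
        rw [Submodule.mem_colon] at ha ⊢
        intro z hz
        have h1 : x • z ∈ N (j + 1) := by
          rw [SetLike.mem_coe, hmemN] at hz
          rw [hmemN, ← mul_smul, ← pow_succ, hz]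
        have h2 := ha _ h1
        rw [hmemN] at h2 ⊢
        rw [pow_succ, mul_smul, smul_comm x a z, h2]⟩
    have htop : (N j₀).colon (N (j₀ + 1) : Set H) = ⊤ := by
      by_contra hne
      obtain ⟨p, hp, hle⟩ := Ideal.exists_le_maximal _ hne
      haveI := hp.isPrime
      obtain ⟨S, hS, h⟩ := hM' p (n + 1) le_rfl
      obtain ⟨t, ht⟩ := hS
      choose e he using fun z : H => isPowerTorsion_H (n + 1) z
      let J := t.sup e + j₀
      have hSJ : S ≤ N J := by
        rw [← ht, Submodule.span_le]
        intro z hz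
        rw [SetLike.mem_coe, hmemN]
        exact he z _ (Ideal.pow_le_pow_right ((Finset.le_sup hz).trans (Nat.le_add_right _ _))
          (Ideal.pow_mem_pow hxI _))
      obtain ⟨t₂, ht₂⟩ := hfg (J + 1)
      choose s hs hsz using h
      have hprod : ∏ z ∈ t₂, s z ∈ (N J).colon (N (J + 1) : Set H) := by
        rw [Submodule.mem_colon]
        intro z hz
        rw [SetLike.mem_coe, ← ht₂] at hz
        induction hz using Submodule.span_induction with
        | mem z hz =>
          classical
          rw [← Finset.prod_erase_mul _ _ hz, mul_smul]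
          exact (N J).smul_mem _ (hSJ (hsz z))
        | zero => simp
        | add z w _ _ hz hw => rw [smul_add]; exact add_mem hz hw
        | smul r z _ hz => rw [smul_comm]; exact (N J).smul_mem r hz
      have hJ : (N j₀).colon (N (j₀ + 1) : Set H) = (N J).colon (N (J + 1) : Set H) :=
        hj₀ J (Nat.le_add_left _ _)
      have : ∏ z ∈ t₂, s z ∈ p := hle (hJ ▸ hprod)
      obtain ⟨z, _, hz⟩ := (hp.isPrime.prod_mem_iff).1 this
      exact hs z hz
    have hall : ∀ j, N j ≤ N j₀ := fun j => by
      induction j with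
      | zero => exact hmono (Nat.zero_le _)
      | succ j ihj =>
        rcases Nat.lt_or_ge j j₀ with h | h
        · exact hmono h
        · intro z hz
          have h1 : (1 : R) ∈ (N j).colon (N (j + 1) : Set H) := by
            have := hj₀ j h
            rw [show (N j).colon (N (j + 1) : Set H) = (N j₀).colon (N (j₀ + 1) : Set H) from this.symm,
              htop]
            trivial
          exact ihj (by simpa using (Submodule.mem_colon.1 h1) z hz)
    haveI : Module.Finite R H := by
      refine Module.finite_def.2 ?_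
      have : (⊤ : Submodule R H) = N j₀ := (eq_top_iff.2 fun z _ => by
        obtain ⟨e, he⟩ := isPowerTorsion_H (n + 1) z
        exact hall e (he _ (Ideal.pow_mem_pow hxI e))).symm
      rw [this]
      exact hfg j₀
    exact Module.Finite.equiv (HquotEquiv I M n).symm

end Groth.Agent.LocCoh
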