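import Groth.Agent.LocCoh.CanonicalCM

/-!
Regular sequences on canonical modules of Cohen–Macaulay local rings and their endomorphisms.
-/

set_option autoImplicit false

universe u

open CategoryTheory CategoryTheory.Abelian IsLocalRing RingTheory.Sequence
open scoped Pointwise

namespace Groth.Agent.LocCoh

variable {R : Type u} [CommRing R] [IsNoetherianRing R] [IsLocalRing R]

local notation "CMMod" => _root_.LocCoh.IsCohenMacaulayModule R

/-- Regular sequences only depend on the support, for Cohen–Macaulay modules. -/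
theorem isWeaklyRegular_of_support_eq : ∀ (as : List R) (M N : Type u) [AddCommGroup M] [Module R M]
    [Module.Finite R M] [AddCommGroup N] [Module R N] [Module.Finite R N],
    CMMod M → CMMod N → Module.support R M = Module.support R N → (∀ a ∈ as, a ∈ maximalIdeal R) →
    IsWeaklyRegular N as → IsWeaklyRegular M as := by
  intro as
  induction as with
  | nil => intros; exact IsWeaklyRegular.nil _ _
  | cons a as ih =>
    intro M N _ _ _ _ _ _ hM hN hsupp hmem hreg
    haveI := CAlgH3.nontrivial_of_cm hN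
    have ha := hmem a List.mem_cons_self
    rw [isWeaklyRegular_cons_iff] at hreg ⊢
    have hdim : Module.supportDim R M = Module.supportDim R N := by
      rw [Module.supportDim, Module.supportDim, hsupp]
    have hsupp' : Module.support R (QuotSMulTop a M) = Module.support R (QuotSMulTop a N) := by
      rw [Module.support_quotSMulTop, Module.support_quotSMulTop, hsupp]
    have hregM : IsSMulRegular M a := by
      refine CAlgH3.isSMulRegular_of_supportDim_quot hM ?_
      rw [show Module.supportDim R (QuotSMulTop a M) = Module.supportDim R (QuotSMulTop a N) by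
        rw [Module.supportDim, Module.supportDim, hsupp'], hdim,
        Module.supportDim_quotSMulTop_succ_eq_supportDim hreg.1 ha]
    exact ⟨hregM, ih (QuotSMulTop a M) (QuotSMulTop a N)
      ((CAlgH3.isCohenMacaulayModule_quotSMulTop_iff ha hregM).2 hM)
      ((CAlgH3.isCohenMacaulayModule_quotSMulTop_iff ha hreg.1).2 hN) hsupp'
      (fun x hx => hmem x (List.mem_cons_of_mem _ hx)) hreg.2⟩

variable {E : Type u} [AddCommGroup E] [Module R E]

/-- The dual of `N/aN` is the `a`-torsion of the dual. -/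
noncomputable def dualQuotEquiv {N : Type u} [AddCommGroup N] [Module R N] {H : Type u} [AddCommGroup H]
    [Module R H] (e : (N →ₗ[R] E) ≃ₗ[R] H) (a : R) :
    (QuotSMulTop a N →ₗ[R] E) ≃ₗ[R] LinearMap.ker (a • (LinearMap.id : H →ₗ[R] H)) :=
  { toFun := fun χ => ⟨e (χ.comp (Submodule.mkQ _)), LinearMap.mem_ker.2 (by
      rw [LinearMap.smul_apply, LinearMap.id_apply, ← map_smul]
      convert map_zero e
      ext x
      rw [LinearMap.smul_apply, LinearMap.comp_apply, ← map_smul, ← map_smul, Submodule.mkQ_apply,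
        (Submodule.Quotient.mk_eq_zero _).2 (Submodule.smul_mem_pointwise_smul x a ⊤ trivial), map_zero]
      rfl)⟩
    map_add' := fun χ χ' => Subtype.ext (map_add e (χ.comp (Submodule.mkQ _)) (χ'.comp (Submodule.mkQ _)))
    map_smul' := fun c χ => Subtype.ext (map_smul e c (χ.comp (Submodule.mkQ _)))
    invFun := fun h => Submodule.liftQ _ (e.symm h.1) (fun x hx => by
      obtain ⟨y, -, rfl⟩ := hx
      rw [LinearMap.mem_ker]
      show e.symm h.1 (a • y) = 0
      rw [map_smul, ← LinearMap.smul_apply, ← map_smul,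
        show a • h.1 = 0 from LinearMap.mem_ker.1 h.2, map_zero]
      rfl)
    left_inv := fun χ => Submodule.linearMap_qext _ (by simp)
    right_inv := fun h => Subtype.ext (by simp) }

omit [IsLocalRing R] [IsNoetherianRing R] in
theorem quot_ideal_cons_equiv (a : R) (as : List R) (J : Ideal R) :
    Nonempty ((R ⧸ (J ⊔ Ideal.ofList (a :: as))) ≃ₗ[R] R ⧸ (J ⊔ Ideal.span {a} ⊔ Ideal.ofList as)) :=
  ⟨Submodule.quotEquivOfEq _ _ (by rw [Ideal.ofList_cons, sup_assoc])⟩

variable (hE : Matlis6.IsHullAt (maximalIdeal R) E)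

include hE in
theorem regular_dual_descent : ∀ (as : List R) (J : Ideal R) (d : ℕ) (N : Type u) [AddCommGroup N] [Module R N],
    _root_.LocCoh.IsCohenMacaulayModule R (R ⧸ J) → Module.supportDim R (R ⧸ J) = d →
    (∀ a ∈ as, a ∈ maximalIdeal R) → IsWeaklyRegular (R ⧸ J) as →
    Nonempty ((N →ₗ[R] E) ≃ₗ[R] _root_.LocCoh.H (maximalIdeal R) d (R ⧸ J)) →
    IsWeaklyRegular N as ∧ as.length ≤ d ∧
      Nonempty (((N ⧸ (Ideal.ofList as • (⊤ : Submodule R N))) →ₗ[R] E) ≃ₗ[R]
        _root_.LocCoh.H (maximalIdeal R) (d - as.length) (R ⧸ (J ⊔ Ideal.ofList as))) := by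
  intro as
  induction as with
  | nil =>
    intro J d N _ _ _ _ _ _ he
    obtain ⟨e⟩ := he
    have hbot : Ideal.ofList ([] : List R) • (⊤ : Submodule R N) = ⊥ := by
      rw [Ideal.ofList_nil, Submodule.bot_smul]
    refine ⟨IsWeaklyRegular.nil _ _, Nat.zero_le _, ⟨(((Submodule.quotEquivOfEqBot _ hbot).congrLeft E R)).trans
      (e.trans (Hequiv _ d (Submodule.quotEquivOfEq J (J ⊔ Ideal.ofList ([] : List R))
        (by rw [Ideal.ofList_nil, sup_bot_eq]))))⟩⟩
  | cons a as ih =>
    intro J d N _ _ hcm hd hmem hreg he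
    obtain ⟨e⟩ := he
    rw [isWeaklyRegular_cons_iff] at hreg
    have ha := hmem a List.mem_cons_self
    haveI := CAlgH3.nontrivial_of_cm hcm
    -- the quotient
    let q : QuotSMulTop a (R ⧸ J) ≃ₗ[R] R ⧸ (J ⊔ Ideal.span {a}) :=
      LinearEquiv.ofBijective (Submodule.liftQ _ (Submodule.mapQ J (J ⊔ Ideal.span {a}) LinearMap.id le_sup_left)
        (fun z hz => by
          obtain ⟨w, -, rfl⟩ := hz
          obtain ⟨r, rfl⟩ := Submodule.Quotient.mk_surjective _ w
          rw [LinearMap.mem_ker]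
          show Submodule.mapQ J _ LinearMap.id le_sup_left (a • Submodule.Quotient.mk r) = 0
          rw [map_smul, Submodule.mapQ_apply, LinearMap.id_apply, ← Submodule.Quotient.mk_smul,
            Submodule.Quotient.mk_eq_zero, smul_eq_mul]
          exact Submodule.mem_sup_right (Ideal.mul_mem_right _ _ (Ideal.mem_span_singleton_self a))))
        ⟨(injective_iff_map_eq_zero _).2 fun z hz => by
          obtain ⟨w, rfl⟩ := Submodule.Quotient.mk_surjective _ z
          obtain ⟨r, rfl⟩ := Submodule.Quotient.mk_surjective _ w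
          rw [Submodule.liftQ_apply, Submodule.mapQ_apply, LinearMap.id_apply, Submodule.Quotient.mk_eq_zero] at hz
          obtain ⟨j, hj, b, hb, rfl⟩ := Submodule.mem_sup.1 hz
          obtain ⟨c, rfl⟩ := Ideal.mem_span_singleton'.1 hb
          rw [Submodule.Quotient.mk_eq_zero, Submodule.Quotient.mk_add, (Submodule.Quotient.mk_eq_zero J).2 hj,
            zero_add, show c * a = a • c by rw [smul_eq_mul, mul_comm], Submodule.Quotient.mk_smul]
          exact Submodule.smul_mem_pointwise_smul _ a ⊤ trivial,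
        fun z => by
          obtain ⟨r, rfl⟩ := Submodule.Quotient.mk_surjective _ z
          exact ⟨Submodule.Quotient.mk (Submodule.Quotient.mk r), rfl⟩⟩
    have hsucc := Module.supportDim_quotSMulTop_succ_eq_supportDim hreg.1 ha
    rw [Module.supportDim_eq_of_equiv q, hd] at hsucc
    haveI : Nontrivial (R ⧸ (J ⊔ Ideal.span {a})) :=
      haveI := CAlgH3.nontrivial_quotSMulTop (M := R ⧸ J) ha
      q.symm.toEquiv.nontrivial
    obtain ⟨d', hd'⟩ := exists_supportDim_eq (R := R) (R ⧸ (J ⊔ Ideal.span {a}))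
    rw [hd'] at hsucc
    have hdd : d' + 1 = d := by exact_mod_cast hsucc
    subst hdd
    have hcm' : _root_.LocCoh.IsCohenMacaulayModule R (R ⧸ (J ⊔ Ideal.span {a})) :=
      (CAlgH3.isCohenMacaulayModule_congr q).1 ((CAlgH3.isCohenMacaulayModule_quotSMulTop_iff ha hreg.1).2 hcm)
    -- the sequence `0 → R/J → R/J → R/(J + a) → 0`
    let H := _root_.LocCoh.H (maximalIdeal R) (d' + 1) (R ⧸ J)
    let g : (R ⧸ J) →ₗ[R] R ⧸ (J ⊔ Ideal.span {a}) := q.toLinearMap.comp (Submodule.mkQ _)
    have hgsurj : Function.Surjective g := q.surjective.comp (Submodule.mkQ_surjective _)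
    have hexact : Function.Exact (a • LinearMap.id : (R ⧸ J) →ₗ[R] R ⧸ J) g := by
      intro t
      show q (Submodule.Quotient.mk t) = 0 ↔ _
      rw [LinearEquiv.map_eq_zero_iff, Submodule.Quotient.mk_eq_zero]
      exact ⟨fun ⟨w, _, hw⟩ => ⟨w, hw⟩, fun ⟨w, hw⟩ => ⟨w, trivial, hw⟩⟩
    have hinj : Function.Injective (a • LinearMap.id : (R ⧸ J) →ₗ[R] R ⧸ J) := fun x y hxy => hreg.1 hxy
    let δ := connecting (maximalIdeal R) hinj hgsurj hexact d'
    have hδinj : Function.Injective δ := by
      refine (injective_iff_map_eq_zero _).2 fun z hz => ?_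
      obtain ⟨w, rfl⟩ := (Hmap_connecting_exact hinj hgsurj hexact d' z).1 hz
      haveI : Subsingleton (_root_.LocCoh.H (maximalIdeal R) d' (R ⧸ J)) := by
        refine (natCast_le_idealDepth_iff_H (maximalIdeal R) (R ⧸ J) (d' + 1)).1 ?_ d' (Nat.lt_succ_self d')
        have h1 : Module.supportDim R (R ⧸ J) = _ := hcm
        rw [hd] at h1
        exact (WithBot.coe_inj.1 h1).le
      rw [Subsingleton.elim w 0, map_zero]
    have hmapsmul : Hmap (maximalIdeal R) (d' + 1) (a • LinearMap.id : (R ⧸ J) →ₗ[R] R ⧸ J) =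
        a • LinearMap.id := by rw [Hmap_smul, Hmap_id]
    have hexδ : Function.Exact δ (a • LinearMap.id : H →ₗ[R] H) := by
      have h1 := connecting_Hmap_exact hinj hgsurj hexact (I := maximalIdeal R) d'
      rwa [hmapsmul] at h1
    have e' : (QuotSMulTop a N →ₗ[R] E) ≃ₗ[R]
        _root_.LocCoh.H (maximalIdeal R) d' (R ⧸ (J ⊔ Ideal.span {a})) :=
      (dualQuotEquiv e a).trans (equivOfRangeEqKer δ hδinj _ hexδ).symm
    have hsurjH : Function.Surjective (fun z : H => a • z) := by
      intro z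
      haveI : Subsingleton (_root_.LocCoh.H (maximalIdeal R) (d' + 1) (R ⧸ (J ⊔ Ideal.span {a}))) :=
        subsingleton_H_of_supportDim_lt (hd'.le.trans_lt (by exact_mod_cast Nat.lt_succ_self d'))
      obtain ⟨w, hw⟩ := (Hmap_exact hinj hgsurj hexact (I := maximalIdeal R) (d' + 1) z).1 (Subsingleton.elim _ _)
      rw [hmapsmul] at hw
      exact ⟨w, hw⟩
    have hregN : IsSMulRegular N a := isSMulRegular_of_dual_surjective hE a fun φ => by
      obtain ⟨z, hz⟩ := hsurjH (e φ)
      exact ⟨e.symm z, e.injective (by rw [map_smul, e.apply_symm_apply]; exact hz)⟩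
    have hreg' : IsWeaklyRegular (R ⧸ (J ⊔ Ideal.span {a})) as := (q.isWeaklyRegular_congr as).1 hreg.2
    obtain ⟨hrest, hlen, ⟨eq⟩⟩ := ih (J ⊔ Ideal.span {a}) d' (QuotSMulTop a N) hcm' hd'
      (fun x hx => hmem x (List.mem_cons_of_mem _ hx)) hreg' ⟨e'⟩
    refine ⟨(isWeaklyRegular_cons_iff _ _ _).2 ⟨hregN, hrest⟩, by rw [List.length_cons]; omega, ?_⟩
    rw [List.length_cons, show d' + 1 - (as.length + 1) = d' - as.length by omega]
    obtain ⟨eJ⟩ := quot_ideal_cons_equiv a as J
    exact ⟨(((Submodule.quotOfListConsSMulTopEquivQuotSMulTopInner N a as).congrLeft E R)).trans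
      (eq.trans (Hequiv _ _ eJ.symm))⟩

variable [_root_.LocCoh.IsCohenMacaulayLocalRing R] {n : ℕ} (hn : ringKrullDim R = n)
  {K : Type u} [AddCommGroup K] [Module R K] [Module.Finite R K]
  (eK : (K →ₗ[R] E) ≃ₗ[R] _root_.LocCoh.H (maximalIdeal R) n R)

theorem cm_self : _root_.LocCoh.IsCohenMacaulayModule R R :=
  (CAlgH3.isCohenMacaulayLocalRing_iff R).1 inferInstance

include hE hn eK in
theorem support_canonical : Module.support R K = Module.support R R := by
  refine Set.Subset.antisymm (fun p _ => CAlgH3.mem_support_self p) fun p _ => ?_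
  rw [Module.support_eq_zeroLocus, PrimeSpectrum.mem_zeroLocus]
  intro r hr
  obtain ⟨q, hq, hle⟩ := Ideal.exists_minimalPrimes_le (bot_le : ⊥ ≤ p.asIdeal)
  haveI := hq.1.1
  have hass : q ∈ associatedPrimes R R := by
    refine Module.associatedPrimes.minimalPrimes_annihilator_subset_associatedPrimes R R ?_
    rwa [Module.annihilator_eq_bot.2 inferInstance]
  have hdim : ringKrullDim (R ⧸ q) = n := by
    have := CAlgH3.ringKrullDim_quotient_eq_of_mem_associatedPrimes (cm_self (R := R)) hass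
    rw [this, Module.supportDim_self_eq_ringKrullDim, hn]
  have hqK : q ∈ associatedPrimes R K := by
    rw [associatedPrimes_canonical hn hE eK]
    exact ⟨inferInstance, hdim⟩
  exact hle (IsAssociatedPrime.annihilator_le hqK (Submodule.annihilator_top (R := R) (M := K) ▸ hr))

include hE hn eK in
theorem isRegular_iff_canonical (as : List R) (has : ∀ a ∈ as, a ∈ maximalIdeal R) :
    (IsRegular R as ↔ IsRegular K as) ∧ (IsRegular R as →
      Nonempty (((K ⧸ (Ideal.ofList as • (⊤ : Submodule R K))) →ₗ[R] E) ≃ₗ[R]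
        _root_.LocCoh.H (maximalIdeal R) (n - as.length) (R ⧸ Ideal.ofList as))) := by
  obtain ⟨-, -, hcmK, hdimK⟩ := canonical_structure hn hE eK
  haveI := CAlgH3.nontrivial_of_cm hcmK
  have hne : ∀ (X : Type u) [AddCommGroup X] [Module R X] [Module.Finite R X] [Nontrivial X],
      (⊤ : Submodule R X) ≠ Ideal.ofList as • ⊤ := fun X _ _ _ _ =>
    Submodule.top_ne_ideal_smul_of_le_jacobson_annihilator
      ((Ideal.span_le.2 has).trans (IsLocalRing.maximalIdeal_le_jacobson _))
  have hdesc : IsWeaklyRegular R as → IsWeaklyRegular K as ∧ as.length ≤ n ∧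
      Nonempty (((K ⧸ (Ideal.ofList as • (⊤ : Submodule R K))) →ₗ[R] E) ≃ₗ[R]
        _root_.LocCoh.H (maximalIdeal R) (n - as.length) (R ⧸ ((⊥ : Ideal R) ⊔ Ideal.ofList as))) := by
    intro h
    have q0 : (R ⧸ (⊥ : Ideal R)) ≃ₗ[R] R := Submodule.quotEquivOfEqBot _ rfl
    refine regular_dual_descent hE as ⊥ n K ((CAlgH3.isCohenMacaulayModule_congr q0).2 cm_self) ?_ has
      ((q0.isWeaklyRegular_congr as).2 h) ⟨eK.trans (Hequiv _ n q0.symm)⟩
    rw [Module.supportDim_eq_of_equiv q0, Module.supportDim_self_eq_ringKrullDim, hn]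
  refine ⟨⟨fun h => ⟨(hdesc h.toIsWeaklyRegular).1, hne K⟩, fun h => ⟨?_, hne R⟩⟩, fun h => ?_⟩
  · exact isWeaklyRegular_of_support_eq as R K cm_self hcmK (support_canonical hE hn eK).symm has
      h.toIsWeaklyRegular
  · obtain ⟨e⟩ := (hdesc h.toIsWeaklyRegular).2.2
    rw [bot_sup_eq] at e
    exact ⟨e⟩

include hE hn eK in
theorem subsingleton_ext_canonical_self (i : ℕ) (hi : 1 ≤ i) (hin : i ≤ n) :
    Subsingleton (Ext (ModuleCat.of R K) (ModuleCat.of R K) i) := by
  obtain ⟨-, -, hcmK, hdimK⟩ := canonical_structure hn hE eK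
  obtain ⟨d⟩ := canonical_duality hn hE eK i (n - i) (by omega) K
  haveI : Subsingleton (_root_.LocCoh.H (maximalIdeal R) (n - i) K) := by
    refine (natCast_le_idealDepth_iff_H (maximalIdeal R) K n).1 ?_ (n - i) (by omega)
    have h1 : Module.supportDim R K = _ := hcmK
    rw [hdimK] at h1
    exact (WithBot.coe_inj.1 h1).le
  exact subsingleton_of_dual_subsingleton hE _ d.symm.toEquiv.subsingleton

/-- `Hom(K, -)` of `0 → T → T → T/xT → 0`, when `Ext^1(K, T) = 0`. -/
theorem hom_quot_surjective {X T : Type u} [AddCommGroup X] [Module R X] [AddCommGroup T] [Module R T] {x : R}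
    (hx : IsSMulRegular T x) (h1 : Subsingleton (Ext (ModuleCat.of R X) (ModuleCat.of R T) 1))
    (ψ : X →ₗ[R] QuotSMulTop x T) : ∃ g : X →ₗ[R] T, ∀ z, ψ z = Submodule.Quotient.mk (g z) := by
  have hexact : Function.Exact (x • LinearMap.id : T →ₗ[R] T) (Submodule.mkQ (x • (⊤ : Submodule R T))) := by
    intro t
    rw [Submodule.mkQ_apply, Submodule.Quotient.mk_eq_zero]
    exact ⟨fun ⟨w, _, hw⟩ => ⟨w, hw⟩, fun ⟨w, hw⟩ => ⟨w, trivial, hw⟩⟩
  have hxi : Function.Injective (x • LinearMap.id : T →ₗ[R] T) := fun a b hab => hx hab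
  have hS := shortExact_of hxi (Submodule.mkQ_surjective _) hexact
  obtain ⟨y, hy⟩ := Ext.covariant_sequence_exact₃ (ModuleCat.of R X) hS (Ext.mk₀ (ModuleCat.ofHom ψ))
    (show 0 + 1 = 1 from rfl) (Subsingleton.elim _ _)
  obtain ⟨g, rfl⟩ := Ext.mk₀_bijective _ _ |>.2 y
  rw [Ext.mk₀_comp_mk₀] at hy
  exact ⟨g.hom, fun z => (LinearMap.congr_fun (congrArg ModuleCat.Hom.hom ((Ext.mk₀_bijective _ _).1 hy)) z).symm⟩

theorem exists_eq_smul_of_mem_smul_top {X T : Type u} [AddCommGroup X] [Module R X] [AddCommGroup T] [Module R T]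
    {x : R} (hx : IsSMulRegular T x) (g : X →ₗ[R] T) :
    (∀ z, g z ∈ x • (⊤ : Submodule R T)) ↔ ∃ g' : X →ₗ[R] T, g = x • g' := by
  constructor
  · intro h
    choose w _ hw using h
    refine ⟨{ toFun := w, map_add' := fun a b => hx ?_, map_smul' := fun c a => hx ?_ },
      LinearMap.ext fun z => (hw z).symm⟩
    · show x • w (a + b) = x • (w a + w b)
      rw [smul_add]
      exact (hw _).trans ((map_add g a b).trans (congrArg₂ (· + ·) (hw a).symm (hw b).symm))
    · show x • w (c • a) = x • (c • w a)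
      rw [smul_comm]
      exact (hw _).trans ((map_smul g c a).trans (congrArg (c • ·) (hw a).symm))
  · rintro ⟨g', rfl⟩ z
    exact Submodule.smul_mem_pointwise_smul (g' z) x ⊤ trivial

/-- Iterating: maps `X → T/(xs)T` lift, and maps into `(xs) T` lie in `(xs) Hom(X,T)`. -/
theorem hom_quot_regular : ∀ (xs : List R) (X T : Type u) [AddCommGroup X] [Module R X] [AddCommGroup T]
    [Module R T], IsWeaklyRegular T xs →
    (∀ i, 1 ≤ i → i ≤ xs.length → Subsingleton (Ext (ModuleCat.of R X) (ModuleCat.of R T) i)) →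
    (∀ ψ : X →ₗ[R] T ⧸ (Ideal.ofList xs • (⊤ : Submodule R T)),
      ∃ g : X →ₗ[R] T, ∀ z, ψ z = Submodule.Quotient.mk (g z)) ∧
    (∀ g : X →ₗ[R] T, (∀ z, g z ∈ Ideal.ofList xs • (⊤ : Submodule R T)) →
      g ∈ Ideal.ofList xs • (⊤ : Submodule R (X →ₗ[R] T))) := by
  intro xs
  induction xs with
  | nil =>
    intro X T _ _ _ _ _ _
    have hbot : Ideal.ofList ([] : List R) • (⊤ : Submodule R T) = ⊥ := by
      rw [Ideal.ofList_nil, Submodule.bot_smul]
    refine ⟨fun ψ => ⟨(Submodule.quotEquivOfEqBot _ hbot).toLinearMap.comp ψ, fun z =>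
      (Submodule.quotEquivOfEqBot _ hbot).injective (by simp)⟩, fun g hg => ?_⟩
    rw [show g = 0 from LinearMap.ext fun z => (Submodule.mem_bot R).1 (hbot ▸ hg z)]
    exact zero_mem _
  | cons x xs ih =>
    intro X T _ _ _ _ hreg hext
    rw [isWeaklyRegular_cons_iff] at hreg
    rw [List.length_cons] at hext
    have hexact : Function.Exact (x • LinearMap.id : T →ₗ[R] T) (Submodule.mkQ (x • (⊤ : Submodule R T))) := by
      intro t
      rw [Submodule.mkQ_apply, Submodule.Quotient.mk_eq_zero]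
      exact ⟨fun ⟨w, _, hw⟩ => ⟨w, hw⟩, fun ⟨w, hw⟩ => ⟨w, trivial, hw⟩⟩
    have hxi : Function.Injective (x • LinearMap.id : T →ₗ[R] T) := fun a b hab => hreg.1 hab
    have hS := shortExact_of hxi (Submodule.mkQ_surjective _) hexact
    have hext' : ∀ i, 1 ≤ i → i ≤ xs.length →
        Subsingleton (Ext (ModuleCat.of R X) (ModuleCat.of R (QuotSMulTop x T)) i) := fun i h1 h2 => by
      refine subsingleton_of_forall_eq 0 fun z => ?_
      haveI := hext (i + 1) (by omega) (by omega)
      haveI := hext i h1 (by omega)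
      obtain ⟨y, rfl⟩ := Ext.covariant_sequence_exact₃ (ModuleCat.of R X) hS z (rfl : i + 1 = i + 1)
        (Subsingleton.elim _ _)
      rw [Subsingleton.elim y 0, Ext.zero_comp]
    obtain ⟨hlift, hker⟩ := ih X (QuotSMulTop x T) hreg.2 hext'
    let q := Submodule.quotOfListConsSMulTopEquivQuotSMulTopInner T x xs
    refine ⟨fun ψ => ?_, fun g hg => ?_⟩
    · obtain ⟨g1, hg1⟩ := hlift (q.toLinearMap.comp ψ)
      obtain ⟨g, hg⟩ := hom_quot_surjective hreg.1 (hext 1 le_rfl (by omega)) g1
      exact ⟨g, fun z => q.injective (by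
        have := hg1 z
        rw [LinearMap.comp_apply, hg z] at this
        exact this)⟩
    · have h1 := hker ((Submodule.mkQ _).comp g) (fun z => by
        have h2 : q (Submodule.Quotient.mk (g z)) = 0 := by
          rw [(Submodule.Quotient.mk_eq_zero _).2 (hg z), map_zero]
        exact (Submodule.Quotient.mk_eq_zero _).1 h2)
      have h3 : ∀ G ∈ Ideal.ofList xs • (⊤ : Submodule R (X →ₗ[R] QuotSMulTop x T)),
          ∃ g' ∈ Ideal.ofList xs • (⊤ : Submodule R (X →ₗ[R] T)), G = (Submodule.mkQ _).comp g' := by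
        intro G hG
        refine Submodule.smul_induction_on hG (fun r hr G _ => ?_) (fun G G' h h' => ?_)
        · obtain ⟨g0, hg0⟩ := hom_quot_surjective hreg.1 (hext 1 le_rfl (by omega)) G
          exact ⟨r • g0, Submodule.smul_mem_smul hr trivial, LinearMap.ext fun z => by
            rw [LinearMap.smul_apply, hg0]; rfl⟩
        · obtain ⟨a, ha, rfl⟩ := h
          obtain ⟨b, hb, rfl⟩ := h'
          exact ⟨a + b, add_mem ha hb, (LinearMap.comp_add _ _ _).symm⟩
      obtain ⟨g', hg', hgg'⟩ := h3 _ h1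
      obtain ⟨g'', hg''⟩ := (exists_eq_smul_of_mem_smul_top hreg.1 (g - g')).1 fun z => by
        rw [← Submodule.Quotient.mk_eq_zero, LinearMap.sub_apply, Submodule.Quotient.mk_sub, sub_eq_zero]
        exact LinearMap.congr_fun hgg' z
      rw [show g = g' + x • g'' by rw [← hg'', add_sub_cancel]]
      refine add_mem (Submodule.smul_mono_left ?_ hg') (Submodule.smul_mem_smul ?_ trivial)
      · rw [Ideal.ofList_cons]; exact le_sup_right
      · exact Ideal.subset_span List.mem_cons_self

include hE hn eK in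
theorem toEnd_canonical_bijective :
    Function.Bijective (fun r : R => r • (LinearMap.id : K →ₗ[R] K)) := by
  constructor
  · intro r s hrs
    have hkill : ∀ h : _root_.LocCoh.H (maximalIdeal R) n R, (r - s) • h = 0 := fun h => by
      rw [← eK.apply_symm_apply h, ← map_smul, show (r - s) • eK.symm h = 0 from LinearMap.ext fun k => by
        have h1 : r • k = s • k := LinearMap.congr_fun hrs k
        rw [LinearMap.smul_apply, ← map_smul, sub_smul, h1, sub_self, map_zero]; rfl, map_zero]
    have hinf : r - s ∈ ⨅ t, maximalIdeal R ^ t • (⊤ : Submodule R R) := by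
      rw [Submodule.mem_iInf]
      intro t
      obtain ⟨xs, hlen, hmem, hreg, hrad⟩ := exists_parameters_in_pow hn (t + 1)
      obtain ⟨eq⟩ := nonempty_quotient_equiv_torsionBy_H (maximalIdeal R) xs R
        (fun x hx => Ideal.pow_le_self (by omega) (hmem x hx)) hreg.toIsWeaklyRegular
        (hrad.trans (Ideal.radical_mono le_sup_left))
      have h2 : (r - s) • eq (Submodule.Quotient.mk 1) = 0 := Subtype.ext (by
        have := hkill (hlen ▸ (eq (Submodule.Quotient.mk 1)).1)
        subst hlen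
        exact this)
      rw [← map_smul, LinearEquiv.map_eq_zero_iff, ← Submodule.Quotient.mk_smul,
        Submodule.Quotient.mk_eq_zero, show (r - s) • (1 : R) = r - s from mul_one _] at h2
      refine Submodule.smul_mono_left ?_ h2
      exact Ideal.span_le.2 fun x hx => Ideal.pow_le_pow_right t.le_succ (hmem x hx)
    rw [Ideal.iInf_pow_smul_eq_bot_of_le_jacobson _ (IsLocalRing.maximalIdeal_le_jacobson _)] at hinf
    exact sub_eq_zero.1 hinf
  · intro g
    obtain ⟨xs, hlen, hmem, hreg, hrad⟩ := exists_parameters_in_pow hn 1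
    have hmem' : ∀ x ∈ xs, x ∈ maximalIdeal R := fun x hx => by simpa using hmem x hx
    obtain ⟨hiff, hdual⟩ := isRegular_iff_canonical hE hn eK xs hmem'
    obtain ⟨eD⟩ := hdual hreg
    rw [hlen, Nat.sub_self] at eD
    set J := Ideal.ofList xs
    -- `Hom(K/JK, E)` is cyclic
    have hcyc : ∃ χ0 : (K ⧸ (J • (⊤ : Submodule R K))) →ₗ[R] E, ∀ χ, ∃ r : R, χ = r • χ0 := by
      have htor : powTorsion (maximalIdeal R) (R ⧸ J) = ⊤ := by
        refine eq_top_iff.2 fun z _ => ?_
        obtain ⟨t, ht⟩ := Ideal.exists_pow_le_of_le_radical_of_fg hrad (IsNoetherian.noetherian (maximalIdeal R))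
        refine ⟨t, fun a ha => ?_⟩
        obtain ⟨b, rfl⟩ := Submodule.Quotient.mk_surjective _ z
        rw [← Submodule.Quotient.mk_smul, Submodule.Quotient.mk_eq_zero]
        exact Ideal.mul_mem_right _ _ (ht ha)
      let e2 : ((K ⧸ (J • (⊤ : Submodule R K))) →ₗ[R] E) ≃ₗ[R] (R ⧸ J) :=
        eD.trans ((H0Equiv (maximalIdeal R) (R ⧸ J)).trans (LinearEquiv.ofTop _ htor))
      refine ⟨e2.symm (Submodule.Quotient.mk 1), fun χ => ?_⟩
      obtain ⟨r, hr⟩ := Submodule.Quotient.mk_surjective _ (e2 χ)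
      refine ⟨r, e2.injective ?_⟩
      rw [map_smul, e2.apply_symm_apply, ← hr, ← Submodule.Quotient.mk_smul, smul_eq_mul, mul_one]
    -- every endomorphism is a scalar modulo `J`
    have hscalar : ∀ φ : K →ₗ[R] K, φ ∈ (Submodule.span R {(LinearMap.id : K →ₗ[R] K)}) ⊔
        J • (⊤ : Submodule R (K →ₗ[R] K)) := by
      intro φ
      let φb : (K ⧸ (J • (⊤ : Submodule R K))) →ₗ[R] K ⧸ (J • (⊤ : Submodule R K)) :=
        Submodule.mapQ _ _ φ (Submodule.smul_top_le_comap_smul_top J φ)
      obtain ⟨χ0, hχ0⟩ := hcyc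
      obtain ⟨r, hr⟩ := hχ0 (χ0.comp φb)
      have hz : ∀ z, φb z = r • z := fun z => by
        by_contra hne
        obtain ⟨χ, hχ⟩ := hE.exists_apply_ne_zero_local (sub_ne_zero.2 hne)
        obtain ⟨c, rfl⟩ := hχ0 χ
        refine hχ ?_
        rw [LinearMap.smul_apply, map_sub, map_smul, show χ0 (φb z) = r • χ0 z from LinearMap.congr_fun hr z,
          sub_self, smul_zero]
      have hmemJ : ∀ z, (φ - r • LinearMap.id : K →ₗ[R] K) z ∈ J • (⊤ : Submodule R K) := fun z => by
        rw [← Submodule.Quotient.mk_eq_zero]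
        have := hz (Submodule.Quotient.mk z)
        rw [Submodule.mapQ_apply] at this
        simp [this]
      have h1 := (hom_quot_regular xs K K (hiff.1 hreg).toIsWeaklyRegular
        (fun i h1 h2 => subsingleton_ext_canonical_self hE hn eK i h1 (hlen ▸ h2))).2 _ hmemJ
      rw [show φ = r • LinearMap.id + (φ - r • LinearMap.id) by abel]
      exact add_mem (Submodule.mem_sup_left (Submodule.smul_mem _ _ (Submodule.mem_span_singleton_self _)))
        (Submodule.mem_sup_right h1)
    haveI : Module.Finite R (K →ₗ[R] K) := inferInstance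
    have htop : (⊤ : Submodule R (K →ₗ[R] K)) ≤ Submodule.span R {(LinearMap.id : K →ₗ[R] K)} :=
      Submodule.le_of_le_smul_of_le_jacobson_bot Module.Finite.fg_top
        ((Ideal.span_le.2 hmem').trans (IsLocalRing.maximalIdeal_le_jacobson _)) (fun φ _ => hscalar φ)
    obtain ⟨r, hr⟩ := Submodule.mem_span_singleton.1 (htop (Submodule.mem_top (x := g)))
    exact ⟨r, hr⟩

include hE hn eK in
theorem endo_reduction {a : R} (ha : a ∈ maximalIdeal R) (hreg : IsSMulRegular R a) :
    (∀ ψ : (K ⧸ (a • (⊤ : Submodule R K))) →ₗ[R] (K ⧸ (a • (⊤ : Submodule R K))),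
      ∃ g : K →ₗ[R] K, ∀ x : K, ψ (Submodule.Quotient.mk x) = Submodule.Quotient.mk (g x)) ∧
    (∀ g : K →ₗ[R] K, (∀ x : K, g x ∈ a • (⊤ : Submodule R K)) ↔ ∃ g' : K →ₗ[R] K, g = a • g') := by
  have hR : IsRegular R [a] := ⟨(isWeaklyRegular_cons_iff _ _ _).2 ⟨hreg, IsWeaklyRegular.nil _ _⟩,
    Submodule.top_ne_ideal_smul_of_le_jacobson_annihilator
      ((Ideal.span_le.2 (fun x hx => by simp at hx; exact hx ▸ ha)).trans (IsLocalRing.maximalIdeal_le_jacobson _))⟩
  have haK := ((isWeaklyRegular_cons_iff _ _ _).1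
    (((isRegular_iff_canonical hE hn eK [a] (fun x hx => by simp at hx; exact hx ▸ ha)).1).1 hR).toIsWeaklyRegular).1
  refine ⟨fun ψ => ?_, fun g => exists_eq_smul_of_mem_smul_top haK g⟩
  have hn1 : 1 ≤ n := by
    have := (isRegular_length_le hn hR).1
    simpa using this
  obtain ⟨g, hg⟩ := hom_quot_surjective haK (subsingleton_ext_canonical_self hE hn eK 1 le_rfl hn1)
    (ψ.comp (Submodule.mkQ _))
  exact ⟨g, fun x => hg x⟩

end Groth.Agent.LocCoh
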