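import Groth.Agent.LocCoh.Local
import Groth.Prelude.Def_W4bk5brsh16IT
import Mathlib.Algebra.Homology.DerivedCategory.Ext.EnoughProjectives

/-!
`colim Ext^i(I^n, -) ≅ H_I^{i+1}` for positive `i`.
-/

set_option autoImplicit false

universe u

open CategoryTheory Limits Opposite Abelian

namespace Groth.Agent.LocCoh

variable {R : Type u} [CommRing R] (I : Ideal R)

/-- `0 → I^n → R → R/I^n → 0`. -/
noncomputable abbrev powSeq (n : ℕ) : ShortComplex (ModuleCat.{u} R) :=
  ShortComplex.mk (X₁ := ModuleCat.of R ↥(I ^ n)) (X₂ := ModuleCat.of R R) (X₃ := Q I n)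
    (ModuleCat.ofHom (I ^ n).subtype) (ModuleCat.ofHom (I ^ n).mkQ)
    (ModuleCat.hom_ext (LinearMap.exact_subtype_mkQ (I ^ n)).linearMap_comp_eq_zero)

theorem powSeq_shortExact (n : ℕ) : (powSeq I n).ShortExact :=
  shortExact_of (Subtype.val_injective) (Submodule.mkQ_surjective _)
    (LinearMap.exact_subtype_mkQ (I ^ n))

/-- The map of short exact sequences for `m ≤ n`. -/
noncomputable def powSeqMap {m n : ℕ} (h : m ≤ n) : powSeq I n ⟶ powSeq I m where
  τ₁ := ModuleCat.ofHom (Submodule.inclusion (Ideal.pow_le_pow_right h))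
  τ₂ := 𝟙 _
  τ₃ := qmap I h
  comm₁₂ := rfl
  comm₂₃ := rfl

/-- The connecting map `Ext^i(I^n, M) → Ext^{i+1}(R/I^n, M)`. -/
noncomputable def powDelta (n i : ℕ) (M : ModuleCat.{u} R) :
    Ext (ModuleCat.of R ↥(I ^ n)) M i →ₗ[R] Ext (Q I n) M (i + 1) :=
  Ext.precompOfLinear (powSeq_shortExact I n).extClass R M (Nat.add_comm 1 i)

theorem powDelta_apply (n i : ℕ) (M : ModuleCat.{u} R) (x : Ext (ModuleCat.of R ↥(I ^ n)) M i) :
    powDelta I n i M x = (powSeq_shortExact I n).extClass.comp x (Nat.add_comm 1 i) := rfl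

theorem powDelta_bijective (n : ℕ) {i : ℕ} (hi : 1 ≤ i) (M : ModuleCat.{u} R) :
    Function.Bijective (powDelta I n i M) := by
  haveI : Projective (ModuleCat.of R R) :=
    (ModuleCat.of R R).projective_of_categoryTheory_projective
  constructor
  · refine (injective_iff_map_eq_zero _).2 fun x hx => ?_
    obtain ⟨j, rfl⟩ : ∃ j, i = j + 1 := ⟨i - 1, by omega⟩
    obtain ⟨y, rfl⟩ := Ext.contravariant_sequence_exact₁ (powSeq_shortExact I n) M x
      (Nat.add_comm 1 (j + 1)) hx
    rw [Ext.eq_zero_of_projective y, Ext.comp_zero]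
  · intro z
    exact Ext.contravariant_sequence_exact₃ (powSeq_shortExact I n) M z
      (Ext.eq_zero_of_projective _) (Nat.add_comm 1 i)

theorem powDelta_post (n i : ℕ) {M N : ModuleCat.{u} R} (f : M ⟶ N)
    (x : Ext (ModuleCat.of R ↥(I ^ n)) M i) :
    powDelta I n i N (x.comp (Ext.mk₀ f) (add_zero i)) =
      (powDelta I n i M x).comp (Ext.mk₀ f) (add_zero (i + 1)) := by
  rw [powDelta_apply, powDelta_apply, Ext.comp_assoc_of_third_deg_zero]

theorem powDelta_pre {m n : ℕ} (h : m ≤ n) (i : ℕ) (M : ModuleCat.{u} R)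
    (x : Ext (ModuleCat.of R ↥(I ^ m)) M i) :
    powDelta I n i M ((Ext.mk₀ (ModuleCat.ofHom
        (Submodule.inclusion (Ideal.pow_le_pow_right (I := I) h)))).comp x (zero_add i)) =
      (Ext.mk₀ (qmap I h)).comp (powDelta I m i M x) (zero_add (i + 1)) := by
  have hnat := ShortComplex.ShortExact.extClass_naturality (powSeq_shortExact I n)
    (powSeq_shortExact I m) (powSeqMap I h)
  rw [powDelta_apply, powDelta_apply,
    ← Ext.comp_assoc _ _ _ (add_zero 1) (zero_add i) (by omega : 1 + 0 + i = i + 1),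
    ← Ext.comp_assoc (Ext.mk₀ (qmap I h)) _ x (zero_add 1) (Nat.add_comm 1 i)
      (by omega : 0 + 1 + i = i + 1)]
  exact congrArg (fun e => Ext.comp e x (Nat.add_comm 1 i)) hnat

/-- The components of the isomorphism of diagrams. -/
noncomputable def shiftComp {i : ℕ} (hi : 1 ≤ i) (n : ℕ) (M : ModuleCat.{u} R) :
    ((_root_.Ext R (ModuleCat.{u} R) i).obj (op (ModuleCat.of R ↥(I ^ n)))).obj M ≅
      ((_root_.Ext R (ModuleCat.{u} R) (i + 1)).obj (op (Q I n))).obj M :=
  ((extEquiv _ i M).trans ((LinearEquiv.ofBijective _ (powDelta_bijective I n hi M)).trans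
    (extEquiv (Q I n) (i + 1) M).symm)).toModuleIso

theorem shiftComp_apply {i : ℕ} (hi : 1 ≤ i) (n : ℕ) (M : ModuleCat.{u} R)
    (x : ((_root_.Ext R (ModuleCat.{u} R) i).obj (op (ModuleCat.of R ↥(I ^ n)))).obj M) :
    extEquiv (Q I n) (i + 1) M ((shiftComp I hi n M).hom.hom x) =
      powDelta I n i M (extEquiv _ i M x) :=
  LinearEquiv.apply_symm_apply _ _

/-- The isomorphism of diagrams. -/
noncomputable def shiftDiagramIso {i : ℕ} (hi : 1 ≤ i) :
    _root_.LocCoh.extTransformDiagram I i ≅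
      localCohomology.diagram (localCohomology.idealPowersDiagram I) (i + 1) :=
  NatIso.ofComponents
    (fun j => NatIso.ofComponents (fun M => shiftComp I hi (unop (unop j)) M)
      fun {M N} f => ModuleCat.hom_ext (LinearMap.ext fun x => by
        refine (extEquiv (Q I _) (i + 1) N).injective ?_
        refine (shiftComp_apply I hi _ N _).trans ?_
        refine Eq.trans ?_ (extEquiv_post (Q I _) (i + 1) f _).symm
        refine Eq.trans ?_ (congrArg (fun e => Ext.comp e (Ext.mk₀ f) (add_zero (i + 1)))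
          (shiftComp_apply I hi _ M x)).symm
        refine Eq.trans ?_ (powDelta_post I _ i f _)
        exact congrArg _ (extEquiv_post _ i f x)))
    fun {j j'} w => by
      refine NatTrans.ext (funext fun M => ModuleCat.hom_ext (LinearMap.ext fun x => ?_))
      refine (extEquiv (Q I _) (i + 1) M).injective ?_
      refine (shiftComp_apply I hi _ M _).trans ?_
      refine Eq.trans ?_ (extEquiv_pre _ (i + 1) M _).symm
      refine Eq.trans ?_ (congrArg
        (fun e => (Ext.mk₀ (qmap I (leOfHom w.unop.unop))).comp e (zero_add (i + 1)))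
        (shiftComp_apply I hi _ M x)).symm
      refine Eq.trans ?_ (powDelta_pre I (leOfHom w.unop.unop) i M _)
      exact congrArg _ (extEquiv_pre _ i M x)

/-- `colim Ext^i(I^n, -) ≅ H_I^{i+1}`. -/
noncomputable def extTransformIso {i : ℕ} (hi : 1 ≤ i) :
    _root_.LocCoh.extTransform I i ≅ localCohomology I (i + 1) :=
  HasColimit.isoOfNatIso (shiftDiagramIso I hi)

end Groth.Agent.LocCoh
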