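import Groth.Agent.LocCoh.IdealTransform
import Groth.Agent.LocCoh.ExtShift
import Groth.Agent.LocCoh.LocalVanishing
import Groth.Agent.LocCoh.NonVanishing
import Mathlib.Algebra.Homology.ShortComplex.ExactFunctor

/-!
Exactness of the ideal transform: `D_I` is exact iff `cd I ≤ 1` iff `I · D_I(R) = D_I(R)`.
-/

set_option autoImplicit false

universe u

open CategoryTheory Limits Opposite Abelian

namespace Groth.Agent.LocCoh

variable {R : Type u} [CommRing R] (I : Ideal R)

/-- All maps induced on ideal transforms by surjections are surjective. -/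
def TransformSurj : Prop :=
  ∀ (N P : Type u) [AddCommGroup N] [Module R N] [AddCommGroup P] [Module R P] (g : N →ₗ[R] P),
    Function.Surjective g → Function.Surjective (DTmap (I := I) g)

variable [IsNoetherianRing R]

theorem exact_DTmap {M N P : Type u} [AddCommGroup M] [Module R M] [AddCommGroup N] [Module R N]
    [AddCommGroup P] [Module R P] {f : M →ₗ[R] N} {g : N →ₗ[R] P} (hf : Function.Injective f)
    (hfg : Function.Exact f g) : Function.Exact (DTmap (I := I) f) (DTmap (I := I) g) := by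
  refine fun y => ⟨fun hy => mem_range_DTmap hf hfg hy, ?_⟩
  rintro ⟨x, rfl⟩
  obtain ⟨n, φ, rfl⟩ := exists_τ x
  rw [DTmap_τ, DTmap_τ, ← LinearMap.comp_assoc, hfg.linearMap_comp_eq_zero, LinearMap.zero_comp,
    map_zero]

theorem exact_idealTransform_iff_surj :
    (PreservesFiniteLimits (_root_.LocCoh.idealTransform I) ∧
      PreservesFiniteColimits (_root_.LocCoh.idealTransform I)) ↔ TransformSurj I := by
  constructor
  · rintro ⟨-, h⟩ N P _ _ _ _ g hg
    haveI := h
    haveI : Epi (ModuleCat.ofHom g) := (ModuleCat.epi_iff_surjective _).2 hg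
    exact (ModuleCat.epi_iff_surjective _).1
      (inferInstance : Epi ((_root_.LocCoh.idealTransform I).map (ModuleCat.ofHom g)))
  · intro h
    have key : ∀ S : ShortComplex (ModuleCat.{u} R), S.ShortExact →
        (S.map (_root_.LocCoh.idealTransform I)).Exact := fun S hS => by
      rw [ShortComplex.ShortExact.moduleCat_exact_iff_function_exact]
      exact exact_DTmap I hS.moduleCat_injective_f
        ((ShortComplex.ShortExact.moduleCat_exact_iff_function_exact S).1 hS.exact)
    constructor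
    · rw [← ((Functor.preservesFiniteLimits_tfae (_root_.LocCoh.idealTransform I)).out 0 3 :)]
      exact fun S hS => ⟨key S hS, (ModuleCat.mono_iff_injective _).2 (DTmap_injective S.f.hom (by
        rw [LinearMap.ker_eq_bot.2 hS.moduleCat_injective_f]; exact bot_le))⟩
    · rw [← ((Functor.preservesFiniteColimits_tfae (_root_.LocCoh.idealTransform I)).out 0 3 :)]
      exact fun S hS => ⟨key S hS,
        (ModuleCat.epi_iff_surjective _).2 (h _ _ S.g.hom hS.moduleCat_surjective_g)⟩
theorem transformSurj_of_cdLE (h : _root_.LocCoh.CdLE R I 1) : TransformSurj I := by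
  intro N P _ _ _ _ g hg x
  obtain ⟨n, f, rfl⟩ := exists_τ x
  let M := LinearMap.ker g
  have hS := shortExact_of (f := M.subtype) (g := g) Subtype.val_injective hg
    (LinearMap.exact_subtype_ker_map g)
  let e := (Ext.mk₀ (ModuleCat.ofHom f)).comp hS.extClass (zero_add 1)
  haveI := h M 2 one_lt_two
  obtain ⟨m, hnm, hm⟩ := (cls_eq_zero_iff (powDelta I n 1 (ModuleCat.of R M) e)).1
    (Subsingleton.elim (α := _root_.LocCoh.H I 2 M) _ _)
  rw [← powDelta_pre] at hm
  have h0 := (powDelta_bijective I m le_rfl (ModuleCat.of R M)).1 (hm.trans (map_zero _).symm)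
  rw [Ext.mk₀_comp_mk₀_assoc] at h0
  obtain ⟨y, hy⟩ := Ext.covariant_sequence_exact₃ _ hS (Ext.mk₀ (ModuleCat.ofHom
    (Submodule.inclusion (Ideal.pow_le_pow_right (I := I) hnm)) ≫ ModuleCat.ofHom f)) rfl h0
  obtain ⟨l, rfl⟩ := Ext.homEquiv₀.symm.surjective y
  refine ⟨τ m l.hom, ?_⟩
  rw [DTmap_τ, ← τ_restrict hnm f]
  refine congrArg (τ m) ?_
  rw [show Ext.homEquiv₀.symm l = Ext.mk₀ l from rfl, Ext.mk₀_comp_mk₀] at hy
  exact congrArg ModuleCat.Hom.hom (Ext.homEquiv₀.symm.injective hy)

theorem cdLE_of_transformSurj (h : TransformSurj I) : _root_.LocCoh.CdLE R I 1 := by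
  have key : ∀ (i : ℕ), 2 ≤ i → ∀ (M : Type u) [AddCommGroup M] [Module R M],
      Subsingleton (_root_.LocCoh.H I i M) := by
    intro i hi
    induction i, hi using Nat.le_induction with
    | base =>
      intro M _ _
      obtain ⟨E, _, _, f, hE, hf⟩ := exists_injective_embedding (R := R) M
      let g : E →ₗ[R] E ⧸ LinearMap.range f := Submodule.mkQ _
      have hg : Function.Surjective g := Submodule.mkQ_surjective _
      haveI := subsingleton_H1_of_toDT_surjective (I := I) (M := E ⧸ LinearMap.range f) fun x => by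
        obtain ⟨y, rfl⟩ := h _ _ g hg x
        obtain ⟨e, rfl⟩ := toDT_surjective_of_injective E y
        exact ⟨g e, (toDT_natural g e).symm⟩
      haveI := subsingleton_H_of_injective (I := I) E (i := 2) two_pos
      exact subsingleton_left_succ hf hg (LinearMap.exact_map_mkQ_range f) 1
    | succ i hi ih =>
      intro M _ _
      obtain ⟨E, _, _, f, hE, hf⟩ := exists_injective_embedding (R := R) M
      haveI := ih (E ⧸ LinearMap.range f)
      haveI := subsingleton_H_of_injective (I := I) E (i := i + 1) (Nat.succ_pos i)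
      exact subsingleton_left_succ hf (Submodule.mkQ_surjective _)
        (LinearMap.exact_map_mkQ_range f) i
  exact fun M _ _ i hi => key i hi M

theorem exact_idealTransform_iff_cdLE :
    (PreservesFiniteLimits (_root_.LocCoh.idealTransform I) ∧
      PreservesFiniteColimits (_root_.LocCoh.idealTransform I)) ↔ _root_.LocCoh.CdLE R I 1 :=
  (exact_idealTransform_iff_surj I).trans ⟨cdLE_of_transformSurj I, transformSurj_of_cdLE I⟩

theorem smul_top_DT_eq_top_of_surj (h : TransformSurj I) :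
    I • (⊤ : Submodule R (_root_.LocCoh.DT I R)) = ⊤ := by
  obtain ⟨s, a, ha⟩ := Submodule.fg_iff_exists_fin_generating_family.1 (IsNoetherian.noetherian I)
  let ψ : (Fin s → R) →ₗ[R] R := ∑ i, a i • LinearMap.proj i
  have hψ : LinearMap.range ψ = I := by
    have : ψ = Fintype.linearCombination R a := LinearMap.ext fun v => by
      simp [ψ, Fintype.linearCombination_apply, mul_comm]
    rw [this, Fintype.range_linearCombination, ha]
  let j : LinearMap.range ψ →ₗ[R] R := (LinearMap.range ψ).subtype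
  have hj : Function.Surjective (DTmap (I := I) j) := DTmap_surjective j
    (by rw [LinearMap.ker_eq_bot.2 Subtype.val_injective]; exact bot_le)
    fun q => ⟨1, fun c hc => by
      obtain ⟨r, rfl⟩ := Submodule.Quotient.mk_surjective _ q
      rw [← Submodule.Quotient.mk_smul, Submodule.Quotient.mk_eq_zero, Submodule.range_subtype, hψ]
      rw [pow_one] at hc
      exact Ideal.mul_mem_right r I hc⟩
  refine eq_top_iff.2 fun x _ => ?_
  obtain ⟨y, rfl⟩ := hj x
  obtain ⟨z, rfl⟩ := h _ _ ψ.rangeRestrict ψ.surjective_rangeRestrict y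
  obtain ⟨n, f, rfl⟩ := exists_τ z
  rw [DTmap_τ, DTmap_τ, ← LinearMap.comp_assoc]
  change τ n (ψ ∘ₗ f) ∈ _
  rw [show ψ ∘ₗ f = ∑ i, a i • (LinearMap.proj i ∘ₗ f) from LinearMap.ext fun r => by simp [ψ],
    map_sum]
  refine sum_mem fun i _ => ?_
  rw [map_smul]
  exact Submodule.smul_mem_smul (ha ▸ Submodule.subset_span ⟨i, rfl⟩) trivial

/-- `I^N` has a partial dual basis in `I^k`. -/
theorem exists_dual_family (h : I • (⊤ : Submodule R (_root_.LocCoh.DT I R)) = ⊤) :
    ∀ k : ℕ, ∃ (N : ℕ) (ι : Type) (s : Finset ι) (a : ι → ↥(I ^ k)) (φ : ι → (↥(I ^ N) →ₗ[R] R)),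
      ∀ r : ↥(I ^ N), (r : R) = ∑ i ∈ s, φ i r * (a i : R) := by
  have one : ∃ (N : ℕ) (ι : Type) (s : Finset ι) (a : ι → ↥I) (φ : ι → (↥(I ^ N) →ₗ[R] R)),
      ∀ r : ↥(I ^ N), (r : R) = ∑ i ∈ s, φ i r * (a i : R) := by
    obtain ⟨t, a, ha⟩ := Submodule.fg_iff_exists_fin_generating_family.1 (IsNoetherian.noetherian I)
    have haI : ∀ i, a i ∈ I := fun i => ha ▸ Submodule.subset_span ⟨i, rfl⟩
    obtain ⟨x, hx⟩ : ∃ x : Fin t → _root_.LocCoh.DT I R,
        _root_.LocCoh.toDT I R 1 = ∑ i, a i • x i := by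
      have h1 : _root_.LocCoh.toDT I R 1 ∈ I • (⊤ : Submodule R (_root_.LocCoh.DT I R)) := by rw [h]; trivial
      refine Submodule.smul_induction_on h1 (fun r hr y _ => ?_) ?_
      · obtain ⟨c, hc⟩ := (Submodule.mem_span_range_iff_exists_fun R).1 (ha ▸ hr)
        refine ⟨fun i => c i • y, ?_⟩
        rw [← hc, Finset.sum_smul]
        exact Finset.sum_congr rfl fun i _ => by rw [smul_eq_mul, mul_comm, mul_smul]
      · rintro _ _ ⟨x, rfl⟩ ⟨y, rfl⟩
        exact ⟨x + y, by rw [← Finset.sum_add_distrib]; simp [smul_add]⟩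
    choose n f hf using fun i => exists_τ (x i)
    let N₀ := Finset.univ.sup n
    let f' : Fin t → (↥(I ^ N₀) →ₗ[R] R) := fun i =>
      f i ∘ₗ Submodule.inclusion (Ideal.pow_le_pow_right (Finset.le_sup (Finset.mem_univ i)))
    have h2 : τ N₀ ((I ^ N₀).subtype - ∑ i, a i • f' i) = 0 := by
      rw [map_sub, map_sum, sub_eq_zero]
      refine (τ_eq_toDT _ (1 : R) fun r => by simp).trans (hx.trans ?_)
      exact Finset.sum_congr rfl fun i _ => by
        rw [map_smul, τ_restrict (Finset.le_sup (Finset.mem_univ i)), hf]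
    obtain ⟨m, hm, hm0⟩ := (τ_eq_zero_iff _).1 h2
    refine ⟨m, Fin t, Finset.univ, fun i => ⟨a i, haI i⟩,
      fun i => f' i ∘ₗ Submodule.inclusion (Ideal.pow_le_pow_right hm), fun r => ?_⟩
    have h3 := hm0 r.1 r.2
    rw [LinearMap.sub_apply, LinearMap.sum_apply, sub_eq_zero] at h3
    refine h3.trans (Finset.sum_congr rfl fun i _ => ?_)
    rw [LinearMap.smul_apply, smul_eq_mul, mul_comm]
    rfl
  obtain ⟨n₁, ι₁, s₁, a₁, φ₁, h₁⟩ := one
  intro k
  induction k with
  | zero =>
    exact ⟨0, Unit, Finset.univ, fun _ => ⟨1, by simp⟩, fun _ => (I ^ 0).subtype, fun r => by simp⟩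
  | succ k ih =>
    obtain ⟨N, ι, s, a, φ, hk⟩ := ih
    have hmem : ∀ (j : ι₁) (r : R) (hr : r ∈ I ^ (N + n₁)),
        φ₁ j ⟨r, Ideal.pow_le_pow_right (Nat.le_add_left n₁ N) hr⟩ ∈ I ^ N := by
      intro j r hr
      suffices ∀ hh, φ₁ j ⟨r, hh⟩ ∈ I ^ N from this _
      have hr' : r ∈ I ^ N * I ^ n₁ := by rwa [← pow_add]
      induction hr' using Submodule.mul_induction_on' with
      | mem_mul_mem b hb c hc =>
        intro hh
        rw [show (⟨b * c, hh⟩ : ↥(I ^ n₁)) = b • ⟨c, hc⟩ from Subtype.ext rfl, map_smul]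
        exact Ideal.mul_mem_right _ _ hb
      | add b hb c hc ihb ihc =>
        intro hh
        have hb' : b ∈ I ^ n₁ := Ideal.mul_le_right hb
        have hc' : c ∈ I ^ n₁ := Ideal.mul_le_right hc
        rw [show (⟨b + c, hh⟩ : ↥(I ^ n₁)) = ⟨b, hb'⟩ + ⟨c, hc'⟩ from Subtype.ext rfl, map_add]
        exact add_mem (ihb ((pow_add I N n₁).symm ▸ hb) hb') (ihc ((pow_add I N n₁).symm ▸ hc) hc')
    let res : ι₁ → (↥(I ^ (N + n₁)) →ₗ[R] ↥(I ^ N)) := fun j =>
      (φ₁ j ∘ₗ Submodule.inclusion (Ideal.pow_le_pow_right (Nat.le_add_left n₁ N))).codRestrict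
        (I ^ N) fun r => hmem j r.1 r.2
    refine ⟨N + n₁, ι₁ × ι, s₁ ×ˢ s,
      fun p => ⟨(a p.2 : R) * (a₁ p.1 : R), by
        rw [pow_succ]; exact Ideal.mul_mem_mul (a p.2).2 (a₁ p.1).2⟩,
      fun p => φ p.2 ∘ₗ res p.1, fun r => ?_⟩
    rw [Finset.sum_product]
    refine (h₁ ⟨r.1, Ideal.pow_le_pow_right (Nat.le_add_left n₁ N) r.2⟩).trans
      (Finset.sum_congr rfl fun j _ => ?_)
    refine (congrArg (· * (a₁ j : R)) (hk (res j r))).trans ?_
    rw [Finset.sum_mul]
    exact Finset.sum_congr rfl fun i _ => mul_assoc _ _ _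

theorem transformSurj_of_smul_top (h : I • (⊤ : Submodule R (_root_.LocCoh.DT I R)) = ⊤) :
    TransformSurj I := by
  intro M P _ _ _ _ g hg x
  obtain ⟨n, f, rfl⟩ := exists_τ x
  obtain ⟨N, ι, s, a, φ, hr⟩ := exists_dual_family I h n
  choose y hy using fun i => hg (f (a i))
  refine ⟨τ (max N n) (∑ i ∈ s,
    (LinearMap.toSpanSingleton R M (y i)) ∘ₗ φ i ∘ₗ
      Submodule.inclusion (Ideal.pow_le_pow_right (le_max_left N n))), ?_⟩
  rw [DTmap_τ, ← τ_restrict (le_max_right N n) f]
  refine congrArg (τ _) (LinearMap.ext fun r => ?_)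
  simp only [LinearMap.comp_apply, LinearMap.sum_apply, LinearMap.toSpanSingleton_apply, map_sum,
    map_smul, hy]
  simp_rw [← map_smul, ← map_sum]
  refine congrArg f (Subtype.ext ?_)
  rw [Submodule.coe_sum]
  exact (hr ⟨r.1, Ideal.pow_le_pow_right (le_max_left N n) r.2⟩).symm

theorem exact_idealTransform_iff_smul_top :
    (PreservesFiniteLimits (_root_.LocCoh.idealTransform I) ∧
      PreservesFiniteColimits (_root_.LocCoh.idealTransform I)) ↔
      I • (⊤ : Submodule R (_root_.LocCoh.DT I R)) = ⊤ :=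
  (exact_idealTransform_iff_surj I).trans ⟨smul_top_DT_eq_top_of_surj I, transformSurj_of_smul_top I⟩

theorem height_le_one_of_cdLE (h : _root_.LocCoh.CdLE R I 1) (p : Ideal R)
    (hp : p ∈ I.minimalPrimes) : p.height ≤ 1 := by
  haveI := hp.1.1
  by_contra hcon
  obtain ⟨d, hd⟩ := ENat.ne_top_iff_exists.1 (Ideal.height_ne_top (I := p) hp.1.1.ne_top)
  rw [← hd, not_le] at hcon
  have hd1 : 1 < d := by exact_mod_cast hcon
  let A := Localization.AtPrime p
  haveI : IsNoetherianRing A := IsLocalization.isNoetherianRing p.primeCompl A inferInstance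
  haveI := h R d hd1
  obtain ⟨e⟩ := nonempty_localized_H_equiv p.primeCompl I R d
  have hdim : ringKrullDim A = d := by
    rw [IsLocalization.AtPrime.ringKrullDim_eq_height p A, ← hd]; rfl
  haveI := nontrivial_H_ring A d hdim
  obtain ⟨e'⟩ := nonempty_H_equiv_of_radical (I := I.map (algebraMap R A))
    (J := IsLocalRing.maximalIdeal A)
    (by rw [(IsLocalRing.maximalIdeal.isMaximal A).isPrime.radical]
        exact (IsLocalization.AtPrime.radical_map_of_mem_minimalPrimes A p I hp).trans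
          Localization.AtPrime.map_eq_maximalIdeal) d A
  let l : LocalizedModule p.primeCompl R ≃ₗ[A] A :=
    (LocalizedModule.equivTensorProduct p.primeCompl R).trans
      (TensorProduct.AlgebraTensorModule.rid R A A)
  haveI : Subsingleton (_root_.LocCoh.H (I.map (algebraMap R A)) d A) :=
    ((Hequiv _ d l).symm.trans e.symm).toEquiv.subsingleton
  exact not_subsingleton (_root_.LocCoh.H (IsLocalRing.maximalIdeal A) d A) e'.symm.toEquiv.subsingleton

end Groth.Agent.LocCoh
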