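import Groth.Agent.LocCoh.IdealTransform
import Mathlib.Algebra.Module.LocalizedModule.Basic

/-!
Ideal transforms: products of ideals, change of rings, description inside a localization.
-/

set_option autoImplicit false

universe u

open CategoryTheory Limits Opposite

namespace Groth.Agent.LocCoh

variable {R : Type u} [CommRing R] [IsNoetherianRing R]

theorem DTmapOfLE_mul_bijective (I J : Ideal R) (M : Type u) [AddCommGroup M] [Module R M] :
    Function.Bijective ((_root_.LocCoh.DTmapOfLE (Ideal.mul_le_left : I * J ≤ I)).app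
      (ModuleCat.of R (_root_.LocCoh.DT J M))).hom := by
  have hle : I * J ≤ J := Ideal.mul_le_right
  set N := _root_.LocCoh.DT J M
  have hb : Function.Bijective (_root_.LocCoh.toDT J N) := toDT_DT_bijective
  refine ⟨(injective_iff_map_eq_zero _).2 fun x hx => ?_, fun x => ?_⟩
  · obtain ⟨n, f, rfl⟩ := exists_τ (I := I) (M := N) x
    rw [DTmapOfLE_τ, τ_eq_zero_iff] at hx
    obtain ⟨m, hnm, hm⟩ := hx
    rw [τ_eq_zero_iff]
    refine ⟨m, hnm, fun r hr => ?_⟩
    refine (Submodule.mem_bot R).1 (powTorsion_DT_eq_bot.le (show f _ ∈ powTorsion J N from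
      ⟨m, fun s hs => ?_⟩))
    rw [← map_smul]
    refine Eq.trans (congrArg f (Subtype.ext ?_)) (hm (r * s) (mul_pow I J m ▸ Ideal.mul_mem_mul hr hs))
    exact mul_comm s r
  · obtain ⟨n, f, rfl⟩ := exists_τ (I := I * J) (M := N) x
    have hmul : ∀ r ∈ I ^ n, ∀ s ∈ J ^ n, r * s ∈ (I * J) ^ n := fun r hr s hs =>
      mul_pow I J n ▸ Ideal.mul_mem_mul hr hs
    let e := LinearEquiv.ofBijective _ hb
    let mult : ↥(I ^ n) → (↥(J ^ n) →ₗ[R] N) := fun r =>
      { toFun := fun s => f ⟨(r : R) * s, hmul _ r.2 _ s.2⟩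
        map_add' := fun s t => by
          rw [← map_add]; exact congrArg f (Subtype.ext (mul_add (r : R) (s : R) (t : R)))
        map_smul' := fun c s => by
          rw [RingHom.id_apply, ← map_smul]
          exact congrArg f (Subtype.ext (mul_left_comm (r : R) c (s : R))) }
    let g : ↥(I ^ n) →ₗ[R] N :=
      { toFun := fun r => e.symm (τ n (mult r))
        map_add' := fun r r' => by
          rw [← map_add, ← map_add]
          exact congrArg (fun φ => e.symm (τ n φ)) (LinearMap.ext fun s => by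
            rw [LinearMap.add_apply]
            show f _ = f _ + f _
            rw [← map_add]; exact congrArg f (Subtype.ext (add_mul (r : R) (r' : R) (s : R))))
        map_smul' := fun c r => by
          rw [RingHom.id_apply, ← map_smul, ← map_smul]
          exact congrArg (fun φ => e.symm (τ n φ)) (LinearMap.ext fun s => by
            show f _ = c • f _
            rw [← map_smul]; exact congrArg f (Subtype.ext (mul_assoc c (r : R) (s : R)))) }
    have hg : ∀ (r : ↥(I ^ n)) (s : R) (hs : s ∈ J ^ n),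
        s • g r = f ⟨(r : R) * s, hmul _ r.2 _ hs⟩ := fun r s hs => by
      refine e.injective ?_
      rw [map_smul]
      refine (congrArg (s • ·) (e.apply_symm_apply _)).trans ?_
      exact smul_τ (mult r) ⟨s, hs⟩
    refine ⟨τ n g, ?_⟩
    rw [DTmapOfLE_τ]
    refine congrArg (τ n) (LinearMap.ext fun z => ?_)
    suffices ∀ (c : R) (hc : c ∈ (I * J) ^ n) (hc' : c ∈ I ^ n), g ⟨c, hc'⟩ = f ⟨c, hc⟩ from
      this z.1 z.2 _
    intro c hc
    have hc2 : c ∈ I ^ n * J ^ n := by rwa [← mul_pow]
    induction hc2 using Submodule.mul_induction_on' with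
    | mem_mul_mem r hr s hs =>
      intro hc'
      rw [← hg ⟨r, hr⟩ s hs, ← map_smul]
      exact congrArg g (Subtype.ext (mul_comm r s))
    | add a ha b hb iha ihb =>
      intro hc'
      have ha1 : a ∈ (I * J) ^ n := by rwa [mul_pow]
      have hb1 : b ∈ (I * J) ^ n := by rwa [mul_pow]
      have ha' : a ∈ I ^ n := Ideal.pow_right_mono Ideal.mul_le_left n ha1
      have hb' : b ∈ I ^ n := Ideal.pow_right_mono Ideal.mul_le_left n hb1
      rw [show (⟨a + b, hc'⟩ : ↥(I ^ n)) = ⟨a, ha'⟩ + ⟨b, hb'⟩ from Subtype.ext rfl, map_add,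
        iha ha1 ha', ihb hb1 hb', ← map_add]
      exact congrArg f (Subtype.ext rfl)

theorem powTorsion_map_iff (R' : Type u) [CommRing R'] [IsNoetherianRing R'] [Algebra R R'] (I : Ideal R) {N : Type u}
    [AddCommGroup N] [Module R' N] [Module R N] [IsScalarTower R R' N] (m : N) :
    m ∈ powTorsion (I.map (algebraMap R R')) N ↔ m ∈ powTorsion I N :=
  mem_powTorsion_map_iff I m

/-- Independence of the base ring. -/
theorem exists_DT_independence (R' : Type u) [CommRing R'] [IsNoetherianRing R'] [Algebra R R']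
    (I : Ideal R) (M' : Type u) [AddCommGroup M'] [Module R' M'] [Module R M']
    [IsScalarTower R R' M'] :
    ∃ ε : _root_.LocCoh.DT (Ideal.map (algebraMap R R') I) M' ≃+ _root_.LocCoh.DT I M',
      (∀ (r : R) (x : _root_.LocCoh.DT (Ideal.map (algebraMap R R') I) M'),
        ε (algebraMap R R' r • x) = r • ε x) ∧
      ∀ m : M', ε (_root_.LocCoh.toDT (Ideal.map (algebraMap R R') I) M' m) =
        _root_.LocCoh.toDT I M' m := by
  set I' := Ideal.map (algebraMap R R') I
  let N := _root_.LocCoh.DT I M'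
  let μ : R' → (M' →ₗ[R] M') := fun c =>
    { toFun := fun m => c • m
      map_add' := smul_add c
      map_smul' := fun r m => smul_comm c r m }
  let act : R' →+* Module.End R N :=
    { toFun := fun c => DTmap (μ c)
      map_one' := LinearMap.ext fun x => by
        obtain ⟨n, f, rfl⟩ := exists_τ x
        rw [DTmap_τ]
        exact congrArg (τ n) (LinearMap.ext fun r => one_smul R' (f r))
      map_mul' := fun c d => LinearMap.ext fun x => by
        obtain ⟨n, f, rfl⟩ := exists_τ x
        rw [Module.End.mul_apply, DTmap_τ, DTmap_τ, DTmap_τ]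
        exact congrArg (τ n) (LinearMap.ext fun r => mul_smul c d (f r))
      map_zero' := LinearMap.ext fun x => by
        obtain ⟨n, f, rfl⟩ := exists_τ x
        rw [DTmap_τ, LinearMap.zero_apply, ← map_zero (τ n)]
        exact congrArg (τ n) (LinearMap.ext fun r => zero_smul R' (f r))
      map_add' := fun c d => LinearMap.ext fun x => by
        obtain ⟨n, f, rfl⟩ := exists_τ x
        rw [LinearMap.add_apply, DTmap_τ, DTmap_τ, DTmap_τ, ← map_add]
        exact congrArg (τ n) (LinearMap.ext fun r => add_smul c d (f r)) }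
  letI : Module R' N := Module.compHom N act
  haveI : IsScalarTower R R' N := IsScalarTower.of_algebraMap_smul fun r x => by
    show DTmap (μ (algebraMap R R' r)) x = r • x
    rw [← DTmap_smul_id r x]
    exact congrArg (fun φ => DTmap φ x) (LinearMap.ext fun m => algebraMap_smul R' r m)
  let η : M' →ₗ[R'] N :=
    { toFun := _root_.LocCoh.toDT I M'
      map_add' := map_add _
      map_smul' := fun c m => (toDT_natural (μ c) m).symm }
  have hηb : Function.Bijective (DTmap (I := I') η) := DTmap_bijective η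
    (fun m hm => (powTorsion_map_iff R' I m).2 ((toDT_eq_zero_iff m).1 hm))
    (fun q => by
      obtain ⟨x, rfl⟩ := Submodule.Quotient.mk_surjective _ q
      obtain ⟨n, hn⟩ := exists_pow_smul_mem_range x
      refine ⟨n, fun a ha => ?_⟩
      rw [← Ideal.map_pow] at ha
      induction ha using Submodule.span_induction with
      | mem b hb =>
        obtain ⟨c, hc, rfl⟩ := hb
        rw [← Submodule.Quotient.mk_smul, Submodule.Quotient.mk_eq_zero, algebraMap_smul]
        exact hn c hc
      | zero => rw [zero_smul]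
      | add b c _ _ hb hc => rw [add_smul, hb, hc, add_zero]
      | smul b c _ hc => rw [smul_eq_mul, mul_smul, hc, smul_zero])
  have hN0 : powTorsion I' N = ⊥ := eq_bot_iff.2 fun x hx =>
    (Submodule.mem_bot R').2 ((Submodule.mem_bot R).1
      (powTorsion_DT_eq_bot.le ((powTorsion_map_iff R' I x).1 hx)))
  have hNb : Function.Bijective (_root_.LocCoh.toDT I' N) := by
    refine ⟨(injective_iff_map_eq_zero _).2 fun x hx =>
      (Submodule.mem_bot R').1 (hN0.le ((toDT_eq_zero_iff x).1 hx)), ?_⟩
    obtain ⟨e⟩ := nonempty_coker_toDT_equiv I' N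
    obtain ⟨φ, -⟩ := exists_H_independence R R' I 1 N
    haveI : Subsingleton (_root_.LocCoh.H I 1 N) :=
      subsingleton_H1_of_toDT_surjective toDT_DT_bijective.2
    haveI : Subsingleton (_root_.LocCoh.H I' 1 N) := φ.toEquiv.subsingleton
    haveI := e.toEquiv.subsingleton
    exact LinearMap.range_eq_top.1 (Submodule.Quotient.subsingleton_iff.1 inferInstance)
  let e' := (LinearEquiv.ofBijective _ hηb).trans (LinearEquiv.ofBijective _ hNb).symm
  refine ⟨e'.toAddEquiv, fun r x => ?_, fun m => ?_⟩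
  · show e' (algebraMap R R' r • x) = r • e' x
    rw [map_smul, algebraMap_smul]
  · show (LinearEquiv.ofBijective _ hNb).symm (DTmap η (_root_.LocCoh.toDT I' M' m)) = _
    rw [toDT_natural, LinearEquiv.symm_apply_eq]
    rfl

variable (I : Ideal R) (M : Type u) [AddCommGroup M] [Module R M] (S : Submonoid R)

/-- The elements of `S⁻¹M` pushed into `M` by a power of `I`. -/
noncomputable abbrev transformSub : Submodule R (LocalizedModule S M) :=
  ⨆ n : ℕ, ⨅ (a : R) (_ : a ∈ I ^ n),
    (LinearMap.range (LocalizedModule.mkLinearMap S M)).comap (LinearMap.lsmul R (LocalizedModule S M) a)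

omit [IsNoetherianRing R] in
theorem mem_transformSub {x : LocalizedModule S M} : x ∈ transformSub I M S ↔
    ∃ n : ℕ, ∀ a ∈ I ^ n, a • x ∈ LinearMap.range (LocalizedModule.mkLinearMap S M) := by
  rw [transformSub, Submodule.mem_iSup_of_directed _ (Monotone.directed_le fun m n hmn => ?_)]
  · simp
  · exact le_iInf₂ fun a ha => iInf₂_le a (Ideal.pow_le_pow_right hmn ha)

theorem existsUnique_transformSub (hS : ∀ s ∈ S, IsSMulRegular M s) (hSI : ∃ s ∈ S, s ∈ I) :
    ∃! ψ : ↥(transformSub I M S) →ₗ[R] _root_.LocCoh.DT I M,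
      (∀ (x : ↥(transformSub I M S)) (m : M),
        (x : LocalizedModule S M) = LocalizedModule.mkLinearMap S M m →
          ψ x = _root_.LocCoh.toDT I M m) ∧ Function.Bijective ψ := by
  obtain ⟨s₀, hs₀S, hs₀I⟩ := hSI
  let ℓ := LocalizedModule.mkLinearMap S M
  have hℓ : Function.Injective ℓ := (injective_iff_map_eq_zero ℓ).2 fun m hm => by
    obtain ⟨⟨c, hc⟩, h⟩ := (IsLocalizedModule.eq_zero_iff S ℓ).1 hm
    exact hS c hc (h.trans (smul_zero c).symm)
  let e := LinearEquiv.ofInjective ℓ hℓ
  have hex : ∀ x : ↥(transformSub I M S), ∃ (n : ℕ) (f : ↥(I ^ n) →ₗ[R] M),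
      ∀ a : ↥(I ^ n), ℓ (f a) = (a : R) • (x : LocalizedModule S M) := fun x => by
    obtain ⟨n, hn⟩ := (mem_transformSub I M S).1 x.2
    refine ⟨n, e.symm.toLinearMap ∘ₗ ((LinearMap.toSpanSingleton R _ (x : LocalizedModule S M)).comp
      (I ^ n).subtype).codRestrict _ fun a => hn a a.2, fun a => ?_⟩
    exact congrArg Subtype.val (e.apply_symm_apply _)
  choose n f hf using hex
  have hval : ∀ (x : ↥(transformSub I M S)) (m : ℕ) (g : ↥(I ^ m) →ₗ[R] M),
      (∀ a : ↥(I ^ m), ℓ (g a) = (a : R) • (x : LocalizedModule S M)) → τ (n x) (f x) = τ m g := by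
    intro x m g hg
    rw [← τ_restrict (le_max_left (n x) m) (f x), ← τ_restrict (le_max_right (n x) m) g]
    refine congrArg (τ _) (LinearMap.ext fun a => hℓ ?_)
    rw [LinearMap.comp_apply, LinearMap.comp_apply, hf, hg]
    rfl
  let ψ : ↥(transformSub I M S) →ₗ[R] _root_.LocCoh.DT I M :=
    { toFun := fun x => τ (n x) (f x)
      map_add' := fun x y => by
        rw [← τ_restrict (le_max_left (n x) (n y)) (f x), ← τ_restrict (le_max_right (n x) (n y)) (f y),
          ← map_add]
        refine hval _ _ _ fun a => ?_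
        rw [LinearMap.add_apply, LinearMap.comp_apply, LinearMap.comp_apply, map_add, hf, hf,
          Submodule.coe_add, smul_add]
        rfl
      map_smul' := fun c x => by
        rw [RingHom.id_apply, ← map_smul]
        refine hval _ _ _ fun a => ?_
        rw [LinearMap.smul_apply, map_smul, hf, Submodule.coe_smul, smul_comm] }
  refine ⟨ψ, ⟨fun x m hxm => ?_, (injective_iff_map_eq_zero ψ).2 fun x hx => ?_, fun y => ?_⟩,
    fun ψ' hψ' => ?_⟩
  · rw [toDT_eq]
    refine hval x 0 _ fun a => ?_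
    rw [hxm]
    exact map_smul ℓ (a : R) m
  · have hx' : τ (n x) (f x) = 0 := hx
    rw [τ_eq_zero_iff] at hx'
    obtain ⟨m, hm, h0⟩ := hx'
    refine Subtype.ext ?_
    have h1 := h0 (s₀ ^ m) (Ideal.pow_mem_pow hs₀I m)
    have h2 := hf x ⟨s₀ ^ m, Ideal.pow_le_pow_right hm (Ideal.pow_mem_pow hs₀I m)⟩
    rw [h1, map_zero] at h2
    exact (IsLocalizedModule.smul_inj ℓ (⟨s₀ ^ m, S.pow_mem hs₀S m⟩ : S) x.1 0).1
      (h2.symm.trans (smul_zero _).symm)
  · obtain ⟨m, g, rfl⟩ := exists_τ y
    let σ : S := ⟨s₀ ^ m, S.pow_mem hs₀S m⟩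
    let x : LocalizedModule S M := LocalizedModule.mk (g ⟨s₀ ^ m, Ideal.pow_mem_pow hs₀I m⟩) σ
    have hx : ∀ a : ↥(I ^ m), ℓ (g a) = (a : R) • x := fun a => by
      rw [LocalizedModule.smul'_mk, ← map_smul]
      show LocalizedModule.mk (g a) 1 = LocalizedModule.mk _ σ
      rw [LocalizedModule.mk_eq]
      refine ⟨1, ?_⟩
      simp only [one_smul, Submonoid.smul_def, ← map_smul]
      exact congrArg g (Subtype.ext (mul_comm (s₀ ^ m) (a : R)))
    refine ⟨⟨x, (mem_transformSub I M S).2 ⟨m, fun a ha => ⟨g ⟨a, ha⟩, hx ⟨a, ha⟩⟩⟩⟩, ?_⟩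
    exact hval _ m g hx
  · refine LinearMap.ext fun x => sub_eq_zero.1 ?_
    refine (Submodule.mem_bot R).1 (powTorsion_DT_eq_bot.le ⟨n x, fun a ha => ?_⟩)
    rw [smul_sub, ← map_smul, hψ'.1 (a • x) (f x ⟨a, ha⟩) (hf x ⟨a, ha⟩).symm, sub_eq_zero]
    exact (smul_τ (f x) ⟨a, ha⟩).symm

end Groth.Agent.LocCoh
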