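import Groth.Agent.LocCoh.FaltingsRegular
import Groth.Agent.LocCoh.Finiteness
import Groth.Prelude.Def_SGA2

/-!
Grothendieck's finiteness theorem over quotients of regular rings.
-/

set_option autoImplicit false

universe u

open IsLocalRing

namespace Groth.Agent.LocCoh

variable {R : Type u} [CommRing R] [IsNoetherianRing R]

theorem finite_H_iff_lt_finDimRel (I : Ideal R) (M : Type u) [AddCommGroup M] [Module R M]
    [Module.Finite R M] (n : ℕ) :
    (∀ i : ℕ, i ≤ n → Module.Finite R (_root_.LocCoh.H I i M)) ↔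
      (n : ℕ∞) < _root_.LocCoh.finDimRel I I M := by
  constructor
  · intro h
    refine lt_of_lt_of_le (Nat.cast_lt.2 (Nat.lt_succ_self n)) (le_iInf₂ fun i hi => ?_)
    rw [Nat.cast_le]
    by_contra hcon
    haveI := h i (Nat.lt_succ_iff.1 (not_le.1 hcon))
    obtain ⟨k, hk⟩ := exists_pow_smul_H_eq_zero I M i
    exact hi fun a ha => ⟨k, Module.mem_annihilator.2 (hk _ (Ideal.pow_mem_pow ha k))⟩
  · intro h i hi
    have h1 : ∀ j : Fin (n + 1), ∃ k : ℕ, I ^ k ≤ Module.annihilator R (_root_.LocCoh.H I j M) := by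
      intro j
      refine Ideal.exists_pow_le_of_le_radical_of_fg ?_ (IsNoetherian.noetherian _)
      by_contra hcon
      exact absurd h (not_lt.2 (iInf₂_le_of_le (j : ℕ) hcon (Nat.cast_le.2 (Nat.le_of_lt_succ j.2))))
    choose k hk using h1
    refine finite_H_of_pow_smul_eq_zero I i (Finset.univ.sup k) M fun j hj a ha z => ?_
    exact Module.mem_annihilator.1 (hk ⟨j, Nat.lt_succ_of_le (hj.trans hi)⟩
      (Ideal.pow_le_pow_right (Finset.le_sup (f := k) (Finset.mem_univ _)) ha)) z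

/-- Primes over `p` are primes of `R/p`. -/
noncomputable def iciOrderIso (p : PrimeSpectrum R) :
    Set.Ici p ≃o PrimeSpectrum (R ⧸ p.asIdeal) where
  toFun q := ⟨q.1.asIdeal.map (Ideal.Quotient.mk p.asIdeal), isPrime_map_mk q.2⟩
  invFun Q := ⟨⟨Q.asIdeal.comap (Ideal.Quotient.mk p.asIdeal), inferInstance⟩, fun x hx => by
    show Ideal.Quotient.mk p.asIdeal x ∈ Q.asIdeal
    rw [Ideal.Quotient.eq_zero_iff_mem.2 hx]; exact zero_mem _⟩
  left_inv q := Subtype.ext (PrimeSpectrum.ext (comap_map_mk q.2))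
  right_inv Q := PrimeSpectrum.ext (Ideal.map_comap_of_surjective _ Ideal.Quotient.mk_surjective _)
  map_rel_iff' {a b} := by
    refine ⟨fun h => ?_, fun h => Ideal.map_mono h⟩
    have h' := Ideal.comap_mono (f := Ideal.Quotient.mk p.asIdeal) h
    simp only [Equiv.coe_fn_mk] at h'
    rwa [comap_map_mk a.2, comap_map_mk b.2] at h'

theorem orderHeight_eq_hq (p q : PrimeSpectrum R) (h : p ≤ q) :
    Order.height (⟨q, h⟩ : Set.Ici p) = hq p.asIdeal q.asIdeal := by
  rw [← Order.height_orderIso (iciOrderIso p) ⟨q, h⟩, ← PrimeSpectrum.height_eq_orderHeight]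
  rfl

theorem height_map_eq_iInf_hq (I : Ideal R) (p : PrimeSpectrum R) :
    ((I ⊔ p.asIdeal).map (Ideal.Quotient.mk p.asIdeal)).height =
      ⨅ (q : PrimeSpectrum R) (_ : p ≤ q ∧ I ≤ q.asIdeal), hq p.asIdeal q.asIdeal := by
  refine le_antisymm (le_iInf₂ fun q hq' =>
    Ideal.height_mono (Ideal.map_mono (sup_le hq'.2 hq'.1))) ?_
  rw [Ideal.height_eq_inf_minimalPrimes]
  refine le_iInf₂ fun Q hQ => ?_
  haveI := hQ.1.1
  refine iInf₂_le_of_le (⟨Q.comap (Ideal.Quotient.mk p.asIdeal), inferInstance⟩ : PrimeSpectrum R)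
    ⟨(le_sup_right (a := I)).trans (Ideal.map_le_iff_le_comap.1 hQ.1.2),
      (le_sup_left (b := p.asIdeal)).trans (Ideal.map_le_iff_le_comap.1 hQ.1.2)⟩ (le_of_eq ?_)
  show (_ : Ideal _).height = Q.height
  rw [Ideal.map_comap_of_surjective _ Ideal.Quotient.mk_surjective]

theorem relCodim_eq (I : Ideal R) (p : PrimeSpectrum R) :
    _root_.SGA2.relCodim I p = ((I ⊔ p.asIdeal).map (Ideal.Quotient.mk p.asIdeal)).height := by
  rw [height_map_eq_iInf_hq]
  refine le_antisymm (le_iInf₂ fun q hq' => iInf_le_of_le ⟨q, hq'⟩ (le_of_eq (orderHeight_eq_hq p q hq'.1)))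
    (le_iInf fun q => iInf₂_le_of_le q.1 q.2 (le_of_eq (orderHeight_eq_hq p q.1 q.2.1).symm))

theorem adjDepth_eq (I : Ideal R) (M : Type u) [AddCommGroup M] [Module R M] (p : PrimeSpectrum R) :
    _root_.LocCoh.adjDepth I M p =
      _root_.LocCoh.depth (Localization.AtPrime p.asIdeal) (LocalizedModule p.asIdeal.primeCompl M) +
        _root_.SGA2.relCodim I p := by
  rw [relCodim_eq]; rfl

theorem finite_H_iff_forall_lt {S : Type u} [CommRing S] [IsRegularRing S] (π : S →+* R)
    (hπ : Function.Surjective π) (I : Ideal R) (M : Type u) [AddCommGroup M] [Module R M]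
    [Module.Finite R M] (n : ℕ) :
    (∀ i : ℕ, i ≤ n → Module.Finite R (_root_.LocCoh.H I i M)) ↔
      ∀ p : PrimeSpectrum R, ¬ I ≤ p.asIdeal → (n : ℕ∞) <
        _root_.LocCoh.depth (Localization.AtPrime p.asIdeal) (LocalizedModule p.asIdeal.primeCompl M) +
          _root_.SGA2.relCodim I p := by
  rw [finite_H_iff_lt_finDimRel]
  refine ⟨fun h p hp => adjDepth_eq I M p ▸ lt_of_lt_of_le
    (h.trans_le (finDimRel_le_minAdjDepth I I M)) (iInf₂_le p hp), fun h => ?_⟩
  refine lt_of_lt_of_le (Nat.cast_lt.2 (Nat.lt_succ_self n))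
    ((le_iInf₂ fun p hp => ?_).trans (minAdjDepth_le_finDimRel π hπ I I M))
  rw [adjDepth_eq, Nat.cast_succ]
  exact Order.add_one_le_of_lt (h p hp)

/-- Below a point of `V(I)` there is a last point outside `V(I)`. -/
theorem exists_last_notMem (I : Ideal R) (p q : PrimeSpectrum R) (hpq : p ≤ q)
    (hp : ¬ I ≤ p.asIdeal) (hq' : I ≤ q.asIdeal) :
    ∃ s t : PrimeSpectrum R, p ≤ s ∧ ¬ I ≤ s.asIdeal ∧ I ≤ t.asIdeal ∧ s ⋖ t ∧ t ≤ q ∧
      hq p.asIdeal s.asIdeal + 1 ≤ hq p.asIdeal q.asIdeal := by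
  obtain ⟨J, ⟨hJ, hpJ, hJq, hIJ⟩, hmax⟩ := set_has_maximal_iff_noetherian.2 inferInstance
    {J : Ideal R | J.IsPrime ∧ p.asIdeal ≤ J ∧ J ≤ q.asIdeal ∧ ¬ I ≤ J}
    ⟨p.asIdeal, p.2, le_rfl, hpq, hp⟩
  obtain ⟨T, hT, hTq⟩ := Ideal.exists_minimalPrimes_le (sup_le hq' hJq : I ⊔ J ≤ q.asIdeal)
  haveI := hT.1.1
  have hJT : J < T := lt_of_le_of_ne (le_sup_right.trans hT.1.2)
    fun e => hIJ (e ▸ le_sup_left.trans hT.1.2)
  refine ⟨⟨J, hJ⟩, ⟨T, hT.1.1⟩, hpJ, hIJ, le_sup_left.trans hT.1.2, ⟨hJT, fun r hJr hrT => ?_⟩,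
    hTq, hq_add_one_le hpJ (hJT.trans_le hTq)⟩
  by_cases hIr : I ≤ r.asIdeal
  · exact not_le_of_gt (α := PrimeSpectrum R) hrT (hT.2 ⟨r.2, sup_le hIr (le_of_lt (α := PrimeSpectrum R) hJr)⟩ (le_of_lt (α := PrimeSpectrum R) hrT))
  · exact hmax r.asIdeal ⟨r.2, hpJ.trans (le_of_lt (α := PrimeSpectrum R) hJr),
      (le_of_lt (α := PrimeSpectrum R) hrT).trans hTq, hIr⟩ hJr

theorem relCodim_le_one_of_covBy {I : Ideal R} {s t : PrimeSpectrum R} (h : s ⋖ t)
    (ht : I ≤ t.asIdeal) : _root_.SGA2.relCodim I s ≤ 1 := by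
  refine iInf_le_of_le ⟨t, h.le, ht⟩ ?_
  by_contra hcon
  rw [orderHeight_eq_hq s t h.le, not_le] at hcon
  obtain ⟨a, hat, has⟩ := SetLike.exists_of_lt (show s.asIdeal < t.asIdeal from h.lt)
  obtain ⟨r, hr, hsr, hrt, -⟩ := exists_prime_between (show s.asIdeal < t.asIdeal from h.lt) hcon hat has
  exact h.2 (c := ⟨r, hr⟩) hsr hrt

theorem one_le_relCodim {I : Ideal R} {s : PrimeSpectrum R} (hs : ¬ I ≤ s.asIdeal) :
    1 ≤ _root_.SGA2.relCodim I s := by
  refine le_iInf fun t => ?_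
  rw [orderHeight_eq_hq s t.1 t.2.1]
  exact one_le_map_height_of_not_le (lt_of_le_of_ne t.2.1
    fun e => hs (e ▸ t.2.2) : s.asIdeal < t.1.asIdeal)

/-- It suffices to test the depth at the last points outside `V(I)`. -/
theorem forall_lt_iff_covBy (I : Ideal R) (M : Type u) [AddCommGroup M] [Module R M]
    [Module.Finite R M] (n : ℕ) :
    (∀ p : PrimeSpectrum R, ¬ I ≤ p.asIdeal → (n : ℕ∞) <
        _root_.LocCoh.depth (Localization.AtPrime p.asIdeal) (LocalizedModule p.asIdeal.primeCompl M) +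
          _root_.SGA2.relCodim I p) ↔
    (∀ p q : PrimeSpectrum R, ¬ I ≤ p.asIdeal → I ≤ q.asIdeal → p ⋖ q → (n : ℕ∞) ≤
      _root_.LocCoh.depth (Localization.AtPrime p.asIdeal) (LocalizedModule p.asIdeal.primeCompl M)) := by
  constructor
  · intro h p q hp hq' hpq
    have h1 := (h p hp).trans_le (add_le_add le_rfl (relCodim_le_one_of_covBy hpq hq'))
    rcases eq_or_ne (_root_.LocCoh.depth (Localization.AtPrime p.asIdeal)
        (LocalizedModule p.asIdeal.primeCompl M)) ⊤ with hD | hD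
    · rw [hD]; exact le_top
    obtain ⟨D, hD'⟩ := ENat.ne_top_iff_exists.1 hD
    rw [← hD'] at h1 ⊢
    rw [← Nat.cast_one, ← Nat.cast_add, Nat.cast_lt] at h1
    exact_mod_cast Nat.lt_succ_iff.1 h1
  · intro h p hp
    refine lt_of_lt_of_le (Nat.cast_lt.2 (Nat.lt_succ_self n)) ?_
    rw [relCodim_eq, height_map_eq_iInf_hq, Nat.cast_succ]
    by_cases hne : ∀ q : PrimeSpectrum R, ¬ (p ≤ q ∧ I ≤ q.asIdeal)
    · simp [hne]
    push Not at hne
    obtain ⟨q₀, hq₀⟩ := hne
    haveI : Nonempty {q : PrimeSpectrum R // p ≤ q ∧ I ≤ q.asIdeal} := ⟨⟨q₀, hq₀⟩⟩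
    rw [iInf_subtype', ENat.add_iInf]
    refine le_iInf fun q => ?_
    obtain ⟨s, t, hps, hs, ht, hst, -, hlen⟩ := exists_last_notMem I p q.1 q.2.1 hp q.2.2
    refine (add_le_add ((h s t hs ht hst).trans (depth_le_depth_add_hq M p.asIdeal s.asIdeal hps))
      le_rfl).trans ?_
    rw [add_assoc]
    exact add_le_add le_rfl hlen

theorem forall_covBy_iff_relCodim_one (I : Ideal R) (M : Type u) [AddCommGroup M] [Module R M]
    [Module.Finite R M] (n : ℕ) :
    (∀ p : PrimeSpectrum R, ¬ I ≤ p.asIdeal → (n : ℕ∞) <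
        _root_.LocCoh.depth (Localization.AtPrime p.asIdeal) (LocalizedModule p.asIdeal.primeCompl M) +
          _root_.SGA2.relCodim I p) ↔
    (∀ p : PrimeSpectrum R, ¬ I ≤ p.asIdeal → _root_.SGA2.relCodim I p = 1 → (n : ℕ∞) ≤
      _root_.LocCoh.depth (Localization.AtPrime p.asIdeal) (LocalizedModule p.asIdeal.primeCompl M)) := by
  constructor
  · intro h p hp hc
    have h1 := h p hp
    rw [hc] at h1
    rcases eq_or_ne (_root_.LocCoh.depth (Localization.AtPrime p.asIdeal)
        (LocalizedModule p.asIdeal.primeCompl M)) ⊤ with hD | hD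
    · rw [hD]; exact le_top
    obtain ⟨D, hD'⟩ := ENat.ne_top_iff_exists.1 hD
    rw [← hD'] at h1 ⊢
    rw [← Nat.cast_one, ← Nat.cast_add, Nat.cast_lt] at h1
    exact_mod_cast Nat.lt_succ_iff.1 h1
  · intro h
    rw [forall_lt_iff_covBy]
    exact fun p q hp hq' hpq => h p hp (le_antisymm (relCodim_le_one_of_covBy hpq hq') (one_le_relCodim hp))

/-- In a regular ring heights add along primes. -/
theorem height_add_hq_eq {S : Type u} [CommRing S] [IsRegularRing S] (P Q : Ideal S) [P.IsPrime]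
    [Q.IsPrime] (h : P ≤ Q) : P.height + hq P Q = Q.height := by
  refine le_antisymm ?_ ?_
  · have hbot : ∀ x : Ideal S, hq ⊥ x = x.height := fun x =>
      RingEquiv.height_map (RingEquiv.quotientBot S).symm x
    have h1 := hq_add_le (bot_le : ⊥ ≤ P) h
    rwa [hbot, hbot] at h1
  · haveI := CAlgH3.isCohenMacaulayRing_of_isRegularRing (R := S)
    let B := Localization.AtPrime Q
    haveI : _root_.LocCoh.IsCohenMacaulayLocalRing B :=
      _root_.LocCoh.IsCohenMacaulayRing.isCohenMacaulayLocalRing_localization Q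
    have hdisj : Disjoint (Q.primeCompl : Set S) P := Set.disjoint_compl_left_iff_subset.2 h
    haveI : (P.map (algebraMap S B)).IsPrime :=
      IsLocalization.isPrime_of_isPrime_disjoint Q.primeCompl _ _ inferInstance hdisj
    have h1 := CAlgH3.height_add_ringKrullDim_quotient (P.map (algebraMap S B))
    rw [IsLocalization.AtPrime.ringKrullDim_eq_height Q B, ← IsLocalization.height_under Q.primeCompl,
      IsLocalization.under_map_of_isPrime_disjoint Q.primeCompl B inferInstance hdisj] at h1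
    have h2 := h1.symm.le.trans (add_le_add le_rfl (ringKrullDim_quotient_map_atPrime_le P Q))
    rw [← WithBot.coe_add] at h2
    exact WithBot.coe_le_coe.1 h2

theorem hq_comap_eq {S : Type u} [CommRing S] (π : S →+* R) (hπ : Function.Surjective π)
    (p x : Ideal R) : hq (p.comap π) (x.comap π) = hq p x := by
  let g : S →+* R ⧸ p := (Ideal.Quotient.mk p).comp π
  have hgsurj : Function.Surjective g := Ideal.Quotient.mk_surjective.comp hπ
  have hker : RingHom.ker g = p.comap π := by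
    rw [show RingHom.ker g = (RingHom.ker (Ideal.Quotient.mk p)).comap π
      from (RingHom.comap_ker _ _).symm, Ideal.mk_ker]
  let e : S ⧸ p.comap π ≃+* R ⧸ p :=
    (Ideal.quotEquivOfEq hker.symm).trans (RingHom.quotientKerEquivOfSurjective hgsurj)
  conv_lhs => rw [hq, ← RingEquiv.height_map e]
  refine congrArg Ideal.height ?_
  show ((x.comap π).map (Ideal.Quotient.mk (p.comap π))).map (e : S ⧸ p.comap π →+* R ⧸ p) = _
  rw [Ideal.map_map, show (e : S ⧸ p.comap π →+* R ⧸ p).comp (Ideal.Quotient.mk (p.comap π)) = g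
    from rfl, ← Ideal.map_map, Ideal.map_comap_of_surjective _ hπ]

/-- Quotients of regular rings are catenary: lengths add along primes. -/
theorem hq_add_eq {S : Type u} [CommRing S] [IsRegularRing S] (π : S →+* R)
    (hπ : Function.Surjective π) (p s q : Ideal R) [p.IsPrime] [s.IsPrime] [q.IsPrime]
    (hps : p ≤ s) (hsq : s ≤ q) : hq p s + hq s q = hq p q := by
  have h1 := height_add_hq_eq (p.comap π) (s.comap π) (Ideal.comap_mono hps)
  have h2 := height_add_hq_eq (s.comap π) (q.comap π) (Ideal.comap_mono hsq)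
  have h3 := height_add_hq_eq (p.comap π) (q.comap π) (Ideal.comap_mono (hps.trans hsq))
  rw [hq_comap_eq π hπ] at h1 h2 h3
  have hfin : (p.comap π).height ≠ ⊤ := Ideal.height_ne_top Ideal.IsPrime.ne_top'
  refine (ENat.addLECancellable_of_ne_top hfin).inj.1 ?_
  rw [h3, ← add_assoc, h1, h2]

/-- `ht (q/p) ≤ dim R_q/pR_q`. -/
theorem hq_le_ringKrullDim_quotient_map_atPrime (p q : Ideal R) [p.IsPrime] [q.IsPrime] (h : p ≤ q) :
    (hq p q : WithBot ℕ∞) ≤
      ringKrullDim (Localization.AtPrime q ⧸ p.map (algebraMap R (Localization.AtPrime q))) := by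
  haveI := isPrime_map_mk h
  let B := Localization.AtPrime q
  let C := B ⧸ p.map (algebraMap R B)
  have hne : p.map (algebraMap R B) ≤ maximalIdeal B :=
    (Ideal.map_mono h).trans Localization.AtPrime.map_eq_maximalIdeal.le
  haveI : Nontrivial C :=
    Ideal.Quotient.nontrivial_iff.2 (ne_top_of_le_ne_top (maximalIdeal.isMaximal B).ne_top hne)
  haveI : IsLocalRing C := .of_surjective' _ Ideal.Quotient.mk_surjective
  let J : Ideal C := (q.map (Ideal.Quotient.mk p)).map (algebraMap (R ⧸ p) C)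
  have hJ : J ≠ ⊤ := by
    have hJ' : J ≤ (maximalIdeal B).map (Ideal.Quotient.mk (p.map (algebraMap R B))) := by
      show (q.map (Ideal.Quotient.mk p)).map (algebraMap (R ⧸ p) C) ≤ _
      rw [Ideal.map_map, ← Localization.AtPrime.map_eq_maximalIdeal, Ideal.map_map]
      exact le_of_eq (congrArg (fun f : R →+* C => q.map f) (RingHom.ext fun r => rfl))
    refine ne_top_of_le_ne_top (fun e => (maximalIdeal.isMaximal B).ne_top ?_) hJ'
    rw [← comap_map_mk (q := maximalIdeal B) hne, e, Ideal.comap_top]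
  refine le_trans (WithBot.coe_le_coe.2 ?_) (IsLocalRing.maximalIdeal_height_eq_ringKrullDim (R := C)).le
  refine le_trans ?_ (Ideal.height_mono (IsLocalRing.le_maximalIdeal hJ))
  rw [← IsLocalization.height_under (Algebra.algebraMapSubmonoid (R ⧸ p) q.primeCompl) J]
  exact Ideal.height_mono Ideal.le_comap_map

theorem hq_le_depth_of_cm {M : Type u} [AddCommGroup M] [Module R M] [Module.Finite R M]
    (p₀ p : PrimeSpectrum R) (h : p₀ ≤ p) (hs : p₀ ∈ Module.support R M)
    (hCM : _root_.LocCoh.IsCohenMacaulayModule (Localization.AtPrime p.asIdeal)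
      (LocalizedModule p.asIdeal.primeCompl M)) :
    hq p₀.asIdeal p.asIdeal ≤
      _root_.LocCoh.depth (Localization.AtPrime p.asIdeal) (LocalizedModule p.asIdeal.primeCompl M) := by
  let B := Localization.AtPrime p.asIdeal
  let N := LocalizedModule p.asIdeal.primeCompl M
  haveI : IsNoetherianRing B := IsLocalization.isNoetherianRing p.asIdeal.primeCompl B inferInstance
  haveI : Module.Finite B N := Module.Finite.of_isLocalizedModule (Rₚ := B) p.asIdeal.primeCompl
    (LocalizedModule.mkLinearMap p.asIdeal.primeCompl M)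
  have hdisj : Disjoint (p.asIdeal.primeCompl : Set R) p₀.asIdeal :=
    Set.disjoint_compl_left_iff_subset.2 h
  obtain ⟨P, hPdef⟩ : ∃ P : PrimeSpectrum B, P.asIdeal = p₀.asIdeal.map (algebraMap R B) :=
    ⟨⟨_, IsLocalization.isPrime_of_isPrime_disjoint p.asIdeal.primeCompl _ _ p₀.2 hdisj⟩, rfl⟩
  have hP : P ∈ Module.support B N := by
    obtain ⟨m, hm⟩ := Module.mem_support_iff'.1 hs
    refine Module.mem_support_iff'.2 ⟨LocalizedModule.mkLinearMap p.asIdeal.primeCompl M m,
      fun x hxP hx => hxP ?_⟩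
    obtain ⟨⟨r, s⟩, hr⟩ := IsLocalization.surj p.asIdeal.primeCompl x
    have h0 : (x * algebraMap R B (s : R)) •
        LocalizedModule.mkLinearMap p.asIdeal.primeCompl M m = 0 := by
      rw [mul_comm, mul_smul, hx, smul_zero]
    rw [hr, IsScalarTower.algebraMap_smul, ← map_smul] at h0
    obtain ⟨u, hu⟩ := (IsLocalizedModule.eq_zero_iff p.asIdeal.primeCompl _).1 h0
    have hr0 : r ∈ p₀.asIdeal := by
      by_contra hr0
      refine hm ((u : R) * r) (fun hh => ?_) (by rw [mul_smul]; exact hu)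
      exact (p₀.2.mem_or_mem hh).elim (fun h2 => u.2 (h h2)) hr0
    have hmem : algebraMap R B r ∈ P.asIdeal := hPdef ▸ Ideal.mem_map_of_mem _ hr0
    rw [← hr] at hmem
    exact (P.2.mem_or_mem hmem).resolve_right fun hh => P.2.ne_top
      (Ideal.eq_top_of_isUnit_mem _ hh (IsLocalization.map_units B s))
  have ha := hq_le_ringKrullDim_quotient_map_atPrime p₀.asIdeal p.asIdeal h
  rw [← hPdef] at ha
  have hb : ringKrullDim (B ⧸ P.asIdeal) ≤ Module.supportDim B N :=
    CAlgH3.ringKrullDim_quotient_le_supportDim hP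
  have hc : Module.supportDim B N = ((_root_.LocCoh.depth B N : ℕ∞) : WithBot ℕ∞) := hCM
  exact WithBot.coe_le_coe.1 (le_trans ha (le_trans hb (le_of_eq hc)))

theorem forall_lt_iff_minimal_of_cm {S : Type u} [CommRing S] [IsRegularRing S] (π : S →+* R)
    (hπ : Function.Surjective π) (I : Ideal R) (M : Type u) [AddCommGroup M] [Module R M]
    [Module.Finite R M]
    (hCM : ∀ p : PrimeSpectrum R, ¬ I ≤ p.asIdeal →
      Subsingleton (LocalizedModule p.asIdeal.primeCompl M) ∨
      _root_.LocCoh.IsCohenMacaulayModule (Localization.AtPrime p.asIdeal)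
        (LocalizedModule p.asIdeal.primeCompl M)) (n : ℕ) :
    (∀ p : PrimeSpectrum R, ¬ I ≤ p.asIdeal → (n : ℕ∞) <
        _root_.LocCoh.depth (Localization.AtPrime p.asIdeal) (LocalizedModule p.asIdeal.primeCompl M) +
          _root_.SGA2.relCodim I p) ↔
    (∀ p : PrimeSpectrum R, ¬ I ≤ p.asIdeal → p.asIdeal ∈ (Module.annihilator R M).minimalPrimes →
      (n : ℕ∞) < _root_.SGA2.relCodim I p) := by
  constructor
  · intro h p hp hmin
    have h1 := h p hp
    haveI : IsNoetherianRing (Localization.AtPrime p.asIdeal) :=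
      IsLocalization.isNoetherianRing p.asIdeal.primeCompl _ inferInstance
    haveI : Nontrivial (LocalizedModule p.asIdeal.primeCompl M) := Module.mem_support_iff.1
      (by rw [Module.support_eq_zeroLocus]; exact hmin.1.2)
    have h2 : _root_.LocCoh.depth (Localization.AtPrime p.asIdeal)
        (LocalizedModule p.asIdeal.primeCompl M) = 0 :=
      CAlgH3.depth_eq_zero_iff.2 (Module.associatedPrimes.mem_associatedPrimes_atPrime_of_mem_associatedPrimes
        (Module.associatedPrimes.minimalPrimes_annihilator_subset_associatedPrimes R M hmin))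
    rwa [h2, zero_add] at h1
  · intro h p hp
    haveI : IsNoetherianRing (Localization.AtPrime p.asIdeal) :=
      IsLocalization.isNoetherianRing p.asIdeal.primeCompl _ inferInstance
    refine lt_of_lt_of_le (Nat.cast_lt.2 (Nat.lt_succ_self n)) ?_
    rcases hCM p hp with h0 | hcm
    · rw [CAlgH3.depth_eq_top_of_subsingleton, top_add]; exact le_top
    haveI := CAlgH3.nontrivial_of_cm hcm
    have hsupp : Module.annihilator R M ≤ p.asIdeal := by
      have h1 : p ∈ Module.support R M := Module.mem_support_iff.2 inferInstance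
      rwa [Module.support_eq_zeroLocus] at h1
    obtain ⟨P₀, hP₀, hle⟩ := Ideal.exists_minimalPrimes_le hsupp
    haveI := hP₀.1.1
    let p₀ : PrimeSpectrum R := ⟨P₀, hP₀.1.1⟩
    have hp₀ : ¬ I ≤ P₀ := fun hh => hp (hh.trans hle)
    rw [relCodim_eq, height_map_eq_iInf_hq]
    by_cases hne : ∀ q : PrimeSpectrum R, ¬ (p ≤ q ∧ I ≤ q.asIdeal)
    · simp [hne]
    push Not at hne
    obtain ⟨q₀, hq₀⟩ := hne
    haveI : Nonempty {q : PrimeSpectrum R // p ≤ q ∧ I ≤ q.asIdeal} := ⟨⟨q₀, hq₀⟩⟩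
    rw [iInf_subtype', ENat.add_iInf]
    refine le_iInf fun q => ?_
    have h3 : ((n + 1 : ℕ) : ℕ∞) ≤ hq P₀ q.1.asIdeal := by
      rw [Nat.cast_add, Nat.cast_one]
      refine Order.add_one_le_of_lt ((h p₀ hp₀ hP₀).trans_le ?_)
      rw [relCodim_eq, height_map_eq_iInf_hq]
      exact iInf₂_le q.1 ⟨hle.trans q.2.1, q.2.2⟩
    refine h3.trans ?_
    rw [← hq_add_eq π hπ P₀ p.asIdeal q.1.asIdeal hle q.2.1]
    exact add_le_add (hq_le_depth_of_cm p₀ p hle
      (by rw [Module.support_eq_zeroLocus]; exact hP₀.1.2) hcm) le_rfl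

end Groth.Agent.LocCoh
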