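import Groth.Agent.LocCoh.SymbolicPower
import Groth.Agent.LocCoh.GorensteinCriteria
import Groth.Agent.LocCoh.DepthLocal
import Groth.Agent.LocCoh.CanonicalCM
import Groth.Agent.LocCoh.BaseChange
import Groth.Agent.LocCoh.NonVanishing
import Groth.Agent.CAlgH.CompleteLocal
import Groth.Agent.CAlgH3.RegularHom
import Groth.Agent.S0342

/-!
The Hartshorne–Lichtenbaum vanishing theorem.
-/

set_option autoImplicit false

universe u

open CategoryTheory CategoryTheory.Abelian IsLocalRing Polynomial
open scoped TensorProduct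

namespace Groth.Agent.LocCoh

/-- A local ring with a finite injection into a complete local ring is complete. -/
theorem isPrecomplete_of_finite_injective {B D : Type u} [CommRing B] [IsLocalRing B] [IsNoetherianRing B]
    [CommRing D] [IsLocalRing D] [IsAdicComplete (maximalIdeal D) D] [Algebra B D] [Module.Finite B D]
    (hinj : Function.Injective (algebraMap B D)) : IsPrecomplete (maximalIdeal B) B := by
  haveI : IsNoetherianRing D := IsNoetherianRing.of_finite B D
  haveI : Algebra.IsIntegral B D := Algebra.IsIntegral.of_finite B D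
  have hcomap : (maximalIdeal D).comap (algebraMap B D) = maximalIdeal B :=
    IsLocalRing.eq_maximalIdeal (Ideal.isMaximal_comap_of_isIntegral_of_isMaximal (maximalIdeal D))
  have hrad : maximalIdeal D ≤ ((maximalIdeal B).map (algebraMap B D)).radical := by
    rw [Ideal.radical_eq_sInf]
    refine le_sInf ?_
    rintro P ⟨hP, hPp⟩
    haveI := hPp
    have hmax : P.IsMaximal := Ideal.isMaximal_of_isIntegral_of_isMaximal_comap P (by
      rw [show P.comap (algebraMap B D) = maximalIdeal B from
        ((maximalIdeal.isMaximal B).eq_of_le (hPp.comap _).ne_top (Ideal.map_le_iff_le_comap.1 hP)).symm]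
      infer_instance)
    rw [IsLocalRing.eq_maximalIdeal hmax]
  obtain ⟨k, hk⟩ := Ideal.exists_pow_le_of_le_radical_of_fg hrad (IsNoetherian.noetherian (maximalIdeal D))
  have hpow : ∀ s : ℕ, ∀ z ∈ maximalIdeal D ^ (k * s), z ∈ maximalIdeal B ^ s • (⊤ : Submodule B D) := by
    intro s z hz
    rw [Ideal.smul_top_eq_map, Submodule.restrictScalars_mem, Ideal.map_pow]
    rw [pow_mul] at hz
    exact Ideal.pow_right_mono hk s hz
  have hmap : ∀ {j : ℕ} {a : B}, a ∈ maximalIdeal B ^ j → algebraMap B D a ∈ maximalIdeal D ^ j := fun ha => by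
    refine Ideal.pow_right_mono (Ideal.map_le_iff_le_comap.2 hcomap.ge) _ ?_
    rw [← Ideal.map_pow]
    exact Ideal.mem_map_of_mem _ ha
  refine ⟨fun f hf => ?_⟩
  have hf' : ∀ {a b : ℕ}, a ≤ b → f a - f b ∈ maximalIdeal B ^ a := fun h => by
    have := hf h
    rwa [SModEq.sub_mem, smul_eq_mul, Ideal.mul_top] at this
  obtain ⟨y, hy⟩ := IsPrecomplete.prec (I := maximalIdeal D) inferInstance
    (f := fun i => algebraMap B D (f i)) (fun {a b} hab => by
      rw [SModEq.sub_mem, smul_eq_mul, Ideal.mul_top, ← map_sub]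
      exact hmap (hf' hab))
  have hy' : ∀ i, algebraMap B D (f i) - y ∈ maximalIdeal D ^ i := fun i => by
    have := hy i
    rwa [SModEq.sub_mem, smul_eq_mul, Ideal.mul_top] at this
  have hclosed : ∀ (N : Submodule B D) (z : D),
      (∀ s : ℕ, ∃ w ∈ N, z - w ∈ maximalIdeal B ^ s • (⊤ : Submodule B D)) → z ∈ N := by
    intro N z hz
    rw [← Submodule.Quotient.mk_eq_zero N]
    have h : (Submodule.Quotient.mk z : D ⧸ N) ∈ ⨅ s : ℕ, maximalIdeal B ^ s • (⊤ : Submodule B (D ⧸ N)) := by
      rw [Submodule.mem_iInf]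
      intro s
      obtain ⟨w, hw, hzw⟩ := hz s
      have h1 := Submodule.mem_map_of_mem (f := N.mkQ) hzw
      rw [Submodule.map_smul'', Submodule.mkQ_apply, Submodule.Quotient.mk_sub,
        (Submodule.Quotient.mk_eq_zero N).2 hw, sub_zero] at h1
      exact Submodule.smul_mono le_rfl le_top h1
    rwa [Ideal.iInf_pow_smul_eq_bot_of_le_jacobson _ (IsLocalRing.maximalIdeal_le_jacobson _),
      Submodule.mem_bot] at h
  obtain ⟨b, hb⟩ := hclosed (LinearMap.range (Algebra.linearMap B D)) y fun s =>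
    ⟨algebraMap B D (f (k * s)), ⟨f (k * s), rfl⟩, by
      rw [← neg_sub]; exact neg_mem (hpow s _ (hy' (k * s)))⟩
  refine ⟨b, fun j => ?_⟩
  rw [SModEq.sub_mem, smul_eq_mul, Ideal.mul_top]
  obtain ⟨c, hc, hcd⟩ := hclosed (Submodule.map (Algebra.linearMap B D) (maximalIdeal B ^ j))
    (algebraMap B D (f j) - y) fun s => by
      refine ⟨algebraMap B D (f j - f (max j (k * s))), ⟨_, hf' (le_max_left _ _), rfl⟩, ?_⟩
      rw [map_sub, show algebraMap B D (f j) - y - (algebraMap B D (f j) - algebraMap B D (f (max j (k * s)))) =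
        algebraMap B D (f (max j (k * s))) - y by ring]
      exact hpow s _ (Ideal.pow_le_pow_right (le_max_right _ _) (hy' _))
  rw [show f j - b = c from hinj (by rw [map_sub, show algebraMap B D b = y from hb]; exact hcd.symm)]
  exact hc

/-- A finite simple extension inside a complete local domain `D` of a regular local ring is a complete
Gorenstein local domain. -/
theorem exists_gorenstein_subring {S D : Type u} [CommRing S] [IsRegularLocalRing S]
    [CommRing D] [IsDomain D] [IsLocalRing D] [Algebra S D]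
    [Module.Finite S D] (hinj : Function.Injective (algebraMap S D)) (θ : D) :
    ∃ (B : Type u) (_ : CommRing B) (_ : _root_.LocCoh.IsGorensteinLocalRing B) (_ : IsDomain B)
      (ι : B →+* D) (g : S →+* B),
      Function.Injective ι ∧ ι.Finite ∧ ι.comp g = algebraMap S D ∧ θ ∈ ι.range := by
  haveI : IsDomain S := CAlgH3.isDomain_of_isRegularLocalRing S
  haveI : IsIntegrallyClosed S := CAlgH3.isIntegrallyClosed_of_regular S
  haveI : FaithfulSMul S D := (faithfulSMul_iff_algebraMap_injective S D).2 hinj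
  haveI : Algebra.IsIntegral S D := Algebra.IsIntegral.of_finite S D
  haveI : Module.IsTorsionFree S D := Module.isTorsionFree_iff_algebraMap_injective.2 hinj
  have hθ : IsIntegral S θ := Algebra.IsIntegral.isIntegral θ
  set f := minpoly S θ
  let ψ : S[X] →+* D := (Polynomial.aeval (R := S) θ).toRingHom
  let M : Ideal S[X] := (maximalIdeal D).comap ψ
  have hu : ∀ y : M.primeCompl, IsUnit (ψ y) := fun y => IsLocalRing.notMem_maximalIdeal.1 y.2
  let L := Localization.AtPrime M
  let ψ' : L →+* D := IsLocalization.lift hu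
  let f' : L := algebraMap S[X] L f
  have hfker : RingHom.ker ψ' = Ideal.span {f'} := by
    refine le_antisymm (fun x hx => ?_) ?_
    · obtain ⟨a, s, rfl⟩ := IsLocalization.exists_mk'_eq M.primeCompl x
      rw [RingHom.mem_ker, IsLocalization.lift_mk'_spec, mul_zero] at hx
      have ha : a ∈ Ideal.span {f} := by
        rw [← minpoly.ker_eval hθ]
        exact hx
      obtain ⟨c, rfl⟩ := Ideal.mem_span_singleton'.1 ha
      rw [Ideal.mem_span_singleton, IsLocalization.mk'_eq_mul_mk'_one, map_mul]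
      exact (dvd_mul_left f' _).mul_right _
    · rw [Ideal.span_singleton_le_iff_mem, RingHom.mem_ker, IsLocalization.lift_eq]
      exact minpoly.aeval S θ
  haveI : IsRegularRing S := CAlgH3.isRegularRing_of_isRegularLocalRing
  haveI : IsRegularLocalRing L := IsRegularRing.isRegularLocalRing_localization (R := S[X]) M
  haveI : IsDomain L := CAlgH3.isDomain_of_isRegularLocalRing L
  haveI : _root_.LocCoh.IsGorensteinLocalRing L := S0342.result L
  have hf0 : f' ≠ 0 := fun h => minpoly.ne_zero hθ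
    (IsLocalization.injective L M.primeCompl_le_nonZeroDivisors (h.trans (map_zero _).symm))
  have hfM : f' ∈ maximalIdeal L := by
    rw [IsLocalRing.mem_maximalIdeal]
    intro h
    refine not_isUnit_zero (M₀ := D) ?_
    rw [← show ψ' f' = 0 from RingHom.mem_ker.1 (hfker ▸ Ideal.mem_span_singleton_self f')]
    exact h.map ψ'
  let B := L ⧸ Ideal.span {f'}
  haveI hB : _root_.LocCoh.IsGorensteinLocalRing B :=
    (gorenstein_quotient_iff hfM (IsLeftRegular.isSMulRegular (IsLeftCancelMulZero.mul_left_cancel_of_ne_zero hf0))).1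
      inferInstance
  let ι : B →+* D := Ideal.Quotient.lift _ ψ' fun x hx => RingHom.mem_ker.1 (hfker ▸ hx)
  have hιinj : Function.Injective ι := by
    rw [injective_iff_map_eq_zero]
    intro x hx
    obtain ⟨y, rfl⟩ := Ideal.Quotient.mk_surjective x
    rw [Ideal.Quotient.eq_zero_iff_mem, ← hfker]
    exact hx
  let g : S →+* B := (Ideal.Quotient.mk _).comp ((algebraMap S[X] L).comp Polynomial.C)
  have hg : ι.comp g = algebraMap S D := RingHom.ext fun s => by
    show ψ' (algebraMap S[X] L (Polynomial.C s)) = algebraMap S D s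
    rw [IsLocalization.lift_eq]
    exact Polynomial.aeval_C θ s
  have hfinS : (ι.comp g).Finite := by
    rw [hg]
    exact RingHom.finite_algebraMap.2 inferInstance
  haveI : IsDomain B := hιinj.isDomain ι
  refine ⟨B, inferInstance, hB, inferInstance, ι, g, hιinj,
    RingHom.Finite.of_comp_finite hfinS, hg, ⟨Ideal.Quotient.mk _ (algebraMap S[X] L Polynomial.X), ?_⟩⟩
  show ψ' (algebraMap S[X] L Polynomial.X) = θ
  rw [IsLocalization.lift_eq]
  exact Polynomial.aeval_X θ

variable {R : Type u} [CommRing R]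

/-- The complete Gorenstein domain case. -/
theorem subsingleton_H_gorenstein_domain [IsDomain R] [_root_.LocCoh.IsGorensteinLocalRing R]
    [IsPrecomplete (maximalIdeal R) R] {d : ℕ} (hd : ringKrullDim R = d) (p : Ideal R) [p.IsPrime]
    (hp : ringKrullDim (R ⧸ p) = 1) : Subsingleton (_root_.LocCoh.H p d R) := by
  refine subsingleton_of_forall_eq 0 fun h => ?_
  obtain ⟨n, x, rfl⟩ := exists_cls h
  rw [cls_eq_zero_iff]
  obtain ⟨t, hnt, ht⟩ := exists_symb_le_pow (p := p) hp n
  refine ⟨t, hnt, ?_⟩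
  let π₁ : (R ⧸ p ^ t) →ₗ[R] R ⧸ symb p t := Submodule.mapQ _ _ LinearMap.id (pow_le_symb t)
  let π₂ : (R ⧸ symb p t) →ₗ[R] R ⧸ p ^ n := Submodule.mapQ _ _ LinearMap.id ht
  have hπ : qmap p hnt = ModuleCat.ofHom π₁ ≫ ModuleCat.ofHom π₂ :=
    ModuleCat.hom_ext (Submodule.linearMap_qext _ rfl)
  obtain ⟨E, _, _, hE⟩ := Matlis6.exists_isHullAt (maximalIdeal R)
  obtain ⟨δ⟩ := gorenstein_duality hd hE d 0 (zero_add d) (R ⧸ symb p t)
  haveI : Subsingleton (_root_.LocCoh.H (maximalIdeal R) 0 (R ⧸ symb p t)) := by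
    rw [subsingleton_H0_iff, eq_bot_iff]
    rintro z ⟨k, hk⟩
    obtain ⟨r, rfl⟩ := Submodule.Quotient.mk_surjective _ z
    rw [Submodule.mem_bot, Submodule.Quotient.mk_eq_zero]
    obtain ⟨s, hs, hsp⟩ : ∃ s ∈ maximalIdeal R ^ k, s ∉ p := by
      by_contra hcon
      push Not at hcon
      have h1 : maximalIdeal R ≤ p := fun a ha =>
        (inferInstance : p.IsPrime).mem_of_pow_mem k (hcon _ (Ideal.pow_mem_pow ha k))
      rw [show p = maximalIdeal R from le_antisymm (IsLocalRing.le_maximalIdeal Ideal.IsPrime.ne_top') h1] at hp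
      have h0 : ringKrullDim (R ⧸ maximalIdeal R) = 0 :=
        ringKrullDim_eq_zero_of_isField (Ideal.Quotient.maximal_ideal_iff_isField_quotient _ |>.1 inferInstance)
      rw [h0] at hp
      exact zero_ne_one hp
    have h2 := hk s hs
    rw [← Submodule.Quotient.mk_smul, Submodule.Quotient.mk_eq_zero, smul_eq_mul] at h2
    exact mem_symb_of_mul_mem hsp h2
  haveI : Subsingleton (Ext (ModuleCat.of R (R ⧸ symb p t)) (ModuleCat.of R R) d) :=
    subsingleton_of_dual_subsingleton hE _ δ.symm.toEquiv.subsingleton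
  rw [hπ, ← Ext.mk₀_comp_mk₀, Ext.comp_assoc_of_second_deg_zero,
    Subsingleton.elim ((Ext.mk₀ (ModuleCat.ofHom π₂)).comp x (zero_add d)) 0, Ext.comp_zero]

/-- If `H^{d+1}_I(R) = 0` with `dim R ≤ d + 1` then `cd(I) ≤ d`. -/
theorem cdLE_of_top_vanishing [IsNoetherianRing R] (I : Ideal R) {d : ℕ}
    (hd : ringKrullDim R ≤ ((d + 1 : ℕ) : WithBot ℕ∞)) (h : Subsingleton (_root_.LocCoh.H I (d + 1) R)) :
    _root_.LocCoh.CdLE R I d := by
  refine (cdLE_iff I d).1 fun i hi => ?_
  rcases (Nat.succ_le_of_lt hi).eq_or_lt with rfl | hlt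
  · exact h
  · refine subsingleton_H_of_supportDim_lt (lt_of_le_of_lt ((Module.supportDim_le_ringKrullDim R R).trans hd) ?_)
    exact_mod_cast hlt

theorem one_le_of_dim_quotient_eq_one {d : ℕ} (hd : ringKrullDim R = d) (p : Ideal R)
    (hp : ringKrullDim (R ⧸ p) = 1) : 1 ≤ d := by
  have h := ringKrullDim_quotient_le p (R := R)
  rw [hp, hd] at h
  exact_mod_cast h

/-- The complete domain case. -/
theorem subsingleton_H_complete_domain (D : Type u) [CommRing D] [IsDomain D] [IsLocalRing D]
    [IsNoetherianRing D] [IsAdicComplete (maximalIdeal D) D] {d : ℕ} (hd : ringKrullDim D = d)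
    (P : Ideal D) [P.IsPrime] (hP : ringKrullDim (D ⧸ P) = 1) : Subsingleton (_root_.LocCoh.H P d D) := by
  obtain ⟨Λ, _, r, f, hΛ, hcase, hinj, hfin, -⟩ := CAlgH.exists_finite_injective_mvPowerSeries D
  haveI : IsRegularLocalRing (MvPowerSeries (Fin r) Λ) := (CAlgH.isRegularLocalRing_mvPowerSeries Λ r).1
  let S := MvPowerSeries (Fin r) Λ
  letI : Algebra S D := f.toAlgebra
  haveI : Module.Finite S D := hfin
  haveI : Algebra.IsIntegral S D := Algebra.IsIntegral.of_finite S D
  -- the other primes over `P ∩ S`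
  let q := P.comap (algebraMap S D)
  let T : Set (Ideal D) := {P' | P'.IsPrime ∧ P'.comap (algebraMap S D) = q ∧ P' ≠ P}
  have hT : T.Finite := by
    refine ((q.map (algebraMap S D)).finite_minimalPrimes_of_isNoetherianRing D).subset ?_
    rintro P' ⟨hP', hP'q, -⟩
    refine ⟨⟨hP', Ideal.map_le_iff_le_comap.2 hP'q.ge⟩, ?_⟩
    rintro Q ⟨hQ, hQq⟩ hQP
    haveI := hQ
    by_contra hne
    have h1 := Ideal.IsIntegral.comap_lt_comap (R := S) (lt_of_le_not_ge hQP hne)
    rw [hP'q] at h1
    exact h1.not_ge (Ideal.map_le_iff_le_comap.1 hQq)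
  obtain ⟨θ, hθP, hθ⟩ : ∃ θ ∈ P, ∀ P' ∈ T, θ ∉ P' := by
    by_contra hcon
    push Not at hcon
    obtain ⟨P', hP'T, hle⟩ := (Ideal.subset_union_prime (s := hT.toFinset) (f := id) ⊥ ⊥
      (fun P' hP' _ _ => (hT.mem_toFinset.1 hP').1)).1 (show (P : Set D) ⊆ _ from fun z hz => by
        obtain ⟨P', hP', hzP'⟩ := hcon z hz
        exact Set.mem_iUnion₂.2 ⟨P', hT.mem_toFinset.2 hP', hzP'⟩)
    obtain ⟨hP', hP'q, hne⟩ := hT.mem_toFinset.1 hP'T
    exact (Ideal.IsIntegral.comap_lt_comap (R := S) (lt_of_le_of_ne hle (Ne.symm hne))).ne hP'q.symm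
  obtain ⟨B, _, hB, _, ι, g, hιinj, hιfin, hιg, b, hb⟩ := exists_gorenstein_subring hinj θ
  letI : Algebra B D := ι.toAlgebra
  haveI : Module.Finite B D := hιfin
  haveI : Algebra.IsIntegral B D := Algebra.IsIntegral.of_finite B D
  haveI : IsPrecomplete (maximalIdeal B) B := isPrecomplete_of_finite_injective hιinj
  let Q := P.comap (algebraMap B D)
  have hdB : ringKrullDim B = d := (DimLib.ringKrullDim_eq_of_isIntegral (R := B) (S := D) hιinj).trans hd
  have hQ : ringKrullDim (B ⧸ Q) = 1 := by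
    rw [← hP]
    exact DimLib.ringKrullDim_eq_of_isIntegral (R := B ⧸ Q) (S := D ⧸ P) Ideal.algebraMap_quotient_injective
  have h1 := one_le_of_dim_quotient_eq_one hdB Q hQ
  have hcd : _root_.LocCoh.CdLE B Q (d - 1) :=
    cdLE_of_top_vanishing Q (by rw [hdB, Nat.sub_add_cancel h1]) (by
      rw [Nat.sub_add_cancel h1]
      exact subsingleton_H_gorenstein_domain hdB Q hQ)
  haveI := hcd D d (by omega)
  obtain ⟨φ, -⟩ := exists_H_independence B D Q d D
  haveI : Subsingleton (_root_.LocCoh.H (Q.map (algebraMap B D)) d D) := φ.toEquiv.subsingleton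
  have hrad : (Q.map (algebraMap B D)).radical = P.radical := by
    refine le_antisymm (Ideal.radical_mono Ideal.map_comap_le) ?_
    refine Ideal.radical_le_radical_iff.2 ?_
    rw [Ideal.radical_eq_sInf]
    refine le_sInf ?_
    rintro P' ⟨hQP', hP'⟩
    rw [Ideal.map_le_iff_le_comap] at hQP'
    rcases hQP'.eq_or_lt with heq | hlt
    · by_contra hne
      refine hθ P' ⟨hP', ?_, fun h => hne h.ge⟩ ?_
      · show P'.comap f = P.comap f
        rw [show f = (algebraMap B D).comp g from hιg.symm, ← Ideal.comap_comap, ← Ideal.comap_comap, ← heq]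
      · rw [← hb]
        show b ∈ P'.comap (algebraMap B D)
        rw [← heq]
        show ι b ∈ P
        rw [hb]
        exact hθP
    · haveI := isMaximal_of_lt_of_dim_one hQ (hP'.comap (algebraMap B D)) hlt
      haveI := hP'
      have hmax : P'.IsMaximal := Ideal.isMaximal_of_isIntegral_of_isMaximal_comap (R := B) P' inferInstance
      rw [IsLocalRing.eq_maximalIdeal hmax]
      exact IsLocalRing.le_maximalIdeal Ideal.IsPrime.ne_top'
  obtain ⟨ε⟩ := nonempty_H_equiv_of_radical hrad d D
  exact ε.symm.toEquiv.subsingleton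

/-- The complete case. -/
theorem subsingleton_H_complete (A : Type u) [CommRing A] [IsLocalRing A]
    [IsNoetherianRing A] [IsAdicComplete (maximalIdeal A) A] (d : ℕ) (hd : ringKrullDim A ≤ d) (I : Ideal A)
    (h : ∀ p : Ideal A, p.IsPrime → ringKrullDim (A ⧸ p) = d → 1 ≤ ringKrullDim (A ⧸ (I ⊔ p))) :
    Subsingleton (_root_.LocCoh.H I d A) := by
  have hdom : ∀ p : Ideal A, p.IsPrime → Subsingleton (_root_.LocCoh.H I d (A ⧸ p)) := by
    intro p hp
    rcases ((ringKrullDim_quotient_le p (R := A)).trans hd).eq_or_lt with heq | hlt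
    swap
    · refine subsingleton_H_of_supportDim_lt ?_
      rwa [Module.supportDim_quotient_eq_ringKrullDim]
    haveI : IsLocalRing (A ⧸ p) :=
      IsLocalRing.of_surjective' (Ideal.Quotient.mk p) Ideal.Quotient.mk_surjective
    have hmap : (maximalIdeal A).map (algebraMap A (A ⧸ p)) = maximalIdeal (A ⧸ p) :=
      IsLocalRing.map_maximalIdeal_of_surjective _ Ideal.Quotient.mk_surjective
    haveI : IsAdicComplete (maximalIdeal (A ⧸ p)) (A ⧸ p) := by
      rw [← hmap]
      exact (IsAdicComplete.map_algebraMap_iff _ _).2 (AdicRing.isAdicComplete_of_finite _ _)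
    obtain ⟨φ, -⟩ := exists_H_independence A (A ⧸ p) I d (A ⧸ p)
    haveI : Subsingleton (_root_.LocCoh.H (I.map (algebraMap A (A ⧸ p))) d (A ⧸ p)) := by
      refine (lichtenbaum_reduction (R := A ⧸ p) d heq).2
        (fun P _ hP => subsingleton_H_complete_domain (A ⧸ p) heq P hP) _ ?_
      have e := DoubleQuot.quotQuotEquivQuotSup p I
      rw [Ideal.Quotient.algebraMap_eq, ringKrullDim_eq_of_ringEquiv e, sup_comm]
      exact zero_lt_one.trans_le (h p hp heq)
    exact φ.symm.toEquiv.subsingleton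
  suffices H : ∀ (M : Type u) [AddCommGroup M] [Module A M] [Module.Finite A M],
      Subsingleton (_root_.LocCoh.H I d M) from H A
  intro M _ _ hM
  induction hM using IsNoetherianRing.induction_on_isQuotientEquivQuotientPrime A with
  | subsingleton N => exact subsingleton_H_of_subsingleton d
  | quotient N p e =>
    haveI := hdom p.1 p.2
    exact (Hequiv I d e).toEquiv.subsingleton
  | exact N₁ N₂ N₃ f g hf hg hfg h₁ h₃ =>
    haveI := h₁
    haveI := h₃
    exact subsingleton_mid hf hg hfg d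

/-- Hartshorne–Lichtenbaum vanishing. -/
theorem hartshorne_lichtenbaum [IsLocalRing R] [IsNoetherianRing R] (I : Ideal R) (d : ℕ)
    (hd : ringKrullDim R = d)
    (h : ∀ p ∈ minimalPrimes (AdicCompletion (maximalIdeal R) R),
      ringKrullDim (AdicCompletion (maximalIdeal R) R ⧸ p) = d →
        1 ≤ ringKrullDim (AdicCompletion (maximalIdeal R) R ⧸
          (I.map (algebraMap R (AdicCompletion (maximalIdeal R) R)) ⊔ p)))
    (M : Type u) [AddCommGroup M] [Module R M] (i : ℕ) (hi : d ≤ i) :
    Subsingleton (_root_.LocCoh.H I i M) := by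
  haveI := Matlis6.isNoetherianRing_adicCompletion (maximalIdeal R)
  let B := AdicCompletion (maximalIdeal R) R
  have hdB : ringKrullDim B = d := (ringKrullDim_adicCompletion R).trans hd
  have hmin : ∀ p : Ideal B, p.IsPrime → ringKrullDim (B ⧸ p) = d → p ∈ minimalPrimes B := by
    intro p hp hpd
    obtain ⟨q, hq, hqp⟩ := Ideal.exists_minimalPrimes_le (bot_le : (⊥ : Ideal B) ≤ p)
    haveI := hq.1.1
    rcases hqp.eq_or_lt with rfl | hlt
    · exact hq
    · have h1 := (CAlgH3.ringKrullDim_quotient_add_one_le hlt).trans ((ringKrullDim_quotient_le q).trans hdB.le)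
      rw [hpd] at h1
      exact absurd (show d + 1 ≤ d by exact_mod_cast h1) (Nat.not_succ_le_self d)
  have hB : Subsingleton (_root_.LocCoh.H (I.map (algebraMap R B)) d B) :=
    subsingleton_H_complete B d hdB.le _ fun p hp hpd => h p (hmin p hp hpd) hpd
  have hR : Subsingleton (_root_.LocCoh.H I d R) := by
    obtain ⟨e⟩ := nonempty_H_baseChange R B I d R
    haveI : Subsingleton (_root_.LocCoh.H (I.map (algebraMap R B)) d (B ⊗[R] R)) :=
      (Hequiv (I.map (algebraMap R B)) d (TensorProduct.AlgebraTensorModule.rid R B B)).toEquiv.subsingleton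
    haveI : Subsingleton (B ⊗[R] _root_.LocCoh.H I d R) := e.toEquiv.subsingleton
    haveI : Module.FaithfullyFlat R B := Module.FaithfullyFlat.of_flat_of_isLocalHom
    exact Module.FaithfullyFlat.lTensor_reflects_triviality R B (_root_.LocCoh.H I d R)
  cases d with
  | zero =>
    exfalso
    obtain ⟨p, hp, hpd⟩ : ∃ p : Ideal B, p.IsPrime ∧ ringKrullDim (B ⧸ p) = ((0 : ℕ) : WithBot ℕ∞) := by
      obtain ⟨p, hp, -, hpd⟩ := exists_prime_ringKrullDim_quotient_eq (R := B) (J := ⊥) bot_ne_top
      exact ⟨p, hp, by rw [hpd, ringKrullDim_eq_of_ringEquiv (RingEquiv.quotientBot B), hdB]⟩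
    have h1 := (h p (hmin p hp hpd) hpd).trans
      (ringKrullDim_le_of_surjective (Ideal.Quotient.factor le_sup_right) (Ideal.Quotient.factor_surjective _))
    rw [hpd] at h1
    exact absurd (show 1 ≤ 0 by exact_mod_cast h1) (by omega)
  | succ d => exact cdLE_of_top_vanishing I (by rw [hd]) hR M i (by omega)

end Groth.Agent.LocCoh
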