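import Groth.Agent.LocCoh.DepthLocal
import Groth.Agent.LocCoh.Finiteness
import Mathlib.LinearAlgebra.TensorProduct.Pi
import Mathlib.RingTheory.Nakayama

/-!
Assorted facts: maximal regular sequences, generators up to radical, the top degree functor, the
largest submodule of small dimension.
-/

set_option autoImplicit false

universe u v

open IsLocalRing
open scoped TensorProduct Pointwise

namespace Groth.Agent.LocCoh

variable {R : Type u} [CommRing R] [IsNoetherianRing R]

section regseq

variable (I : Ideal R)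

theorem idealDepth_ne_top_of_smul_ne_top (M : Type u) [AddCommGroup M] [Module R M]
    [Module.Finite R M] (h : I • (⊤ : Submodule R M) ≠ ⊤) :
    _root_.LocCoh.idealDepth I M ≠ ⊤ := by
  have hne : I ⊔ Module.annihilator R M ≠ ⊤ := fun he => h <| by
    refine eq_top_iff.2 fun m _ => ?_
    obtain ⟨x, hx, y, hy, hxy⟩ := Submodule.mem_sup.1 ((Ideal.eq_top_iff_one _).1 he)
    have : m = x • m := by
      conv_lhs => rw [← one_smul R m, ← hxy]
      rw [add_smul, Module.mem_annihilator.1 hy m, add_zero]
    rw [this]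
    exact Submodule.smul_mem_smul hx trivial
  obtain ⟨p, hp, hle⟩ := Ideal.exists_le_maximal _ hne
  haveI := hp.isPrime
  haveI : IsNoetherianRing (Localization.AtPrime p) :=
    IsLocalization.isNoetherianRing p.primeCompl _ inferInstance
  haveI := CAlgH3.nontrivial_localizedModule_of_mem_support
    (show (⟨p, inferInstance⟩ : PrimeSpectrum R) ∈ Module.support R M from by
      rw [Module.support_eq_zeroLocus, PrimeSpectrum.mem_zeroLocus]
      exact SetLike.coe_subset_coe.2 (le_sup_right.trans hle))
  refine ne_top_of_le_ne_top (CAlgH3.depth_lt_top (R := Localization.AtPrime p)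
    (M := LocalizedModule p.primeCompl M)).ne ?_
  rw [idealDepth_eq_iInf_depth]
  exact iInf₂_le (⟨p, inferInstance⟩ : PrimeSpectrum R) (show I ≤ p from le_sup_left.trans hle)

theorem smul_top_quotSMulTop_ne_top (M : Type u) [AddCommGroup M] [Module R M] {x : R} (hx : x ∈ I)
    (h : I • (⊤ : Submodule R M) ≠ ⊤) : I • (⊤ : Submodule R (QuotSMulTop x M)) ≠ ⊤ := fun he => by
  refine h (eq_top_iff.2 fun m _ => ?_)
  have h1 : Submodule.mkQ (x • (⊤ : Submodule R M)) m ∈
      (I • (⊤ : Submodule R M)).map (Submodule.mkQ (x • (⊤ : Submodule R M))) := by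
    rw [Submodule.map_smul'', Submodule.map_top, Submodule.range_mkQ, he]
    trivial
  obtain ⟨n, hn, hnm⟩ := h1
  obtain ⟨z, -, hz⟩ : m - n ∈ x • (⊤ : Submodule R M) := by
    rw [← Submodule.Quotient.eq]; exact hnm.symm
  rw [show m = n + (m - n) by abel, ← hz]
  exact add_mem hn (Submodule.smul_mem_smul hx trivial)

theorem idealDepth_eq_zero_of_no_regular (M : Type u) [AddCommGroup M] [Module R M]
    [Module.Finite R M] (h : ∀ r ∈ I, ¬ IsSMulRegular M r) :
    _root_.LocCoh.idealDepth I M = 0 := by
  by_contra hne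
  have h1 : ((1 : ℕ) : ℕ∞) ≤ _root_.LocCoh.idealDepth I M := by
    rw [Nat.cast_one]
    exact Order.one_le_iff_pos.2 (pos_iff_ne_zero.2 hne)
  obtain ⟨r, hr, hreg⟩ := exists_regular_of_powTorsion_eq_bot
    (subsingleton_H0_iff.1 ((natCast_le_idealDepth_iff_H I M 1).1 h1 0 Nat.one_pos))
  exact h r hr hreg

theorem length_eq_idealDepth_of_maximal : ∀ (rs : List R) (M : Type u) [AddCommGroup M] [Module R M]
    [Module.Finite R M], I • (⊤ : Submodule R M) ≠ ⊤ →
    RingTheory.Sequence.IsWeaklyRegular M rs → (∀ r ∈ rs, r ∈ I) →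
    (∀ r ∈ I, ¬ RingTheory.Sequence.IsWeaklyRegular M (rs ++ [r])) →
    (rs.length : ℕ∞) = _root_.LocCoh.idealDepth I M := by
  intro rs
  induction rs with
  | nil =>
    intro M _ _ _ _ _ _ hmax
    rw [List.length_nil, Nat.cast_zero]
    refine (idealDepth_eq_zero_of_no_regular I M fun r hr hreg => hmax r hr ?_).symm
    rw [List.nil_append]
    exact (RingTheory.Sequence.isWeaklyRegular_singleton_iff M r).2 hreg
  | cons x xs ih =>
    intro M _ _ _ hne hreg hmem hmax
    obtain ⟨hx, hxs⟩ := (RingTheory.Sequence.isWeaklyRegular_cons_iff M x xs).1 hreg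
    have hxI : x ∈ I := hmem x List.mem_cons_self
    have h1 := ih (QuotSMulTop x M) (smul_top_quotSMulTop_ne_top I M hxI hne) hxs
      (fun r hr => hmem r (List.mem_cons_of_mem x hr)) fun r hr hcon => hmax r hr (by
        rw [List.cons_append]
        exact (RingTheory.Sequence.isWeaklyRegular_cons_iff M x _).2 ⟨hx, hcon⟩)
    rw [← idealDepth_quotSMulTop_add_one I M hxI hx, ← h1, List.length_cons, Nat.cast_succ]

theorem maximal_regular_sequences (M : Type u) [AddCommGroup M] [Module R M] [Module.Finite R M]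
    (hIM : I • (⊤ : Submodule R M) ≠ ⊤) :
    (∀ rs : List R, RingTheory.Sequence.IsWeaklyRegular M rs → (∀ r ∈ rs, r ∈ I) →
      ∃ rs' : List R, rs <+: rs' ∧ RingTheory.Sequence.IsWeaklyRegular M rs' ∧ (∀ r ∈ rs', r ∈ I) ∧
        ∀ r ∈ I, ¬ RingTheory.Sequence.IsWeaklyRegular M (rs' ++ [r])) ∧
    (∀ rs : List R, RingTheory.Sequence.IsWeaklyRegular M rs → (∀ r ∈ rs, r ∈ I) →
      (∀ r ∈ I, ¬ RingTheory.Sequence.IsWeaklyRegular M (rs ++ [r])) →
      (rs.length : ℕ∞) = _root_.LocCoh.idealDepth I M) := by
  refine ⟨?_, fun rs => length_eq_idealDepth_of_maximal I rs M hIM⟩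
  obtain ⟨D, hD⟩ := ENat.ne_top_iff_exists.1 (idealDepth_ne_top_of_smul_ne_top I M hIM)
  have hbound : ∀ rs : List R, RingTheory.Sequence.IsWeaklyRegular M rs → (∀ r ∈ rs, r ∈ I) →
      rs.length ≤ D := fun rs hw hm => by
    have : (rs.length : ℕ∞) ≤ _root_.LocCoh.idealDepth I M := by
      rw [_root_.LocCoh.idealDepth, if_neg hIM]
      exact le_iSup₂_of_le rs ⟨hw, hm⟩ le_rfl
    rw [← hD] at this
    exact_mod_cast this
  suffices H : ∀ (k : ℕ) (rs : List R), D - rs.length = k →
      RingTheory.Sequence.IsWeaklyRegular M rs → (∀ r ∈ rs, r ∈ I) →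
      ∃ rs' : List R, rs <+: rs' ∧ RingTheory.Sequence.IsWeaklyRegular M rs' ∧ (∀ r ∈ rs', r ∈ I) ∧
        ∀ r ∈ I, ¬ RingTheory.Sequence.IsWeaklyRegular M (rs' ++ [r]) from
    fun rs => H _ rs rfl
  intro k
  induction k using Nat.strong_induction_on with
  | _ k ih =>
    intro rs hk hw hm
    by_cases hmax : ∀ r ∈ I, ¬ RingTheory.Sequence.IsWeaklyRegular M (rs ++ [r])
    · exact ⟨rs, List.prefix_refl rs, hw, hm, hmax⟩
    · push Not at hmax
      obtain ⟨r, hr, hreg⟩ := hmax
      have hm' : ∀ s ∈ rs ++ [r], s ∈ I := fun s hs => by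
        rcases List.mem_append.1 hs with hs | hs
        · exact hm s hs
        · rw [List.mem_singleton.1 hs]; exact hr
      have hlen := hbound _ hreg hm'
      rw [List.length_append, List.length_singleton] at hlen
      obtain ⟨rs', hpre, h'⟩ := ih (D - (rs ++ [r]).length)
        (by rw [List.length_append, List.length_singleton]; omega) (rs ++ [r]) rfl hreg hm'
      exact ⟨rs', (List.prefix_append rs [r]).trans hpre, h'⟩

end regseq

section generators

theorem exists_fun_height_le (I : Ideal R) : ∀ k : ℕ, ∃ f : Fin k → R, (∀ i, f i ∈ I) ∧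
    ∀ p : Ideal R, p.IsPrime → Ideal.span (Set.range f) ≤ p → ¬ I ≤ p → (k : ℕ∞) ≤ p.height := by
  intro k
  induction k with
  | zero => exact ⟨Fin.elim0, fun i => i.elim0, fun p _ _ _ => by simp⟩
  | succ k ih =>
    obtain ⟨f, hf, hk⟩ := ih
    obtain ⟨c, hcI, hc⟩ : ∃ c ∈ I, ∀ q ∈ (Ideal.span (Set.range f)).minimalPrimes, ¬ I ≤ q → c ∉ q := by
      by_contra hcon
      push Not at hcon
      let s := {q ∈ (Ideal.span (Set.range f)).minimalPrimes | ¬ I ≤ q}
      have hsub : (I : Set R) ⊆ ⋃ q ∈ s, (q : Set R) := fun x hx => by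
        obtain ⟨q, hq, hIq, hxq⟩ := hcon x hx
        exact Set.mem_biUnion ⟨hq, hIq⟩ hxq
      obtain ⟨q, hq, hle⟩ := (Ideal.subset_union_prime_finite
        ((Ideal.finite_minimalPrimes_of_isNoetherianRing R _).subset fun q hq => hq.1) ⊤ ⊤
        fun q hq _ _ => hq.1.1.1).1 hsub
      exact hq.2 hle
    refine ⟨Fin.cons c f, fun i => Fin.cases hcI hf i, fun p hp hle hIp => ?_⟩
    have hfp : Ideal.span (Set.range f) ≤ p :=
      le_trans (Ideal.span_mono (by rw [Fin.range_cons]; exact Set.subset_insert _ _)) hle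
    obtain ⟨q, hq, hqp⟩ := Ideal.exists_minimalPrimes_le hfp
    haveI := hq.1.1
    have hIq : ¬ I ≤ q := fun h => hIp (h.trans hqp)
    have hcp : c ∈ p := hle (Ideal.subset_span ⟨0, rfl⟩)
    have hlt : q < p := lt_of_le_of_ne hqp fun e => hc q hq hIq (e ▸ hcp)
    have h1 := Ideal.height_add_one_le_of_lt_of_isPrime hlt
    rw [Nat.cast_succ]
    exact (add_le_add_left (hk q hq.1.1 hq.1.2 hIq) 1).trans h1

theorem exists_fun_radical_eq (d : ℕ) (hd : ringKrullDim R ≤ d) (I : Ideal R) :
    ∃ f : Fin (d + 1) → R, (∀ i, f i ∈ I) ∧ I.radical = (Ideal.span (Set.range f)).radical := by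
  obtain ⟨f, hf, hk⟩ := exists_fun_height_le I (d + 1)
  refine ⟨f, hf, le_antisymm ?_ (Ideal.radical_mono (Ideal.span_le.2 (Set.range_subset_iff.2 hf)))⟩
  rw [Ideal.radical_le_radical_iff, Ideal.radical_eq_sInf]
  refine le_sInf ?_
  rintro p ⟨hle, hp⟩
  by_contra hIp
  have h1 := hk p hp hle hIp
  have h2 : (p.height : WithBot ℕ∞) ≤ ((d : ℕ) : WithBot ℕ∞) :=
    (ringKrullDim_le_iff_height_le _).1 hd hp
  have h3 : ((d + 1 : ℕ) : ℕ∞) ≤ (d : ℕ∞) := h1.trans (WithBot.coe_le_coe.1 h2)
  exact absurd (Nat.cast_le.1 h3) (Nat.not_succ_le_self d)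

theorem exists_fun_radical_eq_local [IsLocalRing R] (d : ℕ) (hd : ringKrullDim R = d) (I : Ideal R)
    (hI : I ≠ ⊤) :
    ∃ f : Fin d → R, (∀ i, f i ∈ I) ∧ I.radical = (Ideal.span (Set.range f)).radical := by
  obtain ⟨f, hf, hk⟩ := exists_fun_height_le I d
  refine ⟨f, hf, le_antisymm ?_ (Ideal.radical_mono (Ideal.span_le.2 (Set.range_subset_iff.2 hf)))⟩
  rw [Ideal.radical_le_radical_iff, Ideal.radical_eq_sInf]
  refine le_sInf ?_
  rintro p ⟨hle, hp⟩
  by_contra hIp
  have hlt : p < maximalIdeal R := lt_of_le_of_ne (IsLocalRing.le_maximalIdeal hp.ne_top)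
    fun e => hIp (e ▸ IsLocalRing.le_maximalIdeal hI)
  have h1 := (add_le_add_left (hk p hp hle hIp) 1).trans (Ideal.height_add_one_le_of_lt_of_isPrime hlt)
  have h2 : (maximalIdeal R).height = d := by
    have := IsLocalRing.maximalIdeal_height_eq_ringKrullDim (R := R)
    rw [hd] at this
    exact_mod_cast this
  rw [h2, ← Nat.cast_one, ← Nat.cast_add, Nat.cast_le] at h1
  omega

end generators

omit [IsNoetherianRing R] in
theorem bijective_of_sub_mem_maximal_smul [IsLocalRing R] {K L : Type u} [AddCommGroup K] [Module R K]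
    [AddCommGroup L] [Module R L] [Module.Finite R L] (α β : K →ₗ[R] L) (hα : Function.Bijective α)
    (hβ : β - α ∈ maximalIdeal R • (⊤ : Submodule R (K →ₗ[R] L))) : Function.Bijective β := by
  have hmem : ∀ x, (β - α) x ∈ maximalIdeal R • (⊤ : Submodule R L) := fun x => by
    refine Submodule.smul_induction_on hβ (fun r hr φ _ => Submodule.smul_mem_smul hr trivial)
      fun φ ψ hφ hψ => ?_
    rw [LinearMap.add_apply]
    exact add_mem hφ hψ
  have hsurj : Function.Surjective β := by
    rw [← LinearMap.range_eq_top]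
    refine eq_top_iff.2 (Submodule.le_of_le_smul_of_le_jacobson_bot Module.Finite.fg_top
      (IsLocalRing.maximalIdeal_le_jacobson _) fun y _ => ?_)
    obtain ⟨x, rfl⟩ := hα.2 y
    rw [show α x = β x + (-((β - α) x)) by simp]
    exact add_mem (Submodule.mem_sup_left ⟨x, rfl⟩) (Submodule.mem_sup_right (neg_mem (hmem x)))
  let e := LinearEquiv.ofBijective α hα
  have hs : Function.Surjective (β.comp e.symm.toLinearMap) := hsurj.comp e.symm.surjective
  refine ⟨fun a b hab => ?_, hsurj⟩
  have := OrzechProperty.injective_of_surjective_endomorphism _ hs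
    (show β (e.symm (e a)) = β (e.symm (e b)) by
      rw [LinearEquiv.symm_apply_apply, LinearEquiv.symm_apply_apply]; exact hab)
  exact e.injective this

theorem exists_free_approx (M : Type u) [AddCommGroup M] [Module R M] [Module.Finite R M]
    (p : Ideal R) [p.IsPrime]
    [Module.Free (Localization.AtPrime p) (LocalizedModule p.primeCompl M)]
    [Nontrivial (LocalizedModule p.primeCompl M)] :
    ∃ (t : ℕ) (π : (Fin t → R) →ₗ[R] M), 0 < t ∧
      Subsingleton (LocalizedModule p.primeCompl (LinearMap.ker π)) ∧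
      Subsingleton (LocalizedModule p.primeCompl (M ⧸ LinearMap.range π)) := by
  let A := Localization.AtPrime p
  haveI : Module.Finite A (LocalizedModule p.primeCompl M) :=
    Module.Finite.of_isLocalizedModule (Rₚ := A) p.primeCompl
      (LocalizedModule.mkLinearMap p.primeCompl M)
  let bas := Module.Free.chooseBasis A (LocalizedModule p.primeCompl M)
  let e := Fintype.equivFin (Module.Free.ChooseBasisIndex A (LocalizedModule p.primeCompl M))
  let ℓ := LocalizedModule.mkLinearMap p.primeCompl M
  let b := bas.reindex e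
  choose num hnum using fun i => IsLocalizedModule.surj p.primeCompl ℓ (b i)
  let π : (Fin _ → R) →ₗ[R] M := Fintype.linearCombination R fun i => (num i).1
  have hπ : ∀ v : Fin _ → R, ℓ (π v) =
      ∑ i, (algebraMap R A (v i) * algebraMap R A ((num i).2 : R)) • b i := fun v => by
    simp only [π, Fintype.linearCombination_apply, map_sum, map_smul]
    refine Finset.sum_congr rfl fun i _ => ?_
    have h := hnum i
    simp only [Submonoid.smul_def] at h
    rw [← h, mul_smul, IsScalarTower.algebraMap_smul, IsScalarTower.algebraMap_smul]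
  refine ⟨_, π, ?_, subsingleton_of_forall_eq 0 fun z => ?_, subsingleton_of_forall_eq 0 fun z => ?_⟩
  · haveI : Nonempty (Module.Free.ChooseBasisIndex A (LocalizedModule p.primeCompl M)) :=
      bas.index_nonempty
    exact Fintype.card_pos
  · induction z using LocalizedModule.induction_on with
    | _ v s =>
      have h0 : ∑ i, (algebraMap R A (v.1 i) * algebraMap R A ((num i).2 : R)) • b i = 0 := by
        rw [← hπ, show π v.1 = 0 from v.2, map_zero]
      have h1 : ∀ i, algebraMap R A (v.1 i) = 0 := fun i => by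
        have h2 := Fintype.linearIndependent_iff.1 b.linearIndependent _ h0 i
        exact (IsLocalization.map_units A ((num i).2)).mul_left_injective (by simpa using h2)
      choose u hu using fun i => (IsLocalization.map_eq_zero_iff p.primeCompl A (v.1 i)).1 (h1 i)
      rw [← LocalizedModule.zero_mk 1, LocalizedModule.mk_eq]
      refine ⟨∏ i, u i, ?_⟩
      have h3 : (∏ i, (u i : R)) • v = 0 := by
        refine Subtype.ext (funext fun i => ?_)
        show (∏ i, (u i : R)) * v.1 i = 0
        classical
        rw [← Finset.prod_erase_mul _ _ (Finset.mem_univ i), mul_assoc,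
          hu i, mul_zero]
      simp [Submonoid.smul_def, h3]
  · induction z using LocalizedModule.induction_on with
    | _ q s =>
      obtain ⟨m, rfl⟩ := Submodule.mkQ_surjective _ q
      choose a ha using fun i => IsLocalization.surj p.primeCompl ((b.repr (ℓ m)) i)
      let d : p.primeCompl := (∏ i, (a i).2) * ∏ i, (num i).2
      rw [← LocalizedModule.zero_mk 1, LocalizedModule.mk_eq]
      classical
      let w : Fin _ → R := fun i => (a i).1 * (∏ j ∈ Finset.univ.erase i, ((a j).2 : R)) *
        ∏ j ∈ Finset.univ.erase i, ((num j).2 : R)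
      have hw : ℓ ((d : R) • m) = ℓ (π w) := by
        rw [map_smul, hπ]
        conv_lhs => rw [← b.sum_repr (ℓ m), Finset.smul_sum]
        refine Finset.sum_congr rfl fun i _ => ?_
        rw [← IsScalarTower.algebraMap_smul A (d : R), ← mul_smul]
        congr 1
        simp only [w, d, Submonoid.coe_mul, Submonoid.coe_finsetProd, map_mul, ← ha i]
        rw [← Finset.mul_prod_erase _ _ (Finset.mem_univ i),
          ← Finset.mul_prod_erase _ (fun j => ((num j).2 : R)) (Finset.mem_univ i), map_mul, map_mul]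
        ring
      obtain ⟨⟨c, hc⟩, hc'⟩ := IsLocalizedModule.exists_of_eq (S := p.primeCompl) (f := ℓ) hw
      refine ⟨(⟨c, hc⟩ : p.primeCompl) * d, ?_⟩
      simp only [one_smul, smul_zero, Submonoid.smul_def, Submonoid.coe_mul, mul_smul, ← map_smul,
        Submodule.mkQ_apply, ← Submodule.Quotient.mk_smul, Submodule.Quotient.mk_eq_zero]
      rw [show c • (d : R) • m = c • π w from hc']
      exact Submodule.smul_mem _ _ ⟨w, rfl⟩

omit [IsNoetherianRing R] in
theorem mk_mem_span_iff {M : Type v} [AddCommGroup M] [Module R M] {n : ℕ} (a : Fin n → R) (m : M)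
    (i : ℕ) :
    (LocalizedModule.mk m ⟨(∏ u, a u) ^ i, Submonoid.pow_mem _ (Submonoid.mem_powers _) i⟩ :
        LocalizedModule (Submonoid.powers (∏ u, a u)) M) ∈
      Submodule.span R {x : LocalizedModule (Submonoid.powers (∏ u, a u)) M |
        ∃ (u : Fin n) (j : ℕ) (m' : M), x = LocalizedModule.mk ((a u) ^ j • m')
          ⟨(∏ u, a u) ^ j, Submonoid.pow_mem _ (Submonoid.mem_powers _) j⟩} ↔
    ∃ k : ℕ, i ≤ k ∧ (∏ u, a u) ^ (k - i) • m ∈
      Ideal.span (Set.range fun u => (a u) ^ k) • (⊤ : Submodule R M) := by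
  classical
  let P := ∏ u, a u
  let pw : ℕ → Submonoid.powers P := fun j => ⟨P ^ j, Submonoid.pow_mem _ (Submonoid.mem_powers _) j⟩
  let W : ℕ → Submodule R M := fun j => Ideal.span (Set.range fun u => (a u) ^ j) • (⊤ : Submodule R M)
  have hshift : ∀ (j l : ℕ) (y : M), y ∈ W j → P ^ l • y ∈ W (j + l) := by
    intro j l y hy
    refine Submodule.smul_induction_on hy (fun r hr z _ => ?_) fun y z hy hz => by
      rw [smul_add]; exact add_mem hy hz
    rw [smul_smul]
    refine Submodule.smul_mem_smul ?_ trivial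
    induction hr using Submodule.span_induction with
    | mem x hx =>
      obtain ⟨u, rfl⟩ := hx
      show P ^ l * a u ^ j ∈ _
      rw [show P = a u * ∏ v ∈ Finset.univ.erase u, a v from
          (Finset.mul_prod_erase _ _ (Finset.mem_univ u)).symm, mul_pow, mul_right_comm, ← pow_add,
        Nat.add_comm l j]
      exact Ideal.mul_mem_right _ _ (Ideal.subset_span ⟨u, rfl⟩)
    | zero => rw [mul_zero]; exact zero_mem _
    | add x y _ _ hx hy => rw [mul_add]; exact add_mem hx hy
    | smul c x _ hx => rw [smul_eq_mul, mul_left_comm]; exact Ideal.mul_mem_left _ c hx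
  constructor
  · intro h
    suffices ∀ x ∈ Submodule.span R {x : LocalizedModule (Submonoid.powers P) M |
        ∃ (u : Fin n) (j : ℕ) (m' : M), x = LocalizedModule.mk ((a u) ^ j • m') (pw j)},
        ∃ (j : ℕ) (y : M), y ∈ W j ∧ x = LocalizedModule.mk y (pw j) by
      obtain ⟨j, y, hy, hmy⟩ := this _ h
      obtain ⟨⟨_, e, rfl⟩, he⟩ := LocalizedModule.mk_eq.1 hmy
      refine ⟨i + j + e, by omega, ?_⟩
      have he' : P ^ (e + j) • m = P ^ (e + i) • y := by
        rw [pow_add, pow_add, mul_smul, mul_smul]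
        exact he
      rw [show i + j + e - i = e + j by omega, show ∏ u, a u = P from rfl, he', show i + j + e = j + (e + i) by omega]
      exact hshift j (e + i) y hy
    intro x hx
    induction hx using Submodule.span_induction with
    | mem x hx =>
      obtain ⟨u, j, m', rfl⟩ := hx
      exact ⟨j, _, Submodule.smul_mem_smul (Ideal.subset_span ⟨u, rfl⟩) trivial, rfl⟩
    | zero => exact ⟨0, 0, zero_mem _, (LocalizedModule.zero_mk _).symm⟩
    | add x y _ _ hx hy =>
      obtain ⟨j, y₁, h₁, rfl⟩ := hx
      obtain ⟨l, y₂, h₂, rfl⟩ := hy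
      refine ⟨j + l, P ^ l • y₁ + P ^ j • y₂,
        add_mem (hshift j l y₁ h₁) (Nat.add_comm l j ▸ hshift l j y₂ h₂), ?_⟩
      rw [LocalizedModule.mk_add_mk]
      exact congrArg (LocalizedModule.mk _) (Subtype.ext (pow_add P j l).symm)
    | smul c x _ hx =>
      obtain ⟨j, y, hy, rfl⟩ := hx
      exact ⟨j, c • y, Submodule.smul_mem _ c hy, LocalizedModule.smul'_mk _ _ _⟩
  · rintro ⟨k, hik, hk⟩
    have h1 : LocalizedModule.mk m (pw i) = LocalizedModule.mk (P ^ (k - i) • m) (pw k) := by
      rw [LocalizedModule.mk_eq]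
      refine ⟨1, ?_⟩
      simp only [one_smul, Submonoid.smul_def, pw, ← mul_smul, ← pow_add]
      rw [Nat.add_sub_cancel' hik]
    show LocalizedModule.mk m (pw i) ∈ _
    rw [h1]
    suffices ∀ y ∈ W k, LocalizedModule.mk y (pw k) ∈ Submodule.span R
        {x : LocalizedModule (Submonoid.powers P) M |
          ∃ (u : Fin n) (j : ℕ) (m' : M), x = LocalizedModule.mk ((a u) ^ j • m') (pw j)} from
      this _ hk
    intro y hy
    have hadd : ∀ y z : M, LocalizedModule.mk (y + z) (pw k) =
        LocalizedModule.mk y (pw k) + LocalizedModule.mk z (pw k) := fun y z => by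
      rw [LocalizedModule.mk_add_mk, ← smul_add, LocalizedModule.mk_cancel_common_left]
    refine Submodule.smul_induction_on hy (fun r hr z _ => ?_) fun y z hy hz => ?_
    · induction hr using Submodule.span_induction with
      | mem x hx =>
        obtain ⟨u, rfl⟩ := hx
        exact Submodule.subset_span ⟨u, k, z, rfl⟩
      | zero => rw [zero_smul, LocalizedModule.zero_mk]; exact zero_mem _
      | add x w _ _ hx hw =>
        rw [add_smul, hadd]
        exact add_mem hx hw
      | smul c x _ hx =>
        rw [smul_eq_mul, mul_smul, ← LocalizedModule.smul'_mk]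
        exact Submodule.smul_mem _ c hx
    · rw [hadd]
      exact add_mem hy hz

section topdegree

variable [IsLocalRing R] (I : Ideal R)

/-- `H(R) ⊗ M → H(M)`. -/
noncomputable def tensorToH (d : ℕ) (M : Type u) [AddCommGroup M] [Module R M] :
    _root_.LocCoh.H I d R ⊗[R] M →ₗ[R] _root_.LocCoh.H I d M :=
  TensorProduct.lift
    { toFun := fun x =>
        { toFun := fun m => Hmap I d (LinearMap.toSpanSingleton R M m) x
          map_add' := fun m n => by
            rw [← LinearMap.add_apply, ← Hmap_add]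
            congr 2
            exact LinearMap.ext_ring (by simp)
          map_smul' := fun c m => by
            rw [RingHom.id_apply, ← LinearMap.smul_apply, ← Hmap_smul]
            congr 2
            exact LinearMap.ext_ring (by simp) }
      map_add' := fun x y => LinearMap.ext fun m => map_add (Hmap I d (LinearMap.toSpanSingleton R M m)) x y
      map_smul' := fun c x => LinearMap.ext fun m => map_smul (Hmap I d (LinearMap.toSpanSingleton R M m)) c x }

omit [IsNoetherianRing R] [IsLocalRing R] in
theorem tensorToH_tmul (d : ℕ) {M : Type u} [AddCommGroup M] [Module R M]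
    (x : _root_.LocCoh.H I d R) (m : M) :
    tensorToH I d M (x ⊗ₜ m) = Hmap I d (LinearMap.toSpanSingleton R M m) x := rfl

omit [IsNoetherianRing R] [IsLocalRing R] in
theorem tensorToH_natural (d : ℕ) {M N : Type u} [AddCommGroup M] [Module R M] [AddCommGroup N]
    [Module R N] (g : M →ₗ[R] N) (z : _root_.LocCoh.H I d R ⊗[R] M) :
    tensorToH I d N (g.lTensor _ z) = Hmap I d g (tensorToH I d M z) := by
  induction z with
  | zero => simp
  | tmul x m =>
    rw [LinearMap.lTensor_tmul, tensorToH_tmul, tensorToH_tmul, ← LinearMap.comp_apply, ← Hmap_comp]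
    congr 2
    exact LinearMap.ext_ring (by simp)
  | add y z hy hz => rw [map_add, map_add, hy, hz, map_add, map_add]

omit [IsNoetherianRing R] [IsLocalRing R] in
theorem tensorToH_pi_bijective (d n : ℕ) :
    Function.Bijective (tensorToH I d (Fin n → R)) := by
  classical
  let ψ : _root_.LocCoh.H I d (Fin n → R) →ₗ[R] _root_.LocCoh.H I d R ⊗[R] (Fin n → R) :=
    ∑ i, ((TensorProduct.mk R (_root_.LocCoh.H I d R) (Fin n → R)).flip (Pi.single i 1)).comp
      (Hmap I d (LinearMap.proj i))
  have h1 : ψ.comp (tensorToH I d _) = LinearMap.id := by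
    refine TensorProduct.ext' fun x v => ?_
    simp only [ψ, LinearMap.comp_apply, LinearMap.sum_apply, tensorToH_tmul, LinearMap.id_apply]
    conv_rhs => rw [show v = ∑ i, v i • Pi.single i (1 : R) from (pi_eq_sum_univ' v)]
    rw [TensorProduct.tmul_sum]
    refine Finset.sum_congr rfl fun i _ => ?_
    rw [← LinearMap.comp_apply (Hmap I d (LinearMap.proj i : (Fin n → R) →ₗ[R] R)), ← Hmap_comp,
      show (LinearMap.proj i : (Fin n → R) →ₗ[R] R).comp (LinearMap.toSpanSingleton R _ v) =
        v i • LinearMap.id from LinearMap.ext_ring (by simp), Hmap_smul, Hmap_id]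
    simp [TensorProduct.tmul_smul, TensorProduct.smul_tmul']
  have h2 : (tensorToH I d _).comp ψ = LinearMap.id := by
    refine LinearMap.ext fun y => ?_
    simp only [ψ, LinearMap.comp_apply, LinearMap.sum_apply, map_sum, LinearMap.flip_apply,
      TensorProduct.mk_apply, tensorToH_tmul, LinearMap.id_apply]
    simp only [← LinearMap.comp_apply (Hmap I d _) (Hmap I d _), ← Hmap_comp]
    rw [← LinearMap.sum_apply]
    have h3 : ∀ s : Finset (Fin n), ∑ i ∈ s, Hmap I d ((LinearMap.toSpanSingleton R (Fin n → R)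
        (Pi.single i 1)).comp (LinearMap.proj i)) = Hmap I d (∑ i ∈ s,
          (LinearMap.toSpanSingleton R (Fin n → R) (Pi.single i 1)).comp (LinearMap.proj i)) := fun s => by
      induction s using Finset.induction_on with
      | empty => simp
      | insert i s hi ih => rw [Finset.sum_insert hi, Finset.sum_insert hi, ih, Hmap_add]
    rw [h3, show (∑ i, (LinearMap.toSpanSingleton R (Fin n → R) (Pi.single i 1)).comp
      (LinearMap.proj i)) = LinearMap.id from LinearMap.ext fun v => by
        simpa using (pi_eq_sum_univ' v).symm, Hmap_id, LinearMap.id_apply]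
  exact ⟨fun a b h => by simpa [← LinearMap.comp_apply, h1] using congrArg ψ h,
    fun y => ⟨ψ y, LinearMap.congr_fun h2 y⟩⟩

theorem exists_fg_preimage (d : ℕ) {M : Type u} [AddCommGroup M] [Module R M]
    (x : _root_.LocCoh.H I d M) :
    ∃ (n : ℕ) (g : (Fin n → R) →ₗ[R] M) (M' : Submodule R M) (_ : M'.FG)
      (y : _root_.LocCoh.H I d M'),
      LinearMap.range g = M' ∧ Hmap I d M'.subtype y = x := by
  obtain ⟨k, e, rfl⟩ := exists_cls x
  obtain ⟨M', y, hM', hy⟩ := exists_fg_ext d (R ⧸ I ^ k) M e
  obtain ⟨n, v, hv⟩ := Submodule.fg_iff_exists_fin_generating_family.1 hM'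
  refine ⟨n, Fintype.linearCombination R v, M', hM', cls k d y, ?_, ?_⟩
  · rw [Fintype.range_linearCombination]; exact hv
  · rw [Hmap_cls, hy]

theorem tensorToH_surjective {d : ℕ} (hd : ringKrullDim R ≤ d) (M : Type u) [AddCommGroup M]
    [Module R M] : Function.Surjective (tensorToH I d M) := by
  intro x
  obtain ⟨n, g, M', hM', y, rfl, rfl⟩ := exists_fg_preimage I d x
  obtain ⟨w, rfl⟩ := Hmap_surjective_of_surjective (I := I) g.surjective_rangeRestrict
    ((Module.supportDim_le_ringKrullDim R _).trans hd) y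
  obtain ⟨z, rfl⟩ := (tensorToH_pi_bijective I d n).2 w
  refine ⟨g.lTensor _ z, ?_⟩
  rw [tensorToH_natural]
  exact LinearMap.congr_fun (Hmap_comp (I := I) d (LinearMap.range g).subtype g.rangeRestrict)
    (tensorToH I d _ z)

theorem tensorToH_bijective {d : ℕ} (hd : ringKrullDim R ≤ d) (M : Type u) [AddCommGroup M]
    [Module R M] : Function.Bijective (tensorToH I d M) := by
  classical
  refine ⟨(injective_iff_map_eq_zero _).2 fun z hz => ?_, tensorToH_surjective I hd M⟩
  let π : (M →₀ R) →ₗ[R] M := Finsupp.linearCombination R id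
  have hπ : Function.Surjective π := Finsupp.linearCombination_surjective R Function.surjective_id
  let K := LinearMap.ker π
  have hinj : ∀ z' : _root_.LocCoh.H I d R ⊗[R] (M →₀ R), tensorToH I d _ z' = 0 → z' = 0 := by
    intro z' hz'
    obtain ⟨s, hs⟩ := TensorProduct.exists_finset z'
    let T := s.biUnion fun p => p.2.support
    let e := T.equivFin
    let ι : (Fin T.card → R) →ₗ[R] (M →₀ R) :=
      Fintype.linearCombination R fun i => Finsupp.single ((e.symm i : M)) 1
    let ρ : (M →₀ R) →ₗ[R] (Fin T.card → R) := LinearMap.pi fun i => Finsupp.lapply (e.symm i : M)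
    have hρι : ρ.comp ι = LinearMap.id := LinearMap.ext fun v => funext fun j => by
      simp [ρ, ι, Fintype.linearCombination_apply, Finsupp.single_apply, Subtype.coe_inj]
    have hιρ : ∀ p ∈ s, ι (ρ p.2) = p.2 := fun p hp => by
      ext m
      simp only [ι, ρ, Fintype.linearCombination_apply, LinearMap.pi_apply, Finsupp.lapply_apply,
        Finsupp.smul_single, smul_eq_mul, mul_one, Finsupp.coe_finsetSum, Finset.sum_apply]
      by_cases hm : m ∈ T
      · rw [Finset.sum_eq_single (e ⟨m, hm⟩)]
        · simp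
        · intro b _ hb
          rw [Finsupp.single_apply, if_neg]
          exact fun h => hb (by rw [← e.apply_symm_apply b]; exact congrArg e (Subtype.ext h))
        · simp
      · have h0 : p.2 m = 0 := by
          by_contra h
          exact hm (Finset.mem_biUnion.2 ⟨p, hp, Finsupp.mem_support_iff.2 h⟩)
        rw [h0]
        refine Finset.sum_eq_zero fun b _ => ?_
        rw [Finsupp.single_apply, if_neg]
        exact fun h => hm (h ▸ (e.symm b).2)
    have hz'' : z' = ι.lTensor _ (ρ.lTensor _ z') := by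
      rw [hs, map_sum, map_sum]
      exact Finset.sum_congr rfl fun p hp => by
        rw [LinearMap.lTensor_tmul, LinearMap.lTensor_tmul, hιρ p hp]
    have h0 : tensorToH I d _ (ρ.lTensor _ z') = 0 := by
      rw [tensorToH_natural, hz', map_zero]
    rw [(injective_iff_map_eq_zero _).1 (tensorToH_pi_bijective I d T.card).1 _ h0, map_zero] at hz''
    exact hz''
  obtain ⟨z', rfl⟩ := LinearMap.lTensor_surjective (_root_.LocCoh.H I d R) hπ z
  rw [tensorToH_natural] at hz
  have hK : Function.Injective K.subtype := K.injective_subtype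
  have hKex : Function.Exact K.subtype π := LinearMap.exact_subtype_ker_map π
  obtain ⟨y, hy⟩ := (Hmap_exact (I := I) (M := K) (N := M →₀ R) (P := M) (f := K.subtype) (g := π) hK hπ hKex d _).1 hz
  obtain ⟨w, rfl⟩ := tensorToH_surjective I hd K y
  rw [← tensorToH_natural, ← sub_eq_zero, ← map_sub] at hy
  rw [← sub_eq_zero.1 (hinj _ hy), ← LinearMap.comp_apply, ← LinearMap.lTensor_comp,
    (LinearMap.exact_subtype_ker_map π).linearMap_comp_eq_zero, LinearMap.lTensor_zero,
    LinearMap.zero_apply]

end topdegree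

section dimension

variable [IsLocalRing R] {M : Type u} [AddCommGroup M] [Module R M] [Module.Finite R M]

theorem supportDim_sup_lt {N₁ N₂ : Submodule R M} {n : ℕ}
    (h₁ : Module.supportDim R N₁ < n) (h₂ : Module.supportDim R N₂ < n) :
    Module.supportDim R (N₁ ⊔ N₂ : Submodule R M) < n := by
  refine supportDim_lt_of_forall _ n fun q hq => ?_
  let f : N₁ →ₗ[R] (N₁ ⊔ N₂ : Submodule R M) := Submodule.inclusion le_sup_left
  let g : N₂ →ₗ[R] (N₁ ⊔ N₂ : Submodule R M) := Submodule.inclusion le_sup_right
  have hsurj : Function.Surjective (f.coprod g) := fun y => by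
    obtain ⟨a, ha, b, hb, hab⟩ := Submodule.mem_sup.1 y.2
    exact ⟨(⟨a, ha⟩, ⟨b, hb⟩), Subtype.ext hab⟩
  have hq' := Module.support_subset_of_surjective _ hsurj hq
  rw [Module.support_of_exact (f := LinearMap.inl R N₁ N₂) (g := LinearMap.snd R N₁ N₂)
    Function.Exact.inl_snd LinearMap.inl_injective Prod.snd_surjective] at hq'
  rcases hq' with h | h
  · exact lt_of_le_of_lt (CAlgH3.ringKrullDim_quotient_le_supportDim h) h₁
  · exact lt_of_le_of_lt (CAlgH3.ringKrullDim_quotient_le_supportDim h) h₂

theorem mem_minimalPrimes_annihilator_of_dim {n : ℕ} (hn : Module.supportDim R M ≤ n) (p : Ideal R)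
    [p.IsPrime] (hp : (⟨p, inferInstance⟩ : PrimeSpectrum R) ∈ Module.support R M)
    (hpn : ringKrullDim (R ⧸ p) = n) : p ∈ (Module.annihilator R M).minimalPrimes := by
  rw [Module.support_eq_zeroLocus, PrimeSpectrum.mem_zeroLocus] at hp
  obtain ⟨q, hq, hqp⟩ := Ideal.exists_minimalPrimes_le (hp : Module.annihilator R M ≤ p)
  haveI := hq.1.1
  rcases hqp.eq_or_lt with rfl | hlt
  · exact hq
  · exfalso
    have h1 := CAlgH3.ringKrullDim_quotient_add_one_le hlt
    have h2 : ringKrullDim (R ⧸ q) ≤ n := le_trans (CAlgH3.ringKrullDim_quotient_le_supportDim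
      (p := ⟨q, inferInstance⟩) (M := M) (by
        rw [Module.support_eq_zeroLocus, PrimeSpectrum.mem_zeroLocus]; exact hq.1.2)) hn
    rw [hpn] at h1
    exact lt_irrefl _ (lt_of_add_one_le h2 h1)

theorem exists_largest_small_submodule [Nontrivial M] (n : ℕ) (hn : Module.supportDim R M = n) :
    ∃ N : Submodule R M, Module.supportDim R N < n ∧
      (∀ N' : Submodule R M, Module.supportDim R N' < n → N' ≤ N) ∧
      Module.supportDim R (M ⧸ N) = n ∧
      (∀ L : Submodule R (M ⧸ N), L ≠ ⊥ → ¬ Module.supportDim R L < n) ∧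
      associatedPrimes R (M ⧸ N) = {p ∈ associatedPrimes R M | ringKrullDim (R ⧸ p) = n} ∧
      Function.Bijective (Hmap (maximalIdeal R) n N.mkQ) := by
  obtain ⟨N, hN, hmax⟩ := set_has_maximal_iff_noetherian.2 (inferInstance : IsNoetherian R M)
    {N : Submodule R M | Module.supportDim R N < n} ⟨⊥, by
      rw [Set.mem_setOf_eq, Module.supportDim_eq_bot_of_subsingleton]; exact WithBot.bot_lt_coe _⟩
  have hbig : ∀ N' : Submodule R M, Module.supportDim R N' < n → N' ≤ N := fun N' h' => by
    by_contra hle
    exact hmax (N ⊔ N') (supportDim_sup_lt hN h') (left_lt_sup.2 hle)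
  have hlt : ∀ q : PrimeSpectrum R, q ∈ Module.support R N → ringKrullDim (R ⧸ q.asIdeal) < n :=
    fun q hq => lt_of_le_of_lt (CAlgH3.ringKrullDim_quotient_le_supportDim hq) hN
  have hsupp : Module.support R M = Module.support R N ∪ Module.support R (M ⧸ N) :=
    Module.support_of_exact (LinearMap.exact_subtype_mkQ N) N.injective_subtype N.mkQ_surjective
  have hle : Module.supportDim R (M ⧸ N) ≤ n :=
    (Module.supportDim_le_of_surjective _ N.mkQ_surjective).trans hn.le
  obtain ⟨p₀, hp₀, hd₀⟩ := exists_prime_ringKrullDim_eq_supportDim (R := R) M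
  rw [hn] at hd₀
  have hp₀' : p₀ ∈ Module.support R (M ⧸ N) := (hsupp ▸ hp₀).resolve_left fun h =>
    (hlt p₀ h).ne hd₀
  have hdim : Module.supportDim R (M ⧸ N) = n :=
    le_antisymm hle (hd₀.symm.le.trans (CAlgH3.ringKrullDim_quotient_le_supportDim hp₀'))
  have hL : ∀ L : Submodule R (M ⧸ N), L ≠ ⊥ → ¬ Module.supportDim R L < n := fun L hL0 hLn => by
    let L' := L.comap N.mkQ
    have hNL : N ≤ L' := Submodule.le_comap_mkQ _ _
    have h' : Module.supportDim R L' < n := by
      refine supportDim_lt_of_forall _ n fun q hq => ?_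
      let f : N →ₗ[R] L' := Submodule.inclusion hNL
      let g : L' →ₗ[R] L := N.mkQ.restrict fun x hx => hx
      have hfg : Function.Exact f g := fun y =>
        ⟨fun hy => ⟨⟨y.1, (Submodule.Quotient.mk_eq_zero N).1 (congrArg Subtype.val hy)⟩, rfl⟩,
          fun ⟨z, hz⟩ => by rw [← hz]; exact Subtype.ext ((Submodule.Quotient.mk_eq_zero N).2 z.2)⟩
      rw [Module.support_of_exact hfg (Submodule.inclusion_injective hNL) (fun y => by
        obtain ⟨x, hx⟩ := N.mkQ_surjective y.1
        exact ⟨⟨x, show N.mkQ x ∈ L from hx ▸ y.2⟩, Subtype.ext hx⟩)] at hq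
      rcases hq with h | h
      · exact hlt q h
      · exact lt_of_le_of_lt (CAlgH3.ringKrullDim_quotient_le_supportDim h) hLn
    refine hL0 (eq_bot_iff.2 fun y hy => ?_)
    obtain ⟨x, rfl⟩ := N.mkQ_surjective y
    exact (Submodule.mem_bot R).2 ((Submodule.Quotient.mk_eq_zero N).2 (hbig L' h' hy))
  refine ⟨N, hN, hbig, hdim, hL, ?_, ?_⟩
  · ext p
    rw [Set.mem_sep_iff]
    constructor
    · intro hp
      haveI := IsAssociatedPrime.isPrime (AssociatedPrimes.mem_iff.1 hp)
      obtain ⟨-, m, hm⟩ := isAssociatedPrime_iff.1 (AssociatedPrimes.mem_iff.1 hp)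
      have hm0 : m ≠ 0 := fun h0 => Ideal.IsPrime.ne_top' (hm.trans (by
        rw [h0]; exact eq_top_iff.2 fun r _ => by simp) : p = ⊤)
      have hpn : ringKrullDim (R ⧸ p) = n := by
        refine le_antisymm ((CAlgH3.ringKrullDim_quotient_le_supportDim (p := ⟨p, inferInstance⟩) ?_).trans hle) ?_
        · rw [Module.support_eq_zeroLocus, PrimeSpectrum.mem_zeroLocus]
          exact (Submodule.annihilator_top (R := R) (M := M ⧸ N) ▸
            IsAssociatedPrime.annihilator_le (AssociatedPrimes.mem_iff.1 hp))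
        · have h2 := not_lt.1 (hL (Submodule.span R {m})
            (Submodule.span_singleton_eq_bot.not.2 hm0))
          refine h2.trans (le_of_eq_of_le (Module.supportDim_eq_ringKrullDim_quotient_annihilator R _) ?_)
          refine ringKrullDim_le_of_surjective (Ideal.Quotient.factor ?_) (Ideal.Quotient.factor_surjective _)
          intro r hr
          refine Module.mem_annihilator.2 fun y => Subtype.ext ?_
          obtain ⟨c, hc⟩ := Submodule.mem_span_singleton.1 y.2
          show r • (y : M ⧸ N) = 0
          rw [← hc, smul_comm]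
          rw [hm] at hr
          rw [show r • m = 0 by simpa using hr, smul_zero]
      refine ⟨Module.associatedPrimes.minimalPrimes_annihilator_subset_associatedPrimes R M
        (mem_minimalPrimes_annihilator_of_dim hn.le p ?_ hpn), hpn⟩
      refine hsupp.ge (Or.inr ?_)
      rw [Module.support_eq_zeroLocus, PrimeSpectrum.mem_zeroLocus]
      exact (Submodule.annihilator_top (R := R) (M := M ⧸ N) ▸
        IsAssociatedPrime.annihilator_le (AssociatedPrimes.mem_iff.1 hp))
    · rintro ⟨hp, hpn⟩
      haveI := IsAssociatedPrime.isPrime (AssociatedPrimes.mem_iff.1 hp)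
      refine Module.associatedPrimes.minimalPrimes_annihilator_subset_associatedPrimes R _
        (mem_minimalPrimes_annihilator_of_dim hle p ?_ hpn)
      have hpM : (⟨p, inferInstance⟩ : PrimeSpectrum R) ∈ Module.support R M := by
        rw [Module.support_eq_zeroLocus, PrimeSpectrum.mem_zeroLocus]
        exact (Submodule.annihilator_top (R := R) (M := M) ▸
          IsAssociatedPrime.annihilator_le (AssociatedPrimes.mem_iff.1 hp))
      exact (hsupp ▸ hpM).resolve_left fun h => (hlt _ h).ne hpn
  · haveI := subsingleton_H_of_supportDim_lt (I := maximalIdeal R) (M := N) hN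
    haveI := subsingleton_H_of_supportDim_lt (I := maximalIdeal R) (M := N) (i := n + 1)
      (hN.trans (by exact_mod_cast Nat.lt_succ_self n))
    refine ⟨(injective_iff_map_eq_zero _).2 fun a ha => ?_, fun b => ?_⟩
    · obtain ⟨c, rfl⟩ := (Hmap_exact N.injective_subtype N.mkQ_surjective
        (LinearMap.exact_subtype_mkQ N) n a).1 ha
      rw [Subsingleton.elim c 0, map_zero]
    · exact (Hmap_connecting_exact N.injective_subtype N.mkQ_surjective
        (LinearMap.exact_subtype_mkQ N) n b).1 (Subsingleton.elim _ _)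

end dimension

section flat

variable (R' : Type u) [CommRing R'] [IsNoetherianRing R'] [Algebra R R'] (I : Ideal R)
  [Module.Flat R R']

theorem surjective_lsmul_baseChange_injective (E : Type u) [AddCommGroup E] [Module R E]
    [Module.Injective R E] :
    Function.Surjective (((LinearMap.lsmul R' (R' ⊗[R] E)).domRestrict
      (I.map (algebraMap R R'))).flip) := by
  classical
  intro f
  obtain ⟨s, a, ha⟩ := Submodule.fg_iff_exists_fin_generating_family.1 (IsNoetherian.noetherian I)
  let π : (Fin s → R) →ₗ[R] R := Fintype.linearCombination R a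
  have hπI : LinearMap.range π = I := by rw [Fintype.range_linearCombination, ha]
  obtain ⟨r, w, hw⟩ := Submodule.fg_iff_exists_fin_generating_family.1
    (IsNoetherian.noetherian (LinearMap.ker π))
  let φ₁ : E →ₗ[R] (Fin s → E) := LinearMap.pi fun k => a k • LinearMap.id
  let φ₂ : (Fin s → E) →ₗ[R] (Fin r → E) :=
    LinearMap.pi fun j => ∑ k, w j k • LinearMap.proj k
  have hex : Function.Exact φ₁ φ₂ := fun t => by
    constructor
    · intro ht
      let L : (Fin s → R) →ₗ[R] E := Fintype.linearCombination R t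
      have hL : LinearMap.ker π.rangeRestrict ≤ LinearMap.ker L := by
        rw [LinearMap.ker_rangeRestrict, ← hw, Submodule.span_le]
        rintro _ ⟨j, rfl⟩
        have := congrFun ht j
        simpa [L, φ₂, Fintype.linearCombination_apply] using this
      let g : LinearMap.range π →ₗ[R] E := (Submodule.liftQ _ L hL) ∘ₗ
        (LinearMap.quotKerEquivOfSurjective _ π.surjective_rangeRestrict).symm.toLinearMap
      obtain ⟨h, hh⟩ := Module.Baer.of_injective (inferInstance : Module.Injective R E) _ g
      refine ⟨h 1, funext fun k => ?_⟩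
      have hk : a k ∈ LinearMap.range π := ⟨Pi.single k 1, by simp [π, Fintype.linearCombination_apply, Pi.single_apply]⟩
      show a k • h 1 = t k
      rw [← map_smul, smul_eq_mul, mul_one, hh (a k) hk]
      have he : (⟨a k, hk⟩ : LinearMap.range π) = π.rangeRestrict (Pi.single k 1) :=
        Subtype.ext (by simp [π, Fintype.linearCombination_apply, Pi.single_apply])
      rw [he, LinearMap.comp_apply, LinearEquiv.coe_coe,
        show (LinearMap.quotKerEquivOfSurjective _ π.surjective_rangeRestrict).symm
          (π.rangeRestrict (Pi.single k 1)) = Submodule.Quotient.mk (Pi.single k 1) from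
          (LinearEquiv.symm_apply_eq _).2 rfl, Submodule.liftQ_apply]
      simp [L, Fintype.linearCombination_apply, Pi.single_apply]
    · rintro ⟨e, rfl⟩
      funext j
      have hker : w j ∈ LinearMap.ker π := hw ▸ Submodule.subset_span ⟨j, rfl⟩
      have h0 : ∑ k, w j k * a k = 0 := by
        simpa [π, Fintype.linearCombination_apply] using hker
      simp only [φ₁, φ₂, LinearMap.pi_apply, LinearMap.sum_apply, LinearMap.smul_apply,
        LinearMap.proj_apply, LinearMap.id_apply, smul_smul, ← Finset.sum_smul, h0, zero_smul,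
        Pi.zero_apply]
  have hmem : ∀ k, algebraMap R R' (a k) ∈ I.map (algebraMap R R') :=
    fun k => Ideal.mem_map_of_mem _ (ha ▸ Submodule.subset_span ⟨k, rfl⟩)
  let es := TensorProduct.piRight R R' R' fun _ : Fin s => E
  let er := TensorProduct.piRight R R' R' fun _ : Fin r => E
  let y : R' ⊗[R] (Fin s → E) := es.symm fun k => f ⟨_, hmem k⟩
  have h2 : ∀ (z : R' ⊗[R] (Fin s → E)) (j : Fin r), er (φ₂.lTensor R' z) j = ∑ k, w j k • es z k := by
    intro z j
    induction z with
    | zero => simp
    | tmul c v => simp [es, er, φ₂, TensorProduct.tmul_sum, TensorProduct.tmul_smul]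
    | add p q hp hq => simp only [map_add, Pi.add_apply, hp, hq, smul_add, Finset.sum_add_distrib]
  obtain ⟨x, hx⟩ := (Module.Flat.lTensor_exact R' hex y).1 (er.injective (funext fun j => by
    rw [h2, map_zero, Pi.zero_apply]
    simp only [y, LinearEquiv.apply_symm_apply]
    have hker : w j ∈ LinearMap.ker π := hw ▸ Submodule.subset_span ⟨j, rfl⟩
    have h0 : ∑ k, w j k * a k = 0 := by
      simpa [π, Fintype.linearCombination_apply] using hker
    simp only [← IsScalarTower.algebraMap_smul R' (w j _), ← map_smul, ← map_sum]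
    refine (congrArg f (Subtype.ext ?_)).trans (map_zero f)
    simp [Algebra.smul_def, ← map_mul, ← map_sum, h0]))
  refine ⟨x, LinearMap.ext fun z => ?_⟩
  have h1 : ∀ (x : R' ⊗[R] E) (k : Fin s), es (φ₁.lTensor R' x) k = algebraMap R R' (a k) • x := by
    intro x k
    induction x with
    | zero => simp
    | tmul c e => simp [es, φ₁, TensorProduct.tmul_smul]
    | add p q hp hq => simp only [map_add, Pi.add_apply, hp, hq, smul_add]
  show (z : R') • x = f z
  obtain ⟨z, hz⟩ := z
  suffices ∀ hz : z ∈ I.map (algebraMap R R'), z • x = f ⟨z, hz⟩ from this hz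
  have hspanI : I.map (algebraMap R R') = Ideal.span (Set.range fun k => algebraMap R R' (a k)) := by
    conv_lhs => rw [← ha]
    refine (Ideal.map_span (algebraMap R R') (Set.range a)).trans ?_
    rw [← Set.range_comp]
    rfl
  have hspan : z ∈ Ideal.span (Set.range fun k => algebraMap R R' (a k)) := by
    rwa [← hspanI]
  intro hz'
  clear hz
  induction hspan using Submodule.span_induction with
  | mem c hc =>
    obtain ⟨k, rfl⟩ := hc
    rw [← h1, hx]
    simp [y]
  | zero => rw [zero_smul]; exact (map_zero f).symm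
  | add c d hc hd ihc ihd =>
    have hc' : c ∈ I.map (algebraMap R R') := by
      rwa [hspanI]
    have hd' : d ∈ I.map (algebraMap R R') := by
      rwa [hspanI]
    rw [add_smul, ihc hc', ihd hd', ← map_add]
    exact congrArg f (Subtype.ext rfl)
  | smul e c hc ihc =>
    have hc' : c ∈ I.map (algebraMap R R') := by
      rwa [hspanI]
    rw [smul_assoc, ihc hc', ← map_smul]
    exact congrArg f (Subtype.ext rfl)

end flat

end Groth.Agent.LocCoh
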