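import Groth.Agent.LocCoh.FinDimTools
import Groth.Agent.LocCoh.Misc
import Groth.Agent.LocCoh.DepthLocal
import Groth.Agent.LocCoh.BSeq
import Groth.Agent.CommAlg6.PdBaseChange

/-!
Faltings' annihilator theorem over regular rings: projective dimension at a prime bounds the range in
which local cohomology is killed outside the prime.
-/

set_option autoImplicit false

universe u

open IsLocalRing TensorProduct

namespace Groth.Agent.LocCoh

open CommAlg6 (PdLE)

variable {R : Type u} [CommRing R]

section pd

variable {M N : Type u} [AddCommGroup M] [Module R M] [AddCommGroup N] [Module R N]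

theorem pdLE_localized_ker (S : Submonoid R) [Module.Projective R N] (f : N →ₗ[R] M)
    (hf : Function.Surjective f) (n : ℕ) :
    PdLE (Localization S) (LocalizedModule S M) (n + 1) ↔
      PdLE (Localization S) (LocalizedModule S (LinearMap.ker f)) n := by
  haveI : Module.Flat R (Localization S) := IsLocalization.flat _ S
  rw [CommAlg6.pdLE_congr (LocalizedModule.equivTensorProduct S M),
    CommAlg6.pdLE_congr (LocalizedModule.equivTensorProduct S (LinearMap.ker f))]
  exact (CommAlg6.pdLE_succ_iff (f.baseChange (Localization S))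
    (LinearMap.lTensor_surjective _ hf) n).trans
    (CommAlg6.pdLE_congr (CommAlg6.kerBaseChangeEquiv (Localization S) f) n).symm

/-- `pd M_p ≤ pd M_s` for `s ∉ p`. -/
theorem pdLE_atPrime_of_away [IsNoetherianRing R] (p : Ideal R) [p.IsPrime] {s : R} (hs : s ∉ p) :
    ∀ (n : ℕ) (M : Type u) [AddCommGroup M] [Module R M] [Module.Finite R M],
      PdLE (Localization.Away s) (LocalizedModule (Submonoid.powers s) M) n →
      PdLE (Localization.AtPrime p) (LocalizedModule p.primeCompl M) n := by
  intro n
  induction n with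
  | zero =>
    intro M _ _ _ h
    rw [CommAlg6.pdLE_congr (LocalizedModule.equivTensorProduct p.primeCompl M)]
    rw [CommAlg6.pdLE_congr (LocalizedModule.equivTensorProduct (Submonoid.powers s) M)] at h
    let A := Localization.Away s
    let B := Localization.AtPrime p
    let g : A →+* B := IsLocalization.lift (M := Submonoid.powers s) (g := algebraMap R B)
      fun y => IsLocalization.map_units B
        (⟨y.1, SetLike.le_def.1 (Submonoid.powers_le.2 (show s ∈ p.primeCompl from hs)) y.2⟩ :
          p.primeCompl)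
    letI : Algebra A B := g.toAlgebra
    haveI : IsScalarTower R A B :=
      IsScalarTower.of_algebraMap_eq fun r => (IsLocalization.lift_eq _ r).symm
    haveI := CommAlg6.pdLE_zero_iff.1 h
    rw [← CommAlg6.pdLE_congr (TensorProduct.AlgebraTensorModule.cancelBaseChange R A B B M)]
    exact CommAlg6.pdLE_zero_iff.2 inferInstance
  | succ n ih =>
    intro M _ _ _ h
    obtain ⟨t, f, hf⟩ := Module.Finite.exists_fin' R M
    rw [pdLE_localized_ker _ f hf] at h ⊢
    exact ih _ h

/-- If `pd M_p ≤ n` then `pd M_s ≤ n` for some `s ∉ p`. -/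
theorem exists_pdLE_away [IsNoetherianRing R] (p : Ideal R) [p.IsPrime] :
    ∀ (n : ℕ) (M : Type u) [AddCommGroup M] [Module R M] [Module.Finite R M],
      PdLE (Localization.AtPrime p) (LocalizedModule p.primeCompl M) n →
      ∃ s, s ∉ p ∧ PdLE (Localization.Away s) (LocalizedModule (Submonoid.powers s) M) n := by
  intro n
  induction n with
  | zero =>
    intro M _ _ _ h
    haveI : Module.FinitePresentation R M := Module.finitePresentation_of_finite R M
    haveI := CommAlg6.pdLE_zero_iff.1 h
    haveI : Module.Finite (Localization.AtPrime p) (LocalizedModule p.primeCompl M) :=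
      Module.Finite.of_isLocalizedModule (Rₚ := Localization.AtPrime p) p.primeCompl
        (LocalizedModule.mkLinearMap p.primeCompl M)
    haveI : Module.Free (Localization.AtPrime p) (LocalizedModule p.primeCompl M) :=
      Module.free_of_flat_of_isLocalRing
    obtain ⟨r, hr, hfree, -⟩ := Module.FinitePresentation.exists_free_localizedModule_powers
      p.primeCompl (LocalizedModule.mkLinearMap p.primeCompl M) (Localization.AtPrime p)
    haveI := hfree
    exact ⟨r, hr, CommAlg6.pdLE_zero_iff.2 inferInstance⟩
  | succ n ih =>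
    intro M _ _ _ h
    obtain ⟨t, f, hf⟩ := Module.Finite.exists_fin' R M
    rw [pdLE_localized_ker _ f hf] at h
    obtain ⟨s, hs, h'⟩ := ih _ h
    exact ⟨s, hs, (pdLE_localized_ker _ f hf n).2 h'⟩

end pd

section killed

variable [IsNoetherianRing R]

theorem exists_kills_of_subsingleton (p : Ideal R) [p.IsPrime] (M : Type u) [AddCommGroup M]
    [Module R M] [Module.Finite R M] (h : Subsingleton (LocalizedModule p.primeCompl M)) :
    ∃ s, s ∉ p ∧ ∀ x : M, s • x = 0 := by
  have h1 : (⟨p, inferInstance⟩ : PrimeSpectrum R) ∉ Module.support R M :=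
    Module.notMem_support_iff.2 h
  rw [Module.support_eq_zeroLocus, PrimeSpectrum.mem_zeroLocus] at h1
  obtain ⟨s, hs, hsp⟩ := Set.not_subset.1 h1
  exact ⟨s, hsp, fun x => Module.mem_annihilator.1 hs x⟩

theorem subsingleton_H_free {b : Ideal R} {i : ℕ} (hi : (i : ℕ∞) < _root_.LocCoh.idealDepth b R)
    (t : ℕ) : Subsingleton (_root_.LocCoh.H b i (Fin t → R)) := by
  refine subsingleton_H_finsupp_free ?_ t
  refine (natCast_le_idealDepth_iff_H (I := b) (M := R) (i + 1)).1 ?_ i (Nat.lt_succ_self i)
  rw [Nat.cast_add, Nat.cast_one]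
  exact Order.add_one_le_of_lt hi

/-- Where `M` has projective dimension at most `h`, local cohomology of small degree is killed by
a single element, uniformly in the ideal. -/
theorem exists_smul_H_of_pd (p : Ideal R) [p.IsPrime] :
    ∀ (h : ℕ) (M : Type u) [AddCommGroup M] [Module R M] [Module.Finite R M],
      PdLE (Localization.AtPrime p) (LocalizedModule p.primeCompl M) h →
      ∃ s, s ∉ p ∧ ∀ (b : Ideal R) (i : ℕ), ((i + h : ℕ) : ℕ∞) < _root_.LocCoh.idealDepth b R →
        ∀ x : _root_.LocCoh.H b i M, s • x = 0 := by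
  intro h
  induction h with
  | zero =>
    intro M _ _ _ hpd
    rcases subsingleton_or_nontrivial (LocalizedModule p.primeCompl M) with h0 | h0
    · obtain ⟨s, hs, hk⟩ := exists_kills_of_subsingleton p M h0
      exact ⟨s, hs, fun b i _ => smul_H_eq_zero hk i⟩
    haveI := CommAlg6.pdLE_zero_iff.1 hpd
    haveI : Module.Finite (Localization.AtPrime p) (LocalizedModule p.primeCompl M) :=
      Module.Finite.of_isLocalizedModule (Rₚ := Localization.AtPrime p) p.primeCompl
        (LocalizedModule.mkLinearMap p.primeCompl M)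
    haveI : Module.Free (Localization.AtPrime p) (LocalizedModule p.primeCompl M) :=
      Module.free_of_flat_of_isLocalRing
    obtain ⟨t, π, -, hK, hC⟩ := exists_free_approx M p
    obtain ⟨s₁, hs₁, hk₁⟩ := exists_kills_of_subsingleton p _ hK
    obtain ⟨s₂, hs₂, hk₂⟩ := exists_kills_of_subsingleton p _ hC
    refine ⟨s₁ * s₂, fun hh => (Ideal.IsPrime.mem_or_mem ‹_› hh).elim hs₁ hs₂, fun b i hi x => ?_⟩
    rw [Nat.add_zero] at hi
    haveI := subsingleton_H_free hi t
    have hy : ∀ y : _root_.LocCoh.H b i (LinearMap.range π), s₁ • y = 0 := by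
      intro y
      have hfg : Function.Exact (LinearMap.ker π).subtype π.rangeRestrict := by
        intro v
        refine ⟨fun hv => ⟨⟨v, congrArg Subtype.val hv⟩, rfl⟩, ?_⟩
        rintro ⟨w, rfl⟩
        exact Subtype.ext w.2
      obtain ⟨z, hz⟩ := (Hmap_connecting_exact (LinearMap.ker π).injective_subtype
        π.surjective_rangeRestrict hfg i (s₁ • y)).1
        (by rw [map_smul, smul_H_eq_zero hk₁])
      rw [← hz, Subsingleton.elim z 0, map_zero]
    obtain ⟨y, hy'⟩ := (Hmap_exact (LinearMap.range π).injective_subtype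
      (Submodule.mkQ_surjective _) (LinearMap.exact_subtype_mkQ _) i (s₂ • x)).1
      (by rw [map_smul, smul_H_eq_zero hk₂])
    rw [mul_smul, ← hy', ← map_smul, hy, map_zero]
  | succ h ih =>
    intro M _ _ _ hpd
    obtain ⟨t, f, hf⟩ := Module.Finite.exists_fin' R M
    rw [pdLE_localized_ker _ f hf] at hpd
    obtain ⟨s, hs, hk⟩ := ih _ hpd
    refine ⟨s, hs, fun b i hi x => ?_⟩
    haveI := subsingleton_H_free (lt_of_le_of_lt (Nat.cast_le.2 (Nat.le_add_right i (h + 1))) hi) t
    obtain ⟨z, hz⟩ := (Hmap_connecting_exact (LinearMap.ker f).injective_subtype hf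
      (LinearMap.exact_subtype_ker_map f) i (s • x)).1
      (by rw [map_smul]; exact hk b (i + 1) (by convert hi using 2; omega) _)
    rw [← hz, Subsingleton.elim z 0, map_zero]

/-- The bad locus for projective dimension bounds the annihilators. -/
theorem exists_pow_vanishingIdeal_le_annihilator (M : Type u) [AddCommGroup M] [Module R M]
    [Module.Finite R M] (t : ℕ) :
    ∃ n : ℕ, ∀ (d : Ideal R) (i : ℕ), ((i + t : ℕ) : ℕ∞) < _root_.LocCoh.idealDepth d R →
      (PrimeSpectrum.vanishingIdeal {p : PrimeSpectrum R |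
        ¬ PdLE (Localization.AtPrime p.asIdeal) (LocalizedModule p.asIdeal.primeCompl M) t}) ^ n ≤
        Module.annihilator R (_root_.LocCoh.H d i M) := by
  let J : Ideal R := Ideal.span {s : R | ∀ (b : Ideal R) (i : ℕ),
    ((i + t : ℕ) : ℕ∞) < _root_.LocCoh.idealDepth b R → ∀ x : _root_.LocCoh.H b i M, s • x = 0}
  have hJ : PrimeSpectrum.zeroLocus (J : Set R) ⊆ {p : PrimeSpectrum R |
      ¬ PdLE (Localization.AtPrime p.asIdeal) (LocalizedModule p.asIdeal.primeCompl M) t} := by
    intro p hp hpd
    obtain ⟨s, hs, hk⟩ := exists_smul_H_of_pd p.asIdeal t M hpd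
    exact hs (hp (Ideal.subset_span hk))
  have h1 := PrimeSpectrum.vanishingIdeal_anti_mono hJ
  rw [PrimeSpectrum.vanishingIdeal_zeroLocus_eq_radical] at h1
  obtain ⟨n, hn⟩ := Ideal.exists_pow_le_of_le_radical_of_fg h1 (IsNoetherian.noetherian _)
  refine ⟨n, fun d i hi => hn.trans (Ideal.span_le.2 fun s hs => ?_)⟩
  exact Module.mem_annihilator.2 (hs d i hi)

end killed

end Groth.Agent.LocCoh
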