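import Mathlib.CategoryTheory.Abelian.Ext
import Mathlib.CategoryTheory.Abelian.Projective.Ext
import Mathlib.Algebra.Homology.DerivedCategory.Ext.Linear
import Mathlib.Algebra.Category.ModuleCat.Ext.HasExt
import Mathlib.Algebra.Category.ModuleCat.Abelian
import Mathlib.Algebra.Category.ModuleCat.Projective
import Mathlib.Algebra.Category.ModuleCat.EnoughInjectives

/-!
Comparison of Mathlib's derived-functor `Ext` (used by `localCohomology`) with `Abelian.Ext`,
natural in both variables.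
-/

set_option autoImplicit false

universe u

open CategoryTheory Limits Opposite

namespace Groth.Agent.LocCoh

variable {R : Type u} [CommRing R]

variable {X : ModuleCat.{u} R} (P : ProjectiveResolution X)

/-- The cochain complex `Hom(P, Y)`. -/
noncomputable abbrev HomCx (Y : ModuleCat.{u} R) : CochainComplex (ModuleCat.{u} R) ℕ :=
  P.complex.linearYonedaObj R Y

/-- The morphism underlying a cocycle. -/
noncomputable def cocyc (n : ℕ) (Y : ModuleCat.{u} R) :
    (HomCx P Y).cycles n →ₗ[R] (P.complex.X n ⟶ Y) :=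
  ((HomCx P Y).iCycles n).hom

lemma cocyc_d (n : ℕ) (Y : ModuleCat.{u} R) (z : (HomCx P Y).cycles n) :
    P.complex.d (n + 1) n ≫ cocyc P n Y z = 0 :=
  congrArg (fun f => f.hom z) ((HomCx P Y).iCycles_d n (n + 1))

lemma cocyc_injective (n : ℕ) (Y : ModuleCat.{u} R) : Function.Injective (cocyc P n Y) :=
  (ModuleCat.mono_iff_injective _).1 inferInstance

lemma extMk_congr {n : ℕ} {Y : ModuleCat.{u} R} {f g : P.complex.X n ⟶ Y} (h : f = g)
    (hf : P.complex.d (n + 1) n ≫ f = 0) :
    P.extMk f (n + 1) rfl hf = P.extMk g (n + 1) rfl (h ▸ hf) := by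
  subst h; rfl

lemma extMk_zero_deg_eq_zero_iff {Y : ModuleCat.{u} R} (f : P.complex.X 0 ⟶ Y)
    (hf : P.complex.d 1 0 ≫ f = 0) : P.extMk f 1 rfl hf = 0 ↔ f = 0 := by
  refine ⟨fun h => ?_, fun h => by subst h; exact P.extMk_zero 1 rfl⟩
  simp only [← P.extEquivCohomologyClass.apply_eq_iff_eq,
    P.extEquivCohomologyClass_extMk, P.extEquivCohomologyClass_zero,
    CochainComplex.HomComplex.CohomologyClass.mk_eq_zero_iff] at h
  rw [CochainComplex.HomComplex.Cocycle.toSingleMk_mem_coboundaries_iff _ _ _ _ _ 1 (by simp)] at h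
  obtain ⟨g, hg⟩ := h
  have hg0 : g = 0 := (CochainComplex.isZero_of_isStrictlyLE P.cochainComplex 0 1 (by decide)).eq_of_src _ _
  rw [hg0, comp_zero] at hg
  rwa [eq_comm, ← cancel_epi (P.cochainComplexXIso (-((0 : ℕ) : ℤ)) 0 rfl).hom, comp_zero]

/-- Cocycles to `Abelian.Ext`. -/
noncomputable def cyclesToExt (n : ℕ) (Y : ModuleCat.{u} R) :
    (HomCx P Y).cycles n →ₗ[R] Abelian.Ext X Y n where
  toFun z := P.extMk (cocyc P n Y z) (n + 1) rfl (cocyc_d P n Y z)
  map_add' a b := ((P.add_extMk _ _ _ _ _ _).trans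
    (extMk_congr P (map_add (cocyc P n Y) a b).symm _)).symm
  map_smul' r a := by
    show _ = r • P.extMk (cocyc P n Y a) (n + 1) rfl (cocyc_d P n Y a)
    rw [Abelian.Ext.smul_eq_comp_mk₀]
    refine ((P.extMk_comp_mk₀ _ _ _ _ _).trans (extMk_congr P ?_ _)).symm
    exact (by rw [Linear.comp_smul, Category.comp_id] : cocyc P n Y a ≫ (r • 𝟙 Y) = r • cocyc P n Y a).trans
      (map_smul (cocyc P n Y) r a).symm

lemma cyclesToExt_surjective (n : ℕ) (Y : ModuleCat.{u} R) :
    Function.Surjective (cyclesToExt P n Y) := by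
  intro α
  obtain ⟨f, hf, rfl⟩ := P.extMk_surjective α (n + 1) rfl
  let k : ModuleCat.of R R ⟶ (HomCx P Y).X n :=
    ModuleCat.ofHom (LinearMap.toSpanSingleton R ((HomCx P Y).X n) f)
  have hk : k ≫ (HomCx P Y).d n (n + 1) = 0 := by
    refine ModuleCat.hom_ext (LinearMap.ext_ring ?_)
    show ((HomCx P Y).d n (n + 1)).hom (LinearMap.toSpanSingleton R ((HomCx P Y).X n) f 1) = 0
    exact (congrArg ((HomCx P Y).d n (n + 1)).hom (one_smul R f)).trans hf
  refine ⟨((HomCx P Y).liftCycles k (n + 1) (by simp) hk).hom (1 : R), extMk_congr P ?_ (cocyc_d P n Y _)⟩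
  exact (congrArg (fun φ => φ.hom (1 : R)) ((HomCx P Y).liftCycles_i k (n + 1) (by simp) hk)).trans
    (LinearMap.toSpanSingleton_apply_one R _ f)

lemma cocyc_toCycles (n p : ℕ) (Y : ModuleCat.{u} R) (w : P.complex.X p ⟶ Y) :
    cocyc P n Y (((HomCx P Y).toCycles p n).hom w) = P.complex.d n p ≫ w :=
  congrArg (fun f => f.hom w) ((HomCx P Y).toCycles_i p n)

lemma cyclesToExt_eq_zero_iff (n : ℕ) (Y : ModuleCat.{u} R) (z : (HomCx P Y).cycles n) :
    cyclesToExt P n Y z = 0 ↔
      ∃ w : P.complex.X ((ComplexShape.up ℕ).prev n) ⟶ Y,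
        ((HomCx P Y).toCycles ((ComplexShape.up ℕ).prev n) n).hom w = z := by
  show P.extMk (cocyc P n Y z) (n + 1) rfl (cocyc_d P n Y z) = 0 ↔ _
  rcases n with - | p
  · rw [extMk_zero_deg_eq_zero_iff]
    constructor
    · intro h
      refine ⟨0, cocyc_injective P 0 Y ?_⟩
      rw [cocyc_toCycles, comp_zero, h]
    · rintro ⟨w, rfl⟩
      rw [cocyc_toCycles, P.complex.shape _ _ (by simp [CochainComplex.prev_nat_zero]), zero_comp]
  · rw [P.extMk_eq_zero_iff _ _ _ _ p rfl]
    constructor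
    · rintro ⟨g, hg⟩
      have key : ∀ q, q = p → ∃ w : P.complex.X q ⟶ Y,
          ((HomCx P Y).toCycles q (p + 1)).hom w = z := by
        rintro q rfl
        exact ⟨g, cocyc_injective P _ Y (by rw [cocyc_toCycles]; exact hg)⟩
      exact key _ (CochainComplex.prev_nat_succ p)
    · rintro ⟨w, rfl⟩
      have key : ∀ q (w : P.complex.X q ⟶ Y), q = p → ∃ g : P.complex.X p ⟶ Y,
          P.complex.d (p + 1) p ≫ g = cocyc P (p + 1) Y (((HomCx P Y).toCycles q (p + 1)).hom w) := by
        intro q w' hq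
        subst hq
        exact ⟨w', (cocyc_toCycles P _ _ Y w').symm⟩
      exact key _ w (CochainComplex.prev_nat_succ p)

lemma toCycles_cyclesToExt (n : ℕ) (Y : ModuleCat.{u} R) :
    (HomCx P Y).toCycles ((ComplexShape.up ℕ).prev n) n ≫ ModuleCat.ofHom (cyclesToExt P n Y) = 0 := by
  ext w
  exact (cyclesToExt_eq_zero_iff P n Y _).2 ⟨w, rfl⟩

/-- Homology of `Hom(P,Y)` to `Abelian.Ext`. -/
noncomputable def homologyToExt (n : ℕ) (Y : ModuleCat.{u} R) :
    (HomCx P Y).homology n ⟶ ModuleCat.of R (Abelian.Ext X Y n) :=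
  ((HomCx P Y).homologyIsCokernel _ n rfl).desc
    (CokernelCofork.ofπ _ (toCycles_cyclesToExt P n Y))

lemma π_homologyToExt (n : ℕ) (Y : ModuleCat.{u} R) :
    (HomCx P Y).homologyπ n ≫ homologyToExt P n Y = ModuleCat.ofHom (cyclesToExt P n Y) :=
  ((HomCx P Y).homologyIsCokernel _ n rfl).fac _ WalkingParallelPair.one

lemma homologyToExt_apply (n : ℕ) (Y : ModuleCat.{u} R) (z : (HomCx P Y).cycles n) :
    (homologyToExt P n Y).hom (((HomCx P Y).homologyπ n).hom z) = cyclesToExt P n Y z :=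
  congrArg (fun f => f.hom z) (π_homologyToExt P n Y)

instance (n : ℕ) (Y : ModuleCat.{u} R) : IsIso (homologyToExt P n Y) := by
  rw [ConcreteCategory.isIso_iff_bijective]
  constructor
  · refine (injective_iff_map_eq_zero (homologyToExt P n Y).hom).2 fun h hh => ?_
    obtain ⟨z, rfl⟩ := (ModuleCat.epi_iff_surjective ((HomCx P Y).homologyπ n)).1 inferInstance h
    have hz : cyclesToExt P n Y z = 0 := (homologyToExt_apply P n Y z).symm.trans hh
    obtain ⟨w, rfl⟩ := (cyclesToExt_eq_zero_iff P n Y z).1 hz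
    exact congrArg (fun f => f.hom w) ((HomCx P Y).toCycles_comp_homologyπ _ n)
  · intro α
    obtain ⟨z, rfl⟩ := cyclesToExt_surjective P n Y α
    exact ⟨((HomCx P Y).homologyπ n).hom z, homologyToExt_apply P n Y z⟩

/-- The map of `Hom` complexes induced by a morphism in the target. -/
noncomputable def homCxPost {Y Y' : ModuleCat.{u} R} (g : Y ⟶ Y') : HomCx P Y ⟶ HomCx P Y' where
  f i := ModuleCat.ofHom (X := (P.complex.X i ⟶ Y)) (Y := (P.complex.X i ⟶ Y'))
    (Linear.rightComp R _ g)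
  comm' i j _ := by
    refine ModuleCat.hom_ext (LinearMap.ext fun f => ?_)
    exact (Category.assoc (P.complex.d j i) f g).symm

/-- The map of `Hom` complexes induced by a chain map of resolutions. -/
noncomputable def homCxPre {X' : ModuleCat.{u} R} {P' : ProjectiveResolution X'}
    (φ : P'.complex ⟶ P.complex) (Y : ModuleCat.{u} R) : HomCx P Y ⟶ HomCx P' Y where
  f i := ModuleCat.ofHom (X := (P.complex.X i ⟶ Y)) (Y := (P'.complex.X i ⟶ Y))
    (Linear.leftComp R _ (φ.f i))
  comm' i j _ := by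
    refine ModuleCat.hom_ext (LinearMap.ext fun f => ?_)
    show P'.complex.d j i ≫ φ.f i ≫ f = φ.f j ≫ P.complex.d j i ≫ f
    exact (φ.comm_assoc j i f).symm

lemma cocyc_post (n : ℕ) {Y Y' : ModuleCat.{u} R} (g : Y ⟶ Y') (z : (HomCx P Y).cycles n) :
    cocyc P n Y' ((HomologicalComplex.cyclesMap (homCxPost P g) n).hom z) = cocyc P n Y z ≫ g :=
  congrArg (fun f => f.hom z) (HomologicalComplex.cyclesMap_i (homCxPost P g) n)

lemma homologyToExt_post (n : ℕ) {Y Y' : ModuleCat.{u} R} (g : Y ⟶ Y') (h : (HomCx P Y).homology n) :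
    (homologyToExt P n Y').hom ((HomologicalComplex.homologyMap (homCxPost P g) n).hom h) =
      ((homologyToExt P n Y).hom h).comp (Abelian.Ext.mk₀ g) (add_zero n) := by
  obtain ⟨z, rfl⟩ := (ModuleCat.epi_iff_surjective ((HomCx P Y).homologyπ n)).1 inferInstance h
  have := congrArg (fun f => f.hom z) (HomologicalComplex.homologyπ_naturality (homCxPost P g) n)
  refine (congrArg (homologyToExt P n Y').hom this).trans ?_
  refine (homologyToExt_apply P n Y' _).trans ?_
  rw [homologyToExt_apply]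
  exact (extMk_congr P (cocyc_post P n g z) (cocyc_d P n Y' _)).trans (P.extMk_comp_mk₀ _ _ rfl (cocyc_d P n Y z) g).symm

lemma cocyc_pre (n : ℕ) {X' : ModuleCat.{u} R} {P' : ProjectiveResolution X'}
    (φ : P'.complex ⟶ P.complex) (Y : ModuleCat.{u} R) (z : (HomCx P Y).cycles n) :
    cocyc P' n Y ((HomologicalComplex.cyclesMap (homCxPre P φ Y) n).hom z) =
      φ.f n ≫ cocyc P n Y z :=
  congrArg (fun f => f.hom z) (HomologicalComplex.cyclesMap_i (homCxPre P φ Y) n)

lemma homologyToExt_pre (n : ℕ) {X' : ModuleCat.{u} R} {P' : ProjectiveResolution X'}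
    {g : X' ⟶ X} (φ : P'.Hom P g) (Y : ModuleCat.{u} R) (h : (HomCx P Y).homology n) :
    (homologyToExt P' n Y).hom ((HomologicalComplex.homologyMap (homCxPre P φ.hom Y) n).hom h) =
      (Abelian.Ext.mk₀ g).comp ((homologyToExt P n Y).hom h) (zero_add n) := by
  obtain ⟨z, rfl⟩ := (ModuleCat.epi_iff_surjective ((HomCx P Y).homologyπ n)).1 inferInstance h
  have := congrArg (fun f => f.hom z) (HomologicalComplex.homologyπ_naturality (homCxPre P φ.hom Y) n)
  refine (congrArg (homologyToExt P' n Y).hom this).trans ?_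
  refine (homologyToExt_apply P' n Y _).trans ?_
  rw [homologyToExt_apply]
  exact (extMk_congr P' (cocyc_pre P n φ.hom Y z) (cocyc_d P' n Y _)).trans
    (ProjectiveResolution.mk₀_comp_extMk _ _ rfl (cocyc_d P n Y z) φ).symm

lemma homologyUnop_naturality {V : Type*} [Category V] [Abelian V] {ι : Type*} {c : ComplexShape ι}
    {K L : HomologicalComplex Vᵒᵖ c} (φ : K ⟶ L) (i : ι) :
    (L.homologyUnop i).hom ≫ (HomologicalComplex.homologyMap φ i).unop =
      HomologicalComplex.homologyMap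
        ((HomologicalComplex.unopFunctor V c).map φ.op) i ≫ (K.homologyUnop i).hom :=
  congrArg Quiver.Hom.unop (HomologicalComplex.homologyOp_hom_naturality
    ((HomologicalComplex.unopFunctor V c).map φ.op) i)

/-- The derived-functor `Ext` versus `Abelian.Ext`. -/
noncomputable def extIso (X : ModuleCat.{u} R) (n : ℕ) (Y : ModuleCat.{u} R) :
    ((Ext R (ModuleCat.{u} R) n).obj (op X)).obj Y ≅ ModuleCat.of R (Abelian.Ext X Y n) :=
  (projectiveResolution X).isoExt n Y ≪≫ asIso (homologyToExt (projectiveResolution X) n Y)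

lemma unop_glue {V : Type*} [Category V] [Abelian V] {ι : Type*} {c : ComplexShape ι}
    {K L : HomologicalComplex Vᵒᵖ c} (φ : K ⟶ L) (i : ι) {a b : Vᵒᵖ}
    (iK : b ≅ K.homology i) (iL : a ≅ L.homology i) (m : b ⟶ a)
    (hm : m = iK.hom ≫ HomologicalComplex.homologyMap φ i ≫ iL.inv) :
    m.unop ≫ (iK.unop.symm ≪≫ (K.homologyUnop i).symm).hom =
      (iL.unop.symm ≪≫ (L.homologyUnop i).symm).hom ≫
        HomologicalComplex.homologyMap ((HomologicalComplex.unopFunctor V c).map φ.op) i := by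
  subst hm
  have hh : iK.hom.unop ≫ iK.inv.unop = 𝟙 _ := by rw [← unop_comp, Iso.inv_hom_id]; rfl
  simp only [Iso.trans_hom, Iso.symm_hom, Iso.unop_inv, unop_comp, Category.assoc,
    reassoc_of% hh]
  refine congrArg (iL.inv.unop ≫ ·) ?_
  exact (Iso.comp_inv_eq _).2
    (((L.homologyUnop i).eq_inv_comp.2 (homologyUnop_naturality φ i)).trans
      (Category.assoc _ _ _).symm)

lemma isoExt_post (n : ℕ) {Y Y' : ModuleCat.{u} R} (g : Y ⟶ Y') :
    ((Ext R (ModuleCat.{u} R) n).obj (op X)).map g ≫ (P.isoExt n Y').hom =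
      (P.isoExt n Y).hom ≫ HomologicalComplex.homologyMap (homCxPost P g) n :=
  unop_glue ((NatTrans.mapHomologicalComplex
      (NatTrans.rightOp ((linearYoneda R (ModuleCat.{u} R)).map g)) _).app P.complex) n
    _ _ _ (ProjectiveResolution.leftDerived_app_eq
      (NatTrans.rightOp ((linearYoneda R (ModuleCat.{u} R)).map g)) P n)

lemma isoExt_pre (n : ℕ) {X' : ModuleCat.{u} R} {P' : ProjectiveResolution X'}
    {g : X' ⟶ X} (φ : P'.Hom P g) (Y : ModuleCat.{u} R) :
    ((Ext R (ModuleCat.{u} R) n).map g.op).app Y ≫ (P'.isoExt n Y).hom =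
      (P.isoExt n Y).hom ≫ HomologicalComplex.homologyMap (homCxPre P φ.hom Y) n :=
  unop_glue (((((linearYoneda R (ModuleCat.{u} R)).obj Y).rightOp).mapHomologicalComplex _).map
      φ.hom) n _ _ _
    (Functor.leftDerived_map_eq ((linearYoneda R (ModuleCat.{u} R)).obj Y).rightOp n g φ.hom φ.hom_comp_π)

/-- The element-level comparison. -/
noncomputable def extEquiv (X : ModuleCat.{u} R) (n : ℕ) (Y : ModuleCat.{u} R) :
    ((Ext R (ModuleCat.{u} R) n).obj (op X)).obj Y ≃ₗ[R] Abelian.Ext X Y n :=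
  (extIso X n Y).toLinearEquiv

theorem extEquiv_post (X : ModuleCat.{u} R) (n : ℕ) {Y Y' : ModuleCat.{u} R} (g : Y ⟶ Y')
    (x : ((Ext R (ModuleCat.{u} R) n).obj (op X)).obj Y) :
    extEquiv X n Y' ((((Ext R (ModuleCat.{u} R) n).obj (op X)).map g).hom x) =
      (extEquiv X n Y x).comp (Abelian.Ext.mk₀ g) (add_zero n) :=
  (congrArg (homologyToExt _ n Y').hom
    (congrArg (fun f => f.hom x) (isoExt_post (projectiveResolution X) n g))).trans
    (homologyToExt_post _ n g _)

theorem extEquiv_pre {X X' : ModuleCat.{u} R} (g : X' ⟶ X) (n : ℕ) (Y : ModuleCat.{u} R)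
    (x : ((Ext R (ModuleCat.{u} R) n).obj (op X)).obj Y) :
    extEquiv X' n Y ((((Ext R (ModuleCat.{u} R) n).map g.op).app Y).hom x) =
      (Abelian.Ext.mk₀ g).comp (extEquiv X n Y x) (zero_add n) := by
  let φ : (projectiveResolution X').Hom (projectiveResolution X) g :=
    { hom := ProjectiveResolution.lift g _ _
      hom_f_zero_comp_π_f_zero := by
        rw [← HomologicalComplex.comp_f, ProjectiveResolution.lift_commutes,
          HomologicalComplex.comp_f] }
  exact (congrArg (homologyToExt _ n Y).hom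
    (congrArg (fun f => f.hom x) (isoExt_pre (projectiveResolution X) n φ Y))).trans
    (homologyToExt_pre _ n φ Y _)

end Groth.Agent.LocCoh
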