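import Groth.Agent.LocCoh.GorensteinImage
import Groth.Agent.LocCoh.ExtVanishing
import Groth.Agent.LocCoh.ExtBridge
import Groth.Agent.LocCoh.CanonicalCM
import Groth.Agent.Matlis6.Finite

/-!
Existence of canonical modules for homomorphic images of Gorenstein local rings, by comparing
the injective hull of the residue field of `R` with the one of `R'` along `R' → R`.
-/

set_option autoImplicit false

universe u

open IsLocalRing CategoryTheory CategoryTheory.Abelian

namespace Groth.Agent.LocCoh

/-- Injective hulls of the residue field are unique. -/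
theorem nonempty_hull_equiv {R : Type u} [CommRing R] [IsNoetherianRing R] {m : Ideal R} [m.IsMaximal]
    {T E : Type u} [AddCommGroup T] [Module R T] [AddCommGroup E] [Module R E]
    (hT : Matlis6.IsHullAt m T) (hE : Matlis6.IsHullAt m E) : Nonempty (T ≃ₗ[R] E) := by
  obtain ⟨t, ht, hmt, hsoc⟩ := hT.eq_smul_of_killed
  obtain ⟨g, hg⟩ := Matlis6.exists_injective_of_socle_line hE hT.isPowerTorsion ht hmt hsoc
  obtain ⟨e, he, hme, hsocE⟩ := hE.eq_smul_of_killed
  obtain ⟨-, -, -, hess⟩ := id hE.ess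
  obtain ⟨e', he', hme', hess⟩ := hE.ess
  obtain ⟨h, hh⟩ := hT.inj.out g hg LinearMap.id
  have hker : ∀ x, h x = 0 → x = 0 := fun x hx => by
    by_contra hx0
    obtain ⟨r, c, hrx, hrc⟩ := hess x hx0
    have hsock : ∀ a ∈ m, a • (r • x) = 0 := fun a ha => by rw [hrc, smul_comm, hme' a ha, smul_zero]
    obtain ⟨c', hc'⟩ := hsocE _ hsock
    obtain ⟨d, hd⟩ := hsocE (g t) (fun a ha => by rw [← map_smul, hmt a ha, map_zero])
    have hdm : d ∉ m := fun hdm => ht (hg (by rw [hd, hme d hdm, map_zero]))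
    obtain ⟨s, hs⟩ := Matlis6.exists_smul_eq_of_isMaximal hme hdm
    have h1 : r • x = g ((c' * s) • t) := by rw [map_smul, hd, hc', mul_smul, hs]
    have h2 : (c' * s) • t = 0 := by
      have h3 := congrArg h h1
      rwa [map_smul, hx, smul_zero, hh, LinearMap.id_apply, eq_comm] at h3
    exact hrx (by rw [h1, h2, map_zero])
  refine ⟨(LinearEquiv.ofBijective h ⟨(injective_iff_map_eq_zero h).2 hker, fun t' => ⟨g t', ?_⟩⟩).symm⟩
  exact hh t'

variable {R' R : Type u} [CommRing R'] [IsNoetherianRing R'] [IsLocalRing R'] [CommRing R]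
  [IsNoetherianRing R] [IsLocalRing R] {E' E : Type u} [AddCommGroup E'] [Module R' E']
  [AddCommGroup E] [Module R E]

/-- Along a surjection `R' → R`, the hull over `R` is the part of the hull over `R'` killed by the kernel. -/
theorem exists_hull_comparison (g : R' →+* R) (hg : Function.Surjective g)
    (hE' : Matlis6.IsHullAt (maximalIdeal R') E') (hE : Matlis6.IsHullAt (maximalIdeal R) E) :
    ∃ ι : E →+ E', Function.Injective ι ∧ (∀ (r : R') (x : E), ι (g r • x) = r • ι x) ∧
      ∀ y : E', (∀ r, g r = 0 → r • y = 0) → ∃ x, ι x = y := by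
  letI : Algebra R' R := g.toAlgebra
  let C := (ModuleCat.coextendScalars (algebraMap R' R)).obj (ModuleCat.of R' E')
  let fromR : R → ↑((ModuleCat.restrictScalars (algebraMap R' R)).obj (ModuleCat.of R R)) := fun b => b
  let app : C → ↑((ModuleCat.restrictScalars (algebraMap R' R)).obj (ModuleCat.of R R)) →ₗ[R'] E' := fun φ => φ
  let ev : C →+ E' :=
    { toFun := fun φ => app φ (fromR 1), map_zero' := rfl, map_add' := fun _ _ => rfl }
  have hev : ∀ (r : R') (φ : C), ev (g r • φ) = r • ev φ := fun r φ => by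
    show app φ (fromR ((1 : R) * g r)) = r • app φ (fromR 1)
    rw [← map_smul]
    refine congrArg _ ?_
    show (1 : R) * g r = g r * 1
    exact mul_comm _ _
  have hinj : Function.Injective ev := (injective_iff_map_eq_zero ev).2 fun φ hφ => LinearMap.ext fun b => by
    obtain ⟨r, hr⟩ := hg b
    show app φ b = 0
    rw [show b = r • fromR 1 from hr.symm.trans (mul_one _).symm, map_smul, show app φ (fromR 1) = 0 from hφ,
      smul_zero]
  have hrange : ∀ y : E', (∀ r, g r = 0 → r • y = 0) → ∃ φ : C, ev φ = y := fun y hy => by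
    have hwd : ∀ r s, g r = g s → r • y = s • y := fun r s h => by
      rw [← sub_eq_zero, ← sub_smul]
      exact hy _ (by rw [map_sub, h, sub_self])
    let toR : ↑((ModuleCat.restrictScalars (algebraMap R' R)).obj (ModuleCat.of R R)) → R := fun b => b
    let sec : R → R' := Function.surjInv hg
    have hsec : ∀ b, g (sec b) = b := Function.surjInv_eq hg
    let ψ : ↑((ModuleCat.restrictScalars (algebraMap R' R)).obj (ModuleCat.of R R)) →ₗ[R'] E' :=
      { toFun := fun b => sec (toR b) • y
        map_add' := fun a b => by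
          show sec (toR a + toR b) • y = sec (toR a) • y + sec (toR b) • y
          rw [← add_smul]
          exact hwd _ _ (by rw [map_add, hsec, hsec, hsec])
        map_smul' := fun c b => by
          show sec (g c * toR b) • y = c • sec (toR b) • y
          rw [smul_smul]
          exact hwd _ _ (by rw [map_mul, hsec, hsec]) }
    refine ⟨ψ, ?_⟩
    show sec 1 • y = y
    exact (hwd _ 1 (by rw [hsec, map_one])).trans (one_smul _ _)
  have hmax : ∀ a ∈ maximalIdeal R', g a ∈ maximalIdeal R := fun a ha => by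
    rw [← IsLocalRing.map_maximalIdeal_of_surjective g hg]
    exact Ideal.mem_map_of_mem g ha
  have ht : _root_.LocCoh.IsPowerTorsion (maximalIdeal R) C := fun φ => by
    obtain ⟨k, hk⟩ := hE'.isPowerTorsion (ev φ)
    refine ⟨k, fun a ha => hinj ?_⟩
    rw [← IsLocalRing.map_maximalIdeal_of_surjective g hg, ← Ideal.map_pow,
      Ideal.mem_map_iff_of_surjective g hg] at ha
    obtain ⟨a', ha', rfl⟩ := ha
    rw [hev, hk a' ha', map_zero]
  obtain ⟨e, he, hme, hsoc⟩ := hE'.eq_smul_of_killed
  obtain ⟨φ₀, hφ₀⟩ := hrange e fun r hr => hme r (by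
    by_contra hrm
    exact not_isUnit_zero (hr ▸ (IsLocalRing.notMem_maximalIdeal.1 hrm).map g))
  have hC : Matlis6.IsHullAt (maximalIdeal R) C := by
    refine Matlis6.IsHullAt.of_torsion (Matlis6.injective_coextend R' R E' hE'.inj) ht (e := φ₀)
      (fun h => he (by rw [← hφ₀, h, map_zero])) (fun a ha => hinj ?_) (fun φ hφ => ?_)
    · obtain ⟨a', rfl⟩ := hg a
      have ha' : a' ∈ maximalIdeal R' := by
        by_contra hn
        exact (IsLocalRing.notMem_maximalIdeal.2 ((IsLocalRing.notMem_maximalIdeal.1 hn).map g)) ha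
      rw [hev, hφ₀, hme a' ha', map_zero]
    · obtain ⟨c, hc⟩ := hsoc (ev φ) fun a ha => by rw [← hev, hφ _ (hmax a ha), map_zero]
      exact ⟨g c, hinj (by rw [hev, hφ₀, hc])⟩
  obtain ⟨e₁⟩ := nonempty_hull_equiv hE hC
  refine ⟨ev.comp e₁.toLinearMap.toAddMonoidHom, hinj.comp e₁.injective, fun r x => ?_, fun y hy => ?_⟩
  · show ev (e₁ (g r • x)) = r • ev (e₁ x)
    rw [map_smul, hev]
  · obtain ⟨φ, rfl⟩ := hrange y hy
    exact ⟨e₁.symm φ, congrArg ev (e₁.apply_symm_apply φ)⟩

/-- `Hom_R(X,E) = Hom_{R'}(X,E')`. -/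
theorem exists_dual_comparison [Algebra R' R] (hg : Function.Surjective (algebraMap R' R))
    (hE' : Matlis6.IsHullAt (maximalIdeal R') E') (hE : Matlis6.IsHullAt (maximalIdeal R) E)
    (X : Type u) [AddCommGroup X] [Module R X] [Module R' X] [IsScalarTower R' R X] :
    ∃ Φ : (X →ₗ[R] E) ≃+ (X →ₗ[R'] E'), ∀ (r : R') ψ, Φ (algebraMap R' R r • ψ) = r • Φ ψ := by
  obtain ⟨ι, hinj, hι, hrange⟩ := exists_hull_comparison (algebraMap R' R) hg hE' hE
  let F : (X →ₗ[R] E) →+ (X →ₗ[R'] E') :=
    { toFun := fun ψ =>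
        { toFun := fun x => ι (ψ x), map_add' := fun a b => by rw [map_add, map_add],
          map_smul' := fun r x => by
            rw [← IsScalarTower.algebraMap_smul R r x, map_smul, hι]; rfl }
      map_zero' := LinearMap.ext fun x => by show ι ((0 : X →ₗ[R] E) x) = 0; rw [LinearMap.zero_apply, map_zero]
      map_add' := fun a b => LinearMap.ext fun x => by
        show ι ((a + b) x) = ι (a x) + ι (b x)
        rw [LinearMap.add_apply, map_add] }
  have hF : Function.Bijective F := by
    refine ⟨fun a b h => LinearMap.ext fun x => hinj (LinearMap.congr_fun h x), fun χ => ?_⟩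
    choose w hw using fun x => hrange (χ x) fun r hr => by
      rw [← map_smul, ← IsScalarTower.algebraMap_smul R r x, hr, zero_smul, map_zero]
    refine ⟨{ toFun := w, map_add' := fun a b => hinj ?_, map_smul' := fun c x => hinj ?_ },
      LinearMap.ext hw⟩
    · rw [hw, map_add, map_add, hw, hw]
    · obtain ⟨r, rfl⟩ := hg c
      rw [hw, RingHom.id_apply, hι, hw, ← map_smul, IsScalarTower.algebraMap_smul]
  exact ⟨AddEquiv.ofBijective F hF, fun r ψ => LinearMap.ext fun x => hι r (ψ x)⟩

/-- A canonical module exists for quotients of Gorenstein rings; it is an `Ext` module. -/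
theorem exists_canonical_of_gorenstein_image [_root_.LocCoh.IsGorensteinLocalRing R'] [Algebra R' R]
    (hg : Function.Surjective (algebraMap R' R)) {n m : ℕ} (hn : ringKrullDim R = n)
    (hm : ringKrullDim R' = m) (hE : Matlis6.IsHullAt (maximalIdeal R) E)
    (X : Type u) [AddCommGroup X] [Module R X] [Module R' X] [IsScalarTower R' R X]
    (eX : X ≃ₗ[R'] Ext (ModuleCat.of R' R) (ModuleCat.of R' R') (m - n)) :
    Nonempty ((X →ₗ[R] E) ≃ₗ[R] _root_.LocCoh.H (maximalIdeal R) n R) := by
  haveI : Module.Finite R' R := Module.Finite.of_surjective (Algebra.linearMap R' R) hg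
  obtain ⟨E₀, _, _, hE₀⟩ := Matlis6.exists_isHullAt (maximalIdeal R')
  obtain ⟨Φ, hΦ⟩ := exists_dual_comparison hg hE₀ hE X
  have hnm : n ≤ m := by
    have h := ringKrullDim_le_of_surjective (algebraMap R' R) hg
    rw [hn, hm] at h
    exact_mod_cast h
  obtain ⟨e⟩ := gorenstein_duality hm hE₀ (m - n) n (by omega) R
  obtain ⟨φ, hφ⟩ : ∃ φ : _root_.LocCoh.H (maximalIdeal R) n R ≃+ _root_.LocCoh.H (maximalIdeal R') n R,
      ∀ (r : R') (x : _root_.LocCoh.H (maximalIdeal R) n R), φ (algebraMap R' R r • x) = r • φ x := by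
    rw [← IsLocalRing.map_maximalIdeal_of_surjective (algebraMap R' R) hg]
    exact exists_H_independence R' R (maximalIdeal R') n R
  let e' : (X →ₗ[R'] E₀) ≃ₗ[R'] _root_.LocCoh.H (maximalIdeal R') n R := (eX.congrLeft E₀ R').trans e.symm
  let ψ : (X →ₗ[R] E) ≃+ _root_.LocCoh.H (maximalIdeal R) n R := Φ.trans (e'.toAddEquiv.trans φ.symm)
  refine ⟨{ ψ with map_smul' := fun c x => ?_ }⟩
  obtain ⟨r, rfl⟩ := hg c
  show φ.symm (e' (Φ (algebraMap R' R r • x))) = algebraMap R' R r • φ.symm (e' (Φ x))
  rw [hΦ, map_smul]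
  apply φ.injective
  rw [φ.apply_symm_apply, hφ, φ.apply_symm_apply]

theorem exists_canonicalModule_of_gorenstein_image [_root_.LocCoh.IsGorensteinLocalRing R'] (g : R' →+* R)
    (hg : Function.Surjective g) {n : ℕ} (hn : ringKrullDim R = n)
    (hE : Matlis6.IsHullAt (maximalIdeal R) E) :
    ∃ K : ModuleCat.{u} R, Module.Finite R K ∧
      Nonempty ((K →ₗ[R] E) ≃ₗ[R] _root_.LocCoh.H (maximalIdeal R) n R) := by
  letI : Algebra R' R := g.toAlgebra
  obtain ⟨m, hm⟩ := exists_dim_eq (R := R')
  haveI : Module.Finite R' R := Module.Finite.of_surjective (Algebra.linearMap R' R) hg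
  let X := Ext (ModuleCat.of R' R) (ModuleCat.of R' R') (m - n)
  haveI : Module.Finite R' X := inferInstance
  have hkill : Module.IsTorsionBySet R' X (RingHom.ker g : Set R') := fun x ⟨r, hr⟩ =>
    smul_ext_eq_zero R' r (fun b => by
      show g r * b = 0
      rw [RingHom.mem_ker.1 hr, zero_mul]) (m - n) x
  letI : Module (R' ⧸ RingHom.ker g) X := hkill.module
  let e := RingHom.quotientKerEquivOfSurjective hg
  letI : Module R X := Module.compHom X e.symm.toRingHom
  haveI : IsScalarTower R' R X := IsScalarTower.of_algebraMap_smul fun r x => by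
    show e.symm (g r) • x = r • x
    rw [show e.symm (g r) = Ideal.Quotient.mk _ r from e.injective (by rw [e.apply_symm_apply]; rfl)]
    rfl
  haveI : Module.Finite R X := Module.Finite.of_restrictScalars_finite R' R X
  exact ⟨ModuleCat.of R X, inferInstanceAs (Module.Finite R X),
    exists_canonical_of_gorenstein_image hg hn hm hE X (LinearEquiv.refl _ _)⟩

omit [IsNoetherianRing R] in
/-- The dual of `Ext^g(S/I,S)` for a Cohen–Macaulay quotient of a Gorenstein ring. -/
theorem dual_ext_quotient [_root_.LocCoh.IsGorensteinLocalRing R] {d a m : ℕ} (hm : ringKrullDim R = m)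
    (hE : Matlis6.IsHullAt (maximalIdeal R) E) (hda : d + a = m) (M : Type u) [AddCommGroup M] [Module R M]
    [Module.Finite R M] :
    Nonempty ((Ext (ModuleCat.of R M) (ModuleCat.of R R) a →ₗ[R] E) ≃ₗ[R]
      _root_.LocCoh.H (maximalIdeal R) d M) := by
  obtain ⟨e⟩ := gorenstein_duality hm hE a d hda M
  exact ⟨e.symm⟩

/-- `ht I + dim S/I = dim S` when `S` and `S/I` are Cohen–Macaulay. -/
theorem height_add_dim_quotient_of_cm {S : Type u} [CommRing S] [_root_.LocCoh.IsCohenMacaulayLocalRing S]
    (I : Ideal S) [_root_.LocCoh.IsCohenMacaulayLocalRing (S ⧸ I)] {g d m : ℕ} (hg : I.height = g)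
    (hd : ringKrullDim (S ⧸ I) = d) (hm : ringKrullDim S = m) : d + g = m := by
  obtain ⟨p, hp, hIp, hpg⟩ := Ideal.exists_isPrime_height_eq hg
  obtain ⟨q, hq, hqp⟩ := Ideal.exists_minimalPrimes_le hIp
  haveI := hq.1.1
  have hqg : q.height = g := le_antisymm (hpg ▸ Ideal.height_mono hqp) (hg ▸ Ideal.height_mono hq.1.2)
  have hqmin : q.map (Ideal.Quotient.mk I) ∈ associatedPrimes (S ⧸ I) (S ⧸ I) := by
    refine Module.associatedPrimes.minimalPrimes_annihilator_subset_associatedPrimes (S ⧸ I) (S ⧸ I) ?_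
    rw [Module.annihilator_eq_bot.2 inferInstance]
    have h : q.map (Ideal.Quotient.mk I) ∈ (I.map (Ideal.Quotient.mk I)).minimalPrimes := by
      rw [Ideal.minimalPrimes_map_of_surjective Ideal.Quotient.mk_surjective, Ideal.mk_ker, sup_idem]
      exact ⟨q, hq, rfl⟩
    rwa [Ideal.map_quotient_self] at h
  have hdim : ringKrullDim (S ⧸ q) = d := by
    have h := CAlgH3.ringKrullDim_quotient_eq_of_mem_associatedPrimes
      ((CAlgH3.isCohenMacaulayLocalRing_iff (S ⧸ I)).1 inferInstance) hqmin
    rw [Module.supportDim_self_eq_ringKrullDim, hd] at h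
    rw [← ringKrullDim_eq_of_ringEquiv (DoubleQuot.quotQuotEquivQuotOfLE hq.1.2)]
    exact h
  have h2 := CAlgH3.height_add_ringKrullDim_quotient q
  rw [hqg, hdim, hm] at h2
  have h3 : g + d = m := by exact_mod_cast h2
  omega

end Groth.Agent.LocCoh
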