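import Groth.Agent.LocCoh.BaseChange
import Groth.Prelude.Def_DualLC
import Mathlib.Algebra.Homology.DerivedCategory.Ext.ExtClass

/-!
Naturality of the connecting maps, and the comparison maps `H_{I'} → H_I` for `I ≤ I'`.
-/

set_option autoImplicit false

universe u

open CategoryTheory Abelian Limits

namespace Groth.Agent.LocCoh

variable {R : Type u} [CommRing R] {I I' I'' : Ideal R}
variable {M N P M' N' P' : Type u} [AddCommGroup M] [Module R M] [AddCommGroup N] [Module R N]
  [AddCommGroup P] [Module R P] [AddCommGroup M'] [Module R M'] [AddCommGroup N'] [Module R N']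
  [AddCommGroup P'] [Module R P']

theorem connecting_cls {f : M →ₗ[R] N} {g : N →ₗ[R] P} (hf : Function.Injective f)
    (hg : Function.Surjective g) (hfg : Function.Exact f g) (n i : ℕ)
    (x : Ext (Q I n) (ModuleCat.of R P) i) :
    connecting I hf hg hfg i (cls n i x) =
      cls n (i + 1) (x.comp (shortExact_of hf hg hfg).extClass rfl) :=
  δ_toH (F := localCohomology.idealPowersDiagram I) (shortExact_of hf hg hfg) rfl _ x

section natural

variable {f : M →ₗ[R] N} {g : N →ₗ[R] P} {f' : M' →ₗ[R] N'} {g' : N' →ₗ[R] P'}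
  (hf : Function.Injective f) (hg : Function.Surjective g) (hfg : Function.Exact f g)
  (hf' : Function.Injective f') (hg' : Function.Surjective g') (hfg' : Function.Exact f' g')
  (a : M →ₗ[R] M') (b : N →ₗ[R] N') (c : P →ₗ[R] P')
  (h₁ : f'.comp a = b.comp f) (h₂ : g'.comp b = c.comp g)

include h₁ h₂

/-- Naturality of the connecting map. -/
theorem connecting_natural (i : ℕ) :
    (Hmap I (i + 1) a).comp (connecting I hf hg hfg i) =
      (connecting I hf' hg' hfg' i).comp (Hmap I i c) := by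
  refine Hext fun n x => ?_
  have key := ShortComplex.ShortExact.extClass_naturality (shortExact_of hf hg hfg)
    (shortExact_of hf' hg' hfg')
    { τ₁ := ModuleCat.ofHom a
      τ₂ := ModuleCat.ofHom b
      τ₃ := ModuleCat.ofHom c
      comm₁₂ := ModuleCat.hom_ext h₁
      comm₂₃ := ModuleCat.hom_ext h₂ }
  rw [LinearMap.comp_apply, LinearMap.comp_apply, connecting_cls, Hmap_cls, Hmap_cls, connecting_cls]
  refine congrArg (cls n (i + 1)) ?_
  rw [Ext.comp_assoc_of_third_deg_zero, Ext.comp_assoc_of_second_deg_zero]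
  exact congrArg (fun e => x.comp e rfl) key

end natural

/-- The comparison map. -/
noncomputable def Hle (h : I ≤ I') (i : ℕ) (M : Type u) [AddCommGroup M] [Module R M] :
    _root_.LocCoh.H I' i M →ₗ[R] _root_.LocCoh.H I i M :=
  ((Dual2.HmapOfLE h i).app (ModuleCat.of R M)).hom

/-- The quotient map between stages for `I ≤ I'`. -/
noncomputable abbrev qle (h : I ≤ I') (n : ℕ) : Q I n ⟶ Q I' n :=
  ModuleCat.ofHom (Submodule.mapQ (I ^ n) (I' ^ n) LinearMap.id
    (by simpa using Ideal.pow_right_mono h n))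

theorem Hle_cls (h : I ≤ I') (n i : ℕ) (x : Ext (Q I' n) (ModuleCat.of R M) i) :
    Hle h i M (cls n i x) = cls n i ((Ext.mk₀ (qle h n)).comp x (zero_add i)) := by
  have h1 := congrArg (fun g => (g.app (ModuleCat.of R M)).hom
      ((extEquiv (Q I' n) i (ModuleCat.of R M)).symm x))
    (ι_colimMap (Functor.whiskerRight (NatTrans.op (Dual2.quotMapOfLE h))
      (_root_.Ext R (ModuleCat.{u} R) i)) (Opposite.op (Opposite.op n)))
  refine h1.trans ?_
  refine congrArg ((colimit.ι (localCohomology.diagram (localCohomology.idealPowersDiagram I) i)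
    (Opposite.op (Opposite.op n))).app (ModuleCat.of R M)).hom ?_
  refine (LinearEquiv.eq_symm_apply _).2 ?_
  refine (extEquiv_pre (qle h n) i (ModuleCat.of R M) _).trans ?_
  rw [LinearEquiv.apply_symm_apply]

theorem Hle_natural (h : I ≤ I') (i : ℕ) (φ : M →ₗ[R] N) :
    (Hle h i N).comp (Hmap I' i φ) = (Hmap I i φ).comp (Hle h i M) :=
  Hext fun n x => by
    rw [LinearMap.comp_apply, LinearMap.comp_apply, Hmap_cls, Hle_cls, Hle_cls, Hmap_cls,
      Ext.comp_assoc_of_third_deg_zero]

theorem Hle_natural_apply (h : I ≤ I') (i : ℕ) (φ : M →ₗ[R] N) (a : _root_.LocCoh.H I' i M) :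
    Hle h i N (Hmap I' i φ a) = Hmap I i φ (Hle h i M a) :=
  LinearMap.congr_fun (Hle_natural h i φ) a

theorem Hle_connecting {f : M →ₗ[R] N} {g : N →ₗ[R] P} (hf : Function.Injective f)
    (hg : Function.Surjective g) (hfg : Function.Exact f g) (h : I ≤ I') (i : ℕ)
    (a : _root_.LocCoh.H I' i P) :
    Hle h (i + 1) M (connecting I' hf hg hfg i a) = connecting I hf hg hfg i (Hle h i P a) := by
  obtain ⟨n, x, rfl⟩ := exists_cls a
  rw [connecting_cls, Hle_cls, Hle_cls, connecting_cls,
    Ext.comp_assoc _ _ _ (zero_add i) rfl (by omega)]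

theorem Hle_comp (h : I ≤ I') (h' : I' ≤ I'') (i : ℕ) (a : _root_.LocCoh.H I'' i M) :
    Hle h i M (Hle h' i M a) = Hle (h.trans h') i M a := by
  obtain ⟨n, x, rfl⟩ := exists_cls a
  rw [Hle_cls, Hle_cls, Hle_cls, Ext.mk₀_comp_mk₀_assoc]
  congr 2
  refine congrArg Ext.mk₀ (ModuleCat.hom_ext (LinearMap.ext fun z => ?_))
  obtain ⟨z, rfl⟩ := Submodule.Quotient.mk_surjective _ z
  rfl

/-- In degree zero the comparison map is the inclusion of torsion submodules. -/
theorem H0Equiv_Hle (h : I ≤ I') (a : _root_.LocCoh.H I' 0 M) :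
    (H0Equiv I M (Hle h 0 M a) : M) = (H0Equiv I' M a : M) := by
  obtain ⟨n, x, rfl⟩ := exists_cls a
  obtain ⟨φ, rfl⟩ : ∃ φ, Ext.mk₀ φ = x := ⟨_, Ext.mk₀_addEquiv₀_apply x⟩
  show (H0toTorsion I M _ : M) = (H0toTorsion I' M _ : M)
  rw [Hle_cls, Ext.mk₀_comp_mk₀, H0toTorsion_cls, H0toTorsion_cls]
  rfl

theorem Hle_zero_injective (h : I ≤ I') : Function.Injective (Hle h 0 M) := fun a c hac =>
  (H0Equiv I' M).injective (Subtype.ext (by rw [← H0Equiv_Hle h a, hac, H0Equiv_Hle h c]))

end Groth.Agent.LocCoh
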