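import Groth.Agent.LocCoh.ExtBridge
import Mathlib.Algebra.Homology.LocalCohomology
import Mathlib.Algebra.Homology.DerivedCategory.Ext.EnoughInjectives
import Mathlib.Algebra.Homology.DerivedCategory.Ext.ExactSequences
import Mathlib.Algebra.Category.ModuleCat.FilteredColimits
import Mathlib.CategoryTheory.Limits.ConcreteCategory.Basic
import Mathlib.Algebra.Module.Torsion.Basic

/-!
Local cohomology along a cofiltered diagram of ideals, elementwise: classes of
`Abelian.Ext (R/J) M`, long exact sequences, degree zero, injective modules.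
-/

set_option autoImplicit false

universe u v

open CategoryTheory Limits Opposite Abelian

namespace Groth.Agent.LocCoh

section

attribute [local irreducible] _root_.Ext extEquiv

variable {R : Type u} [CommRing R] {D : Type v} [SmallCategory D]
  [HasColimitsOfShape Dᵒᵖ (ModuleCat.{u} R)]
variable (F : D ⥤ Ideal R)

/-- `R/J` for a member `J` of the diagram. -/
noncomputable abbrev quot (d : D) : ModuleCat.{u} R :=
  (localCohomology.ringModIdeals F).obj d

/-- The local cohomology functor of the diagram. -/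
noncomputable abbrev Hf (i : ℕ) : ModuleCat.{u} R ⥤ ModuleCat.{u} R :=
  colimit (localCohomology.diagram F i)

variable {F}

/-- The class in local cohomology of an element of `Ext (R/J) M`. -/
noncomputable def toH (d : D) (i : ℕ) (M : ModuleCat.{u} R) :
    Ext (quot F d) M i →ₗ[R] (Hf F i).obj M :=
  (((colimit.ι (localCohomology.diagram F i) (op d)).app M).hom).comp
    (extEquiv (quot F d) i M).symm.toLinearMap

theorem toH_map {d : D} {i : ℕ} {M N : ModuleCat.{u} R} (f : M ⟶ N)
    (x : Ext (quot F d) M i) :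
    ((Hf F i).map f).hom (toH d i M x) = toH d i N (x.comp (Ext.mk₀ f) (add_zero i)) := by
  have h := congrArg (fun g => g.hom ((extEquiv (quot F d) i M).symm x))
    ((colimit.ι (localCohomology.diagram F i) (op d)).naturality f)
  refine h.symm.trans (congrArg ((colimit.ι (localCohomology.diagram F i) (op d)).app N).hom ?_)
  refine (LinearEquiv.eq_symm_apply _).2 ?_
  refine (extEquiv_post (quot F d) i f _).trans ?_
  rw [LinearEquiv.apply_symm_apply]

theorem toH_pre {d d' : D} (w : d' ⟶ d) {i : ℕ} {M : ModuleCat.{u} R}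
    (x : Ext (quot F d) M i) :
    toH d' i M ((Ext.mk₀ ((localCohomology.ringModIdeals F).map w)).comp x (zero_add i)) =
      toH d i M x := by
  have h := congrArg (fun g => (g.app M).hom ((extEquiv (quot F d) i M).symm x))
    (colimit.w (localCohomology.diagram F i) w.op)
  refine Eq.trans ?_ h
  refine congrArg ((colimit.ι (localCohomology.diagram F i) (op d')).app M).hom ?_
  refine (LinearEquiv.symm_apply_eq _).2 ?_
  refine Eq.trans ?_ (extEquiv_pre ((localCohomology.ringModIdeals F).map w) i M _).symm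
  rw [LinearEquiv.apply_symm_apply]

variable (F) in
/-- The evaluated colimit cocone. -/
noncomputable def evalCocone (i : ℕ) (M : ModuleCat.{u} R) :
    Cocone (localCohomology.diagram F i ⋙ (evaluation _ _).obj M) :=
  ((evaluation _ _).obj M).mapCocone (colimit.cocone (localCohomology.diagram F i))

/-- It is a colimit. -/
noncomputable def evalIsColimit (i : ℕ) (M : ModuleCat.{u} R) :
    IsColimit (evalCocone F i M) :=
  isColimitOfPreserves ((evaluation _ _).obj M) (colimit.isColimit (localCohomology.diagram F i))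

theorem evalCocone_app {d : D} {i : ℕ} {M : ModuleCat.{u} R}
    (y : ((Ext R (ModuleCat.{u} R) i).obj (op (quot F d))).obj M) :
    ((evalCocone F i M).ι.app (op d)).hom y = toH d i M (extEquiv (quot F d) i M y) := by
  refine Eq.symm ?_
  show ((colimit.ι (localCohomology.diagram F i) (op d)).app M).hom
    ((extEquiv (quot F d) i M).symm (extEquiv (quot F d) i M y)) = _
  rw [LinearEquiv.symm_apply_apply]
  rfl

theorem hom_ext_toH {i : ℕ} {M T : ModuleCat.{u} R} {φ ψ : (Hf F i).obj M ⟶ T}
    (h : ∀ (d : D) (x : Ext (quot F d) M i), φ.hom (toH d i M x) = ψ.hom (toH d i M x)) : φ = ψ := by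
  refine (evalIsColimit i M).hom_ext fun j => ModuleCat.hom_ext (LinearMap.ext fun x => ?_)
  refine (congrArg φ.hom (evalCocone_app (d := unop j) x)).trans ?_
  exact (h (unop j) _).trans (congrArg ψ.hom (evalCocone_app (d := unop j) x)).symm

/-- Descending a compatible family of maps on the `Ext` modules to local cohomology. -/
noncomputable def descH {i : ℕ} {M : ModuleCat.{u} R} {T : Type u} [AddCommGroup T]
    [Module R T] (φ : ∀ d : D, Ext (quot F d) M i →ₗ[R] T)
    (hφ : ∀ {d d' : D} (w : d' ⟶ d) (x : Ext (quot F d) M i),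
      φ d' ((Ext.mk₀ ((localCohomology.ringModIdeals F).map w)).comp x (zero_add i)) = φ d x) :
    (Hf F i).obj M →ₗ[R] T :=
  ((evalIsColimit i M).desc
    { pt := ModuleCat.of R T
      ι :=
        { app := fun j => ModuleCat.ofHom ((φ (unop j)).comp (extEquiv _ i M).toLinearMap)
          naturality := fun j j' w => ModuleCat.hom_ext (LinearMap.ext fun x =>
            (congrArg (φ (unop j')) (extEquiv_pre _ i M x)).trans (hφ w.unop _)) } }).hom

theorem descH_toH {i : ℕ} {M : ModuleCat.{u} R} {T : Type u} [AddCommGroup T]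
    [Module R T] (φ : ∀ d : D, Ext (quot F d) M i →ₗ[R] T)
    (hφ : ∀ {d d' : D} (w : d' ⟶ d) (x : Ext (quot F d) M i),
      φ d' ((Ext.mk₀ ((localCohomology.ringModIdeals F).map w)).comp x (zero_add i)) = φ d x)
    (d : D) (x : Ext (quot F d) M i) :
    descH φ hφ (toH d i M x) = φ d x := by
  have h1 : toH d i M x = ((evalCocone F i M).ι.app (op d)).hom
      ((extEquiv (quot F d) i M).symm x) :=
    ((evalCocone_app _).trans (congrArg (toH d i M) (LinearEquiv.apply_symm_apply _ x))).symm
  rw [h1]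
  refine (LinearMap.congr_fun (congrArg ModuleCat.Hom.hom ((evalIsColimit i M).fac _ (op d)))
    ((extEquiv (quot F d) i M).symm x)).trans ?_
  exact congrArg (φ d) (LinearEquiv.apply_symm_apply _ x)

variable [IsFiltered Dᵒᵖ]

variable [PreservesColimitsOfShape Dᵒᵖ (forget (ModuleCat.{u} R))]

theorem exists_toH {i : ℕ} {M : ModuleCat.{u} R} (h : (Hf F i).obj M) :
    ∃ (d : D) (x : Ext (quot F d) M i), toH d i M x = h := by
  obtain ⟨j, y, hy⟩ := Concrete.isColimit_exists_rep _ (evalIsColimit i M) h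
  exact ⟨unop j, extEquiv _ i M y, (evalCocone_app (d := unop j) y).symm.trans hy⟩

theorem toH_eq_zero_iff {d : D} {i : ℕ} {M : ModuleCat.{u} R} (x : Ext (quot F d) M i) :
    toH d i M x = 0 ↔ ∃ (d' : D) (w : d' ⟶ d),
      (Ext.mk₀ ((localCohomology.ringModIdeals F).map w)).comp x (zero_add i) = 0 := by
  constructor
  · intro h
    obtain ⟨k, f, g, hfg⟩ := (Concrete.isColimit_rep_eq_iff_exists
      (localCohomology.diagram F i ⋙ (evaluation _ _).obj M) (i := op d) (j := op d)
      (evalIsColimit i M) ((extEquiv _ i M).symm x) 0).1 (h.trans (map_zero _).symm)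
    refine ⟨unop k, f.unop, ?_⟩
    have h2 := congrArg (extEquiv _ i M) hfg
    rw [map_zero] at h2
    refine Eq.trans ?_ (h2.trans (map_zero _))
    refine Eq.trans ?_ (extEquiv_pre ((localCohomology.ringModIdeals F).map f.unop) i M _).symm
    rw [LinearEquiv.apply_symm_apply]
  · rintro ⟨d', w, hw⟩
    rw [← toH_pre w x, hw, map_zero]

theorem toH_eq_iff {d : D} {i : ℕ} {M : ModuleCat.{u} R} (x y : Ext (quot F d) M i) :
    toH d i M x = toH d i M y ↔ ∃ (d' : D) (w : d' ⟶ d),
      (Ext.mk₀ ((localCohomology.ringModIdeals F).map w)).comp x (zero_add i) =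
        (Ext.mk₀ ((localCohomology.ringModIdeals F).map w)).comp y (zero_add i) := by
  rw [← sub_eq_zero, ← map_sub, toH_eq_zero_iff]
  simp only [sub_eq_add_neg, Ext.comp_add, Ext.comp_neg]
  simp only [← sub_eq_add_neg, sub_eq_zero]

section les

variable {S : ShortComplex (ModuleCat.{u} R)} (hS : S.ShortExact)

variable (F) in
/-- The connecting map. -/
noncomputable def δ {i j : ℕ} (h : i + 1 = j) : (Hf F i).obj S.X₃ →ₗ[R] (Hf F j).obj S.X₁ :=
  descH (fun d => (toH d j S.X₁).comp (hS.extClass.postcompOfLinear R (quot F d) h))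
    (fun w x => by
      show toH _ j S.X₁ (((Ext.mk₀ _).comp x _).comp hS.extClass h) = toH _ j S.X₁ (x.comp hS.extClass h)
      rw [Ext.comp_assoc _ _ _ (zero_add i) h (by omega), toH_pre])

omit [IsFiltered Dᵒᵖ] [PreservesColimitsOfShape Dᵒᵖ (forget (ModuleCat.{u} R))] in
theorem δ_toH {i j : ℕ} (h : i + 1 = j) (d : D) (x : Ext (quot F d) S.X₃ i) :
    δ F hS h (toH d i S.X₃ x) = toH d j S.X₁ (x.comp hS.extClass h) :=
  descH_toH (fun d => (toH d j S.X₁).comp (hS.extClass.postcompOfLinear R (quot F d) h))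
    (fun w x => by
      show toH _ j S.X₁ (((Ext.mk₀ _).comp x _).comp hS.extClass h) = toH _ j S.X₁ (x.comp hS.extClass h)
      rw [Ext.comp_assoc _ _ _ (zero_add i) h (by omega), toH_pre]) d x

include hS

theorem exact₂ (i : ℕ) : Function.Exact ((Hf F i).map S.f).hom ((Hf F i).map S.g).hom := by
  intro h
  obtain ⟨d, x, rfl⟩ := exists_toH h
  constructor
  · intro hx
    rw [toH_map, toH_eq_zero_iff] at hx
    obtain ⟨d', w, hw⟩ := hx
    rw [← Ext.comp_assoc_of_third_deg_zero] at hw
    obtain ⟨y, hy⟩ := Ext.covariant_sequence_exact₂ _ hS _ hw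
    refine ⟨toH d' i S.X₁ y, ?_⟩
    rw [toH_map, hy, toH_pre]
  · rintro ⟨h', hh'⟩
    rw [← hh']
    obtain ⟨d', y, rfl⟩ := exists_toH h'
    rw [toH_map, toH_map, Ext.comp_assoc_of_third_deg_zero, Ext.mk₀_comp_mk₀, S.zero, Ext.mk₀_zero,
      Ext.comp_zero, map_zero]

theorem exact₃ {i j : ℕ} (h : i + 1 = j) :
    Function.Exact ((Hf F i).map S.g).hom (δ F hS h) := by
  intro z
  obtain ⟨d, x, rfl⟩ := exists_toH z
  constructor
  · intro hx
    rw [δ_toH, toH_eq_zero_iff] at hx
    obtain ⟨d', w, hw⟩ := hx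
    rw [← Ext.comp_assoc _ _ _ (zero_add i) h (by omega)] at hw
    obtain ⟨y, hy⟩ := Ext.covariant_sequence_exact₃ _ hS _ h hw
    refine ⟨toH d' i S.X₂ y, ?_⟩
    rw [toH_map, hy, toH_pre]
  · rintro ⟨h', hh'⟩
    rw [← hh']
    obtain ⟨d', y, rfl⟩ := exists_toH h'
    rw [toH_map, δ_toH, Ext.comp_assoc_of_second_deg_zero, hS.comp_extClass, Ext.comp_zero, map_zero]

theorem exact₁ {i j : ℕ} (h : i + 1 = j) :
    Function.Exact (δ F hS h) ((Hf F j).map S.f).hom := by
  intro z
  obtain ⟨d, x, rfl⟩ := exists_toH z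
  constructor
  · intro hx
    rw [toH_map, toH_eq_zero_iff] at hx
    obtain ⟨d', w, hw⟩ := hx
    rw [← Ext.comp_assoc_of_third_deg_zero] at hw
    obtain ⟨y, hy⟩ := Ext.covariant_sequence_exact₁ _ hS _ hw h
    refine ⟨toH d' i S.X₃ y, ?_⟩
    rw [δ_toH, hy, toH_pre]
  · rintro ⟨h', hh'⟩
    rw [← hh']
    obtain ⟨d', y, rfl⟩ := exists_toH h'
    rw [δ_toH, toH_map, Ext.comp_assoc_of_third_deg_zero, hS.extClass_comp, Ext.comp_zero, map_zero]

theorem map_f_injective : Function.Injective ((Hf F 0).map S.f).hom := by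
  rw [injective_iff_map_eq_zero]
  intro h hh
  obtain ⟨d, x, rfl⟩ := exists_toH h
  rw [toH_map, toH_eq_zero_iff] at hh
  obtain ⟨d', w, hw⟩ := hh
  rw [← Ext.comp_assoc_of_third_deg_zero] at hw
  haveI := hS.mono_f
  have := Ext.postcomp_mk₀_injective_of_mono (quot F d') S.f (hw.trans (map_zero ((Ext.mk₀ S.f).postcomp (quot F d') (add_zero 0))).symm)
  rw [← toH_pre w x, this, map_zero]

end les

theorem subsingleton_of_injective (E : ModuleCat.{u} R) [Injective E] (i : ℕ) :
    Subsingleton ((Hf F (i + 1)).obj E) := by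
  refine ⟨fun a b => ?_⟩
  have : ∀ c : (Hf F (i + 1)).obj E, c = 0 := fun c => by
    obtain ⟨d, x, rfl⟩ := exists_toH c
    rw [Ext.eq_zero_of_injective x, map_zero]
  rw [this a, this b]

theorem subsingleton_of_ext {i : ℕ} {M : ModuleCat.{u} R}
    (h : ∀ d : D, Subsingleton (Ext (quot F d) M i)) : Subsingleton ((Hf F i).obj M) := by
  refine ⟨fun a b => ?_⟩
  have : ∀ c : (Hf F i).obj M, c = 0 := fun c => by
    obtain ⟨d, x, rfl⟩ := exists_toH c
    rw [Subsingleton.elim x 0, map_zero]
  rw [this a, this b]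

end

end Groth.Agent.LocCoh
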