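import Groth.Prelude.Def_W4bk5brsh7111920
import Mathlib.Topology.KrullDimension
import Mathlib.Topology.NoetherianSpace
import Mathlib.Order.ConditionallyCompleteLattice.Indexed

/-!
The connectedness dimension of a Noetherian space in terms of its irreducible components.
-/

set_option autoImplicit false

universe u

open TopologicalSpace Set

namespace Groth.Agent.LocCoh

variable {T : Type u} [TopologicalSpace T]

theorem topDim_mono {S S' : Set T} (h : S ⊆ S') : topologicalKrullDim ↥S ≤ topologicalKrullDim ↥S' :=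
  (show Topology.IsInducing (Set.inclusion h) from
    (Topology.IsEmbedding.inclusion h).isInducing).topologicalKrullDim_le

theorem topDim_univ : topologicalKrullDim ↥(univ : Set T) = topologicalKrullDim T :=
  IsHomeomorph.topologicalKrullDim_eq _ (Homeomorph.Set.univ T).isHomeomorph

/-- A proper closed subset of a finite-dimensional irreducible set has smaller dimension. -/
theorem topDim_lt_of_ssubset {Y C : Set T} (hY : IsClosed Y) (hC : IsClosed C) (hCi : IsIrreducible C)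
    (hYC : Y ⊂ C) (hfin : topologicalKrullDim ↥C < ⊤) : topologicalKrullDim ↥Y < topologicalKrullDim ↥C := by
  haveI : IrreducibleSpace ↥C := Subtype.irreducibleSpace hCi
  let top : IrreducibleCloseds ↥C := ⟨univ, IrreducibleSpace.isIrreducible_univ _, isClosed_univ⟩
  let ι := Set.inclusion hYC.subset
  have hι : Topology.IsInducing ι := (Topology.IsEmbedding.inclusion hYC.subset).isInducing
  have hlt : ∀ c : IrreducibleCloseds ↥Y, IrreducibleCloseds.map ι hι.continuous c < top := by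
    intro c
    refine lt_of_le_of_ne (fun x _ => trivial) fun h => ?_
    obtain ⟨x, hxC, hxY⟩ := exists_of_ssubset hYC
    have hx : (⟨x, hxC⟩ : ↥C) ∈ closure (ι '' (c : Set ↥Y)) := by
      rw [← IrreducibleCloseds.coe_map ι hι.continuous, h]
      trivial
    have hcl : IsClosed {z : ↥C | z.1 ∈ Y} := hY.preimage continuous_subtype_val
    exact hxY ((hcl.closure_subset_iff.2 (by rintro _ ⟨z, -, rfl⟩; exact z.2)) hx)
  obtain ⟨n, hn⟩ : ∃ n : ℕ, topologicalKrullDim ↥C = n := by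
    haveI : Nonempty (IrreducibleCloseds ↥C) := ⟨top⟩
    have h0 : (0 : WithBot ℕ∞) ≤ topologicalKrullDim ↥C := Order.krullDim_nonneg
    revert h0 hfin
    cases topologicalKrullDim ↥C using WithBot.recBotCoe with
    | bot => intro _ h0; exact absurd h0 (by decide)
    | coe m =>
      cases m using ENat.recTopCoe with
      | top => intro hfin; exact absurd hfin (lt_irrefl _)
      | coe m => exact fun _ _ => ⟨m, rfl⟩
  have key : ∀ l : LTSeries (IrreducibleCloseds ↥Y), l.length + 1 ≤ n := fun l => by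
    let l' := (l.map _ (IrreducibleCloseds.map_strictMono_of_isInducing hι)).snoc top (by
      rw [LTSeries.last_map]
      exact hlt _)
    have h := Order.LTSeries.length_le_krullDim l'
    rw [← topologicalKrullDim, hn] at h
    exact_mod_cast h
  rw [hn]
  rcases isEmpty_or_nonempty (IrreducibleCloseds ↥Y) with h | h
  · rw [topologicalKrullDim, Order.krullDim_eq_bot]
    exact WithBot.bot_lt_coe _
  · obtain ⟨c⟩ := h
    have h1 : 1 ≤ n := key (RelSeries.singleton _ c)
    refine lt_of_le_of_lt (b := ((n - 1 : ℕ) : WithBot ℕ∞)) ?_ ?_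
    · refine iSup_le fun l => ?_
      have := key l
      exact_mod_cast (by omega : l.length ≤ n - 1)
    · exact_mod_cast (by omega : n - 1 < n)

variable [NoetherianSpace T]

theorem isClosed_sUnion_components {A : Set (Set T)} (hA : A ⊆ irreducibleComponents T) : IsClosed (⋃₀ A) := by
  rw [sUnion_eq_biUnion]
  exact (NoetherianSpace.finite_irreducibleComponents.subset hA).isClosed_biUnion
    fun W hW => isClosed_of_mem_irreducibleComponents W (hA hW)

theorem mem_of_subset_sUnion {C : Set T} (hC : C ∈ irreducibleComponents T) {A : Set (Set T)}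
    (hA : A ⊆ irreducibleComponents T) (h : C ⊆ ⋃₀ A) : C ∈ A := by
  have hfin := NoetherianSpace.finite_irreducibleComponents.subset hA
  obtain ⟨W, hW, hCW⟩ := isIrreducible_iff_sUnion_isClosed.1 hC.1 hfin.toFinset
    (fun W hW => isClosed_of_mem_irreducibleComponents W (hA (hfin.mem_toFinset.1 hW))) (by rwa [hfin.coe_toFinset])
  have hWA := hfin.mem_toFinset.1 hW
  rwa [Set.Subset.antisymm hCW (hC.2 (hA hWA).1 hCW)]

theorem sUnion_comp_eq_univ : ⋃₀ irreducibleComponents T = univ := sUnion_irreducibleComponents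

theorem connDim_le_of_not_isConnected {Z : Set T} (h1 : IsClosed Z) (h2 : ¬ IsConnected Zᶜ) :
    _root_.LocCoh.connDim T ≤ topologicalKrullDim ↥Z := iInf₂_le Z ⟨h1, h2⟩

theorem connDim_le_univ : _root_.LocCoh.connDim T ≤ topologicalKrullDim T := by
  rw [← topDim_univ]
  exact connDim_le_of_not_isConnected isClosed_univ (by rw [compl_univ]; exact fun h => not_nonempty_empty h.1)

/-- A component meets the union of the others in a set with disconnected complement. -/
theorem connDim_le_component {C : Set T} (hC : C ∈ irreducibleComponents T) :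
    _root_.LocCoh.connDim T ≤ topologicalKrullDim ↥C := by
  let O := ⋃₀ (irreducibleComponents T \ {C})
  have hO : IsClosed O := isClosed_sUnion_components sdiff_subset
  have hCc := isClosed_of_mem_irreducibleComponents C hC
  have hcover : ∀ x, x ∈ C ∨ x ∈ O := fun x => by
    obtain ⟨W, hW, hxW⟩ := (sUnion_comp_eq_univ (T := T)).ge (mem_univ x)
    by_cases h : W = C
    · exact Or.inl (h ▸ hxW)
    · exact Or.inr ⟨W, ⟨hW, h⟩, hxW⟩
  by_cases hne : ∃ x, x ∉ C
  · obtain ⟨x, hx⟩ := hne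
    refine le_trans (connDim_le_of_not_isConnected (Z := C ∩ O) (hCc.inter hO) fun hconn => ?_)
      (topDim_mono inter_subset_left)
    obtain ⟨y, hyC, hyO⟩ : ∃ y ∈ C, y ∉ O := by
      by_contra hcon
      push Not at hcon
      exact (mem_of_subset_sUnion hC sdiff_subset hcon).2 rfl
    obtain ⟨z, hz, hzC, hzO⟩ := hconn.isPreconnected Cᶜ Oᶜ hCc.isOpen_compl hO.isOpen_compl
      (fun z hz => by
        by_cases h : z ∈ C
        · exact Or.inr fun h' => hz ⟨h, h'⟩
        · exact Or.inl h)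
      ⟨x, fun h => hx h.1, hx⟩ ⟨y, fun h => hyO h.2, hyO⟩
    rcases hcover z with h | h
    · exact hzC h
    · exact hzO h
  · push Not at hne
    rw [show C = univ from eq_univ_of_forall hne, topDim_univ]
    exact connDim_le_univ

theorem connDim_le_of_partition {A B : Set (Set T)} (hA : A ⊆ irreducibleComponents T)
    (hB : B ⊆ irreducibleComponents T) (hA0 : A.Nonempty) (hB0 : B.Nonempty)
    (hAB : A ∪ B = irreducibleComponents T) :
    _root_.LocCoh.connDim T ≤ topologicalKrullDim ↥(⋃₀ A ∩ ⋃₀ B) := by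
  have hAc := isClosed_sUnion_components hA
  have hBc := isClosed_sUnion_components hB
  have hcover : ∀ x, x ∈ ⋃₀ A ∨ x ∈ ⋃₀ B := fun x => by
    obtain ⟨W, hW, hxW⟩ := (sUnion_comp_eq_univ (T := T)).ge (mem_univ x)
    rw [← hAB] at hW
    exact hW.imp (fun h => ⟨W, h, hxW⟩) (fun h => ⟨W, h, hxW⟩)
  by_cases h1 : ⋃₀ B ⊆ ⋃₀ A
  · obtain ⟨C, hC⟩ := hB0
    exact (connDim_le_component (hB hC)).trans
      (topDim_mono (subset_inter ((subset_sUnion_of_mem hC).trans h1) (subset_sUnion_of_mem hC)))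
  by_cases h2 : ⋃₀ A ⊆ ⋃₀ B
  · obtain ⟨C, hC⟩ := hA0
    exact (connDim_le_component (hA hC)).trans
      (topDim_mono (subset_inter (subset_sUnion_of_mem hC) ((subset_sUnion_of_mem hC).trans h2)))
  obtain ⟨x, hxB, hxA⟩ := not_subset.1 h1
  obtain ⟨y, hyA, hyB⟩ := not_subset.1 h2
  refine connDim_le_of_not_isConnected (hAc.inter hBc) fun hconn => ?_
  obtain ⟨z, -, hzA, hzB⟩ := hconn.isPreconnected (⋃₀ A)ᶜ (⋃₀ B)ᶜ hAc.isOpen_compl hBc.isOpen_compl
    (fun z hz => by
      by_cases h : z ∈ ⋃₀ A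
      · exact Or.inr fun h' => hz ⟨h, h'⟩
      · exact Or.inl h)
    ⟨x, fun h => hxA h.1, hxA⟩ ⟨y, fun h => hyB h.2, hyB⟩
  exact (hcover z).elim hzA hzB

theorem exists_partition_of_not_isConnected [Nonempty T] {Z : Set T} (hZ : IsClosed Z) (hd : ¬ IsConnected Zᶜ) :
    ∃ A B : Set (Set T), (A ⊆ irreducibleComponents T ∧ B ⊆ irreducibleComponents T ∧ A.Nonempty ∧
      B.Nonempty ∧ A ∪ B = irreducibleComponents T) ∧ ⋃₀ A ∩ ⋃₀ B ⊆ Z := by
  by_cases hne : (Zᶜ).Nonempty
  swap
  · refine ⟨irreducibleComponents T, irreducibleComponents T, ⟨subset_rfl, subset_rfl, ?_, ?_, union_self _⟩,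
      fun x _ => by_contra fun hx => hne ⟨x, hx⟩⟩
    all_goals
      obtain ⟨W, hW, -⟩ := (sUnion_comp_eq_univ (T := T)).ge (mem_univ (Classical.arbitrary T))
      exact ⟨W, hW⟩
  have hp : ¬ IsPreconnected Zᶜ := fun h => hd ⟨hne, h⟩
  simp only [IsPreconnected, not_forall] at hp
  obtain ⟨u, v, hu, hv, huv, ⟨x, hxZ, hxu⟩, ⟨y, hyZ, hyv⟩, hdis⟩ := hp
  let Oc := hZ.isOpen_compl
  refine ⟨{C | C ∈ irreducibleComponents T ∧ (C ∩ (Zᶜ ∩ v) = ∅)}, {C | C ∈ irreducibleComponents T ∧ (C ∩ (Zᶜ ∩ u) = ∅)},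
    ⟨fun C h => h.1, fun C h => h.1, ?_, ?_, ?_⟩, ?_⟩
  case refine_3 =>
    refine Set.Subset.antisymm (union_subset (fun C h => h.1) (fun C h => h.1)) fun C hC => ?_
    by_contra hcon
    rw [mem_union, mem_setOf, mem_setOf, not_or] at hcon
    have h1 : (C ∩ (Zᶜ ∩ v)).Nonempty := nonempty_iff_ne_empty.2 fun h => hcon.1 ⟨hC, h⟩
    have h2 : (C ∩ (Zᶜ ∩ u)).Nonempty := nonempty_iff_ne_empty.2 fun h => hcon.2 ⟨hC, h⟩
    obtain ⟨z, -, ⟨hzZ, hzv⟩, -, hzu⟩ := hC.1.2 _ _ (Oc.inter hv) (Oc.inter hu) h1 h2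
    exact hdis ⟨z, hzZ, hzu, hzv⟩
  case refine_1 =>
    obtain ⟨W, hW, hxW⟩ := (sUnion_comp_eq_univ (T := T)).ge (mem_univ x)
    refine ⟨W, hW, eq_empty_of_forall_notMem fun z ⟨hzW, hzZ, hzv⟩ => ?_⟩
    obtain ⟨z', -, ⟨hz'Z, hz'v⟩, -, hz'u⟩ := hW.1.2 _ _ (Oc.inter hv) (Oc.inter hu) ⟨z, hzW, hzZ, hzv⟩ ⟨x, hxW, hxZ, hxu⟩
    exact hdis ⟨z', hz'Z, hz'u, hz'v⟩
  case refine_2 =>
    obtain ⟨W, hW, hyW⟩ := (sUnion_comp_eq_univ (T := T)).ge (mem_univ y)
    refine ⟨W, hW, eq_empty_of_forall_notMem fun z ⟨hzW, hzZ, hzu⟩ => ?_⟩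
    obtain ⟨z', -, ⟨hz'Z, hz'v⟩, -, hz'u⟩ := hW.1.2 _ _ (Oc.inter hv) (Oc.inter hu) ⟨y, hyW, hyZ, hyv⟩ ⟨z, hzW, hzZ, hzu⟩
    exact hdis ⟨z', hz'Z, hz'u, hz'v⟩
  case refine_4 =>
    rintro z ⟨⟨C, ⟨hC, hCv⟩, hzC⟩, ⟨D, ⟨hD, hDu⟩, hzD⟩⟩
    by_contra hzZ
    rcases huv hzZ with hzu | hzv
    · exact eq_empty_iff_forall_notMem.1 hDu z ⟨hzD, hzZ, hzu⟩
    · exact eq_empty_iff_forall_notMem.1 hCv z ⟨hzC, hzZ, hzv⟩

theorem connDim_eq_iInf_partition [Nonempty T] :
    _root_.LocCoh.connDim T = ⨅ (A : Set (Set T)) (B : Set (Set T))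
      (_ : A ⊆ irreducibleComponents T ∧ B ⊆ irreducibleComponents T ∧ A.Nonempty ∧ B.Nonempty ∧
        A ∪ B = irreducibleComponents T), topologicalKrullDim ↥(⋃₀ A ∩ ⋃₀ B) := by
  refine le_antisymm (le_iInf fun A => le_iInf fun B => le_iInf fun h =>
    connDim_le_of_partition h.1 h.2.1 h.2.2.1 h.2.2.2.1 h.2.2.2.2) (le_iInf₂ fun Z hZ => ?_)
  obtain ⟨A, B, h, hsub⟩ := exists_partition_of_not_isConnected hZ.1 hZ.2
  refine iInf_le_of_le A ?_
  refine iInf_le_of_le B ?_
  exact iInf_le_of_le h (topDim_mono hsub)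

/-- The infimum is attained. -/
theorem exists_partition_connDim [Nonempty T] :
    ∃ A B : Set (Set T), (A ⊆ irreducibleComponents T ∧ B ⊆ irreducibleComponents T ∧ A.Nonempty ∧
      B.Nonempty ∧ A ∪ B = irreducibleComponents T) ∧
      topologicalKrullDim ↥(⋃₀ A ∩ ⋃₀ B) = _root_.LocCoh.connDim T := by
  let P := {Z : Set T // IsClosed Z ∧ ¬ IsConnected Zᶜ}
  haveI : Nonempty P := ⟨⟨univ, isClosed_univ, by rw [compl_univ]; exact fun h => not_nonempty_empty h.1⟩⟩
  obtain ⟨⟨Z, hZ1, hZ2⟩, hmin⟩ : ∃ Z : P, topologicalKrullDim ↥Z.1 = _root_.LocCoh.connDim T := by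
    obtain ⟨Z, hZ⟩ := csInf_mem (Set.range_nonempty fun Z : P => topologicalKrullDim ↥Z.1)
    refine ⟨Z, hZ.trans (le_antisymm ?_ ?_)⟩
    · exact le_iInf₂ fun Z hZ => sInf_le ⟨⟨Z, hZ⟩, rfl⟩
    · exact le_sInf (by rintro _ ⟨Z, rfl⟩; exact connDim_le_of_not_isConnected Z.2.1 Z.2.2)
  obtain ⟨A, B, h, hsub⟩ := exists_partition_of_not_isConnected hZ1 hZ2
  exact ⟨A, B, h, le_antisymm ((topDim_mono hsub).trans hmin.le)
    (connDim_le_of_partition h.1 h.2.1 h.2.2.1 h.2.2.2.1 h.2.2.2.2)⟩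

theorem connDim_le_subdim : _root_.LocCoh.connDim T ≤ _root_.LocCoh.subdim T :=
  le_iInf₂ fun _ hC => connDim_le_component hC

theorem exists_component_subdim [Nonempty T] :
    ∃ C ∈ irreducibleComponents T, topologicalKrullDim ↥C = _root_.LocCoh.subdim T := by
  have hne : (irreducibleComponents T).Nonempty := by
    obtain ⟨W, hW, -⟩ := (sUnion_comp_eq_univ (T := T)).ge (mem_univ (Classical.arbitrary T))
    exact ⟨W, hW⟩
  obtain ⟨C, hC, hmin⟩ := NoetherianSpace.finite_irreducibleComponents.exists_minimalFor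
    (fun C : Set T => topologicalKrullDim ↥C) _ hne
  refine ⟨C, hC, le_antisymm (le_iInf₂ fun D hD => ?_) (iInf₂_le C hC)⟩
  rcases le_total (topologicalKrullDim ↥C) (topologicalKrullDim ↥D) with h | h
  · exact h
  · exact hmin hD h

theorem connDim_eq_subdim_iff [Nonempty T] (hfin : topologicalKrullDim T < ⊤) :
    _root_.LocCoh.connDim T = _root_.LocCoh.subdim T ↔ IrreducibleSpace T := by
  constructor
  · intro h
    obtain ⟨C, hC, hCd⟩ := exists_component_subdim (T := T)
    by_cases huniv : C = univ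
    · exact (irreducibleSpace_def T).2 (by rw [Set.top_eq_univ, ← huniv]; exact hC.1)
    exfalso
    let O := ⋃₀ (irreducibleComponents T \ {C})
    have hO : IsClosed O := isClosed_sUnion_components sdiff_subset
    have hCc := isClosed_of_mem_irreducibleComponents C hC
    have hss : C ∩ O ⊂ C := by
      refine ⟨inter_subset_left, fun hsub => ?_⟩
      exact (mem_of_subset_sUnion hC sdiff_subset (hsub.trans inter_subset_right)).2 rfl
    have hlt := topDim_lt_of_ssubset (hCc.inter hO) hCc hC.1 hss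
      (((topDim_mono (subset_univ C)).trans topDim_univ.le).trans_lt hfin)
    obtain ⟨D, hD, hDC⟩ : ∃ D ∈ irreducibleComponents T, D ≠ C := by
      obtain ⟨x, hx⟩ := (ne_univ_iff_exists_notMem C).1 huniv
      obtain ⟨D, hD, hxD⟩ := (sUnion_comp_eq_univ (T := T)).ge (mem_univ x)
      exact ⟨D, hD, fun e => hx (e ▸ hxD)⟩
    have hle := connDim_le_of_partition (A := {C}) (B := irreducibleComponents T \ {C})
      (singleton_subset_iff.2 hC) sdiff_subset (singleton_nonempty C) ⟨D, hD, hDC⟩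
      (union_sdiff_cancel (singleton_subset_iff.2 hC))
    rw [sUnion_singleton, h, ← hCd] at hle
    exact hlt.not_ge hle
  · intro h
    refine le_antisymm connDim_le_subdim ?_
    obtain ⟨A, B, hAB, hd⟩ := exists_partition_connDim (T := T)
    rw [← hd]
    obtain ⟨C, hC⟩ := hAB.2.2.1
    obtain ⟨D, hD⟩ := hAB.2.2.2.1
    have huniv : ∀ W ∈ irreducibleComponents T, W = univ := fun W hW => by
      rw [irreducibleComponents_eq_singleton] at hW
      exact hW
    refine (iInf₂_le C (hAB.1 hC)).trans (topDim_mono (subset_inter (subset_sUnion_of_mem hC) ?_))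
    rw [huniv C (hAB.1 hC), ← huniv D (hAB.2.1 hD)]
    exact subset_sUnion_of_mem hD

end Groth.Agent.LocCoh
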