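import Groth.Agent.LocCoh.Misc
import Groth.Agent.LocCoh.DepthLocal
import Groth.Agent.Matlis6.Finite
import Mathlib.Algebra.Homology.DerivedCategory.Ext.Linear

/-!
Local duality from a dual description of the top local cohomology.
-/

set_option autoImplicit false

universe u

open CategoryTheory CategoryTheory.Abelian IsLocalRing TensorProduct

namespace Groth.Agent.LocCoh

variable {R : Type u} [CommRing R]

section beta

variable (K E : Type u) [AddCommGroup K] [Module R K] [AddCommGroup E] [Module R E]

/-- `Hom(K,E) ⊗ M → Hom(Hom(M,K),E)`. -/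
noncomputable def dualEval (M : Type u) [AddCommGroup M] [Module R M] :
    (K →ₗ[R] E) ⊗[R] M →ₗ[R] ((M →ₗ[R] K) →ₗ[R] E) :=
  TensorProduct.lift
    { toFun := fun φ =>
        { toFun := fun m => φ.comp (LinearMap.applyₗ (R := R) (M₂ := K) m)
          map_add' := fun m n => LinearMap.ext fun f => by simp
          map_smul' := fun c m => LinearMap.ext fun f => by simp }
      map_add' := fun φ ψ => LinearMap.ext fun m => LinearMap.ext fun f => rfl
      map_smul' := fun c φ => LinearMap.ext fun m => LinearMap.ext fun f => rfl }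

@[simp] theorem dualEval_tmul {M : Type u} [AddCommGroup M] [Module R M] (φ : K →ₗ[R] E) (m : M)
    (f : M →ₗ[R] K) : dualEval K E M (φ ⊗ₜ m) f = φ (f m) := rfl

theorem dualEval_natural {M N : Type u} [AddCommGroup M] [Module R M] [AddCommGroup N] [Module R N]
    (g : M →ₗ[R] N) (z : (K →ₗ[R] E) ⊗[R] M) :
    dualEval K E N (g.lTensor _ z) = (dualEval K E M z).comp (g.lcomp R K) := by
  induction z with
  | zero => simp
  | tmul φ m => exact LinearMap.ext fun f => rfl
  | add y z hy hz => rw [map_add, map_add, hy, hz, map_add, LinearMap.add_comp]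

theorem dualEval_pi_bijective (n : ℕ) : Function.Bijective (dualEval (R := R) K E (Fin n → R)) := by
  classical
  let ψ : (((Fin n → R) →ₗ[R] K) →ₗ[R] E) → (K →ₗ[R] E) ⊗[R] (Fin n → R) := fun Φ =>
    ∑ i, ({ toFun := fun k => Φ ((LinearMap.toSpanSingleton R K k).comp (LinearMap.proj i))
            map_add' := fun a b => by rw [← map_add]; congr 1; ext; simp
            map_smul' := fun c a => by rw [RingHom.id_apply, ← map_smul]; congr 1; ext; simp [smul_comm c] } :
      K →ₗ[R] E) ⊗ₜ[R] (Pi.single i (1 : R))
  have h1 : ∀ z, ψ (dualEval K E _ z) = z := by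
    intro z
    induction z with
    | zero =>
      simp only [ψ, map_zero]
      refine Finset.sum_eq_zero fun i _ => ?_
      convert TensorProduct.zero_tmul (R := R) (M := K →ₗ[R] E) _ using 2
      all_goals first | rfl | (ext; simp)
    | tmul φ v =>
      simp only [ψ]
      conv_rhs => rw [show v = ∑ i, v i • Pi.single i (1 : R) from pi_eq_sum_univ' v, TensorProduct.tmul_sum]
      refine Finset.sum_congr rfl fun i _ => ?_
      rw [← TensorProduct.smul_tmul]
      congr 1
      ext k
      simp
    | add y z hy hz =>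
      conv_rhs => rw [← hy, ← hz]
      simp only [ψ, ← Finset.sum_add_distrib, ← TensorProduct.add_tmul, map_add]
      rfl
  refine ⟨Function.LeftInverse.injective h1, fun Φ => ⟨ψ Φ, LinearMap.ext fun f => ?_⟩⟩
  simp only [ψ, map_sum, LinearMap.sum_apply, dualEval_tmul, LinearMap.coe_mk, AddHom.coe_mk]
  rw [← map_sum]
  congr 1
  refine LinearMap.ext fun v => ?_
  rw [LinearMap.sum_apply]
  conv_rhs => rw [show v = ∑ i, v i • Pi.single i (1 : R) from pi_eq_sum_univ' v, map_sum]
  exact Finset.sum_congr rfl fun i _ => by simp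

theorem dualEval_bijective [IsNoetherianRing R] (hE : Module.Injective R E) (M : Type u)
    [AddCommGroup M] [Module R M] [Module.Finite R M] : Function.Bijective (dualEval (R := R) K E M) := by
  obtain ⟨n, π, hπ⟩ := Module.Finite.exists_fin' R M
  obtain ⟨a, v, hv⟩ := Submodule.fg_iff_exists_fin_generating_family.1
    (IsNoetherian.noetherian (LinearMap.ker π))
  let ρ : (Fin a → R) →ₗ[R] (Fin n → R) := Fintype.linearCombination R v
  have hex : Function.Exact ρ π := by
    rw [LinearMap.exact_iff]
    rw [← hv, Fintype.range_linearCombination]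
  obtain ⟨hi, hd⟩ := Matlis6.lcomp_exact (R := R) (E := K) hex hπ
  have hex2 : Function.Exact (LinearMap.lcomp R E (ρ.lcomp R K)) (LinearMap.lcomp R E (π.lcomp R K)) := by
    intro Φ
    constructor
    · intro h
      have hle : LinearMap.ker (ρ.lcomp R K) ≤ LinearMap.ker Φ := fun f hf => by
        obtain ⟨f', rfl⟩ := (hd f).1 hf
        exact LinearMap.congr_fun h f'
      let Φ' := (LinearMap.ker (ρ.lcomp R K)).liftQ Φ hle
      obtain ⟨Ψ, hΨ⟩ := hE.out ((LinearMap.ker (ρ.lcomp R K)).liftQ (ρ.lcomp R K) le_rfl)
        (LinearMap.ker_eq_bot.1 (Submodule.ker_liftQ_eq_bot' _ _ rfl)) Φ'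
      exact ⟨Ψ, LinearMap.ext fun f => hΨ (Submodule.Quotient.mk f)⟩
    · rintro ⟨Ψ, rfl⟩
      refine LinearMap.ext fun f => ?_
      show Ψ (ρ.lcomp R K (π.lcomp R K f)) = 0
      rw [hd.apply_apply_eq_zero, map_zero]
  have hsurj := Matlis6.lcomp_surjective hE (π.lcomp R K) hi
  have hr := lTensor_exact (K →ₗ[R] E) hex hπ
  constructor
  · refine (injective_iff_map_eq_zero _).2 fun z hz => ?_
    obtain ⟨w, rfl⟩ := LinearMap.lTensor_surjective (K →ₗ[R] E) hπ z
    rw [dualEval_natural] at hz
    obtain ⟨Ψ, hΨ⟩ := (hex2 _).1 hz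
    obtain ⟨y, rfl⟩ := (dualEval_pi_bijective K E a).2 Ψ
    have h2 : ρ.lTensor _ y = w := (dualEval_pi_bijective K E n).1 ((dualEval_natural K E ρ y).trans hΨ)
    rw [← h2]
    exact hr.apply_apply_eq_zero y
  · intro Φ
    obtain ⟨Φ', hΦ'⟩ := hsurj Φ
    obtain ⟨w, rfl⟩ := (dualEval_pi_bijective K E n).2 Φ'
    exact ⟨π.lTensor _ w, (dualEval_natural K E π w).trans hΦ'⟩

end beta

section duality

variable [IsNoetherianRing R] [IsLocalRing R] {n : ℕ} (hn : ringKrullDim R ≤ n)
  {E : Type u} [AddCommGroup E] [Module R E] (hE : Module.Injective R E)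
  {K : Type u} [AddCommGroup K] [Module R K]
  (eK : (K →ₗ[R] E) ≃ₗ[R] _root_.LocCoh.H (maximalIdeal R) n R)

/-- Duality in the top degree. -/
noncomputable def topDual (M : Type u) [AddCommGroup M] [Module R M] [Module.Finite R M] :
    _root_.LocCoh.H (maximalIdeal R) n M ≃ₗ[R] ((M →ₗ[R] K) →ₗ[R] E) :=
  ((LinearEquiv.ofBijective _ (tensorToH_bijective (maximalIdeal R) hn M)).symm.trans
    (eK.symm.rTensor M)).trans (LinearEquiv.ofBijective _ (dualEval_bijective (R := R) K E hE M))

theorem topDual_natural {M N : Type u} [AddCommGroup M] [Module R M] [Module.Finite R M]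
    [AddCommGroup N] [Module R N] [Module.Finite R N] (g : M →ₗ[R] N)
    (x : _root_.LocCoh.H (maximalIdeal R) n M) :
    topDual hn hE eK N (Hmap _ n g x) = (topDual hn hE eK M x).comp (g.lcomp R K) := by
  obtain ⟨z, rfl⟩ := (tensorToH_bijective (maximalIdeal R) hn M).2 x
  show dualEval (R := R) K E N (eK.symm.toLinearMap.rTensor N
      ((LinearEquiv.ofBijective _ (tensorToH_bijective (maximalIdeal R) hn N)).symm _)) =
    (dualEval (R := R) K E M (eK.symm.toLinearMap.rTensor M
      ((LinearEquiv.ofBijective _ (tensorToH_bijective (maximalIdeal R) hn M)).symm _))).comp _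
  rw [← tensorToH_natural,
    LinearEquiv.ofBijective_symm_apply_apply, LinearEquiv.ofBijective_symm_apply_apply,
    ← dualEval_natural, ← LinearMap.comp_apply (LinearMap.rTensor N _),
    ← LinearMap.comp_apply (LinearMap.lTensor (K →ₗ[R] E) g),
    LinearMap.rTensor_comp_lTensor, LinearMap.lTensor_comp_rTensor]

/-- Equivalence from an injective map and a description of its range. -/
noncomputable def equivOfRangeEqKer {A B C : Type u} [AddCommGroup A] [Module R A] [AddCommGroup B]
    [Module R B] [AddCommGroup C] [Module R C] (f : A →ₗ[R] B) (hf : Function.Injective f)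
    (g : B →ₗ[R] C) (h : Function.Exact f g) : A ≃ₗ[R] LinearMap.ker g :=
  (LinearEquiv.ofInjective f hf).trans (LinearEquiv.ofEq _ _ h.linearMap_ker_eq.symm)

/-- The duality statement in degree `i`, dual to local cohomology in degree `j`. -/
def DualAt (K E : Type u) [AddCommGroup K] [Module R K] [AddCommGroup E] [Module R E] (i j : ℕ) : Prop :=
  ∀ (M : Type u) [AddCommGroup M] [Module R M] [Module.Finite R M],
    Nonempty (_root_.LocCoh.H (maximalIdeal R) j M ≃ₗ[R]
      (Ext (ModuleCat.of R M) (ModuleCat.of R K) i →ₗ[R] E))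

omit [IsNoetherianRing R] [IsLocalRing R] in
theorem homEquiv_conj {M K : Type u} [AddCommGroup M] [Module R M] [AddCommGroup K] [Module R K] :
    ∃ e : Ext (ModuleCat.of R M) (ModuleCat.of R K) 0 ≃ₗ[R] (M →ₗ[R] K),
      ∀ f : M →ₗ[R] K, e.symm f = Ext.mk₀ (ModuleCat.ofHom f) :=
  ⟨(Ext.linearEquiv₀ (R := R)).trans
    (ModuleCat.homLinearEquiv (S := R)), fun _ => rfl⟩

include hn hE eK in
theorem dualAt_zero : DualAt (R := R) K E 0 n := by
  intro M _ _ _
  obtain ⟨e, -⟩ := homEquiv_conj (R := R) (M := M) (K := K)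
  exact ⟨(topDual hn hE eK M).trans (e.congrLeft E R).symm⟩

include hn hE eK in
/-- Local duality for a Cohen–Macaulay ring in terms of a canonical module. -/
theorem dualAt (hR : ∀ j < n, Subsingleton (_root_.LocCoh.H (maximalIdeal R) j R)) :
    ∀ (i j : ℕ), j + i = n → DualAt (R := R) K E i j := by
  intro i
  induction i with
  | zero => intro j hj; obtain rfl : j = n := hj; exact dualAt_zero hn hE eK
  | succ i ih =>
    intro j hj M _ _ _
    obtain ⟨t, π, hπ⟩ := Module.Finite.exists_fin' R M
    let N := LinearMap.ker π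
    haveI hF : Subsingleton (_root_.LocCoh.H (maximalIdeal R) j (Fin t → R)) :=
      subsingleton_H_finsupp_free (hR j (by omega)) t
    have hinj : Function.Injective (connecting (maximalIdeal R) N.injective_subtype hπ
        (LinearMap.exact_subtype_ker_map π) j) :=
      (injective_iff_map_eq_zero _).2 fun a ha => by
        obtain ⟨c, rfl⟩ := (Hmap_connecting_exact N.injective_subtype hπ
          (LinearMap.exact_subtype_ker_map π) j a).1 ha
        rw [Subsingleton.elim c 0, map_zero]
    let eH := equivOfRangeEqKer _ hinj (Hmap (maximalIdeal R) (j + 1) N.subtype)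
      (connecting_Hmap_exact N.injective_subtype hπ (LinearMap.exact_subtype_ker_map π) j)
    have hS := shortExact_of N.injective_subtype hπ (LinearMap.exact_subtype_ker_map π)
    haveI hPF : Projective (ModuleCat.of R (Fin t → R)) :=
      (IsProjective.iff_projective _).1 inferInstance
    let δ : Ext (ModuleCat.of R N) (ModuleCat.of R K) i →ₗ[R]
        Ext (ModuleCat.of R M) (ModuleCat.of R K) (i + 1) :=
      hS.extClass.precompOfLinear R (ModuleCat.of R K) (add_comm 1 i)
    have hδ : Function.Surjective δ := fun x =>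
      Ext.contravariant_sequence_exact₃ hS (ModuleCat.of R K) x
        (Ext.eq_zero_of_projective _) (add_comm 1 i)
    let pre : Ext (ModuleCat.of R (Fin t → R)) (ModuleCat.of R K) i →ₗ[R]
        Ext (ModuleCat.of R N) (ModuleCat.of R K) i :=
      (Ext.mk₀ (ModuleCat.ofHom N.subtype)).precompOfLinear R (ModuleCat.of R K) (zero_add i)
    have hexE : Function.Exact pre δ := fun x =>
      ⟨fun hx => Ext.contravariant_sequence_exact₁ hS (ModuleCat.of R K) x (add_comm 1 i) hx,
        fun ⟨y, hy⟩ => by
          subst hy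
          exact (Ext.comp_assoc_of_second_deg_zero hS.extClass (Ext.mk₀ (ModuleCat.ofHom N.subtype)) y
            (add_comm 1 i)).symm.trans (by
              rw [show hS.extClass.comp (Ext.mk₀ (ModuleCat.ofHom N.subtype)) (add_zero 1) = 0
                from hS.extClass_comp, Ext.zero_comp])⟩
    obtain ⟨hδi, hδe⟩ := Matlis6.lcomp_exact (R := R) (E := E) hexE hδ
    let eE := equivOfRangeEqKer _ hδi (LinearMap.lcomp R E pre) hδe
    rcases i with - | i
    · obtain rfl : n = j + 1 := by omega
      obtain ⟨eN, heN⟩ := homEquiv_conj (R := R) (M := N) (K := K)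
      obtain ⟨eF, heF⟩ := homEquiv_conj (R := R) (M := Fin t → R) (K := K)
      let e1 : _root_.LocCoh.H (maximalIdeal R) (j + 1) N ≃ₗ[R]
          (Ext (ModuleCat.of R N) (ModuleCat.of R K) 0 →ₗ[R] E) :=
        (topDual hn hE eK N).trans (eN.congrLeft E R).symm
      have hcomp : ∀ (f : (Fin t → R) →ₗ[R] K), pre (eF.symm f) = eN.symm (N.subtype.lcomp R K f) := by
        intro f
        rw [heF, heN]
        exact Ext.mk₀_comp_mk₀ _ _
      have hmap : (LinearMap.ker (Hmap (maximalIdeal R) (j + 1) N.subtype)).map e1.toLinearMap =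
          LinearMap.ker (LinearMap.lcomp R E pre) := by
        ext Φ
        rw [Submodule.mem_map_equiv, LinearMap.mem_ker, LinearMap.mem_ker]
        set x := e1.symm Φ
        have hΦ : Φ = e1 x := (e1.apply_symm_apply Φ).symm
        rw [hΦ, ← (topDual hn hE eK (Fin t → R)).map_eq_zero_iff, topDual_natural]
        constructor
        · intro h
          refine LinearMap.ext fun y => ?_
          obtain ⟨f, rfl⟩ := eF.symm.surjective y
          show e1 x (pre (eF.symm f)) = 0
          rw [hcomp]
          show topDual hn hE eK N x (eN (eN.symm (N.subtype.lcomp R K f))) = 0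
          rw [eN.apply_symm_apply]
          exact LinearMap.congr_fun h f
        · intro h
          refine LinearMap.ext fun f => ?_
          have h' := LinearMap.congr_fun h (eF.symm f)
          rw [LinearMap.lcomp_apply, hcomp] at h'
          show topDual hn hE eK N x (N.subtype.lcomp R K f) = 0
          rw [← eN.apply_symm_apply (N.subtype.lcomp R K f)]
          exact h'
      exact ⟨eH.trans ((e1.submoduleMap _).trans ((LinearEquiv.ofEq _ _ hmap).trans eE.symm))⟩
    · obtain ⟨e1⟩ := ih (j + 1) (by omega) N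
      haveI : Subsingleton (_root_.LocCoh.H (maximalIdeal R) (j + 1) (Fin t → R)) :=
        subsingleton_H_finsupp_free (hR (j + 1) (by omega)) t
      haveI : Subsingleton (Ext (ModuleCat.of R (Fin t → R)) (ModuleCat.of R K) (i + 1)) :=
        subsingleton_of_forall_eq 0 fun x => Ext.eq_zero_of_projective x
      have h1 : LinearMap.ker (Hmap (maximalIdeal R) (j + 1) N.subtype) = ⊤ :=
        eq_top_iff.2 fun x _ => Subsingleton.elim _ _
      have h2 : LinearMap.ker (LinearMap.lcomp R E pre) = ⊤ :=
        eq_top_iff.2 fun x _ => LinearMap.ext fun y => by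
          show x (pre y) = 0
          rw [Subsingleton.elim y 0, map_zero, map_zero]
      exact ⟨eH.trans ((LinearEquiv.ofEq _ _ h1).trans (Submodule.topEquiv.trans (e1.trans
        ((LinearEquiv.ofEq _ _ h2).trans Submodule.topEquiv).symm |>.trans eE.symm)))⟩

end duality

section socle

variable [IsNoetherianRing R]

omit [IsNoetherianRing R] in
/-- Local cohomology vanishes below the length of a regular sequence. -/
theorem subsingleton_H_of_weaklyRegular (J : Ideal R) : ∀ (xs : List R) (M : Type u)
    [AddCommGroup M] [Module R M], (∀ x ∈ xs, x ∈ J) → RingTheory.Sequence.IsWeaklyRegular M xs →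
    ∀ j < xs.length, Subsingleton (_root_.LocCoh.H J j M) := by
  intro xs
  induction xs with
  | nil => intro M _ _ _ _ j hj; exact absurd hj (Nat.not_lt_zero j)
  | cons x xs ih =>
    intro M _ _ hmem hreg j hj
    rw [RingTheory.Sequence.isWeaklyRegular_cons_iff] at hreg
    let f : M →ₗ[R] M := x • LinearMap.id
    have hf : Function.Injective f := fun _ _ h => hreg.1 h
    have hker : ∀ y : _root_.LocCoh.H J j M, x • y = 0 → y = 0 := by
      intro y hy
      rcases j with - | j
      · have h0 : x • (H0Equiv J M y : M) = 0 := by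
          rw [← Submodule.coe_smul, ← map_smul, hy, map_zero]; rfl
        exact (H0Equiv J M).injective (Subtype.ext ((hreg.1.right_eq_zero_of_smul h0).trans
          (congrArg Subtype.val (map_zero (H0Equiv J M))).symm))
      · haveI := ih (QuotSMulTop x M) (fun z hz => hmem z (List.mem_cons_of_mem _ hz)) hreg.2 j
          (Nat.lt_of_succ_lt_succ hj)
        have h0 : Hmap J (j + 1) f y = 0 := by rw [Hmap_smul, Hmap_id]; exact hy
        obtain ⟨z, rfl⟩ := (connecting_Hmap_exact hf (Submodule.mkQ_surjective _)
          (smulTop_exact x M) j y).1 h0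
        rw [Subsingleton.elim z 0, map_zero]
    refine subsingleton_of_forall_eq 0 fun y => ?_
    obtain ⟨k, hk⟩ := isPowerTorsion_H j y
    have h1 := hk _ (Ideal.pow_mem_pow (hmem x List.mem_cons_self) k)
    clear hk
    induction k generalizing y with
    | zero => simpa using h1
    | succ k ihk => exact ihk y (hker _ (by rw [← mul_smul, ← pow_succ']; exact h1))

/-- The torsion of the top local cohomology along a regular sequence. -/
theorem nonempty_quotient_equiv_torsionBy_H (J : Ideal R) : ∀ (xs : List R) (M : Type u)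
    [AddCommGroup M] [Module R M] [Module.Finite R M], (∀ x ∈ xs, x ∈ J) →
    RingTheory.Sequence.IsWeaklyRegular M xs →
    J ≤ (Ideal.ofList xs ⊔ Module.annihilator R M).radical →
    Nonempty ((M ⧸ (Ideal.ofList xs • (⊤ : Submodule R M))) ≃ₗ[R]
      _root_.LocCoh.torsionBy (Ideal.ofList xs) (_root_.LocCoh.H J xs.length M)) := by
  intro xs
  induction xs with
  | nil =>
    intro M _ _ _ _ _ hJ
    have htop : _root_.LocCoh.torsionBy (Ideal.ofList ([] : List R)) (_root_.LocCoh.H J 0 M) = ⊤ := by
      refine eq_top_iff.2 fun x _ => (Submodule.mem_torsionBySet_iff _ _).2 fun a => ?_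
      have := a.2
      simp only [Ideal.ofList_nil, SetLike.mem_coe, Submodule.mem_bot] at this
      simp [this]
    have hP : powTorsion J M = ⊤ := by
      refine powTorsion_eq_top fun m => ?_
      rw [Ideal.ofList_nil, bot_sup_eq] at hJ
      obtain ⟨k, hk⟩ := Ideal.exists_pow_le_of_le_radical_of_fg hJ (IsNoetherian.noetherian J)
      exact ⟨k, fun a ha => Module.mem_annihilator.1 (hk ha) m⟩
    exact ⟨((Submodule.quotEquivOfEqBot _ (by simp)).trans
      ((Submodule.topEquiv.symm.trans (LinearEquiv.ofEq _ _ hP.symm)).trans (H0Equiv J M).symm)).trans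
        (Submodule.topEquiv.symm.trans (LinearEquiv.ofEq _ _ htop.symm))⟩
  | cons x xs ih =>
    intro M _ _ _ hmem hreg hJ
    rw [RingTheory.Sequence.isWeaklyRegular_cons_iff] at hreg
    have hxJ : x ∈ J := hmem x List.mem_cons_self
    let M' := QuotSMulTop x M
    have hdep : ∀ j < xs.length + 1, Subsingleton (_root_.LocCoh.H J j M) :=
      subsingleton_H_of_weaklyRegular J (x :: xs) M hmem
        ((RingTheory.Sequence.isWeaklyRegular_cons_iff M x xs).2 hreg)
    haveI := hdep xs.length (Nat.lt_succ_self _)
    let f : M →ₗ[R] M := x • LinearMap.id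
    have hf : Function.Injective f := fun _ _ h => hreg.1 h
    let δ := connecting J hf (Submodule.mkQ_surjective _) (smulTop_exact x M) xs.length
    have hδi : Function.Injective δ := (injective_iff_map_eq_zero _).2 fun a ha => by
      obtain ⟨c, rfl⟩ := (Hmap_connecting_exact hf (Submodule.mkQ_surjective _)
        (smulTop_exact x M) xs.length a).1 ha
      rw [Subsingleton.elim c 0, map_zero]
    have hann : ∀ a ∈ (Ideal.span {x} : Ideal R), ∀ m : M', a • m = 0 := by
      intro a ha m
      obtain ⟨c, rfl⟩ := Ideal.mem_span_singleton'.1 ha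
      obtain ⟨m, rfl⟩ := Submodule.mkQ_surjective _ m
      rw [mul_smul, ← map_smul, (smulTop_exact x M (x • m)).2 ⟨m, rfl⟩, smul_zero]
    have hJ' : J ≤ (Ideal.ofList xs ⊔ Module.annihilator R M').radical := by
      refine hJ.trans (Ideal.radical_mono ?_)
      rw [Ideal.ofList_cons, sup_assoc]
      refine sup_le ?_ (sup_le_sup_left ?_ _)
      · exact (fun a ha => Submodule.mem_sup_right (Module.mem_annihilator.2 (hann a ha)))
      · intro a ha
        refine Module.mem_annihilator.2 fun m => ?_
        obtain ⟨m, rfl⟩ := Submodule.mkQ_surjective _ m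
        rw [← map_smul, Module.mem_annihilator.1 ha m, map_zero]
    obtain ⟨e⟩ := ih M' (fun y hy => hmem y (List.mem_cons_of_mem _ hy)) hreg.2 hJ'
    let H' := _root_.LocCoh.torsionBy (Ideal.ofList xs) (_root_.LocCoh.H J xs.length M')
    have hmap : H'.map δ = _root_.LocCoh.torsionBy (Ideal.ofList (x :: xs))
        (_root_.LocCoh.H J (xs.length + 1) M) := by
      ext y
      constructor
      · rintro ⟨z, hz, rfl⟩
        refine (Submodule.mem_torsionBySet_iff _ _).2 fun a => ?_
        obtain ⟨b, hb, c, hc, hbc⟩ := Submodule.mem_sup.1 (show (a : R) ∈ Ideal.span {x} ⊔ Ideal.ofList xs by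
          rw [← Ideal.ofList_cons]; exact a.2)
        rw [← hbc, add_smul, ← map_smul, ← map_smul, smul_H_eq_zero (hann b hb) _ z,
          (Submodule.mem_torsionBySet_iff _ _).1 hz ⟨c, hc⟩, map_zero, add_zero]
      · intro hy
        rw [Submodule.mem_torsionBySet_iff] at hy
        have hxy : Hmap J (xs.length + 1) f y = 0 := by
          rw [Hmap_smul, Hmap_id]
          exact hy ⟨x, by rw [SetLike.mem_coe, Ideal.ofList_cons]; exact Submodule.mem_sup_left (Ideal.mem_span_singleton_self x)⟩
        obtain ⟨z, rfl⟩ := (connecting_Hmap_exact hf (Submodule.mkQ_surjective _) (smulTop_exact x M) _ y).1 hxy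
        refine ⟨z, (Submodule.mem_torsionBySet_iff _ _).2 fun a => hδi ?_, rfl⟩
        rw [map_smul, map_zero]
        exact hy ⟨a, by rw [SetLike.mem_coe, Ideal.ofList_cons]; exact Submodule.mem_sup_right a.2⟩
    exact ⟨((Submodule.quotOfListConsSMulTopEquivQuotSMulTopInner M x xs).trans e).trans
      ((Submodule.equivMapOfInjective δ hδi H').trans (LinearEquiv.ofEq _ _ hmap))⟩

end socle

end Groth.Agent.LocCoh
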