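import Groth.Agent.LocCoh.Injectives
import Groth.Agent.LocCoh.Sum
import Groth.Agent.S5163

/-!
Vanishing of local cohomology in a range via `Ext` from a module with support `V(J)`, for arbitrary
modules.
-/

set_option autoImplicit false

universe u

open CategoryTheory CategoryTheory.Abelian

namespace Groth.Agent.LocCoh

variable {A : Type u} [CommRing A] [IsNoetherianRing A]

/-- A torsion-free module embeds in a torsion-free injective module. -/
theorem exists_injective_embedding_torsionFree (J : Ideal A) (G : Type u) [AddCommGroup G]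
    [Module A G] (h : powTorsion J G = ⊥) :
    ∃ (E : Type u) (_ : AddCommGroup E) (_ : Module A E) (f : G →ₗ[A] E),
      Module.Injective A E ∧ powTorsion J E = ⊥ ∧ Function.Injective f := by
  obtain ⟨E₀, _, _, f₀, hE₀, hf₀⟩ := exists_injective_embedding (R := A) G
  haveI := hE₀
  haveI := injective_powTorsion J E₀
  let T := powTorsion J E₀
  obtain ⟨π, hπ⟩ := Module.Injective.extension_property A T T E₀ T.subtype T.injective_subtype
    LinearMap.id
  have hπ' : ∀ x : T, π (x : E₀) = x := fun x => LinearMap.congr_fun hπ x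
  let q : E₀ →ₗ[A] LinearMap.ker π := LinearMap.codRestrict _ (LinearMap.id - T.subtype.comp π)
    fun x => by simp [hπ']
  refine ⟨LinearMap.ker π, inferInstance, inferInstance, q.comp f₀,
    injective_of_retract (LinearMap.ker π).subtype q (LinearMap.ext fun x => Subtype.ext (by
      simp [q, LinearMap.mem_ker.1 x.2])), ?_, ?_⟩
  · refine eq_bot_iff.2 fun x ⟨n, hn⟩ => ?_
    have hx : (x : E₀) ∈ T := ⟨n, fun a ha => congrArg Subtype.val (hn a ha)⟩
    have h1 : π (x : E₀) = 0 := x.2
    rw [show (x : E₀) = ((⟨x.1, hx⟩ : T) : E₀) from rfl, hπ'] at h1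
    exact Subtype.ext (congrArg (fun t : T => (t : E₀)) h1)
  · refine (injective_iff_map_eq_zero _).2 fun g hg => ?_
    have h1 : f₀ g = (π (f₀ g) : E₀) := sub_eq_zero.1 (congrArg Subtype.val hg)
    obtain ⟨n, hn⟩ : f₀ g ∈ T := h1 ▸ (π (f₀ g)).2
    have h2 : g ∈ powTorsion J G := ⟨n, fun a ha => hf₀ (by rw [map_smul, hn a ha, map_zero])⟩
    rwa [h, Submodule.mem_bot] at h2

theorem subsingleton_hom_iff_powTorsion_eq_bot (J : Ideal A) (F : Type u) [AddCommGroup F]
    [Module A F] [Module.Finite A F] (hF : Module.support A F = PrimeSpectrum.zeroLocus (J : Set A))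
    (G : Type u) [AddCommGroup G] [Module A G] :
    Subsingleton (F →ₗ[A] G) ↔ powTorsion J G = ⊥ := by
  constructor
  · intro h
    refine eq_bot_iff.2 fun m ⟨n, hn⟩ => ?_
    rw [Submodule.mem_bot]
    by_contra hm
    let C := Submodule.span A {m}
    haveI : Module.Finite A C := Module.Finite.iff_fg.2 (Submodule.fg_span_singleton m)
    refine hm (congrArg Subtype.val
      (@Subsingleton.elim C (S5163.result A F C ?_
        (Function.Injective.subsingleton (f := fun φ : F →ₗ[A] C => C.subtype.comp φ)
          fun φ ψ hφ => LinearMap.ext fun x => Subtype.ext (LinearMap.congr_fun hφ x)))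
        ⟨m, Submodule.mem_span_singleton_self m⟩ 0))
    rw [hF, Module.support_eq_zeroLocus]
    intro p hp a ha
    refine p.2.mem_of_pow_mem n (hp (Module.mem_annihilator.2 fun c => Subtype.ext ?_))
    obtain ⟨r, hr⟩ := Submodule.mem_span_singleton.1 c.2
    show a ^ n • (c : G) = 0
    rw [← hr, smul_comm, hn _ (Ideal.pow_mem_pow ha n), smul_zero]
  · intro h
    have hann : J ≤ (Module.annihilator A F).radical := by
      rw [Module.support_eq_zeroLocus] at hF
      rw [← Ideal.radical_idem (I := Module.annihilator A F)] 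
      rw [PrimeSpectrum.zeroLocus_eq_iff.1 hF, Ideal.radical_idem]
      exact Ideal.le_radical
    obtain ⟨n, hn⟩ := Ideal.exists_pow_le_of_le_radical_of_fg hann (IsNoetherian.noetherian J)
    refine ⟨fun φ ψ => LinearMap.ext fun x => sub_eq_zero.1 ?_⟩
    have h1 : φ x - ψ x ∈ powTorsion J G := ⟨n, fun a ha => by
      rw [← LinearMap.sub_apply, ← map_smul, Module.mem_annihilator.1 (hn ha) x, map_zero]⟩
    rwa [h, Submodule.mem_bot] at h1

theorem H_vanishing_iff_ext_vanishing (J : Ideal A) (F : Type u) [AddCommGroup F] [Module A F]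
    [Module.Finite A F] (hF : Module.support A F = PrimeSpectrum.zeroLocus (J : Set A)) :
    ∀ (n : ℕ) (G : Type u) [AddCommGroup G] [Module A G],
      (∀ i < n, Subsingleton (_root_.LocCoh.H J i G)) ↔
        ∀ i < n, Subsingleton (Ext (ModuleCat.of A F) (ModuleCat.of A G) i) := by
  have h0 : ∀ (G : Type u) [AddCommGroup G] [Module A G],
      Subsingleton (_root_.LocCoh.H J 0 G) ↔
        Subsingleton (Ext (ModuleCat.of A F) (ModuleCat.of A G) 0) := fun G _ _ => by
    rw [subsingleton_H0_iff, ← subsingleton_hom_iff_powTorsion_eq_bot J F hF,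
      (Ext.addEquiv₀.trans ModuleCat.homAddEquiv).toEquiv.subsingleton_congr]
  intro n
  induction n with
  | zero => intro G _ _; simp
  | succ n ih =>
    intro G _ _
    by_cases hG : powTorsion J G = ⊥
    swap
    · exact iff_of_false (fun h => hG (subsingleton_H0_iff.1 (h 0 (Nat.succ_pos n))))
        fun h => hG (subsingleton_H0_iff.1 ((h0 G).2 (h 0 (Nat.succ_pos n))))
    obtain ⟨E, _, _, f, hE, hEJ, hf⟩ := exists_injective_embedding_torsionFree J G hG
    haveI := hE
    let g : E →ₗ[A] E ⧸ LinearMap.range f := Submodule.mkQ _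
    have hg : Function.Surjective g := Submodule.mkQ_surjective _
    have hfg : Function.Exact f g := LinearMap.exact_map_mkQ_range f
    have hH : ∀ j, Subsingleton (_root_.LocCoh.H J j E) := fun j => by
      rcases j with - | j
      · exact subsingleton_H0_iff.2 hEJ
      · exact subsingleton_H_of_injective E (Nat.succ_pos j)
    have hS := shortExact_of hf hg hfg
    haveI : CategoryTheory.Injective (ModuleCat.of A E) :=
      (Module.injective_iff_injective_object A E).1 hE
    have hX : ∀ j, Subsingleton (Ext (ModuleCat.of A F) (ModuleCat.of A E) j) := fun j => by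
      rcases j with - | j
      · haveI := (subsingleton_hom_iff_powTorsion_eq_bot J F hF E).2 hEJ
        exact (Ext.addEquiv₀.trans ModuleCat.homAddEquiv).subsingleton
      · exact subsingleton_of_forall_eq 0 fun e => e.eq_zero_of_injective
    have stepH : ∀ j, Subsingleton (_root_.LocCoh.H J (j + 1) G) ↔
        Subsingleton (_root_.LocCoh.H J j (E ⧸ LinearMap.range f)) := fun j => by
      haveI := hH j
      haveI := hH (j + 1)
      constructor
      · intro h
        exact subsingleton_right hf hg hfg j
      · intro h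
        exact subsingleton_left_succ hf hg hfg j
    have stepX : ∀ j, Subsingleton (Ext (ModuleCat.of A F) (ModuleCat.of A G) (j + 1)) ↔
        Subsingleton (Ext (ModuleCat.of A F) (ModuleCat.of A (E ⧸ LinearMap.range f)) j) := fun j => by
      haveI := hX j
      haveI := hX (j + 1)
      constructor
      · intro h
        refine subsingleton_of_forall_eq 0 fun e => ?_
        obtain ⟨y, hy⟩ := Ext.covariant_sequence_exact₃ (ModuleCat.of A F) hS e rfl
          (@Subsingleton.elim _ h _ _)
        rw [← hy, @Subsingleton.elim _ (hX j) y 0, Ext.zero_comp]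
      · intro h
        refine subsingleton_of_forall_eq 0 fun e => ?_
        obtain ⟨y, hy⟩ := Ext.covariant_sequence_exact₁ (ModuleCat.of A F) hS e
          (@Subsingleton.elim _ (hX (j + 1)) _ _) (rfl : j + 1 = j + 1)
        rw [← hy, @Subsingleton.elim _ h y 0, Ext.zero_comp]
    constructor <;> intro h i hi
    · rcases i with - | i
      · exact (h0 G).1 (h 0 hi)
      · exact (stepX i).2 ((ih _).1 (fun j hj => (stepH j).1 (h (j + 1) (by omega))) i (by omega))
    · rcases i with - | i
      · exact (h0 G).2 (h 0 hi)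
      · exact (stepH i).2 ((ih _).2 (fun j hj => (stepX j).1 (h (j + 1) (by omega))) i (by omega))

theorem H_vanishing_iff_ext_criteria (J : Ideal A) (G : Type u) [AddCommGroup G] [Module A G] (n : ℕ) :
    ((∀ i : ℕ, i < n → Subsingleton (_root_.LocCoh.H J i G)) ↔
      ∀ (F : Type u) [AddCommGroup F] [Module A F], Module.Finite A F →
        Module.support A F ⊆ PrimeSpectrum.zeroLocus (J : Set A) →
        ∀ i : ℕ, i < n → Subsingleton (Ext (ModuleCat.of A F) (ModuleCat.of A G) i)) ∧
    ((∀ i : ℕ, i < n → Subsingleton (_root_.LocCoh.H J i G)) ↔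
      ∃ (F : Type u) (_ : AddCommGroup F) (_ : Module A F), Module.Finite A F ∧
        Module.support A F = PrimeSpectrum.zeroLocus (J : Set A) ∧
        ∀ i : ℕ, i < n → Subsingleton (Ext (ModuleCat.of A F) (ModuleCat.of A G) i)) := by
  have hJ : Module.support A (A ⧸ J) = PrimeSpectrum.zeroLocus (J : Set A) := by
    rw [Module.support_eq_zeroLocus, Ideal.annihilator_quotient]
  refine ⟨⟨fun h F _ _ hF hsupp i hi => ?_, fun h => ?_⟩, ⟨fun h => ?_, ?_⟩⟩
  · haveI := hF
    have hs : Module.support A (F × (A ⧸ J)) = PrimeSpectrum.zeroLocus (J : Set A) := by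
      rw [Module.support_of_exact (f := LinearMap.inl A F (A ⧸ J)) (g := LinearMap.snd A F (A ⧸ J))
        Function.Exact.inl_snd LinearMap.inl_injective Prod.snd_surjective, hJ, Set.union_eq_right.2 hsupp]
    haveI := (H_vanishing_iff_ext_vanishing J (F × (A ⧸ J)) hs n G).1 h i hi
    refine subsingleton_of_forall_eq 0 fun e => ?_
    have h1 := congrArg (fun z : Ext (ModuleCat.of A (F × (A ⧸ J))) (ModuleCat.of A G) i =>
      (Ext.mk₀ (ModuleCat.ofHom (LinearMap.inl A F (A ⧸ J)))).comp z (zero_add i))
      (Subsingleton.elim ((Ext.mk₀ (ModuleCat.ofHom (LinearMap.fst A F (A ⧸ J)))).comp e (zero_add i)) 0)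
    simp only [Ext.comp_zero, Ext.mk₀_comp_mk₀_assoc, ← ModuleCat.ofHom_comp,
      LinearMap.fst_comp_inl, ModuleCat.ofHom_id, Ext.mk₀_id_comp] at h1
    exact h1
  · exact (H_vanishing_iff_ext_vanishing J (A ⧸ J) hJ n G).2 (h (A ⧸ J) inferInstance hJ.subset)
  · exact ⟨A ⧸ J, inferInstance, inferInstance, inferInstance, hJ,
      (H_vanishing_iff_ext_vanishing J (A ⧸ J) hJ n G).1 h⟩
  · rintro ⟨F, _, _, hF, hs, h⟩
    exact (H_vanishing_iff_ext_vanishing J F hs n G).2 h

end Groth.Agent.LocCoh
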