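import Groth.Agent.LocCoh.AdjDepth

/-!
Finiteness dimension and adjusted depths: dividing out torsion, localization, quotient rings.
-/

set_option autoImplicit false

universe u

open IsLocalRing

namespace Groth.Agent.LocCoh

section depth

variable {R : Type u} [CommRing R]

/-- Depth of a localization at a prime, computed on any model. -/
theorem depth_eq_of_isLocalizedModule (p : Ideal R) [p.IsPrime] {M : Type u} [AddCommGroup M]
    [Module R M] {B : Type u} [CommRing B] [IsLocalRing B] [Algebra R B]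
    (hunit : ∀ s ∉ p, IsUnit (algebraMap R B s))
    (hsurj : ∀ b : B, ∃ (r s : R), s ∉ p ∧ b * algebraMap R B s = algebraMap R B r)
    {N : Type u} [AddCommGroup N] [Module B N] [Module R N] [IsScalarTower R B N]
    (f : M →ₗ[R] N) (hN : ∀ n : N, ∃ (m : M) (s : R), s ∉ p ∧ s • n = f m)
    (h0 : ∀ m : M, f m = 0 → ∃ s ∉ p, s • m = 0) :
    _root_.LocCoh.depth B N =
      _root_.LocCoh.depth (Localization.AtPrime p) (LocalizedModule p.primeCompl M) := by
  let A := Localization.AtPrime p
  let g : A →+* B :=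
    IsLocalization.lift (M := p.primeCompl) (g := algebraMap R B) fun s => hunit s s.2
  have hg : ∀ r, g (algebraMap R A r) = algebraMap R B r := fun r => IsLocalization.lift_eq _ r
  letI : Algebra A B := g.toAlgebra
  have hgs : Function.Surjective (algebraMap A B) := fun b => by
    obtain ⟨r, s, hs, h⟩ := hsurj b
    refine ⟨IsLocalization.mk' A r (⟨s, hs⟩ : p.primeCompl), (hunit s hs).mul_left_injective ?_⟩
    show g _ * algebraMap R B s = b * algebraMap R B s
    rw [h, ← hg s, ← map_mul, IsLocalization.mk'_spec, hg]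
  haveI : IsScalarTower R A B := IsScalarTower.of_algebraMap_eq fun r => (hg r).symm
  letI : Module A N := Module.compHom N g
  haveI : IsScalarTower A B N := IsScalarTower.of_algebraMap_smul fun a x => rfl
  haveI : IsScalarTower R A N := IsScalarTower.of_algebraMap_smul fun r x => by
    show g (algebraMap R A r) • x = r • x
    rw [hg, algebraMap_smul]
  haveI : IsLocalizedModule p.primeCompl f := by
    refine ⟨fun s => ?_, fun n => ?_, fun {x y} h => ?_⟩
    · rw [Module.End.isUnit_iff]
      obtain ⟨u, hu⟩ := hunit s.1 s.2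
      have hsm : ∀ n : N, algebraMap R (Module.End R N) (s : R) n = (u : B) • n := fun n => by
        rw [Module.algebraMap_end_apply, hu, algebraMap_smul]
      refine ⟨fun a b hab => ?_, fun b => ⟨(↑u⁻¹ : B) • b, ?_⟩⟩
      · rw [hsm, hsm] at hab
        have := congrArg ((↑u⁻¹ : B) • ·) hab
        simpa [← mul_smul] using this
      · rw [hsm, ← mul_smul, Units.mul_inv, one_smul]
    · obtain ⟨m, s, hs, h⟩ := hN n
      exact ⟨⟨m, ⟨s, hs⟩⟩, h⟩
    · obtain ⟨s, hs, hxy⟩ := h0 (x - y) (by rw [map_sub, h, sub_self])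
      exact ⟨⟨s, hs⟩, sub_eq_zero.1 ((smul_sub s x y).symm.trans hxy)⟩
  rw [CAlgH3.depth_of_surjective (R := A) hgs N]
  exact (CAlgH3.depth_congr ((IsLocalizedModule.iso p.primeCompl f).extendScalarsOfIsLocalization
    p.primeCompl A)).symm

theorem depth_atPrime_eq_top {p : Ideal R} [p.IsPrime] [IsNoetherianRing R] {M : Type u}
    [AddCommGroup M] [Module R M] [Subsingleton (LocalizedModule p.primeCompl M)] :
    _root_.LocCoh.depth (Localization.AtPrime p) (LocalizedModule p.primeCompl M) = ⊤ := by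
  haveI : IsNoetherianRing (Localization.AtPrime p) :=
    IsLocalization.isNoetherianRing p.primeCompl _ inferInstance
  exact CAlgH3.depth_eq_top_of_subsingleton

end depth

variable {R : Type u} [CommRing R] [IsNoetherianRing R]

theorem powTorsion_eq_iSup (c : Ideal R) (M : Type u) [AddCommGroup M] [Module R M] :
    (⨆ n : ℕ, _root_.LocCoh.torsionBy (c ^ n) M) = powTorsion c M := by
  ext m
  rw [Submodule.mem_iSup_of_directed _ (Monotone.directed_le fun i j hij => ?_), mem_powTorsion]
  · refine exists_congr fun n => ?_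
    rw [Submodule.mem_torsionBySet_iff]
    exact ⟨fun h a ha => h ⟨a, ha⟩, fun h a => h a.1 a.2⟩
  · exact Submodule.torsionBySet_le_torsionBySet_of_subset (Ideal.pow_le_pow_right hij)

variable (a b c : Ideal R) {M : Type u} [AddCommGroup M] [Module R M]

theorem mem_radical_annihilator_iff {β : R} {H : Type u} [AddCommGroup H] [Module R H] :
    β ∈ (Module.annihilator R H).radical ↔ ∃ k : ℕ, ∀ x : H, β ^ k • x = 0 :=
  exists_congr fun _ => Module.mem_annihilator

theorem finDimRel_quotient (T : Submodule R M)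
    (hT : ∀ β ∈ b, ∃ k : ℕ, ∀ x ∈ T, β ^ k • x = 0) :
    _root_.LocCoh.finDimRel a b M = _root_.LocCoh.finDimRel a b (M ⧸ T) := by
  have key : ∀ i, b ≤ (Module.annihilator R (_root_.LocCoh.H a i M)).radical ↔
      b ≤ (Module.annihilator R (_root_.LocCoh.H a i (M ⧸ T))).radical := by
    refine fun i => forall₂_congr fun β hβ => ?_
    rw [mem_radical_annihilator_iff, mem_radical_annihilator_iff]
    obtain ⟨l, hl⟩ := hT β hβ
    have hT' : ∀ j (z : _root_.LocCoh.H a j T), β ^ l • z = 0 :=
      fun j z => smul_H_eq_zero (fun x => Subtype.ext (hl x.1 x.2)) j z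
    constructor
    · rintro ⟨k, hk⟩
      refine ⟨k + l, fun z => ?_⟩
      obtain ⟨w, hw⟩ := (Hmap_connecting_exact T.injective_subtype (Submodule.mkQ_surjective T)
        (LinearMap.exact_subtype_mkQ T) i (β ^ l • z)).1 (by rw [map_smul, hT'])
      rw [pow_add, mul_smul, ← hw, ← map_smul, hk, map_zero]
    · rintro ⟨k, hk⟩
      refine ⟨l + k, fun z => ?_⟩
      obtain ⟨w, hw⟩ := (Hmap_exact T.injective_subtype (Submodule.mkQ_surjective T)
        (LinearMap.exact_subtype_mkQ T) i (β ^ k • z)).1 (by rw [map_smul, hk])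
      rw [pow_add, mul_smul, ← hw, ← map_smul, hT', map_zero]
  unfold _root_.LocCoh.finDimRel
  simp only [key]

theorem finDimRel_quotient_torsion [Module.Finite R M] :
    (b ≤ c → _root_.LocCoh.finDimRel a b M = _root_.LocCoh.finDimRel a b
      (M ⧸ (⨆ n : ℕ, _root_.LocCoh.torsionBy (c ^ n) M))) ∧
    (0 < _root_.LocCoh.finDimRel a b M → _root_.LocCoh.finDimRel a b M =
      _root_.LocCoh.finDimRel a b (M ⧸ (⨆ n : ℕ, _root_.LocCoh.torsionBy (a ^ n) M))) := by
  rw [powTorsion_eq_iSup, powTorsion_eq_iSup]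
  refine ⟨fun hbc => finDimRel_quotient a b _ fun β hβ => ?_,
    fun hpos => finDimRel_quotient a b _ fun β hβ => ?_⟩
  · obtain ⟨k, hk⟩ := exists_pow_smul_eq_zero (IsNoetherian.noetherian _) (le_refl (powTorsion c M))
    exact ⟨k, fun x hx => hk _ (Ideal.pow_mem_pow (hbc hβ) k) x hx⟩
  · have h : b ≤ (Module.annihilator R (_root_.LocCoh.H a 0 M)).radical := by
      by_contra hcon
      exact hpos.not_ge (iInf₂_le_of_le 0 hcon le_rfl)
    obtain ⟨k, hk⟩ := mem_radical_annihilator_iff.1 (h hβ)
    refine ⟨k, fun x hx => ?_⟩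
    have h2 := congrArg (H0Equiv a M) (hk ((H0Equiv a M).symm ⟨x, hx⟩))
    rw [map_smul, LinearEquiv.apply_symm_apply, map_zero] at h2
    exact congrArg Subtype.val h2

theorem depth_atPrime_quotient [Module.Finite R M] (T : Submodule R M) (p : Ideal R) [p.IsPrime]
    (hT : ∀ x ∈ T, ∃ s ∉ p, s • x = 0) :
    _root_.LocCoh.depth (Localization.AtPrime p) (LocalizedModule p.primeCompl (M ⧸ T)) =
      _root_.LocCoh.depth (Localization.AtPrime p) (LocalizedModule p.primeCompl M) := by
  refine depth_eq_of_isLocalizedModule p (fun s hs => IsLocalization.map_units _ (⟨s, hs⟩ : p.primeCompl))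
    (fun x => ?_) ((LocalizedModule.mkLinearMap p.primeCompl (M ⧸ T)).comp T.mkQ) (fun z => ?_)
    (fun m hm => ?_)
  · obtain ⟨⟨r, s⟩, h⟩ := IsLocalization.surj p.primeCompl x
    exact ⟨r, s, s.2, h⟩
  · obtain ⟨⟨q, s⟩, h⟩ := IsLocalizedModule.surj p.primeCompl
      (LocalizedModule.mkLinearMap p.primeCompl (M ⧸ T)) z
    obtain ⟨m, rfl⟩ := Submodule.mkQ_surjective T q
    exact ⟨m, s, s.2, h⟩
  · obtain ⟨⟨s, hs⟩, h⟩ := (IsLocalizedModule.eq_zero_iff p.primeCompl
      (LocalizedModule.mkLinearMap p.primeCompl (M ⧸ T))).1 hm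
    have hmem : s • m ∈ T := by
      rw [← Submodule.Quotient.mk_eq_zero T, Submodule.Quotient.mk_smul]
      exact h
    obtain ⟨t, ht, htm⟩ := hT _ hmem
    exact ⟨t * s, fun hh => (Ideal.IsPrime.mem_or_mem ‹_› hh).elim ht hs, by rw [mul_smul, htm]⟩

theorem minAdjDepth_quotient [Module.Finite R M] (T : Submodule R M)
    (hT : ∀ (p : PrimeSpectrum R), ¬ b ≤ p.asIdeal → ∀ x ∈ T, ∃ s ∉ p.asIdeal, s • x = 0) :
    _root_.LocCoh.minAdjDepth a b M = _root_.LocCoh.minAdjDepth a b (M ⧸ T) :=
  iInf_congr fun p => iInf_congr fun hp => by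
    unfold _root_.LocCoh.adjDepth
    rw [depth_atPrime_quotient T p.asIdeal (hT p hp)]

theorem minAdjDepth_quotient_torsion [Module.Finite R M] :
    (b ≤ c → _root_.LocCoh.minAdjDepth a b M = _root_.LocCoh.minAdjDepth a b
      (M ⧸ (⨆ n : ℕ, _root_.LocCoh.torsionBy (c ^ n) M))) ∧
    (0 < _root_.LocCoh.minAdjDepth a b M → _root_.LocCoh.minAdjDepth a b M =
      _root_.LocCoh.minAdjDepth a b (M ⧸ (⨆ n : ℕ, _root_.LocCoh.torsionBy (a ^ n) M))) := by
  rw [powTorsion_eq_iSup, powTorsion_eq_iSup]
  refine ⟨fun hbc => minAdjDepth_quotient a b _ fun p hp x hx => ?_,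
    fun hpos => minAdjDepth_quotient a b _ fun p hp x hx => ?_⟩
  · obtain ⟨k, hk⟩ := hx
    obtain ⟨β, hβ, hβp⟩ := SetLike.not_le_iff_exists.1 hp
    exact ⟨β ^ k, fun h => hβp (p.2.mem_of_pow_mem k h), hk _ (Ideal.pow_mem_pow (hbc hβ) k)⟩
  · by_contra hcon
    push Not at hcon
    obtain ⟨n, hn⟩ := hx
    have hann : LinearMap.ker (LinearMap.toSpanSingleton R M x) ≤ p.asIdeal := fun r hr => by
      by_contra hrp
      exact hcon r hrp (by simpa using hr)
    obtain ⟨q, hq, hqp⟩ := Ideal.exists_minimalPrimes_le hann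
    haveI := hq.1.1
    let N := Submodule.span R {x}
    have hqN : q ∈ associatedPrimes R N := by
      refine Module.associatedPrimes.minimalPrimes_annihilator_subset_associatedPrimes R N ?_
      have : Module.annihilator R N = LinearMap.ker (LinearMap.toSpanSingleton R M x) := by
        ext r
        rw [Module.mem_annihilator, LinearMap.mem_ker, LinearMap.toSpanSingleton_apply]
        refine ⟨fun h => congrArg Subtype.val (h ⟨x, Submodule.mem_span_singleton_self x⟩),
          fun h y => Subtype.ext ?_⟩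
        obtain ⟨t, ht⟩ := Submodule.mem_span_singleton.1 y.2
        show r • (y : M) = 0
        rw [← ht, smul_comm, h, smul_zero]
      rwa [this]
    have hqM : q ∈ associatedPrimes R M :=
      associatedPrimes.subset_of_injective N.injective_subtype hqN
    have haq : a ≤ q := fun r hr => hq.1.1.mem_of_pow_mem n (hq.1.2 (by
      simpa using hn _ (Ideal.pow_mem_pow hr n)))
    have hbq : ¬ b ≤ q := fun h => hp (h.trans hqp)
    haveI : IsNoetherianRing (Localization.AtPrime q) :=
      IsLocalization.isNoetherianRing q.primeCompl _ inferInstance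
    haveI := CAlgH3.nontrivial_localizedModule_of_mem_support
      (show (⟨q, inferInstance⟩ : PrimeSpectrum R) ∈ Module.support R M from by
        rw [Module.support_eq_zeroLocus, PrimeSpectrum.mem_zeroLocus]
        exact (Submodule.annihilator_top (R := R) (M := M) ▸
          IsAssociatedPrime.annihilator_le (AssociatedPrimes.mem_iff.1 hqM)))
    have hdep : _root_.LocCoh.depth (Localization.AtPrime q) (LocalizedModule q.primeCompl M) = 0 :=
      CAlgH3.depth_eq_zero_iff.2
        (Module.associatedPrimes.mem_associatedPrimes_atPrime_of_mem_associatedPrimes hqM)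
    refine hpos.not_ge (iInf₂_le_of_le (⟨q, inferInstance⟩ : PrimeSpectrum R) hbq (le_of_eq ?_))
    show _root_.LocCoh.depth (Localization.AtPrime q) (LocalizedModule q.primeCompl M) +
      ((a ⊔ q).map (Ideal.Quotient.mk q)).height = 0
    rw [hdep, sup_eq_right.2 haq, Ideal.map_quotient_self, Ideal.height_bot, add_zero]

theorem minAdjDepth_le_localization [Module.Finite R M] (S : Submonoid R) :
    _root_.LocCoh.minAdjDepth a b M ≤ _root_.LocCoh.minAdjDepth (a.map (algebraMap R (Localization S)))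
      (b.map (algebraMap R (Localization S))) (LocalizedModule S M) := by
  refine le_iInf₂ fun Q hQ => ?_
  let A := Localization S
  let p : Ideal R := Q.asIdeal.under R
  have hbp : ¬ b ≤ p := fun h => hQ (Ideal.map_le_iff_le_comap.2 h)
  refine iInf₂_le_of_le (⟨p, inferInstance⟩ : PrimeSpectrum R) hbp (add_le_add ?_ ?_)
  · refine le_of_eq (Eq.symm ?_)
    let B := Localization.AtPrime Q.asIdeal
    refine depth_eq_of_isLocalizedModule p (B := B) (fun s hs => ?_) (fun x => ?_)
      (((LocalizedModule.mkLinearMap Q.asIdeal.primeCompl (LocalizedModule S M)).restrictScalars R).comp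
        (LocalizedModule.mkLinearMap S M)) (fun z => ?_) (fun m hm => ?_)
    · rw [IsScalarTower.algebraMap_apply R A B]
      exact IsLocalization.map_units B (⟨algebraMap R A s, hs⟩ : Q.asIdeal.primeCompl)
    · obtain ⟨⟨y, t⟩, hyt⟩ := IsLocalization.surj Q.asIdeal.primeCompl x
      obtain ⟨⟨r, v⟩, hr⟩ := IsLocalization.surj S y
      obtain ⟨⟨s, w⟩, hs⟩ := IsLocalization.surj S (t : A)
      refine ⟨r * w, s * v, ?_, ?_⟩
      · intro hh
        have h1 : algebraMap R A (s * v) ∈ Q.asIdeal := hh
        rw [map_mul, ← hs, mul_assoc] at h1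
        refine (Q.2.mem_or_mem h1).elim t.2 fun h2 => Q.2.ne_top (Ideal.eq_top_of_isUnit_mem _ h2 ?_)
        exact (IsLocalization.map_units A w).mul (IsLocalization.map_units A v)
      · simp only [IsScalarTower.algebraMap_apply R A B, map_mul]
        rw [← hs, ← hr]
        simp only [map_mul]
        rw [← hyt]
        ring
    · obtain ⟨⟨y, t⟩, hyt⟩ := IsLocalizedModule.surj Q.asIdeal.primeCompl
        (LocalizedModule.mkLinearMap Q.asIdeal.primeCompl (LocalizedModule S M)) z
      obtain ⟨⟨m, v⟩, hm⟩ := IsLocalizedModule.surj S (LocalizedModule.mkLinearMap S M) y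
      obtain ⟨⟨s, w⟩, hs⟩ := IsLocalization.surj S (t : A)
      refine ⟨(w : R) • m, (v : R) * s, ?_, ?_⟩
      · intro hh
        have h1 : algebraMap R A ((v : R) * s) ∈ Q.asIdeal := hh
        rw [map_mul, ← hs] at h1
        refine (Q.2.mem_or_mem h1).elim (fun h2 => Q.2.ne_top (Ideal.eq_top_of_isUnit_mem _ h2
          (IsLocalization.map_units A v))) fun h2 => (Q.2.mem_or_mem h2).elim t.2 fun h3 =>
          Q.2.ne_top (Ideal.eq_top_of_isUnit_mem _ h3 (IsLocalization.map_units A w))
      · simp only [Submonoid.smul_def] at hm hyt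
        rw [map_smul, LinearMap.comp_apply, LinearMap.restrictScalars_apply, ← hm,
          LinearMap.map_smul_of_tower, ← hyt, mul_smul, ← IsScalarTower.algebraMap_smul A s z, ← hs,
          mul_comm (t : A), mul_smul, IsScalarTower.algebraMap_smul]
        exact smul_comm _ _ _
    · obtain ⟨⟨t, ht⟩, h⟩ := (IsLocalizedModule.eq_zero_iff Q.asIdeal.primeCompl
        (LocalizedModule.mkLinearMap Q.asIdeal.primeCompl (LocalizedModule S M))).1 hm
      obtain ⟨⟨s, w⟩, hs⟩ := IsLocalization.surj S t
      have h1 : algebraMap R A s • LocalizedModule.mkLinearMap S M m = 0 := by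
        rw [← hs, mul_comm, mul_smul]
        exact (congrArg (algebraMap R A (w : R) • ·) h).trans (smul_zero _)
      rw [IsScalarTower.algebraMap_smul, ← map_smul] at h1
      obtain ⟨v, hv⟩ := (IsLocalizedModule.eq_zero_iff S (LocalizedModule.mkLinearMap S M)).1 h1
      refine ⟨(v : R) * s, fun hh => ?_, by rw [mul_smul]; exact hv⟩
      have h1' : algebraMap R A ((v : R) * s) ∈ Q.asIdeal := hh
      rw [map_mul, ← hs] at h1'
      exact (Q.2.mem_or_mem h1').elim (fun h2 => Q.2.ne_top (Ideal.eq_top_of_isUnit_mem _ h2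
        (IsLocalization.map_units A v))) fun h2 => (Q.2.mem_or_mem h2).elim ht fun h3 =>
        Q.2.ne_top (Ideal.eq_top_of_isUnit_mem _ h3 (IsLocalization.map_units A w))
  · let J := ((a.map (algebraMap R A) ⊔ Q.asIdeal).map (Ideal.Quotient.mk Q.asIdeal))
    have hQ' : p.map (algebraMap R A) = Q.asIdeal := IsLocalization.map_under S A Q.asIdeal
    let e : (A ⧸ p.map (algebraMap R A)) ≃+* (A ⧸ Q.asIdeal) := Ideal.quotEquivOfEq hQ'
    refine le_trans ?_ ((RingEquiv.height_comap e J).le)
    rw [← IsLocalization.height_under (Algebra.algebraMapSubmonoid (R ⧸ p) S) (J.comap e)]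
    refine Ideal.height_mono (Ideal.map_le_iff_le_comap.2 fun r hr => ?_)
    show e (Ideal.Quotient.mk (p.map (algebraMap R A)) (algebraMap R A r)) ∈ J
    refine Ideal.mem_map_of_mem _ ?_
    have hmem := Ideal.mem_map_of_mem (algebraMap R A) hr
    rw [Ideal.map_sup, hQ'] at hmem
    exact hmem

theorem minAdjDepth_quotient_ring [Module.Finite R M] [Module (R ⧸ c) M] [IsScalarTower R (R ⧸ c) M] :
    _root_.LocCoh.minAdjDepth a b M = _root_.LocCoh.minAdjDepth (a.map (Ideal.Quotient.mk c))
      (b.map (Ideal.Quotient.mk c)) M := by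
  have key : ∀ Q : PrimeSpectrum (R ⧸ c), _root_.LocCoh.adjDepth (a.map (Ideal.Quotient.mk c)) M Q =
      _root_.LocCoh.adjDepth a M ⟨Q.asIdeal.comap (Ideal.Quotient.mk c), inferInstance⟩ := by
    intro Q
    let p : Ideal R := Q.asIdeal.comap (Ideal.Quotient.mk c)
    unfold _root_.LocCoh.adjDepth
    have h1 : _root_.LocCoh.depth (Localization.AtPrime Q.asIdeal)
        (LocalizedModule Q.asIdeal.primeCompl M) =
        _root_.LocCoh.depth (Localization.AtPrime p) (LocalizedModule p.primeCompl M) := by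
      refine depth_eq_of_isLocalizedModule p (fun s hs => ?_) (fun x => ?_)
        ((LocalizedModule.mkLinearMap Q.asIdeal.primeCompl M).restrictScalars R) (fun z => ?_)
        (fun m hm => ?_)
      · rw [IsScalarTower.algebraMap_apply R (R ⧸ c)]
        exact IsLocalization.map_units _ (⟨Ideal.Quotient.mk c s, hs⟩ : Q.asIdeal.primeCompl)
      · obtain ⟨⟨y, t, ht⟩, h⟩ := IsLocalization.surj Q.asIdeal.primeCompl x
        obtain ⟨r, rfl⟩ := Ideal.Quotient.mk_surjective y
        obtain ⟨s, rfl⟩ := Ideal.Quotient.mk_surjective t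
        refine ⟨r, s, ht, ?_⟩
        rw [IsScalarTower.algebraMap_apply R (R ⧸ c), IsScalarTower.algebraMap_apply R (R ⧸ c)]
        exact h
      · obtain ⟨⟨m, t, ht⟩, h⟩ := IsLocalizedModule.surj Q.asIdeal.primeCompl
          (LocalizedModule.mkLinearMap Q.asIdeal.primeCompl M) z
        obtain ⟨s, rfl⟩ := Ideal.Quotient.mk_surjective t
        exact ⟨m, s, ht, (IsScalarTower.algebraMap_smul (R ⧸ c) s z).symm.trans h⟩
      · obtain ⟨⟨t, ht⟩, h⟩ := (IsLocalizedModule.eq_zero_iff Q.asIdeal.primeCompl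
          (LocalizedModule.mkLinearMap Q.asIdeal.primeCompl M)).1 hm
        obtain ⟨s, rfl⟩ := Ideal.Quotient.mk_surjective t
        exact ⟨s, ht, (IsScalarTower.algebraMap_smul (R ⧸ c) s m).symm.trans h⟩
    rw [h1]
    congr 1
    let g : R →+* (R ⧸ c) ⧸ Q.asIdeal := (Ideal.Quotient.mk Q.asIdeal).comp (Ideal.Quotient.mk c)
    have hgsurj : Function.Surjective g :=
      Ideal.Quotient.mk_surjective.comp Ideal.Quotient.mk_surjective
    have hker : RingHom.ker g = p := by
      rw [show RingHom.ker g = (RingHom.ker (Ideal.Quotient.mk Q.asIdeal)).comap (Ideal.Quotient.mk c)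
        from (RingHom.comap_ker _ _).symm, Ideal.mk_ker]
    let e : R ⧸ p ≃+* (R ⧸ c) ⧸ Q.asIdeal :=
      (Ideal.quotEquivOfEq hker.symm).trans (RingHom.quotientKerEquivOfSurjective hgsurj)
    rw [← RingEquiv.height_map e]
    refine congrArg Ideal.height ?_
    show (a.map (Ideal.Quotient.mk c) ⊔ Q.asIdeal).map (Ideal.Quotient.mk Q.asIdeal) =
      ((a ⊔ p).map (Ideal.Quotient.mk p)).map (e : R ⧸ p →+* (R ⧸ c) ⧸ Q.asIdeal)
    rw [Ideal.map_sup, Ideal.map_quotient_self, sup_bot_eq, Ideal.map_map, Ideal.map_sup,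
      Ideal.map_quotient_self, sup_bot_eq, Ideal.map_map]
    rfl
  refine le_antisymm (le_iInf₂ fun Q hQ => ?_) (le_iInf₂ fun p hp => ?_)
  · rw [key]
    exact iInf₂_le_of_le _ (fun h => hQ (Ideal.map_le_iff_le_comap.2 h)) le_rfl
  · by_cases hcp : c ≤ p.asIdeal
    · let Q : PrimeSpectrum (R ⧸ c) := ⟨p.asIdeal.map (Ideal.Quotient.mk c), isPrime_map_mk hcp⟩
      have hQp : Q.asIdeal.comap (Ideal.Quotient.mk c) = p.asIdeal := comap_map_mk hcp
      refine iInf₂_le_of_le Q (fun h => hp ?_) (le_of_eq ?_)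
      · exact (Ideal.map_le_iff_le_comap.1 h).trans hQp.le
      · rw [key]
        exact congrArg (_root_.LocCoh.adjDepth a M) (PrimeSpectrum.ext hQp)
    · obtain ⟨r, hr, hrp⟩ := SetLike.not_le_iff_exists.1 hcp
      haveI : Subsingleton (LocalizedModule p.asIdeal.primeCompl M) := by
        refine subsingleton_of_forall_eq 0 fun z => ?_
        induction z using LocalizedModule.induction_on with
        | _ m s =>
          rw [← LocalizedModule.zero_mk 1, LocalizedModule.mk_eq]
          refine ⟨⟨r, hrp⟩, ?_⟩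
          have : r • m = 0 := by
            rw [← IsScalarTower.algebraMap_smul (R ⧸ c) r m, Ideal.Quotient.algebraMap_eq,
              Ideal.Quotient.eq_zero_iff_mem.2 hr, zero_smul]
          simp [Submonoid.smul_def, this]
      show _ ≤ _root_.LocCoh.depth (Localization.AtPrime p.asIdeal) _ + _
      rw [depth_atPrime_eq_top, top_add]
      exact le_top

end Groth.Agent.LocCoh
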