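import Groth.Agent.LocCoh.GorensteinSupport

/-!
Finiteness of length of local cohomology over homomorphic images of Gorenstein local rings.
-/

set_option autoImplicit false

universe u

open IsLocalRing

namespace Groth.Agent.LocCoh

section artinian

variable {R : Type u} [CommRing R] [IsNoetherianRing R] [IsLocalRing R]

theorem isFiniteLength_H_iff (i : ℕ) (M : Type u) [AddCommGroup M] [Module R M] [Module.Finite R M] :
    IsFiniteLength R (_root_.LocCoh.H (maximalIdeal R) i M) ↔
      maximalIdeal R ≤ (Module.annihilator R (_root_.LocCoh.H (maximalIdeal R) i M)).radical := by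
  set H := _root_.LocCoh.H (maximalIdeal R) i M
  constructor
  · intro hfl
    have hann : ∀ (X : Type u) [AddCommGroup X] [Module R X], IsFiniteLength R X →
        ∃ t, maximalIdeal R ^ t ≤ Module.annihilator R X := by
      intro X _ _ hX
      induction hX with
      | @of_subsingleton X _ _ _ => exact ⟨0, by rw [Module.annihilator_eq_top_iff.2 inferInstance]; exact le_top⟩
      | @of_simple_quotient X _ _ N _ _ ih =>
        obtain ⟨t, ht⟩ := ih
        refine ⟨t + 1, ?_⟩
        obtain ⟨I, hI, ⟨e⟩⟩ := isSimpleModule_iff_quot_maximal.1 (inferInstance : IsSimpleModule R (X ⧸ N))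
        rw [IsLocalRing.eq_maximalIdeal hI] at e
        rw [pow_succ]
        refine Ideal.mul_le.2 fun a ha b hb => Module.mem_annihilator.2 fun x => ?_
        have hbx : b • x ∈ N := by
          rw [← Submodule.Quotient.mk_eq_zero, Submodule.Quotient.mk_smul]
          refine e.injective ?_
          rw [map_smul, map_zero]
          obtain ⟨c, hc⟩ := Submodule.Quotient.mk_surjective _ (e (Submodule.Quotient.mk x))
          rw [← hc, ← Submodule.Quotient.mk_smul, Submodule.Quotient.mk_eq_zero]
          exact Ideal.mul_mem_right _ _ hb
        rw [mul_smul]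
        exact congrArg Subtype.val (Module.mem_annihilator.1 (ht ha) ⟨b • x, hbx⟩)
    obtain ⟨t, ht⟩ := hann H hfl
    exact fun x hx => ⟨t, ht (Ideal.pow_mem_pow hx t)⟩
  · intro h
    obtain ⟨t, ht⟩ := Ideal.exists_pow_le_of_le_radical_of_fg h (IsNoetherian.noetherian (maximalIdeal R))
    haveI := isArtinian_H_maximalIdeal (R := R) i M
    let B := R ⧸ (maximalIdeal R ^ t)
    letI : Module B H :=
      Module.IsTorsionBySet.module (M := H) fun x a => Module.mem_annihilator.1 (ht a.2) x
    haveI : IsScalarTower R B H := IsScalarTower.of_algebraMap_smul fun r x => Module.IsTorsionBySet.mk_smul _ r x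
    rcases Nat.eq_zero_or_pos t with rfl | hpos
    · haveI : Subsingleton H := Module.annihilator_eq_top_iff.1
        (top_le_iff.1 (by rwa [pow_zero, Ideal.one_eq_top] at ht))
      exact IsFiniteLength.of_subsingleton
    have hfl := Matlis6.isFiniteLength_quotient_pow (m := maximalIdeal R) t
    haveI : IsArtinian R B := (isFiniteLength_iff_isNoetherian_isArtinian.1 hfl).2
    haveI : IsArtinianRing B := isArtinian_of_tower R inferInstance
    haveI : IsArtinian B H := isArtinian_of_tower R inferInstance
    haveI : IsNoetherian B H := IsSemiprimaryRing.isNoetherian_iff_isArtinian.2 inferInstance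
    haveI : IsNoetherian R H := by
      exact isNoetherian_of_tower' B
    exact isFiniteLength_iff_isNoetherian_isArtinian.2 ⟨inferInstance, inferInstance⟩
where
  isNoetherian_of_tower' {X : Type u} [AddCommGroup X] [Module R X] (B : Type u) [CommRing B] [Algebra R B]
      [Module B X] [IsScalarTower R B X] [IsNoetherian B X] [Module.Finite R B] : IsNoetherian R X := by
    haveI : Module.Finite R X := Module.Finite.trans B X
    exact isNoetherian_of_isNoetherianRing_of_finite R X

end artinian

variable {R' R : Type u} [CommRing R'] [_root_.LocCoh.IsGorensteinLocalRing R'] [CommRing R]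
  [IsNoetherianRing R] [IsLocalRing R] (g : R' →+* R) (hg : Function.Surjective g)
  (M : Type u) [AddCommGroup M] [Module R M] [Module.Finite R M]

include hg in
theorem le_radical_annihilator_H_iff_image (J : Ideal R) (i : ℕ) :
    J ≤ (Module.annihilator R (_root_.LocCoh.H (maximalIdeal R) i M)).radical ↔
      ∀ (p : Ideal R) [p.IsPrime], ¬ J ≤ p → ∀ j : ℕ, (j : WithBot ℕ∞) + ringKrullDim (R ⧸ p) = i →
        Subsingleton (_root_.LocCoh.H (maximalIdeal (Localization.AtPrime p)) j
          (LocalizedModule p.primeCompl M)) := by
  letI : Algebra R' R := g.toAlgebra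
  letI : Module R' M := Module.compHom M g
  haveI : IsScalarTower R' R M := IsScalarTower.of_algebraMap_smul fun _ _ => rfl
  haveI : Module.Finite R' R := Module.Finite.of_surjective (Algebra.linearMap R' R) hg
  haveI : Module.Finite R' M := Module.Finite.trans R M
  obtain ⟨h, hh⟩ := exists_dim_eq (R := R')
  -- annihilators
  obtain ⟨φ, hφ⟩ := exists_H_independence R' R (maximalIdeal R') i M
  have hmax : (maximalIdeal R').map (algebraMap R' R) = maximalIdeal R :=
    IsLocalRing.map_maximalIdeal_of_surjective _ hg
  have hann : (Module.annihilator R (_root_.LocCoh.H (maximalIdeal R) i M)).comap g =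
      Module.annihilator R' (_root_.LocCoh.H (maximalIdeal R') i M) := by
    rw [← hmax]
    ext r
    rw [Ideal.mem_comap, Module.mem_annihilator, Module.mem_annihilator]
    constructor
    · intro hr y
      rw [← φ.apply_symm_apply y, ← hφ, show algebraMap R' R r = g r from rfl, hr, map_zero]
    · intro hr x
      exact φ.injective (by rw [show g r = algebraMap R' R r from rfl, hφ, hr, map_zero])
  have hJ : J ≤ (Module.annihilator R (_root_.LocCoh.H (maximalIdeal R) i M)).radical ↔
      J.comap g ≤ (Module.annihilator R' (_root_.LocCoh.H (maximalIdeal R') i M)).radical := by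
    rw [← hann, ← Ideal.comap_radical]
    exact (Ideal.comap_le_comap_iff_of_surjective g hg _ _).symm
  have hdimq : ∀ (p : Ideal R), ringKrullDim (R' ⧸ p.comap g) = ringKrullDim (R ⧸ p) := by
    intro p
    have hs : Function.Surjective ((Ideal.Quotient.mk p).comp g) := Ideal.Quotient.mk_surjective.comp hg
    refine ringKrullDim_eq_of_ringEquiv ((Ideal.quotEquivOfEq ?_).trans
      (RingHom.quotientKerEquivOfSurjective hs))
    rw [← RingHom.comap_ker, Ideal.mk_ker]
  rw [hJ, le_radical_annihilator_H_iff hh]
  constructor
  · intro hP p _ hJp j hj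
    obtain ⟨e, he⟩ := ringKrullDim_quotient_exists (p.comap g)
    obtain ⟨a, ha, hae⟩ := exists_height_eq hh (p.comap g) he
    rw [← hdimq, he] at hj
    have hji : j + e = i := by exact_mod_cast hj
    rw [subsingleton_H_atPrime_comap (R := R') (A := R) hg]
    show Subsingleton (_root_.LocCoh.H (maximalIdeal (Localization.AtPrime (p.comap g))) j _)
    rcases lt_or_ge a j with hja | hja
    · refine subsingleton_H_of_supportDim_lt (lt_of_le_of_lt ((Module.supportDim_le_ringKrullDim _ _).trans_eq
        (IsLocalization.AtPrime.ringKrullDim_eq_height (p.comap g) (Localization.AtPrime (p.comap g)))) ?_)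
      rw [ha]
      exact_mod_cast hja
    · exact (extKilledAt_iff _ ha (a - j)).1 (hP (p.comap g) inferInstance
        (fun h' => hJp ((Ideal.comap_le_comap_iff_of_surjective g hg _ _).1 h')) (a - j) (by omega)) j (by omega)
  · intro hp P hP hJP q hq
    obtain ⟨e, he⟩ := ringKrullDim_quotient_exists P
    obtain ⟨a, ha, hae⟩ := exists_height_eq hh P he
    refine (extKilledAt_iff P ha q).2 fun j hj => ?_
    by_cases hker : RingHom.ker g ≤ P
    · haveI : (P.map g).IsPrime := Ideal.map_isPrime_of_surjective hg hker
      have hPm : (P.map g).comap g = P := by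
        rw [Ideal.comap_map_of_surjective g hg, sup_eq_left]
        exact hker
      have h1 := hp (P.map g) (fun h' => hJP (hPm ▸ Ideal.comap_mono h')) j
        (by rw [← hdimq, hPm, he]; exact_mod_cast (by omega : j + e = i))
      rw [subsingleton_H_atPrime_comap (R := R') (A := R) hg] at h1
      have cast' : ∀ (Q : Ideal R') [Q.IsPrime], Q = P →
          Subsingleton (_root_.LocCoh.H (maximalIdeal (Localization.AtPrime Q)) j
            (LocalizedModule Q.primeCompl M)) →
          Subsingleton (_root_.LocCoh.H (maximalIdeal (Localization.AtPrime P)) j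
            (LocalizedModule P.primeCompl M)) := by
        intro Q _ hQ hs
        subst hQ
        exact hs
      exact cast' _ hPm h1
    · obtain ⟨c, hc, hcP⟩ := SetLike.not_le_iff_exists.1 hker
      haveI : Subsingleton (LocalizedModule P.primeCompl M) := LocalizedModule.subsingleton_iff.2 fun m =>
        ⟨c, hcP, by show g c • m = 0; rw [RingHom.mem_ker.1 hc, zero_smul]⟩
      exact subsingleton_H_of_subsingleton _

end Groth.Agent.LocCoh
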