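import Groth.Agent.LocCoh.FinitenessRegular
import Groth.Agent.LocCoh.LocalVanishing
import Groth.Agent.LocCoh.Duality2
import Groth.Agent.LocCoh.BaseChange
import Groth.Agent.LocCoh.ExtLocalize

/-!
Over a quotient of a regular ring, nonvanishing of `H^j_p(M_p)` propagates to `H^(j+1)_q(M_q)` for
`q` covering `p`.
-/

set_option autoImplicit false

universe u

open IsLocalRing

namespace Groth.Agent.LocCoh

section kill

variable {R : Type u} [CommRing R] [IsNoetherianRing R]

theorem subsingleton_H_atPrime_iff (p : Ideal R) [p.IsPrime] (M : Type u) [AddCommGroup M]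
    [Module R M] (i : ℕ) :
    Subsingleton (_root_.LocCoh.H (maximalIdeal (Localization.AtPrime p)) i
      (LocalizedModule p.primeCompl M)) ↔
      ∀ x : _root_.LocCoh.H p i M, ∃ s ∉ p, s • x = 0 := by
  obtain ⟨e⟩ := nonempty_localized_H_equiv p.primeCompl p M i
  rw [← Localization.AtPrime.map_eq_maximalIdeal, ← e.toEquiv.subsingleton_congr]
  constructor
  · intro h x
    obtain ⟨⟨s, hs⟩, h1⟩ := (IsLocalizedModule.eq_zero_iff p.primeCompl
      (LocalizedModule.mkLinearMap p.primeCompl (_root_.LocCoh.H p i M)) (m := x)).1 (Subsingleton.elim _ _)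
    exact ⟨s, hs, h1⟩
  · intro h
    refine subsingleton_of_forall_eq 0 fun z => ?_
    induction z using LocalizedModule.induction_on with
    | h m t =>
      obtain ⟨s, hs, hm⟩ := h m
      rw [← LocalizedModule.zero_mk t, LocalizedModule.mk_eq]
      exact ⟨⟨s, hs⟩, by simp only [Submonoid.smul_def, smul_zero, smul_comm s (t : R) m, hm]⟩

variable {A : Type u} [CommRing A] [IsNoetherianRing A] [Algebra R A]

/-- Vanishing at a prime does not depend on the ring acting. -/
theorem subsingleton_H_atPrime_comap (hπ : Function.Surjective (algebraMap R A)) (p : Ideal A)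
    [p.IsPrime] (M : Type u) [AddCommGroup M] [Module A M] [Module R M] [IsScalarTower R A M] (i : ℕ) :
    Subsingleton (_root_.LocCoh.H (maximalIdeal (Localization.AtPrime p)) i
        (LocalizedModule p.primeCompl M)) ↔
      Subsingleton (_root_.LocCoh.H (maximalIdeal (Localization.AtPrime (p.comap (algebraMap R A)))) i
        (LocalizedModule (p.comap (algebraMap R A)).primeCompl M)) := by
  rw [subsingleton_H_atPrime_iff, subsingleton_H_atPrime_iff]
  obtain ⟨φ, hφ⟩ := exists_H_independence R A (p.comap (algebraMap R A)) i M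
  have hmap : (p.comap (algebraMap R A)).map (algebraMap R A) = p :=
    Ideal.map_comap_of_surjective _ hπ p
  generalize hP : p.comap (algebraMap R A) = P at φ hφ hmap
  subst hmap
  constructor
  · intro h y
    obtain ⟨s, hs, hsx⟩ := h (φ.symm y)
    obtain ⟨r, rfl⟩ := hπ s
    refine ⟨r, fun hr => hs (Ideal.mem_map_of_mem _ hr), ?_⟩
    rw [← φ.apply_symm_apply y, ← hφ, hsx, map_zero]
  · intro h x
    obtain ⟨r, hr, hrx⟩ := h (φ x)
    exact ⟨algebraMap R A r, fun h' => hr (hP.le h'), φ.injective (by rw [hφ, hrx, map_zero])⟩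

end kill

theorem subsingleton_atPrime_of_succ_local {B : Type u} [CommRing B] [IsRegularRing B] [IsLocalRing B]
    (P : Ideal B) [P.IsPrime] {h : ℕ} (hP : P.height = (h : ℕ∞))
    (hB : ringKrullDim B = ((h + 1 : ℕ) : ℕ)) (N : Type u) [AddCommGroup N] [Module B N] [Module.Finite B N]
    (j : ℕ) (hj : Subsingleton (_root_.LocCoh.H (maximalIdeal B) (j + 1) N)) :
    Subsingleton (_root_.LocCoh.H (maximalIdeal (Localization.AtPrime P)) j
      (LocalizedModule P.primeCompl N)) := by
  haveI : IsRegularLocalRing B := IsRegularLocalRing.of_isRegularRing_of_isLocalRing B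
  haveI : IsRegularLocalRing (Localization.AtPrime P) := isRegularRing_iff.1 inferInstance P
  haveI : Module.Finite (Localization.AtPrime P) (LocalizedModule P.primeCompl N) :=
    Module.Finite.of_isLocalizedModule (Rₚ := Localization.AtPrime P) P.primeCompl
      (LocalizedModule.mkLinearMap P.primeCompl N)
  have hBP : ringKrullDim (Localization.AtPrime P) = (h : ℕ) := by
    rw [IsLocalization.AtPrime.ringKrullDim_eq_height P (Localization.AtPrime P), hP]
    rfl
  rcases lt_or_ge h j with hjh | hjh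
  · refine subsingleton_H_of_supportDim_lt (((Module.supportDim_le_ringKrullDim _ _).trans hBP.le).trans_lt ?_)
    exact_mod_cast hjh
  · have h1 := subsingleton_ext_regular hB (h - j) (by omega) N
      (by rwa [show h + 1 - (h - j) = j + 1 by omega])
    have h2 := subsingleton_ext_localized P.primeCompl (h - j) N B h1
    obtain ⟨E, _, _, hE⟩ := Matlis6.exists_isHullAt (maximalIdeal (Localization.AtPrime P))
    obtain ⟨e⟩ := regular_duality hBP hE (h - j) j (by omega) (LocalizedModule P.primeCompl N)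
    haveI : Subsingleton (CategoryTheory.Abelian.Ext
        (ModuleCat.of (Localization.AtPrime P) (LocalizedModule P.primeCompl N))
        (ModuleCat.of (Localization.AtPrime P) (Localization.AtPrime P)) (h - j)) := h2
    exact e.toEquiv.subsingleton

variable {S : Type u} [CommRing S] [IsRegularRing S]

theorem subsingleton_atPrime_of_succ (M : Type u) [AddCommGroup M] [Module S M] [Module.Finite S M]
    (P Q : Ideal S) [P.IsPrime] [Q.IsPrime] (hPQ : P ≤ Q) (h1 : Q.height = P.height + 1) (j : ℕ)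
    (hQ : Subsingleton (_root_.LocCoh.H (maximalIdeal (Localization.AtPrime Q)) (j + 1)
      (LocalizedModule Q.primeCompl M))) :
    Subsingleton (_root_.LocCoh.H (maximalIdeal (Localization.AtPrime P)) j
      (LocalizedModule P.primeCompl M)) := by
  let B := Localization.AtPrime Q
  haveI : IsRegularLocalRing B := isRegularRing_iff.1 inferInstance Q
  haveI : IsRegularRing B := CAlgH3.isRegularRing_of_isRegularLocalRing
  haveI : Module.Finite B (LocalizedModule Q.primeCompl M) :=
    Module.Finite.of_isLocalizedModule (Rₚ := B) Q.primeCompl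
      (LocalizedModule.mkLinearMap Q.primeCompl M)
  have hdisj : Disjoint (Q.primeCompl : Set S) P := Set.disjoint_compl_left_iff_subset.2 hPQ
  haveI : (P.map (algebraMap S B)).IsPrime :=
    IsLocalization.isPrime_of_isPrime_disjoint Q.primeCompl _ _ inferInstance hdisj
  have hcomap : (P.map (algebraMap S B)).under S = P :=
    IsLocalization.under_map_of_isPrime_disjoint Q.primeCompl B inferInstance hdisj
  obtain ⟨hp, hhp⟩ := ENat.ne_top_iff_exists.1 (Ideal.height_ne_top (I := P) Ideal.IsPrime.ne_top')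
  have hPB : (P.map (algebraMap S B)).height = (hp : ℕ∞) := by
    rw [← IsLocalization.height_under Q.primeCompl, hcomap, hhp]
  have hdim : ringKrullDim B = ((hp + 1 : ℕ) : ℕ) := by
    rw [IsLocalization.AtPrime.ringKrullDim_eq_height Q B, h1, ← hhp]
    rfl
  have key := subsingleton_atPrime_of_succ_local (P.map (algebraMap S B)) hPB hdim
    (LocalizedModule Q.primeCompl M) j hQ
  rw [subsingleton_H_atPrime_iff] at key ⊢
  intro x
  obtain ⟨e⟩ := nonempty_localized_H_equiv Q.primeCompl P M j
  obtain ⟨t, ht, htx⟩ := key (e (LocalizedModule.mkLinearMap Q.primeCompl _ x))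
  obtain ⟨s, ⟨q, hq'⟩, rfl⟩ := IsLocalization.exists_mk'_eq Q.primeCompl t
  have hs : s ∉ P := fun hs => ht (by
    rw [IsLocalization.mk'_mem_iff]
    exact Ideal.mem_map_of_mem _ hs)
  have h2 : (algebraMap S B s) • e (LocalizedModule.mkLinearMap Q.primeCompl _ x) = 0 := by
    rw [← IsLocalization.mk'_spec' B s ⟨q, hq'⟩, mul_smul, htx, smul_zero]
  rw [← map_smul, LinearEquiv.map_eq_zero_iff, IsScalarTower.algebraMap_smul, ← map_smul] at h2
  obtain ⟨⟨u, hu⟩, h3⟩ := (IsLocalizedModule.eq_zero_iff Q.primeCompl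
    (LocalizedModule.mkLinearMap Q.primeCompl (_root_.LocCoh.H P j M))).1 h2
  refine ⟨u * s, fun h => ?_, by rw [mul_smul]; exact h3⟩
  rcases Ideal.IsPrime.mem_or_mem inferInstance h with h | h
  · exact hu (hPQ h)
  · exact hs h

variable {A : Type u} [CommRing A] [IsNoetherianRing A]

theorem subsingleton_H_atPrime_of_covBy (π : S →+* A) (hπ : Function.Surjective π) (M : Type u)
    [AddCommGroup M] [Module A M] [Module.Finite A M] (p q : PrimeSpectrum A) (hpq : p ≤ q)
    (h1 : hq p.asIdeal q.asIdeal = 1) (j : ℕ)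
    (hQ : Subsingleton (_root_.LocCoh.H (maximalIdeal (Localization.AtPrime q.asIdeal)) (j + 1)
      (LocalizedModule q.asIdeal.primeCompl M))) :
    Subsingleton (_root_.LocCoh.H (maximalIdeal (Localization.AtPrime p.asIdeal)) j
      (LocalizedModule p.asIdeal.primeCompl M)) := by
  letI : Algebra S A := π.toAlgebra
  letI : Module S M := Module.compHom M π
  haveI : IsScalarTower S A M := IsScalarTower.of_algebraMap_smul fun _ _ => rfl
  haveI : Module.Finite S A := Module.Finite.of_surjective (Algebra.linearMap S A) hπ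
  haveI : Module.Finite S M := Module.Finite.trans A M
  rw [subsingleton_H_atPrime_comap (R := S) (A := A) hπ] at hQ ⊢
  refine subsingleton_atPrime_of_succ M _ _ (Ideal.comap_mono hpq) ?_ j hQ
  have h2 := height_add_hq_eq (p.asIdeal.comap π) (q.asIdeal.comap π) (Ideal.comap_mono hpq)
  rw [hq_comap_eq π hπ, h1] at h2
  exact h2.symm

/-- Below a last point outside `V(I)` the condition in all codimensions follows from codimension 1. -/
theorem forall_codim_iff_codim_one (π : S →+* A) (hπ : Function.Surjective π) (I : Ideal A) (M : Type u)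
    [AddCommGroup M] [Module A M] [Module.Finite A M] (i : ℕ) :
    (∀ p : PrimeSpectrum A, ¬ I ≤ p.asIdeal → ∀ (c j : ℕ), _root_.SGA2.relCodim I p = c → j + c = i →
      Subsingleton (_root_.LocCoh.H (maximalIdeal (Localization.AtPrime p.asIdeal)) j
        (LocalizedModule p.asIdeal.primeCompl M))) ↔
    (∀ p : PrimeSpectrum A, ¬ I ≤ p.asIdeal → _root_.SGA2.relCodim I p = 1 → ∀ j : ℕ, j + 1 = i →
      Subsingleton (_root_.LocCoh.H (maximalIdeal (Localization.AtPrime p.asIdeal)) j
        (LocalizedModule p.asIdeal.primeCompl M))) := by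
  refine ⟨fun h p hp hc j hj => h p hp 1 j hc hj, fun h p hp c => ?_⟩
  induction c using Nat.strong_induction_on generalizing p with
  | _ c ih =>
    intro j hc hj
    have hc1 : 1 ≤ c := by
      have := one_le_relCodim hp
      rw [hc] at this
      exact_mod_cast this
    rcases eq_or_lt_of_le hc1 with rfl | hc2
    · exact h p hp hc j hj
    classical
    obtain ⟨t, hpt, hIt, htc⟩ : ∃ t : PrimeSpectrum A, p ≤ t ∧ I ≤ t.asIdeal ∧ hq p.asIdeal t.asIdeal = c := by
      haveI : Nonempty {q : PrimeSpectrum A // p ≤ q ∧ I ≤ q.asIdeal} := by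
        by_contra hne
        rw [not_nonempty_iff] at hne
        rw [_root_.SGA2.relCodim, iInf_of_empty] at hc
        exact (ENat.natCast_ne_top c) hc.symm
      obtain ⟨t, ht⟩ := ENat.exists_eq_iInf
        fun q : {q : PrimeSpectrum A // p ≤ q ∧ I ≤ q.asIdeal} => Order.height (⟨q.1, q.2.1⟩ : Set.Ici p)
      exact ⟨t.1, t.2.1, t.2.2, by rw [← orderHeight_eq_hq p t.1 t.2.1, ht]; exact hc⟩
    -- a point covering `p` below `t`
    have hpt' : p.asIdeal < t.asIdeal := lt_of_le_of_ne hpt fun e => hp (e ▸ hIt)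
    obtain ⟨q, hpq, hqt, hq1⟩ : ∃ q : PrimeSpectrum A, p.asIdeal < q.asIdeal ∧ q ≤ t ∧
        hq p.asIdeal q.asIdeal = 1 := by
      obtain ⟨n, hn, hmin⟩ : ∃ n : ℕ, (∃ q : PrimeSpectrum A, p.asIdeal < q.asIdeal ∧ q ≤ t ∧
          hq p.asIdeal q.asIdeal = n) ∧ ∀ m < n, ¬ (∃ q : PrimeSpectrum A, p.asIdeal < q.asIdeal ∧
          q ≤ t ∧ hq p.asIdeal q.asIdeal = m) := by
        have hex : ∃ n : ℕ, ∃ q : PrimeSpectrum A, p.asIdeal < q.asIdeal ∧ q ≤ t ∧
            hq p.asIdeal q.asIdeal = n := ⟨c, t, hpt', le_rfl, htc⟩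
        exact ⟨Nat.find hex, Nat.find_spec hex, fun m hm => Nat.find_min hex hm⟩
      obtain ⟨q, hpq, hqt, hqn⟩ := hn
      refine ⟨q, hpq, hqt, le_antisymm ?_ (one_le_map_height_of_not_le hpq)⟩
      by_contra hcon
      rw [not_le] at hcon
      obtain ⟨a, haq, hap⟩ := SetLike.exists_of_lt hpq
      obtain ⟨r, hr, hpr, hrq, -⟩ := exists_prime_between hpq hcon haq hap
      have h2 : hq p.asIdeal r + 1 ≤ hq p.asIdeal q.asIdeal := hq_add_one_le hpr.le hrq
      rw [hqn] at h2
      obtain ⟨m, hm⟩ := ENat.ne_top_iff_exists.1 (hq_ne_top (p := p.asIdeal) (q := r) hpr.le)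
      rw [← hm, ← Nat.cast_one, ← Nat.cast_add, Nat.cast_le] at h2
      exact hmin m (by omega) ⟨⟨r, hr⟩, hpr, (show r ≤ t.asIdeal from hrq.le.trans hqt), hm.symm⟩
    have hIq : ¬ I ≤ q.asIdeal := fun hIq => by
      have h3 : _root_.SGA2.relCodim I p ≤ Order.height (⟨q, le_of_lt hpq⟩ : Set.Ici p) :=
        iInf_le (fun q : {q : PrimeSpectrum A // p ≤ q ∧ I ≤ q.asIdeal} =>
          Order.height (⟨q.1, q.2.1⟩ : Set.Ici p)) ⟨q, le_of_lt hpq, hIq⟩
      rw [orderHeight_eq_hq, hc, hq1] at h3
      have : c ≤ 1 := by exact_mod_cast h3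
      omega
    have hcq : _root_.SGA2.relCodim I q = ((c - 1 : ℕ) : ℕ∞) := by
      have hadd : ∀ t' : PrimeSpectrum A, q ≤ t' →
          1 + hq q.asIdeal t'.asIdeal = hq p.asIdeal t'.asIdeal := fun t' ht' => by
        rw [← hq1]
        exact hq_add_eq π hπ _ _ _ hpq.le ht'
      refine le_antisymm (iInf_le_of_le ⟨t, hqt, hIt⟩ ?_) (le_iInf fun t' => ?_)
      · rw [orderHeight_eq_hq q t hqt]
        have h4 := hadd t hqt
        rw [htc, show c = 1 + (c - 1) by omega, Nat.cast_add, Nat.cast_one] at h4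
        exact ((ENat.addLECancellable_of_ne_top (ENat.natCast_ne_top 1)).inj.1 h4).le
      · have hpt'' : p ≤ t'.1 := (le_of_lt hpq).trans t'.2.1
        rw [orderHeight_eq_hq q t'.1 t'.2.1]
        have h5 : _root_.SGA2.relCodim I p ≤ Order.height (⟨t'.1, hpt''⟩ : Set.Ici p) :=
          iInf_le (fun q : {q : PrimeSpectrum A // p ≤ q ∧ I ≤ q.asIdeal} =>
            Order.height (⟨q.1, q.2.1⟩ : Set.Ici p)) ⟨t'.1, hpt'', t'.2.2⟩
        rw [orderHeight_eq_hq p t'.1 hpt'', hc, ← hadd t'.1 t'.2.1, show c = 1 + (c - 1) by omega,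
          Nat.cast_add, Nat.cast_one] at h5
        exact (ENat.addLECancellable_of_ne_top (ENat.natCast_ne_top 1)) h5
    exact subsingleton_H_atPrime_of_covBy π hπ M p q (le_of_lt hpq) hq1 j
      (ih (c - 1) (by omega) q hIq (j + 1) hcq (by omega))

end Groth.Agent.LocCoh
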