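import Groth.Agent.LocCoh.Gorenstein
import Groth.Agent.LocCoh.ExtLocalGlobal
import Groth.Agent.LocCoh.Specialization
import Groth.Agent.LocCoh.Finiteness
import Groth.Agent.LocCoh.NonVanishing

/-!
Local cohomology of a finite module over a homomorphic image of a Gorenstein local ring and the
supports of its `Ext` modules.
-/

set_option autoImplicit false

universe u

open CategoryTheory CategoryTheory.Abelian IsLocalRing

namespace Groth.Agent.LocCoh

section basics

variable {R : Type u} [CommRing R]

/-- Every element of `Ext^q(M, R)` is killed outside `P`. -/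
def ExtKilledAt (M : Type u) [AddCommGroup M] [Module R M] (q : ℕ) (P : Ideal R) : Prop :=
  ∀ x : Ext (ModuleCat.of R M) (ModuleCat.of R R) q, ∃ s ∉ P, s • x = 0

theorem ExtKilledAt.mono {M : Type u} [AddCommGroup M] [Module R M] {q : ℕ} {P Q : Ideal R} (h : P ≤ Q)
    (hQ : ExtKilledAt M q Q) : ExtKilledAt M q P :=
  fun x => let ⟨s, hs, hx⟩ := hQ x; ⟨s, fun h' => hs (h h'), hx⟩

variable [IsNoetherianRing R] [IsLocalRing R]

/-- Matlis duals have the same annihilator. -/
theorem annihilator_dual {E : Type u} [AddCommGroup E] [Module R E] (hE : Matlis6.IsHullAt (maximalIdeal R) E)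
    (X : Type u) [AddCommGroup X] [Module R X] :
    Module.annihilator R (X →ₗ[R] E) = Module.annihilator R X := by
  refine le_antisymm (fun r hr => Module.mem_annihilator.2 fun x => ?_) fun r hr =>
    Module.mem_annihilator.2 fun φ => LinearMap.ext fun x => by
      rw [LinearMap.smul_apply, ← map_smul, Module.mem_annihilator.1 hr x, map_zero]; rfl
  by_contra hx
  obtain ⟨φ, hφ⟩ := hE.exists_apply_ne_zero_local hx
  exact hφ (by rw [map_smul, ← LinearMap.smul_apply, Module.mem_annihilator.1 hr φ]; rfl)

theorem ringKrullDim_quotient_exists (P : Ideal R) [P.IsPrime] : ∃ e : ℕ, ringKrullDim (R ⧸ P) = e := by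
  haveI : Nontrivial (R ⧸ P) := Ideal.Quotient.nontrivial_iff.2 (Ideal.IsPrime.ne_top inferInstance)
  haveI : IsLocalRing (R ⧸ P) := .of_surjective' _ Ideal.Quotient.mk_surjective
  exact exists_dim_eq

end basics

variable {R : Type u} [CommRing R] [_root_.LocCoh.IsGorensteinLocalRing R] {M : Type u} [AddCommGroup M]
  [Module R M] [Module.Finite R M]

theorem exists_height_eq {h : ℕ} (hh : ringKrullDim R = h) (P : Ideal R) [P.IsPrime] {e : ℕ}
    (he : ringKrullDim (R ⧸ P) = e) : ∃ a : ℕ, P.height = a ∧ a + e = h := by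
  haveI := isCohenMacaulayLocalRing_of_gorenstein (R := R)
  have h1 := CAlgH3.height_add_ringKrullDim_quotient P
  obtain ⟨a, ha⟩ := ENat.ne_top_iff_exists.1 (Ideal.height_ne_top (I := P) Ideal.IsPrime.ne_top')
  rw [he, hh, ← ha] at h1
  exact ⟨a, ha.symm, by exact_mod_cast h1⟩

theorem extKilledAt_iff {a : ℕ} (P : Ideal R) [P.IsPrime] (ha : P.height = (a : ℕ∞)) (q : ℕ) :
    ExtKilledAt M q P ↔
      ∀ j, j + q = a → Subsingleton (_root_.LocCoh.H (maximalIdeal (Localization.AtPrime P)) j
        (LocalizedModule P.primeCompl M)) := by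
  haveI := gorenstein_localization P
  haveI : Module.Finite (Localization.AtPrime P) (LocalizedModule P.primeCompl M) :=
    Module.Finite.of_isLocalizedModule (Rₚ := Localization.AtPrime P) P.primeCompl
      (LocalizedModule.mkLinearMap P.primeCompl M)
  have hdim : ringKrullDim (Localization.AtPrime P) = a := by
    rw [IsLocalization.AtPrime.ringKrullDim_eq_height P (Localization.AtPrime P), ha]
    rfl
  obtain ⟨E, _, _, hE⟩ := Matlis6.exists_isHullAt (maximalIdeal (Localization.AtPrime P))
  constructor
  · intro h j hj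
    obtain ⟨e⟩ := gorenstein_duality hdim hE q j hj (LocalizedModule P.primeCompl M)
    haveI : Subsingleton (Ext (ModuleCat.of (Localization.AtPrime P) (LocalizedModule P.primeCompl M))
        (ModuleCat.of (Localization.AtPrime P) (Localization.AtPrime P)) q) :=
      subsingleton_ext_localized_of_kill P.primeCompl q M R h
    exact e.toEquiv.subsingleton
  · intro h
    refine exists_kill_of_subsingleton_ext_localized P.primeCompl q M R ?_
    rcases lt_or_ge a q with hq | hq
    · exact subsingleton_ext_of_dim_lt hdim q hq _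
    · obtain ⟨e⟩ := gorenstein_duality hdim hE q (a - q) (by omega) (LocalizedModule P.primeCompl M)
      haveI := h (a - q) (by omega)
      refine subsingleton_of_forall_eq 0 fun x => ?_
      by_contra hx
      obtain ⟨φ, hφ⟩ := hE.exists_apply_ne_zero_local hx
      obtain ⟨y, hy⟩ := e.surjective φ
      rw [← hy, Subsingleton.elim y 0, map_zero] at hφ
      exact hφ rfl

theorem le_radical_annihilator_H_iff {h : ℕ} (hh : ringKrullDim R = h) (J : Ideal R) (i : ℕ) :
    J ≤ (Module.annihilator R (_root_.LocCoh.H (maximalIdeal R) i M)).radical ↔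
      ∀ P : Ideal R, P.IsPrime → ¬ J ≤ P → ∀ q, i + q = h → ExtKilledAt M q P := by
  rcases lt_or_ge h i with hi | hi
  · haveI : Subsingleton (_root_.LocCoh.H (maximalIdeal R) i M) := subsingleton_H_of_supportDim_lt
      (((Module.supportDim_le_ringKrullDim R M).trans hh.le).trans_lt (by exact_mod_cast hi))
    rw [Module.annihilator_eq_top_iff.2 inferInstance, Ideal.radical_top]
    exact ⟨fun _ P _ _ q hq => absurd hq (by omega), fun _ => le_top⟩
  obtain ⟨E, _, _, hE⟩ := Matlis6.exists_isHullAt (maximalIdeal R)
  obtain ⟨e⟩ := gorenstein_duality hh hE (h - i) i (by omega) M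
  rw [e.annihilator_eq, annihilator_dual hE]
  constructor
  · intro hJ P hP hJP q hq x
    obtain rfl : q = h - i := by omega
    obtain ⟨s, hs, hsP⟩ : ∃ s ∈ Module.annihilator R (Ext (ModuleCat.of R M) (ModuleCat.of R R) (h - i)),
        s ∉ P := by
      by_contra hcon
      push Not at hcon
      exact hJP (hJ.trans (hP.radical_le_iff.2 hcon))
    exact ⟨s, hsP, Module.mem_annihilator.1 hs x⟩
  · intro hP x hx
    rw [Ideal.radical_eq_sInf, Submodule.mem_sInf]
    rintro P ⟨hle, hPp⟩
    by_contra hxP
    have hK := hP P hPp (fun h' => hxP (h' hx)) (h - i) (by omega)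
    classical
    obtain ⟨S, hS⟩ := (Module.Finite.fg_top :
      (⊤ : Submodule R (Ext (ModuleCat.of R M) (ModuleCat.of R R) (h - i))).FG)
    choose s hs hs' using hK
    have hmem : ∏ z ∈ S, s z ∈ Module.annihilator R (Ext (ModuleCat.of R M) (ModuleCat.of R R) (h - i)) := by
      rw [Module.mem_annihilator]
      intro z
      have hz : z ∈ Submodule.span R (S : Set _) := by rw [hS]; trivial
      induction hz using Submodule.span_induction with
      | mem z hz => rw [show (∏ w ∈ S, s w) = (∏ w ∈ S.erase z, s w) * s z from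
          (Finset.prod_erase_mul S s hz).symm, mul_smul, hs', smul_zero]
      | zero => rw [smul_zero]
      | add u v _ _ hu hv => rw [smul_add, hu, hv, add_zero]
      | smul c u _ hu => rw [smul_comm, hu, smul_zero]
    obtain ⟨z, -, hz⟩ := (Ideal.IsPrime.prod_mem_iff (hp := hPp)).1 (hle hmem)
    exact hs z hz

/-- If `Q ≥ P` and `H^i_m(M) = 0` then the local cohomology at `P` vanishes in the shifted degree. -/
theorem subsingleton_atPrime_of_subsingleton {h : ℕ} (hh : ringKrullDim R = h) (P : Ideal R) [P.IsPrime]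
    {e : ℕ} (he : ringKrullDim (R ⧸ P) = e) (j : ℕ)
    (hH : Subsingleton (_root_.LocCoh.H (maximalIdeal R) (j + e) M)) :
    Subsingleton (_root_.LocCoh.H (maximalIdeal (Localization.AtPrime P)) j
      (LocalizedModule P.primeCompl M)) := by
  obtain ⟨a, ha, hae⟩ := exists_height_eq hh P he
  rcases lt_or_ge a j with hj | hj
  · refine subsingleton_H_of_supportDim_lt (lt_of_le_of_lt ((Module.supportDim_le_ringKrullDim _ _).trans_eq
      (IsLocalization.AtPrime.ringKrullDim_eq_height P (Localization.AtPrime P))) ?_)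
    rw [ha]
    exact_mod_cast hj
  · refine (extKilledAt_iff P ha (a - j)).1 (fun x => ⟨1, Ideal.IsPrime.one_notMem inferInstance, ?_⟩) j
      (by omega)
    obtain ⟨E, _, _, hE⟩ := Matlis6.exists_isHullAt (maximalIdeal R)
    obtain ⟨d⟩ := gorenstein_duality hh hE (a - j) (j + e) (by omega) M
    rw [one_smul]
    by_contra hx
    obtain ⟨φ, hφ⟩ := hE.exists_apply_ne_zero_local hx
    obtain ⟨y, hy⟩ := d.surjective φ
    rw [← hy, Subsingleton.elim y 0, map_zero] at hφ
    exact hφ rfl

end Groth.Agent.LocCoh
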