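import Groth.Prelude.Def_DualLC
import Mathlib.RingTheory.Flat.EquationalCriterion
import Mathlib.RingTheory.Length

/-!
Lech independence.
-/

set_option autoImplicit false

universe u

open Ideal

namespace Groth.Agent.LocCoh

variable {A : Type u} [CommRing A] {r : ℕ}

theorem mem_span_update_iff [DecidableEq (Fin r)] (f : Fin r → A) (j : Fin r) (v x : A) :
    x ∈ span (Set.range (Function.update f j v)) ↔
      ∃ b : Fin r → A, x = ∑ i ∈ Finset.univ.erase j, b i * f i + b j * v := by
  rw [mem_span_range_iff_exists_fun]
  refine exists_congr fun b => ?_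
  rw [← Finset.sum_erase_add _ _ (Finset.mem_univ j), Function.update_self, eq_comm]
  have : ∑ i ∈ Finset.univ.erase j, b i * Function.update f j v i =
      ∑ i ∈ Finset.univ.erase j, b i * f i :=
    Finset.sum_congr rfl fun i hi => by rw [Function.update_of_ne (Finset.mem_erase.1 hi).1]
  rw [this]

theorem span_update_le (f : Fin r → A) (j : Fin r) (g : A) :
    span (Set.range (Function.update f j (f j * g))) ≤ span (Set.range f) := by
  rw [span_le]
  rintro _ ⟨i, rfl⟩
  rcases eq_or_ne i j with rfl | h
  · rw [Function.update_self]
    exact mul_mem_right _ _ (subset_span ⟨i, rfl⟩)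
  · rw [Function.update_of_ne h]
    exact subset_span ⟨i, rfl⟩

theorem independent_of_update {f : Fin r → A} {j : Fin r} {g : A}
    (h : Dual2.Independent (Function.update f j (f j * g))) : Dual2.Independent f := by
  intro a ha i
  let I := span (Set.range (Function.update f j (f j * g)))
  have hle : I ≤ span (Set.range f) := span_update_le f j g
  have hsplit : ∑ k ∈ Finset.univ.erase j, a k * f k + a j * f j = 0 :=
    (Finset.sum_erase_add _ _ (Finset.mem_univ j)).trans ha
  have h1 : a j ∈ I := by
    have h0 := h (Function.update (fun k => a k * g) j (a j)) ?_ j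
    · rwa [Function.update_self] at h0
    · rw [← Finset.sum_erase_add _ _ (Finset.mem_univ j), Function.update_self, Function.update_self,
        Finset.sum_congr rfl fun k hk => (show Function.update (fun k => a k * g) j (a j) k *
          Function.update f j (f j * g) k = g * (a k * f k) by
          rw [Function.update_of_ne (Finset.mem_erase.1 hk).1,
            Function.update_of_ne (Finset.mem_erase.1 hk).1]; ring), ← Finset.mul_sum]
      calc _ = g * (∑ k ∈ Finset.univ.erase j, a k * f k + a j * f j) := by ring
        _ = 0 := by rw [hsplit, mul_zero]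
  rcases eq_or_ne i j with rfl | hij
  · exact hle h1
  obtain ⟨c, hc⟩ := (mem_span_update_iff f j _ _).1 h1
  have h2 := h (Function.update (fun k => a k + c k * f j) j (c j * f j)) ?_ i
  · rw [Function.update_of_ne hij] at h2
    have h3 : c i * f j ∈ span (Set.range f) := mul_mem_left _ _ (subset_span ⟨j, rfl⟩)
    simpa using sub_mem (hle h2) h3
  · rw [← Finset.sum_erase_add _ _ (Finset.mem_univ j), Function.update_self, Function.update_self,
      Finset.sum_congr rfl fun k hk => (show Function.update (fun k => a k + c k * f j) j (c j * f j) k *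
        Function.update f j (f j * g) k = a k * f k + f j * (c k * f k) by
        rw [Function.update_of_ne (Finset.mem_erase.1 hk).1,
          Function.update_of_ne (Finset.mem_erase.1 hk).1]; ring), Finset.sum_add_distrib, ← Finset.mul_sum]
    calc _ = ∑ k ∈ Finset.univ.erase j, a k * f k +
          f j * (∑ k ∈ Finset.univ.erase j, c k * f k + c j * (f j * g)) := by ring
      _ = 0 := by rw [← hc, mul_comm, hsplit]

theorem independent_update_right {f : Fin r → A} {j : Fin r} {g : A}
    (h : Dual2.Independent (Function.update f j (f j * g))) :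
    Dual2.Independent (Function.update f j g) := by
  refine independent_of_update (j := j) (g := f j) ?_
  rwa [Function.update_self, Function.update_idem, mul_comm]

theorem length_update {f : Fin r → A} {j : Fin r} {g : A}
    (h : Dual2.Independent (Function.update f j (f j * g))) :
    Module.length A (A ⧸ span (Set.range (Function.update f j (f j * g)))) =
      Module.length A (A ⧸ span (Set.range f)) +
        Module.length A (A ⧸ span (Set.range (Function.update f j g))) := by
  let I := span (Set.range (Function.update f j (f j * g)))
  let J := span (Set.range f)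
  let L := span (Set.range (Function.update f j g))
  have hI : I ≤ J := span_update_le f j g
  have hIL : I ≤ L := by
    have := span_update_le (Function.update f j g) j (f j)
    rwa [Function.update_self, Function.update_idem, mul_comm] at this
  have hmul : L ≤ Submodule.comap (LinearMap.mulLeft A (f j)) I := fun x hx => by
    obtain ⟨b, rfl⟩ := (mem_span_update_iff f j _ _).1 hx
    show f j * _ ∈ I
    rw [mul_add, Finset.mul_sum]
    refine add_mem (sum_mem fun k hk => mul_mem_left _ _ (mul_mem_left _ _ (subset_span ⟨k, ?_⟩))) ?_
    · rw [Function.update_of_ne (Finset.mem_erase.1 hk).1]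
    · rw [show f j * (b j * g) = b j * (f j * g) by ring]
      exact mul_mem_left _ _ (subset_span ⟨j, Function.update_self ..⟩)
  let φ : (A ⧸ L) →ₗ[A] (A ⧸ I) := Submodule.mapQ L I (LinearMap.mulLeft A (f j)) hmul
  let ψ : (A ⧸ I) →ₗ[A] (A ⧸ J) := Submodule.mapQ I J LinearMap.id hI
  have hφ : Function.Injective φ := by
    refine (injective_iff_map_eq_zero _).2 fun q hq => ?_
    obtain ⟨x, rfl⟩ := Submodule.Quotient.mk_surjective _ q
    have h0 : f j * x ∈ I := (Submodule.Quotient.mk_eq_zero I).1 hq
    obtain ⟨b, hb⟩ := (mem_span_update_iff f j _ _).1 h0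
    have h1 := h (Function.update (fun k => -(b k * g)) j (x - b j * g)) ?_ j
    · rw [Function.update_self] at h1
      rw [Submodule.Quotient.mk_eq_zero]
      have h2 : b j * g ∈ L := mul_mem_left _ _ (subset_span ⟨j, Function.update_self ..⟩)
      simpa using add_mem (hIL h1) h2
    · rw [← Finset.sum_erase_add _ _ (Finset.mem_univ j), Function.update_self, Function.update_self,
        Finset.sum_congr rfl fun k hk => (show Function.update (fun k => -(b k * g)) j (x - b j * g) k *
          Function.update f j (f j * g) k = -g * (b k * f k) by
          rw [Function.update_of_ne (Finset.mem_erase.1 hk).1,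
            Function.update_of_ne (Finset.mem_erase.1 hk).1]; ring), ← Finset.mul_sum]
      calc _ = g * (f j * x - (∑ k ∈ Finset.univ.erase j, b k * f k + b j * (f j * g))) := by ring
        _ = 0 := by rw [← hb, sub_self, mul_zero]
  have hψ : Function.Surjective ψ := fun q => by
    obtain ⟨x, rfl⟩ := Submodule.Quotient.mk_surjective _ q
    exact ⟨Submodule.Quotient.mk x, rfl⟩
  have hex : Function.Exact φ ψ := by
    intro q
    obtain ⟨y, rfl⟩ := Submodule.Quotient.mk_surjective _ q
    constructor
    · intro hy
      have hy' : y ∈ J := (Submodule.Quotient.mk_eq_zero J).1 hy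
      obtain ⟨b, hb⟩ := mem_span_range_iff_exists_fun.1 hy'
      refine ⟨Submodule.Quotient.mk (b j), (Submodule.Quotient.eq I).2 ?_⟩
      show f j * b j - y ∈ I
      rw [← hb, ← Finset.sum_erase_add _ _ (Finset.mem_univ j)]
      have : ∑ k ∈ Finset.univ.erase j, b k * f k ∈ I :=
        sum_mem fun k hk => mul_mem_left _ _
          (subset_span ⟨k, Function.update_of_ne (Finset.mem_erase.1 hk).1 _ _⟩)
      convert neg_mem this using 1
      ring
    · rintro ⟨q', hq'⟩
      obtain ⟨x, rfl⟩ := Submodule.Quotient.mk_surjective _ q'
      rw [← hq']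
      exact (Submodule.Quotient.mk_eq_zero J).2 (mul_mem_right _ _ (subset_span ⟨j, rfl⟩))
  rw [Module.length_eq_add_of_exact φ ψ hφ hψ hex, add_comm]

theorem independent_map_of_flat (B : Type u) [CommRing B] [Algebra A B] [Module.Flat A B]
    {f : Fin r → A} (hf : Dual2.Independent f) :
    Dual2.Independent (fun i => algebraMap A B (f i)) := by
  intro b hb i
  obtain ⟨k, a, y, hx, ha⟩ := Module.Flat.isTrivialRelation_of_sum_smul_eq_zero
    (R := A) (M := B) (f := f) (x := b) (by
      rw [← hb]
      exact Finset.sum_congr rfl fun i _ => by rw [Algebra.smul_def, mul_comm])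
  rw [hx i]
  refine sum_mem fun l _ => ?_
  have h1 := hf (fun m => a m l) (by rw [← ha l]; exact Finset.sum_congr rfl fun m _ => mul_comm _ _) i
  have h2 := mem_map_of_mem (algebraMap A B) h1
  rw [Ideal.map_span, ← Set.range_comp] at h2
  rw [Algebra.smul_def]
  exact mul_mem_right _ _ h2

theorem length_independent_powers [IsLocalRing A] (x : Fin r → A)
    (hx : span (Set.range x) = IsLocalRing.maximalIdeal A) :
    ∀ (t : ℕ) (e : Fin r → ℕ), (∀ i, 0 < e i) → ∑ i, e i = t →
      Dual2.Independent (fun i => x i ^ e i) →
      Module.length A (A ⧸ span (Set.range fun i => x i ^ e i)) = ∏ i, (e i : ℕ∞) := by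
  intro t
  induction t using Nat.strong_induction_on with
  | _ t ih =>
    intro e he ht hind
    by_cases h1 : ∀ i, e i = 1
    · have hfun : (fun i => x i ^ e i) = x := funext fun i => by rw [h1 i, pow_one]
      rw [hfun, hx, Finset.prod_eq_one fun i _ => by rw [h1 i, Nat.cast_one]]
      haveI : IsSimpleModule A (A ⧸ IsLocalRing.maximalIdeal A) := by
        rw [isSimpleModule_iff_isCoatom]
        exact Ideal.isMaximal_def.1 inferInstance
      exact Module.length_eq_one A _
    push Not at h1
    obtain ⟨j, hj⟩ := h1
    let e₁ := Function.update e j (e j - 1)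
    let e₂ := Function.update e j 1
    have hp : ∀ m : ℕ, (fun i => x i ^ Function.update e j m i) =
        Function.update (fun i => x i ^ e i) j (x j ^ m) := fun m => funext fun i => by
      rcases eq_or_ne i j with rfl | hne
      · simp
      · simp [Function.update_of_ne hne]
    have hupd : Function.update (fun i => x i ^ e₁ i) j (x j ^ e₁ j * x j) = fun i => x i ^ e i := by
      rw [show e₁ j = e j - 1 from Function.update_self .., ← pow_succ,
        Nat.sub_add_cancel (he j), hp, Function.update_idem, Function.update_eq_self_iff]
    have hind' : Dual2.Independent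
        (Function.update (fun i => x i ^ e₁ i) j ((fun i => x i ^ e₁ i) j * x j)) := by
      show Dual2.Independent (Function.update _ j (x j ^ e₁ j * x j))
      rw [hupd]; exact hind
    have he₁ : ∀ i, 0 < e₁ i := fun i => by
      rcases eq_or_ne i j with rfl | hne
      · simp only [e₁, Function.update_self]; have := he i; omega
      · simp only [e₁, Function.update_of_ne hne]; exact he i
    have he₂ : ∀ i, 0 < e₂ i := fun i => by
      rcases eq_or_ne i j with rfl | hne
      · simp [e₂]
      · simp only [e₂, Function.update_of_ne hne]; exact he i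
    have hsum : ∀ m : ℕ, ∑ i, Function.update e j m i = m + ∑ i ∈ Finset.univ.erase j, e i := fun m => by
      rw [← Finset.add_sum_erase _ _ (Finset.mem_univ j), Function.update_self]
      congr 1
      exact Finset.sum_congr rfl fun i hi => Function.update_of_ne (Finset.mem_erase.1 hi).1 _ _
    have hprod : ∀ m : ℕ, ∏ i, ((Function.update e j m i : ℕ) : ℕ∞) =
        (m : ℕ∞) * ∏ i ∈ Finset.univ.erase j, (e i : ℕ∞) := fun m => by
      rw [← Finset.mul_prod_erase _ _ (Finset.mem_univ j), Function.update_self]
      congr 1
      exact Finset.prod_congr rfl fun i hi => by rw [Function.update_of_ne (Finset.mem_erase.1 hi).1]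
    have ht' : t = e j + ∑ i ∈ Finset.univ.erase j, e i := by
      rw [← ht, Finset.add_sum_erase _ _ (Finset.mem_univ j)]
    have hf2 : Function.update (fun i => x i ^ e₁ i) j (x j) = fun i => x i ^ e₂ i := by
      rw [hp, hp, Function.update_idem, pow_one]
    have hlen := length_update hind'
    rw [hupd] at hlen
    rw [hlen, ih _ (by rw [ht']; have := he j; omega) e₁ he₁ (hsum _) (independent_of_update hind'),
      hf2, ih _ (by rw [ht']; have := he j; omega) e₂ he₂ (hsum _)
        (hf2 ▸ independent_update_right hind'), hprod, hprod,
      ← Finset.mul_prod_erase _ _ (Finset.mem_univ j), ← add_mul, ← Nat.cast_add]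
    congr 2
    have := he j
    omega

end Groth.Agent.LocCoh
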