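import Groth.Agent.Schless.Limit
import Groth.Agent.CAlgH3.CohenMacaulay

/-!
Symbolic powers of a prime of dimension one in a complete local domain are cofinal with powers.
-/

set_option autoImplicit false

universe u

open IsLocalRing

namespace Groth.Agent.LocCoh

variable {R : Type u} [CommRing R]

/-- The symbolic power. -/
abbrev symb (p : Ideal R) [p.IsPrime] (t : ℕ) : Ideal R :=
  ((p.map (algebraMap R (Localization.AtPrime p))) ^ t).comap (algebraMap R (Localization.AtPrime p))

variable {p : Ideal R} [p.IsPrime]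

theorem pow_le_symb (t : ℕ) : p ^ t ≤ symb p t := by
  rw [symb, ← Ideal.map_pow]
  exact Ideal.le_comap_map

theorem symb_antitone : Antitone (symb p) := fun _ _ h => Ideal.comap_mono (Ideal.pow_le_pow_right h)

theorem mem_symb_of_mul_mem {t : ℕ} {s x : R} (hs : s ∉ p) (h : s * x ∈ symb p t) : x ∈ symb p t := by
  rw [Ideal.mem_comap, map_mul] at h
  exact (Ideal.unit_mul_mem_iff_mem _
    (IsLocalization.map_units (Localization.AtPrime p) (⟨s, hs⟩ : p.primeCompl))).1 h

theorem exists_mul_mem_pow {t : ℕ} {x : R} (hx : x ∈ symb p t) : ∃ s ∉ p, s * x ∈ p ^ t := by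
  rw [Ideal.mem_comap, ← Ideal.map_pow, IsLocalization.mem_map_algebraMap_iff p.primeCompl] at hx
  obtain ⟨⟨a, s⟩, h⟩ := hx
  rw [← map_mul] at h
  obtain ⟨c, hc⟩ := (IsLocalization.eq_iff_exists p.primeCompl _).1 h
  refine ⟨c.1 * s.1, p.primeCompl.mul_mem c.2 s.2, ?_⟩
  rw [show c.1 * s.1 * x = c.1 * (x * s.1) by ring, hc]
  exact Ideal.mul_mem_left _ _ a.2

theorem iInf_symb_eq_bot [IsDomain R] [IsNoetherianRing R] : ⨅ t, symb p t = ⊥ := by
  haveI : IsNoetherianRing (Localization.AtPrime p) :=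
    IsLocalization.isNoetherianRing p.primeCompl _ inferInstance
  haveI : IsDomain (Localization.AtPrime p) :=
    IsLocalization.isDomain_localization p.primeCompl_le_nonZeroDivisors
  rw [eq_bot_iff]
  intro x hx
  have h0 : algebraMap R (Localization.AtPrime p) x ∈
      ⨅ t, (p.map (algebraMap R (Localization.AtPrime p))) ^ t := by
    rw [Submodule.mem_iInf] at hx ⊢
    exact fun t => hx t
  rw [Ideal.iInf_pow_eq_bot_of_isLocalRing _ (by
    rw [Localization.AtPrime.map_eq_maximalIdeal]
    exact (maximalIdeal.isMaximal _).ne_top), Ideal.mem_bot] at h0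
  rw [Ideal.mem_bot]
  exact IsLocalization.injective (Localization.AtPrime p) p.primeCompl_le_nonZeroDivisors
    (h0.trans (map_zero _).symm)

theorem isMaximal_of_lt_of_dim_one (hp : ringKrullDim (R ⧸ p) = 1) {q : Ideal R} (hq : q.IsPrime)
    (hlt : p < q) : q.IsMaximal := by
  have h1 := (CAlgH3.ringKrullDim_quotient_add_one_le hlt).trans hp.le
  by_contra hmax
  obtain ⟨m, hm, hqm⟩ := Ideal.exists_le_maximal q hq.ne_top
  have hqm' : q < m := lt_of_le_of_ne hqm fun e => hmax (e ▸ hm)
  have h2 := (add_le_add_left (CAlgH3.ringKrullDim_quotient_add_one_le hqm') 1).trans h1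
  haveI : Nontrivial (R ⧸ m) := Ideal.Quotient.nontrivial_iff.2 hm.ne_top
  have h3 : (0 : WithBot ℕ∞) ≤ ringKrullDim (R ⧸ m) := ringKrullDim_nonneg_of_nontrivial
  have h4 : (2 : WithBot ℕ∞) ≤ 1 := by
    refine le_trans ?_ h2
    calc (2 : WithBot ℕ∞) = 0 + 1 + 1 := by norm_num
      _ ≤ _ := by gcongr
  exact absurd h4 (by decide)

/-- Symbolic powers of a prime of dimension one are cofinal with powers in a complete local domain. -/
theorem exists_symb_le_pow [IsDomain R] [IsLocalRing R] [IsNoetherianRing R]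
    [IsPrecomplete (maximalIdeal R) R] (hp : ringKrullDim (R ⧸ p) = 1) (n : ℕ) :
    ∃ t, n ≤ t ∧ symb p t ≤ p ^ n := by
  -- a power of `m` pushes the symbolic power into the power
  obtain ⟨k, hk⟩ : ∃ k, maximalIdeal R ^ k * symb p n ≤ p ^ n := by
    obtain ⟨S, hS⟩ := IsNoetherian.noetherian (symb p n)
    have hs : ∀ x ∈ S, ∃ s ∉ p, s * x ∈ p ^ n := fun x hx =>
      exists_mul_mem_pow (hS ▸ Ideal.subset_span hx)
    choose s hs hsx using hs
    let σ : R := ∏ x ∈ S.attach, s x.1 x.2
    have hσ : σ ∉ p := fun h => by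
      obtain ⟨x, -, hx⟩ := (Ideal.IsPrime.prod_mem_iff (p := p)).1 h
      exact hs x.1 x.2 hx
    let J : Ideal R := p ^ n ⊔ Ideal.span {σ}
    have hJN : J * symb p n ≤ p ^ n := by
      rw [← hS, Submodule.sup_mul]
      refine sup_le Ideal.mul_le_left ?_
      rw [Ideal.mul_le]
      intro a ha x hx
      obtain ⟨c, rfl⟩ := Ideal.mem_span_singleton'.1 ha
      induction hx using Submodule.span_induction with
      | mem x hx =>
        obtain ⟨d, hd⟩ : s x hx ∣ σ :=
          Finset.dvd_prod_of_mem (fun y : {y // y ∈ S} => s y.1 y.2) (Finset.mem_attach S ⟨x, hx⟩)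
        rw [hd, show c * (s x hx * d) * x = c * d * (s x hx * x) by ring]
        exact Ideal.mul_mem_left _ _ (hsx x hx)
      | zero => simp
      | add y z _ _ hy hz => rw [mul_add]; exact add_mem hy hz
      | smul r y _ hy =>
        rw [smul_eq_mul, mul_left_comm]
        exact Ideal.mul_mem_left _ _ hy
    have hrad : maximalIdeal R ≤ J.radical := by
      rw [Ideal.radical_eq_sInf]
      refine le_sInf ?_
      rintro q ⟨hq, hqp⟩
      have hpq : p ≤ q := by
        intro x hx
        exact hqp.mem_of_pow_mem n (hq (Ideal.mem_sup_left (Ideal.pow_mem_pow hx n)))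
      have hlt : p < q := lt_of_le_of_ne hpq fun e =>
        hσ (e ▸ hq (Ideal.mem_sup_right (Ideal.mem_span_singleton_self σ)))
      exact (IsLocalRing.eq_maximalIdeal (isMaximal_of_lt_of_dim_one hp hqp hlt)).ge
    obtain ⟨k, hk⟩ := Ideal.exists_pow_le_of_le_radical_of_fg hrad (IsNoetherian.noetherian _)
    exact ⟨k, (Ideal.mul_mono_left hk).trans hJN⟩
  -- Artin–Rees
  obtain ⟨c, hc⟩ : ∃ c : ℕ, maximalIdeal R ^ (k + c) ⊓ symb p n ≤ maximalIdeal R ^ k * symb p n := by
    obtain ⟨c, hc⟩ := Ideal.exists_pow_inf_eq_pow_smul (maximalIdeal R) (symb p n : Submodule R R)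
    refine ⟨c, ?_⟩
    have h := (hc (k + c) (Nat.le_add_left c k))
    rw [smul_eq_mul, Ideal.mul_top, Nat.add_sub_cancel] at h
    rw [h, ← smul_eq_mul]
    exact smul_mono_right _ inf_le_right
  -- Chevalley
  let K : ℕ → Ideal R := fun t => symb p t ⊔ maximalIdeal R ^ t
  have hanti : Antitone K := fun a b h => sup_le_sup (symb_antitone h) (Ideal.pow_le_pow_right h)
  have hK : ⨅ t, K t = ⊥ := by
    rw [eq_bot_iff, ← iInf_symb_eq_bot (p := p)]
    refine le_iInf fun t => ?_
    intro x hx
    rw [← Submodule.Quotient.mk_eq_zero (symb p t)]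
    have h1 : (Submodule.Quotient.mk x : R ⧸ symb p t) ∈
        ⨅ s : ℕ, maximalIdeal R ^ s • (⊤ : Submodule R (R ⧸ symb p t)) := by
      rw [Submodule.mem_iInf]
      intro s
      obtain ⟨a, ha, b, hb, rfl⟩ := Submodule.mem_sup.1 (Submodule.mem_iInf _ |>.1 hx (max s t))
      rw [Submodule.Quotient.mk_add,
        (Submodule.Quotient.mk_eq_zero _).2 (symb_antitone (le_max_right s t) ha), zero_add,
        show (Submodule.Quotient.mk b : R ⧸ symb p t) = b • Submodule.Quotient.mk 1 by
          rw [← Submodule.Quotient.mk_smul, smul_eq_mul, mul_one]]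
      exact Submodule.smul_mem_smul (Ideal.pow_le_pow_right (le_max_left s t) hb) trivial
    rwa [Ideal.iInf_pow_smul_eq_bot_of_le_jacobson _ (IsLocalRing.maximalIdeal_le_jacobson _),
      Submodule.mem_bot] at h1
  obtain ⟨T, hT⟩ := Schless.chevalley K hanti hK (fun t => ⟨t, le_sup_right⟩) (k + c)
  refine ⟨max n T, le_max_left _ _, fun x hx => hk (hc ⟨?_, symb_antitone (le_max_left n T) hx⟩)⟩
  exact hT (Ideal.mem_sup_left (symb_antitone (le_max_right n T) hx))

end Groth.Agent.LocCoh
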